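import Mathlib
import Cfsg.Agent.S1350
import Cfsg.Agent.Lib.Helper15.BG139Defs
import Cfsg.Agent.Lib.Helper55.SylowIn
import Cfsg.Agent.Lib.Helper55.Uniq
import Cfsg.Agent.Lib.Helper71.BG11a
import Cfsg.Agent.Lib.Helper71.BG10Sub
import Cfsg.Agent.Lib.Helper29.Sup

/-!
# BG Theorem 13.9 (S1378), keystone 137817 (K-S1378-K3a): `Loc.le_CP`

A `σ(H)'`-subgroup `Y` of `M ∩ H` lies in `C_{M_σ}(P)`.
-/

set_option autoImplicit false
set_option linter.unusedSectionVars false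
set_option linter.unusedVariables false
set_option linter.style.haveILetI false

namespace Cfsg.Agent.Lib.Helper21.BG139

open Cfsg Cfsg.Agent.Lib.Helper55 Cfsg.Agent.Lib.Helper31.BG134 Cfsg.Agent.Lib.Helper15.BG139

variable {G : Type*} [Group G] [Finite G]

/-- a nontrivial `q`-group has order divisible by `q` -/
theorem k3a_dvd_card_of_isPGroup_ne_bot {q : ℕ} [Fact q.Prime] {D : Subgroup G} (hD : IsPGroup q D)
    (hD1 : D ≠ ⊥) : q ∣ Nat.card D := by
  obtain ⟨n, hn⟩ := IsPGroup.iff_card.mp hD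
  have hn0 : n ≠ 0 := by
    rintro rfl
    rw [pow_zero] at hn
    exact hD1 (Subgroup.card_eq_one.mp hn)
  rw [hn]
  exact dvd_pow_self q hn0

/-- `P` normalizes `C_{M_σ}(P)` when `P ≤ M` -/
theorem k3a_le_normalizer_CP {M P : Subgroup G} (hPM : P ≤ M) :
    P ≤ Subgroup.normalizer ((CP M P : Subgroup G) : Set G) := by
  intro x hx
  have hxσ : x ∈ Subgroup.normalizer ((sigmaCore M : Subgroup G) : Set G) :=
    Cfsg.Agent.Lib.Helper71.BG11.le_normalizer_sigmaCore M (hPM hx)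
  have key : ∀ y : G, y ∈ P → ∀ h : G, h ∈ CP M P → y * h * y⁻¹ ∈ CP M P := by
    intro y hy h hh
    have hyσ : y ∈ Subgroup.normalizer ((sigmaCore M : Subgroup G) : Set G) :=
      Cfsg.Agent.Lib.Helper71.BG11.le_normalizer_sigmaCore M (hPM hy)
    refine ⟨(Subgroup.mem_normalizer_iff.mp hyσ h).mp hh.1, ?_⟩
    show y * h * y⁻¹ ∈ Subgroup.centralizer (P : Set G)
    rw [Subgroup.mem_centralizer_iff]
    intro z hz
    have hz' : y⁻¹ * z * y ∈ P := P.mul_mem (P.mul_mem (P.inv_mem hy) hz) hy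
    have hc := Subgroup.mem_centralizer_iff.mp hh.2 _ hz'
    -- hc : y⁻¹ * z * y * h = h * (y⁻¹ * z * y)
    calc z * (y * h * y⁻¹) = y * (y⁻¹ * z * y * h) * y⁻¹ := by group
      _ = y * (h * (y⁻¹ * z * y)) * y⁻¹ := by rw [hc]
      _ = y * h * y⁻¹ * z := by group
  rw [Subgroup.mem_normalizer_iff]
  intro h
  constructor
  · exact key x hx h
  · intro hh
    have := key x⁻¹ (P.inv_mem hx) _ hh
    simpa [mul_assoc] using this

/-- **KEYSTONE 137817  K-S1378-K3a**  (step 16 TOOL). -/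
theorem Loc.le_CP {M P H : Subgroup G} {r : ℕ} (l : Loc M P H r) (hrσ : r ∈ sigma H)
    (h131 : T131 G) {Y : Subgroup G} (hYM : Y ≤ M) (hYH : Y ≤ H)
    (hY : ∀ q : ℕ, q.Prime → q ∣ Nat.card Y → q ∉ sigma H) : Y ≤ CP M P := by
  have hG := l.o.hG
  have hM := l.o.hM
  have hH := l.hH
  have hr : r.Prime := l.o.hr1.1
  haveI : Fact r.Prime := ⟨hr⟩
  have hPM := l.o.hPM
  have hPH : P ≤ H := Subgroup.le_normalizer.trans l.hNH
  have hHallH := (Cfsg.Agent.S1350.result hG H hH).1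
  have hHallM := (Cfsg.Agent.S1350.result hG M hM).1
  -- `P ≤ H_σ`
  have hPσ : P ≤ sigmaCore H := by
    apply Cfsg.Agent.Lib.Helper71.BG10.le_of_isPiHallOf_normal hHallH
      (Cfsg.Agent.Lib.Helper71.BG11.le_normalizer_sigmaCore H) hPH
    intro s hs hsd
    rw [l.o.hPc] at hsd
    rw [(Nat.prime_dvd_prime_iff_eq hs hr).mp hsd]
    exact hrσ
  have hrY : ¬ r ∣ Nat.card Y := fun h => hY r hr h hrσ
  have hnc' : ∀ g : G, cj g H ≠ M := by
    intro g h
    apply l.hnc g⁻¹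
    rw [← h, cj_inv_cj]
  -- `Y` centralizes `P`
  have hYC : Y ≤ Subgroup.centralizer (P : Set G) := by
    apply le_of_invariant_sylows_le (p := r) (A := ⊥) IsPGroup.of_bot
      (Nat.Coprime.symm ((Nat.Prime.coprime_iff_not_dvd hr).mpr hrY)) bot_le
    intro q hq hqr T hT _
    haveI : Fact q.Prime := ⟨hq⟩
    by_cases hT1 : T = ⊥
    · rw [hT1]; exact bot_le
    have hqT : q ∣ Nat.card T := k3a_dvd_card_of_isPGroup_ne_bot hT.2.1 hT1
    have hqY : q ∣ Nat.card Y := hqT.trans (Subgroup.card_dvd_of_le hT.1)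
    have hqσ : q ∉ sigma H := hY q hq hqY
    have hqτ : q ∉ tau1 M := fun h => hqr (l.o.huniq q h)
    have h1 := h131 H M hH hM hnc' q hqσ T hT.2.1 (hT.1.trans hYH) (hT.1.trans hYM) hqτ
    exact h1.trans (Subgroup.centralizer_le (SetLike.coe_subset_coe.mpr (le_inf hPσ hPM)))
  -- `Y ≤ C_{M_σ}(P) P`
  have hYsup : Y ≤ CP M P ⊔ P :=
    (le_inf hYM (hYC.trans (Subgroup.centralizer_le_normalizer _))).trans l.o.hNP
  -- `Y ≤ M_σ`
  have hYσ : Y ≤ sigmaCore M := by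
    apply Cfsg.Agent.Lib.Helper71.BG10.le_of_isPiHallOf_normal hHallM
      (Cfsg.Agent.Lib.Helper71.BG11.le_normalizer_sigmaCore M) hYM
    intro s hs hsd
    have h1 : s ∣ Nat.card ↥(CP M P) * Nat.card P :=
      (hsd.trans (Subgroup.card_dvd_of_le hYsup)).trans
        (Cfsg.Agent.Lib.Helper29.card_sup_dvd_of_le_normalizer (CP M P) P
          (k3a_le_normalizer_CP hPM))
    rcases (Nat.Prime.dvd_mul hs).mp h1 with h | h
    · exact Cfsg.Agent.Lib.Helper71.BG11.sigmaCore_pi hG hM hs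
        (h.trans (Subgroup.card_dvd_of_le inf_le_left))
    · rw [l.o.hPc] at h
      rw [(Nat.prime_dvd_prime_iff_eq hs hr).mp h] at hsd
      exact absurd hsd hrY
  exact le_inf hYσ hYC

end Cfsg.Agent.Lib.Helper21.BG139
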