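import Mathlib
import Cfsg.Agent.Lib.Helper15.BG142Defs2
import Cfsg.Agent.Lib.Helper31.BG12a
import Cfsg.Agent.Lib.Helper12.CNMaxSub
import Cfsg.Agent.Lib.Helper71.BG11a
import Cfsg.Agent.S1422
import Cfsg.Agent.S1423

/-!
# K-U4 (keystone 143035, architect helper15): `KS.sylow_clause` (clause 3 of S1431 from `KS`)
-/

set_option autoImplicit false
set_option linter.unusedVariables false

namespace Cfsg.Agent.Lib.Helper21.BG142

open Cfsg Cfsg.Agent.Lib.Helper55 Cfsg.Agent.Lib.Helper31.BG134 Cfsg.Agent.Lib.Helper15.BG139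
  Cfsg.Agent.Lib.Helper15.BG142

variable {G : Type*} [Group G] [Finite G]

theorem KS.sylow_clause (hG : IsMinSimpleOddOrder G)
    (hTX : HTX G) {M K E : Subgroup G} (hM : IsCoatom M)
    (ks : KS M K E)
    (hna : ∀ (q : ℕ) [Fact q.Prime] (S : Subgroup G), q ∣ Nat.card ↥(KStar M K) → q ∉ beta M →
      IsSylowIn q (sigmaCore M) S → ¬ IsMulCommutative S) :
    ∀ (p : ℕ), p.Prime → p ∣ Nat.card ↥(KStar M K) → ∀ S : Sylow p ↥(sigmaCore M),
      InUniqueMaximal ((S : Subgroup ↥(sigmaCore M)).map (sigmaCore M).subtype) ∧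
      (S : Subgroup ↥(sigmaCore M)).map (sigmaCore M).subtype ≤ M ∧
      ¬ (S : Subgroup ↥(sigmaCore M)).map (sigmaCore M).subtype ≤ KStar M K := by
  classical
  intro p hp hpd S
  have : Fact p.Prime := ⟨hp⟩
  set T : Subgroup G := (S : Subgroup ↥(sigmaCore M)).map (sigmaCore M).subtype with hT
  have hσM : sigmaCore M ≤ M := Cfsg.Agent.Lib.Helper71.BG11.sigmaCore_le M
  have hTσ : T ≤ sigmaCore M := Subgroup.map_subtype_le _
  have hTM : T ≤ M := hTσ.trans hσM
  have hKs_le : KStar M K ≤ sigmaCore M := inf_le_left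
  have hpσc : p ∣ Nat.card (sigmaCore M) := hpd.trans (Subgroup.card_dvd_of_le hKs_le)
  have hpσ : p ∈ sigma M := Cfsg.Agent.Lib.Helper71.BG11.sigmaCore_pi hG hM hp hpσc
  have hTp : IsPGroup p T := S.isPGroup'.map _
  -- unique maximal
  have huniq : InUniqueMaximal T := by
    by_cases hβ : p ∈ beta M
    · -- Cauchy in M
      have hpM : p ∣ Nat.card M := hpσ.2.1
      obtain ⟨x, hx⟩ := exists_prime_orderOf_dvd_card' p hpM
      have hXM : Subgroup.zpowers (x : G) ≤ M := by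
        rw [Subgroup.zpowers_le]; exact x.2
      have hXc : Nat.card (Subgroup.zpowers (x : G)) = p := by
        rw [Nat.card_zpowers, Subgroup.orderOf_coe, hx]
      exact (Cfsg.Agent.S1423.result hG M hM p hpσ _ hXM hXc S (Or.inl hβ)).2.1
    · have h1 : ¬ IsMulCommutative T := hna p T hpd hβ (isSylowIn_of_sylow S)
      exact Cfsg.Agent.S1422.result hG p T hTp h1
  refine ⟨huniq, hTM, ?_⟩
  intro hTK
  -- a subgroup of prime order of K
  have hKM : K ≤ M := ks.hKE.trans ks.hE.1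
  have : Nontrivial K := (Subgroup.nontrivial_iff_ne_bot K).mpr ks.hK1
  have hKc : Nat.card K ≠ 1 := by
    intro h
    have := (Subgroup.card_eq_one (H := K)).mp h
    exact ks.hK1 this
  obtain ⟨r, hr, hrd⟩ := Nat.exists_prime_and_dvd hKc
  have : Fact r.Prime := ⟨hr⟩
  obtain ⟨k, hk⟩ := exists_prime_orderOf_dvd_card' r hrd
  set X : Subgroup G := Subgroup.zpowers (k : G) with hX
  have hXK : X ≤ K := by rw [hX, Subgroup.zpowers_le]; exact k.2
  have hXc : Nat.card X = r := by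
    rw [hX, Nat.card_zpowers, Subgroup.orderOf_coe, hk]
  have hXprime : (Nat.card X).Prime := by rw [hXc]; exact hr
  have hX1 : X ≠ ⊥ := by
    intro h
    rw [h, Subgroup.card_bot] at hXc
    exact hr.one_lt.ne hXc
  have hXtop : X ≠ ⊤ := by
    intro h
    have : (⊤ : Subgroup G) ≤ M := h ▸ hXK.trans hKM
    exact hM.1 (top_le_iff.mp this)
  obtain ⟨H, hH, hNH⟩ := Cfsg.Agent.Lib.Helper12.CNMaxSub.exists_coatom_normalizer_le hG hX1 hXtop
  have hcent : Subgroup.centralizer (K : Set G) ≤ Subgroup.centralizer (X : Set G) :=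
    Subgroup.centralizer_le hXK
  have hKsCP : KStar M K ≤ CP M X := inf_le_inf_left _ hcent
  have hCP1 : CP M X ≠ ⊥ := by
    intro h
    apply ks.hKs
    rw [eq_bot_iff, ← h]
    exact hKsCP
  have h13 := ks.h13 X hXK hXprime
  have hrσH : Nat.card X ∈ sigma H :=
    hTX M X H (Nat.card X) hM (hXK.trans hKM) rfl h13 hCP1 hH hNH
  have hrσM : Nat.card X ∉ sigma M := by
    rcases h13 with h | h
    · exact h.2.1
    · exact h.2.1
  have hHM : H ≠ M := by
    intro h
    rw [h] at hrσH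
    exact hrσM hrσH
  have hKsH : KStar M K ≤ H :=
    (inf_le_right.trans hcent).trans ((Subgroup.centralizer_le_normalizer _).trans hNH)
  have hTH : T ≤ H := hTK.trans hKsH
  obtain ⟨M0, hM0, hM0u⟩ := huniq
  have e1 : H = M0 := hM0u H ⟨hH, hTH⟩
  have e2 : M = M0 := hM0u M ⟨hM, hTM⟩
  exact hHM (e1.trans e2.symm)

end Cfsg.Agent.Lib.Helper21.BG142
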