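import Mathlib
import Cfsg.Agent.Lib.Helper84.Clifford
import Cfsg.Agent.Lib.Helper84.CliffordInj

/-!
# Clifford correspondence for a subgroup containing the inertia group

`N ⊴ G`, `N ≤ T ≤ G`, `θ ∈ Irr(N)` whose inertia group lies in `T`.  Then induction is an
injection from the irreducible characters of `T` over `θ` onto those of `G` over `θ`.
-/

set_option autoImplicit false
set_option linter.unusedSectionVars false

namespace Cfsg.Agent.Lib.Helper21

open Cfsg
open scoped ComplexConjugate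
open Cfsg.Agent.Lib.Helper84

section Mid

universe u

variable {G : Type u} [Group G] [Fintype G] (H T : Subgroup G) [hN : H.Normal]
  [Fintype H] [Fintype T] (hHT : H ≤ T)

/-- **Clifford inside `T`**: two irreducible constituents of the restriction to `H` of an
irreducible character of `T` are conjugate under `T`. -/
theorem exists_conj_mem_of_constituents {ψ : T → ℂ} (hψ : IsIrrCharacter T ψ)
    {θ φ : H → ℂ} (hθ : IsIrrCharacter H θ) (hφ : IsIrrCharacter H φ)
    (h1 : classInner (resFun H T hHT ψ) θ ≠ 0) (h2 : classInner (resFun H T hHT ψ) φ ≠ 0) :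
    ∃ t ∈ T, conjFun H t θ = φ := by
  classical
  have : Fintype (H.subgroupOf T) := Fintype.ofFinite _
  have hnorm : (H.subgroupOf T).Normal := inferInstance
  let e := Subgroup.subgroupOfEquivOfLe hHT
  have hres : (fun x : H.subgroupOf T => ψ (x : T)) =
      fun x : H.subgroupOf T => resFun H T hHT ψ (e x) := by
    funext x
    rfl
  have hθs : IsIrrCharacter (H.subgroupOf T) (fun x => θ (e x)) :=
    isIrrCharacter_comp_mulEquiv e hθ
  have hφs : IsIrrCharacter (H.subgroupOf T) (fun x => φ (e x)) :=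
    isIrrCharacter_comp_mulEquiv e hφ
  obtain ⟨t, ht⟩ := clifford_exists_conj (H.subgroupOf T) hψ hθs hφs
    (by rw [hres, classInner_subgroupOf]; exact h1)
    (by rw [hres, classInner_subgroupOf]; exact h2)
  refine ⟨(t : G), t.2, ?_⟩
  funext n
  have := congrFun ht (e.symm n)
  rw [conjFun_apply] at this
  simp only [MulEquiv.apply_symm_apply] at this
  rw [← this, conjFun_apply]
  congr 1

/-- The restriction to `H` of a class function of `T` is invariant under conjugation by `T`. -/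
theorem conjFun_resFun_of_mem {ψ : T → ℂ} (hψ : IsClassFunction T ψ) {t : G} (ht : t ∈ T) :
    conjFun H t (resFun H T hHT ψ) = resFun H T hHT ψ := by
  funext n
  rw [conjFun_apply, resFun_apply, resFun_apply]
  have := hψ ⟨(n : G), hHT n.2⟩ ⟨t, ht⟩
  rw [← this]
  congr 1

/-- The multiplicity of `θ` in the restriction to `H` of `ψ` induced from a subgroup `T` containing
the inertia group of `θ` equals the multiplicity of `θ` in `ψ|_H`. -/
theorem classInner_indFun_mid {θ : H → ℂ} (hθ : IsIrrCharacter H θ)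
    (hI : ∀ g : G, conjFun H g θ = θ → g ∈ T)
    {ψ : T → ℂ} (hψ : IsIrrCharacter T ψ) (h1 : classInner (resFun H T hHT ψ) θ ≠ 0) :
    classInner (fun n : H => indFun T ψ n) θ = classInner (resFun H T hHT ψ) θ := by
  classical
  have hψcl : IsClassFunction T ψ :=
    Cfsg.Agent.Lib.Helper83.char_isClassFunction (Cfsg.Agent.Lib.Helper83.isCharacter_of_irr hψ)
  have h0 : (fun n : H => indFun T ψ n) =
      (Nat.card T : ℂ)⁻¹ • ∑ x : G, conjFun H x (resFun H T hHT ψ) := by
    funext n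
    rw [indFun_coe_of_le H T hHT]
    simp [Finset.sum_apply]
  rw [h0, Cfsg.Agent.Lib.Helper83.classInner_smul_left, Cfsg.Agent.Lib.Helper83.classInner_sum_left]
  have hterm : ∀ x : G, classInner (conjFun H x (resFun H T hHT ψ)) θ =
      if x ∈ T then classInner (resFun H T hHT ψ) θ else 0 := by
    intro x
    split_ifs with hx
    · rw [conjFun_resFun_of_mem H T hHT hψcl hx]
    · have e1 : classInner (conjFun H x (resFun H T hHT ψ)) θ =
          classInner (resFun H T hHT ψ) (conjFun H x⁻¹ θ) := by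
        conv_lhs => rw [← conjFun_conjFun_inv H x θ]
        exact classInner_conjFun_conjFun H x _ _
      rw [e1]
      by_contra hne
      obtain ⟨t, ht, htθ⟩ := exists_conj_mem_of_constituents H T hHT hψ hθ
        (isIrrCharacter_conjFun H x⁻¹ hθ) h1 hne
      -- `θ^t = θ^{x⁻¹}`, so `t * x` fixes `θ`
      have hfix : conjFun H (t * x) θ = θ := by
        rw [conjFun_mul, htθ, conjFun_conjFun_inv]
      have := hI _ hfix
      exact hx (by simpa using T.mul_mem (T.inv_mem ht) this)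
  simp_rw [hterm]
  rw [Finset.sum_ite, Finset.sum_const_zero, add_zero, Finset.sum_const, nsmul_eq_mul]
  have hcard : ((Finset.univ.filter (fun x : G => x ∈ T)).card : ℂ) = (Nat.card T : ℂ) := by
    rw [Nat.card_eq_fintype_card, Fintype.card_subtype]
  rw [hcard, ← mul_assoc, inv_mul_cancel₀, one_mul]
  exact_mod_cast (Nat.card_pos (α := T)).ne'

/-- **Clifford correspondence, irreducibility**, for `T` containing the inertia group. -/
theorem isIrrCharacter_indFun_mid {θ : H → ℂ} (hθ : IsIrrCharacter H θ)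
    (hI : ∀ g : G, conjFun H g θ = θ → g ∈ T)
    {ψ : T → ℂ} (hψ : IsIrrCharacter T ψ) (h1 : classInner (resFun H T hHT ψ) θ ≠ 0) :
    IsIrrCharacter G (indFun T ψ) := by
  classical
  have : Fintype (IrrCharacter G) := Fintype.ofFinite _
  have hΨ : IsCharacter G (indFun T ψ) :=
    Cfsg.Agent.Lib.Helper34.isCharacter_indFun T (Cfsg.Agent.Lib.Helper83.isCharacter_of_irr hψ)
  obtain ⟨f, hf⟩ := exists_nat_classInner_resFun H T hHT
    (Cfsg.Agent.Lib.Helper83.isCharacter_of_irr hψ) hθ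
  have hf0 : f ≠ 0 := by
    intro h
    rw [h, Nat.cast_zero] at hf
    exact h1 hf
  have hM := classInner_indFun_mid H T hHT hθ hI hψ h1
  have hdec := Cfsg.Agent.Lib.Helper83.char_eq_sum_irrMult hΨ
  set m : IrrCharacter G → ℕ := fun χ => Cfsg.Agent.Lib.Helper83.irrMult (indFun T ψ) χ with hm
  have hres : (fun n : H => indFun T ψ n) =
      ∑ χ : IrrCharacter G, (m χ : ℂ) • (fun n : H => (χ : G → ℂ) n) := by
    funext n
    conv_lhs => rw [hdec]
    simp [Finset.sum_apply, hm]
  have hk : ∀ χ : IrrCharacter G, ∃ k : ℕ,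
      classInner (fun n : H => (χ : G → ℂ) n) θ = (m χ : ℂ) * f + k := by
    intro χ
    have hχT : IsCharacter T (fun t : T => (χ : G → ℂ) t) :=
      Cfsg.Agent.Lib.Helper83.isCharacter_restrict T (Cfsg.Agent.Lib.Helper83.IrrCharacter_isCharacter χ)
    obtain ⟨k, hk⟩ := classInner_resFun_split H T hHT hχT ⟨ψ, hψ⟩ hθ
    refine ⟨k, ?_⟩
    rw [resFun_restrict] at hk
    rw [hk, hf]
    congr 2
    change classInner (fun t : T => (χ : G → ℂ) t) ψ = (m χ : ℂ)
    rw [← Cfsg.Agent.Lib.Helper83.classInner_conj_symm,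
      ← Cfsg.Agent.Lib.Helper34.classInner_indFun_left T ψ (χ : G → ℂ)
        (Cfsg.Agent.Lib.Helper83.isClassFunction_irr χ),
      ← Cfsg.Agent.Lib.Helper83.irrMult_cast hΨ χ, Complex.conj_natCast]
  choose k hk using hk
  have hsum : (f : ℂ) = ∑ χ : IrrCharacter G, (m χ : ℂ) * ((m χ : ℂ) * f + k χ) := by
    have e : classInner (fun n : H => indFun T ψ n) θ =
        ∑ χ : IrrCharacter G, (m χ : ℂ) * ((m χ : ℂ) * f + k χ) := by
      rw [hres, Cfsg.Agent.Lib.Helper83.classInner_sum_left]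
      refine Finset.sum_congr rfl fun χ _ => ?_
      rw [Cfsg.Agent.Lib.Helper83.classInner_smul_left, hk χ]
    rw [← e, hM, hf]
  have hsumN : f = ∑ χ : IrrCharacter G, m χ * (m χ * f + k χ) := by exact_mod_cast hsum
  have hS1 : (∑ χ : IrrCharacter G, m χ * m χ) * f ≤ f := by
    calc (∑ χ : IrrCharacter G, m χ * m χ) * f = ∑ χ : IrrCharacter G, m χ * (m χ * f) := by
          rw [Finset.sum_mul]
          exact Finset.sum_congr rfl fun χ _ => by ring
      _ ≤ ∑ χ : IrrCharacter G, m χ * (m χ * f + k χ) :=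
          Finset.sum_le_sum fun χ _ => Nat.mul_le_mul_left _ (Nat.le_add_right _ _)
      _ = f := hsumN.symm
  have hS2 : ∑ χ : IrrCharacter G, m χ * m χ ≤ 1 := by
    by_contra hcon
    push Not at hcon
    have : 2 * f ≤ (∑ χ : IrrCharacter G, m χ * m χ) * f := Nat.mul_le_mul_right f hcon
    omega
  have hS3 : ∑ χ : IrrCharacter G, m χ * m χ ≠ 0 := by
    intro h0
    have hall : ∀ χ : IrrCharacter G, m χ = 0 := by
      intro χ
      have := Finset.sum_eq_zero_iff.mp h0 χ (Finset.mem_univ _)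
      exact mul_self_eq_zero.mp this
    apply hf0
    rw [hsumN]
    exact Finset.sum_eq_zero fun χ _ => by rw [hall χ, zero_mul]
  have hS : ∑ χ : IrrCharacter G, m χ * m χ = 1 := by omega
  apply Cfsg.Agent.Lib.Helper83.isIrrCharacter_of_norm_one hΨ
  conv_lhs => rw [hdec]
  rw [Cfsg.Agent.Lib.Helper83.classInner_sum_irr_self]
  have : ∑ χ : IrrCharacter G, ((m χ : ℂ)) * conj ((m χ : ℂ)) =
      ((∑ χ : IrrCharacter G, m χ * m χ : ℕ) : ℂ) := by
    push_cast
    exact Finset.sum_congr rfl fun χ _ => by rw [Complex.conj_natCast]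
  rw [this, hS, Nat.cast_one]

/-- **Clifford correspondence, injectivity**, for `T` containing the inertia group. -/
theorem indFun_mid_injective {θ : H → ℂ} (hθ : IsIrrCharacter H θ)
    (hI : ∀ g : G, conjFun H g θ = θ → g ∈ T)
    {ψ₁ ψ₂ : T → ℂ} (h₁ : IsIrrCharacter T ψ₁) (h₂ : IsIrrCharacter T ψ₂)
    (c₁ : classInner (resFun H T hHT ψ₁) θ ≠ 0) (c₂ : classInner (resFun H T hHT ψ₂) θ ≠ 0)
    (heq : indFun T ψ₁ = indFun T ψ₂) : ψ₁ = ψ₂ := by
  classical
  by_contra hne
  have hχ : IsIrrCharacter G (indFun T ψ₁) := isIrrCharacter_indFun_mid H T hHT hθ hI h₁ c₁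
  have hχc := Cfsg.Agent.Lib.Helper83.isCharacter_of_irr hχ
  have hχcl := Cfsg.Agent.Lib.Helper83.char_isClassFunction hχc
  set χ := indFun T ψ₁ with hχdef
  have hA : IsCharacter T (fun t : T => χ t) := Cfsg.Agent.Lib.Helper83.isCharacter_restrict T hχc
  have hm1 : classInner (fun t : T => χ t) ψ₁ = 1 := by
    rw [← Cfsg.Agent.Lib.Helper83.classInner_conj_symm,
      ← Cfsg.Agent.Lib.Helper34.classInner_indFun_left T ψ₁ χ hχcl, ← hχdef,
      Cfsg.Agent.Lib.Helper83.irr_inner_self ⟨χ, hχ⟩, map_one]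
  have hm2 : classInner (fun t : T => χ t) ψ₂ = 1 := by
    rw [← Cfsg.Agent.Lib.Helper83.classInner_conj_symm,
      ← Cfsg.Agent.Lib.Helper34.classInner_indFun_left T ψ₂ χ hχcl, ← heq,
      Cfsg.Agent.Lib.Helper83.irr_inner_self ⟨χ, hχ⟩, map_one]
  obtain ⟨A', hA', hsplit⟩ := exists_char_sub hA ⟨ψ₁, h₁⟩
  have hmA1 : (Cfsg.Agent.Lib.Helper83.irrMult (fun t : T => χ t) ⟨ψ₁, h₁⟩ : ℂ) = 1 := by
    rw [Cfsg.Agent.Lib.Helper83.irrMult_cast hA]; exact hm1
  rw [hmA1, one_smul] at hsplit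
  have hA'2 : classInner A' ψ₂ = 1 := by
    have : A' = (fun t : T => χ t) - ψ₁ := by rw [hsplit]; simp
    rw [this, Cfsg.Agent.Lib.Helper83.classInner_sub_left, hm2,
      Cfsg.Agent.Lib.Helper83.irr_inner_ne (χ := ⟨ψ₁, h₁⟩) (ψ := ⟨ψ₂, h₂⟩)
        (fun h => hne (congrArg Subtype.val h)), sub_zero]
  obtain ⟨A'', hA'', hsplit2⟩ := exists_char_sub hA' ⟨ψ₂, h₂⟩
  have hmA2 : (Cfsg.Agent.Lib.Helper83.irrMult A' ⟨ψ₂, h₂⟩ : ℂ) = 1 := by
    rw [Cfsg.Agent.Lib.Helper83.irrMult_cast hA']; exact hA'2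
  rw [hmA2, one_smul] at hsplit2
  obtain ⟨f₁, hf₁⟩ := exists_nat_classInner_resFun H T hHT
    (Cfsg.Agent.Lib.Helper83.isCharacter_of_irr h₁) hθ
  obtain ⟨f₂, hf₂⟩ := exists_nat_classInner_resFun H T hHT
    (Cfsg.Agent.Lib.Helper83.isCharacter_of_irr h₂) hθ
  obtain ⟨k, hk⟩ := exists_nat_classInner_resFun H T hHT hA'' hθ
  have hM := classInner_indFun_mid H T hHT hθ hI h₁ c₁
  rw [← hχdef] at hM
  have hres : (fun n : H => χ n) = resFun H T hHT ψ₁ + resFun H T hHT ψ₂ + resFun H T hHT A'' := by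
    have : (fun n : H => χ n) = resFun H T hHT (fun t : T => χ t) := rfl
    rw [this, hsplit, resFun_add, hsplit2, resFun_add, add_assoc]
  rw [hres, Cfsg.Agent.Lib.Helper83.classInner_add_left,
    Cfsg.Agent.Lib.Helper83.classInner_add_left, hf₁, hf₂, hk] at hM
  have hf₂0 : f₂ ≠ 0 := by
    intro h0
    rw [h0, Nat.cast_zero] at hf₂
    exact c₂ hf₂
  have : f₁ + f₂ + k = f₁ := by exact_mod_cast hM
  omega

/-- **Clifford correspondence, surjectivity**, for `T` containing the inertia group: every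
irreducible character of `G` over `θ` is induced from an irreducible character of `T` over `θ`. -/
theorem exists_indFun_mid_eq {θ : H → ℂ} (hθ : IsIrrCharacter H θ)
    (hI : ∀ g : G, conjFun H g θ = θ → g ∈ T)
    {χ : G → ℂ} (hχ : IsIrrCharacter G χ) (h1 : classInner (fun n : H => χ n) θ ≠ 0) :
    ∃ ψ : T → ℂ, IsIrrCharacter T ψ ∧ classInner (resFun H T hHT ψ) θ ≠ 0 ∧ indFun T ψ = χ := by
  classical
  have : Fintype (IrrCharacter T) := Fintype.ofFinite _
  have hχc := Cfsg.Agent.Lib.Helper83.isCharacter_of_irr hχ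
  have hχcl := Cfsg.Agent.Lib.Helper83.char_isClassFunction hχc
  have hA : IsCharacter T (fun t : T => χ t) := Cfsg.Agent.Lib.Helper83.isCharacter_restrict T hχc
  have hdec := Cfsg.Agent.Lib.Helper83.char_eq_sum_irrMult hA
  -- some constituent of `χ|_T` lies over `θ`
  have hex : ∃ ξ : IrrCharacter T, classInner (fun t : T => χ t) (ξ : T → ℂ) ≠ 0 ∧
      classInner (resFun H T hHT (ξ : T → ℂ)) θ ≠ 0 := by
    by_contra hcon
    push Not at hcon
    apply h1
    have hr : (fun n : H => χ n) = resFun H T hHT (fun t : T => χ t) := rfl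
    rw [hr, hdec]
    have hsum : resFun H T hHT (∑ ξ : IrrCharacter T,
        (Cfsg.Agent.Lib.Helper83.irrMult (fun t : T => χ t) ξ : ℂ) • (ξ : T → ℂ)) =
        ∑ ξ : IrrCharacter T, (Cfsg.Agent.Lib.Helper83.irrMult (fun t : T => χ t) ξ : ℂ) •
          resFun H T hHT (ξ : T → ℂ) := by
      funext n
      simp [resFun_apply, Finset.sum_apply]
    rw [hsum, Cfsg.Agent.Lib.Helper83.classInner_sum_left]
    apply Finset.sum_eq_zero
    intro ξ _
    rw [Cfsg.Agent.Lib.Helper83.classInner_smul_left, Cfsg.Agent.Lib.Helper83.irrMult_cast hA]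
    by_cases h0 : classInner (fun t : T => χ t) (ξ : T → ℂ) = 0
    · rw [h0, zero_mul]
    · rw [hcon ξ h0, mul_zero]
  obtain ⟨ξ, hξ1, hξ2⟩ := hex
  refine ⟨ξ, ξ.2, hξ2, ?_⟩
  have hirr := isIrrCharacter_indFun_mid H T hHT hθ hI ξ.2 hξ2
  apply irr_eq_of_classInner_ne_zero hirr hχ
  rw [Cfsg.Agent.Lib.Helper34.classInner_indFun_left T (ξ : T → ℂ) χ hχcl,
    ← Cfsg.Agent.Lib.Helper83.classInner_conj_symm]
  intro h0
  apply hξ1
  have := congrArg conj h0
  simpa using this

end Mid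

end Cfsg.Agent.Lib.Helper21
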