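import Mathlib
import Cfsg.Prelude.Def_Blocks
import Cfsg.Agent.Lib.Helper82.CharSchur
import Cfsg.Agent.Lib.Helper82.LocalRing
import Cfsg.Agent.Lib.Helper82.BlockBasic
import Cfsg.Agent.Lib.Helper83.SecondOrth

set_option autoImplicit false
set_option linter.unusedSectionVars false

namespace Cfsg.Agent.Lib.Helper21

open Cfsg
open scoped ComplexConjugate

universe u
variable {G : Type u} [Group G] [Fintype G]

/-- `Ω f χ = (∑ g, f g * χ g) / χ 1`: the value of the central character of `χ` at the
group-algebra element `∑ f g • g`. -/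
noncomputable def omega (f χ : G → ℂ) : ℂ := (∑ g : G, f g * χ g) / χ 1

/-- Convolution of functions on `G`. -/
noncomputable def conv (f h : G → ℂ) : G → ℂ := fun z => ∑ x : G, f x * h (x⁻¹ * z)

theorem omega_add (f h χ : G → ℂ) : omega (f + h) χ = omega f χ + omega h χ := by
  simp only [omega, Pi.add_apply, add_mul, Finset.sum_add_distrib, add_div]

theorem omega_sub (f h χ : G → ℂ) : omega (f - h) χ = omega f χ - omega h χ := by
  simp only [omega, Pi.sub_apply, sub_mul, Finset.sum_sub_distrib, sub_div]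

theorem omega_smul (c : ℂ) (f χ : G → ℂ) : omega (c • f) χ = c * omega f χ := by
  simp only [omega, Pi.smul_apply, smul_eq_mul, mul_assoc, ← Finset.mul_sum, mul_div_assoc]

theorem omega_zero (χ : G → ℂ) : omega (0 : G → ℂ) χ = 0 := by
  simp [omega]

theorem omega_sum {ι : Type*} (s : Finset ι) (f : ι → G → ℂ) (χ : G → ℂ) :
    omega (∑ i ∈ s, f i) χ = ∑ i ∈ s, omega (f i) χ := by
  classical
  induction s using Finset.induction_on with
  | empty => simp [omega_zero]
  | insert a s ha ih => rw [Finset.sum_insert ha, Finset.sum_insert ha, omega_add, ih]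

/-- The delta function at the identity, scaled. -/
theorem omega_delta [DecidableEq G] (c : ℂ) (χ : G → ℂ) (hχ : χ 1 ≠ 0) :
    omega (fun g => if g = 1 then c else 0) χ = c := by
  simp only [omega, ite_mul, zero_mul, Finset.sum_ite_eq', Finset.mem_univ, if_true]
  field_simp

theorem conv_isClassFunction {f h : G → ℂ} (hf : IsClassFunction G f) (hh : IsClassFunction G h) :
    IsClassFunction G (conv f h) := by
  intro g y
  simp only [conv]
  -- reindex x ↦ y x y⁻¹
  rw [← Equiv.sum_comp (MulAut.conj y).toEquiv]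
  apply Finset.sum_congr rfl
  intro x _
  simp only [MulEquiv.toEquiv_eq_coe, MulEquiv.coe_toEquiv, MulAut.conj_apply]
  rw [hf x y]
  have : (y * x * y⁻¹)⁻¹ * (y * g * y⁻¹) = y * (x⁻¹ * g) * y⁻¹ := by group
  rw [this, hh]

theorem omega_conv {χ : G → ℂ} (hχ : IsIrrCharacter G χ) (f h : G → ℂ)
    (hh : IsClassFunction G h) : omega (conv f h) χ = omega f χ * omega h χ := by
  have h1 : χ 1 ≠ 0 := Cfsg.Agent.Lib.Helper82.IsIrrCharacter.apply_one_ne_zero hχ
  have hcard : (Fintype.card G : ℂ) ≠ 0 := by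
    exact_mod_cast Fintype.card_ne_zero
  -- left side
  have hL : ∑ z : G, conv f h z * χ z = ∑ x : G, f x * ∑ y : G, h y * χ (x * y) := by
    simp only [conv, Finset.sum_mul]
    rw [Finset.sum_comm]
    apply Finset.sum_congr rfl
    intro x _
    rw [Finset.mul_sum]
    rw [← Equiv.sum_comp (Equiv.mulLeft x)]
    apply Finset.sum_congr rfl
    intro y _
    simp only [Equiv.coe_mulLeft, inv_mul_cancel_left]
    ring
  -- the Schur relation
  have hS : ∀ x y : G, χ x * χ y / χ 1 = (Fintype.card G : ℂ)⁻¹ * ∑ g : G, χ (x * (g * y * g⁻¹)) := by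
    intro x y
    rw [Cfsg.Agent.Lib.Helper82.IsIrrCharacter.sum_mul_conj hχ x y]
    field_simp
  have hR : (∑ x : G, f x * χ x) * (∑ y : G, h y * χ y) / χ 1
      = ∑ x : G, f x * ∑ y : G, h y * χ (x * y) := by
    have e1 : (∑ x : G, f x * χ x) * (∑ y : G, h y * χ y) / χ 1
        = ∑ x : G, f x * ∑ y : G, h y * (χ x * χ y / χ 1) := by
      rw [Finset.sum_mul_sum, Finset.sum_div]
      apply Finset.sum_congr rfl
      intro x _
      rw [Finset.sum_div, Finset.mul_sum]
      apply Finset.sum_congr rfl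
      intro y _
      ring
    rw [e1]
    apply Finset.sum_congr rfl
    intro x _
    congr 1
    simp_rw [hS]
    -- ∑ y, h y * (card⁻¹ * ∑ g, χ (x * (g y g⁻¹))) = ∑ y, h y * χ (x * y)
    have e2 : ∑ y : G, h y * ((Fintype.card G : ℂ)⁻¹ * ∑ g : G, χ (x * (g * y * g⁻¹)))
        = (Fintype.card G : ℂ)⁻¹ * ∑ g : G, ∑ y : G, h y * χ (x * (g * y * g⁻¹)) := by
      rw [Finset.sum_comm, Finset.mul_sum]
      apply Finset.sum_congr rfl
      intro y _
      rw [Finset.mul_sum, Finset.mul_sum, Finset.mul_sum]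
      apply Finset.sum_congr rfl
      intro g _
      ring
    rw [e2]
    have e3 : ∀ g : G, ∑ y : G, h y * χ (x * (g * y * g⁻¹)) = ∑ y : G, h y * χ (x * y) := by
      intro g
      rw [← Equiv.sum_comp (MulAut.conj g).toEquiv (fun y => h y * χ (x * y))]
      apply Finset.sum_congr rfl
      intro y _
      simp only [MulEquiv.toEquiv_eq_coe, MulEquiv.coe_toEquiv, MulAut.conj_apply]
      rw [hh]
    simp_rw [e3]
    rw [Finset.sum_const, Finset.card_univ, nsmul_eq_mul]
    field_simp
  simp only [omega]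
  rw [hL, ← hR]
  field_simp

theorem isClassFunction_delta [DecidableEq G] (c : ℂ) :
    IsClassFunction G (fun g => if g = 1 then c else 0) := by
  intro g h
  have : h * g * h⁻¹ = 1 ↔ g = 1 := by
    constructor
    · intro e
      have : g = h⁻¹ * (h * g * h⁻¹) * h := by group
      rw [this, e]; group
    · rintro rfl; group
  simp only [this]

theorem isClassFunction_indicator (g : G) [DecidablePred (IsConj g)] :
    IsClassFunction G (fun x => if IsConj g x then (1 : ℂ) else 0) := by
  intro x h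
  have : IsConj g (h * x * h⁻¹) ↔ IsConj g x := by
    constructor
    · intro e
      exact e.trans (isConj_iff.2 ⟨h⁻¹, by group⟩)
    · intro e
      exact e.trans (isConj_iff.2 ⟨h, rfl⟩)
  simp only [this]

theorem omega_indicator {χ : G → ℂ} (hχ : IsClassFunction G χ) (g : G)
    [DecidablePred (IsConj g)] :
    omega (fun x => if IsConj g x then (1 : ℂ) else 0) χ = centralChar χ g := by
  simp only [omega, centralChar, ite_mul, one_mul, zero_mul]
  congr 1
  rw [← Finset.sum_filter]
  have : ∀ x ∈ Finset.univ.filter (fun x => IsConj g x), χ x = χ g := by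
    intro x hx
    rw [Finset.mem_filter] at hx
    obtain ⟨c, rfl⟩ := isConj_iff.1 hx.2
    exact hχ g c
  rw [Finset.sum_congr rfl this, Finset.sum_const, nsmul_eq_mul]
  congr 2
  rw [Cfsg.Agent.Lib.Helper83.index_centralizer_eq_card_conj, Nat.card_eq_fintype_card,
    Fintype.card_subtype]

section Realizable

variable (M : Ideal AlgInt) (hM : M.IsPrime)

open Cfsg.Agent.Lib.Helper82

include hM in
theorem conv_memLocalRing {f h : G → ℂ} (hf : ∀ g, MemLocalRing M (f g))
    (hh : ∀ g, MemLocalRing M (h g)) (z : G) : MemLocalRing M (conv f h z) := by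
  simp only [conv]
  exact memLocalRing_sum hM _ _ (fun x _ => memLocalRing_mul hM (hf x) (hh _))

/-- The vectors `(Ω f χ)_χ` realised by class functions `f` with values in the local ring. -/
def realizable : Subring (IrrCharacter G → ℂ) where
  carrier := {v | ∃ f : G → ℂ, IsClassFunction G f ∧ (∀ g, MemLocalRing M (f g)) ∧
    ∀ χ : IrrCharacter G, v χ = omega f (χ : G → ℂ)}
  mul_mem' := by
    rintro v w ⟨f, hf1, hf2, hf3⟩ ⟨h, hh1, hh2, hh3⟩
    refine ⟨conv f h, conv_isClassFunction hf1 hh1, conv_memLocalRing M hM hf2 hh2, fun χ => ?_⟩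
    rw [Pi.mul_apply, hf3, hh3, omega_conv χ.2 f h hh1]
  one_mem' := by
    classical
    refine ⟨fun g => if g = 1 then 1 else 0, isClassFunction_delta 1, fun g => ?_, fun χ => ?_⟩
    · by_cases hg : g = 1
      · simp only [hg, if_true]; exact memLocalRing_one hM
      · simp only [hg, if_false]; exact memLocalRing_zero hM
    · rw [omega_delta 1 _ (IsIrrCharacter.apply_one_ne_zero χ.2)]; rfl
  add_mem' := by
    rintro v w ⟨f, hf1, hf2, hf3⟩ ⟨h, hh1, hh2, hh3⟩
    refine ⟨f + h, fun g x => ?_, fun g => memLocalRing_add hM (hf2 g) (hh2 g), fun χ => ?_⟩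
    · simp only [Pi.add_apply, hf1 g x, hh1 g x]
    · rw [Pi.add_apply, hf3, hh3, omega_add]
  zero_mem' := by
    refine ⟨0, fun g x => rfl, fun g => memLocalRing_zero hM, fun χ => ?_⟩
    rw [omega_zero]; rfl
  neg_mem' := by
    rintro v ⟨f, hf1, hf2, hf3⟩
    refine ⟨-f, fun g x => ?_, fun g => memLocalRing_neg (hf2 g), fun χ => ?_⟩
    · simp only [Pi.neg_apply, hf1 g x]
    · have : (-f) = (-1 : ℂ) • f := by ext; simp
      rw [Pi.neg_apply, hf3, this, omega_smul]; ring

theorem mem_realizable_iff {v : IrrCharacter G → ℂ} :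
    v ∈ realizable M hM ↔ ∃ f : G → ℂ, IsClassFunction G f ∧ (∀ g, MemLocalRing M (f g)) ∧
      ∀ χ : IrrCharacter G, v χ = omega f (χ : G → ℂ) := Iff.rfl

theorem const_mem_realizable {c : ℂ} (hc : MemLocalRing M c) :
    (fun _ : IrrCharacter G => c) ∈ realizable M hM := by
  classical
  refine ⟨fun g => if g = 1 then c else 0, isClassFunction_delta c, fun g => ?_, fun χ => ?_⟩
  · by_cases hg : g = 1
    · simp only [hg, if_true]; exact hc
    · simp only [hg, if_false]; exact memLocalRing_zero hM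
  · rw [omega_delta c _ (IsIrrCharacter.apply_one_ne_zero χ.2)]

theorem centralChar_mem_realizable (g : G) :
    (fun χ : IrrCharacter G => centralChar (χ : G → ℂ) g) ∈ realizable M hM := by
  classical
  refine ⟨fun x => if IsConj g x then 1 else 0, isClassFunction_indicator g, fun x => ?_, fun χ => ?_⟩
  · by_cases hx : IsConj g x
    · simp only [hx, if_true]; exact memLocalRing_one hM
    · simp only [hx, if_false]; exact memLocalRing_zero hM
  · rw [omega_indicator (IsCharacter.isClassFunction (IsIrrCharacter.isCharacter χ.2))]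

end Realizable

section BlockCoeff

open Cfsg.Agent.Lib.Helper82 Cfsg.Agent.Lib.Helper83

variable [Fintype (IrrCharacter G)]

theorem finsum_mem_eq_sum_ite (A : Set (IrrCharacter G)) [DecidablePred (· ∈ A)]
    (F : IrrCharacter G → ℂ) :
    ∑ᶠ χ ∈ A, F χ = ∑ χ : IrrCharacter G, if χ ∈ A then F χ else 0 := by
  rw [finsum_mem_eq_finite_toFinset_sum F (Set.toFinite A), ← Finset.sum_filter]
  apply Finset.sum_congr
  · ext χ; simp
  · intros; rfl

theorem blockCoeff_eq_sum (A : Set (IrrCharacter G)) [DecidablePred (· ∈ A)] (g : G) :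
    blockCoeff A g = (Nat.card G : ℂ)⁻¹ *
      ∑ χ : IrrCharacter G, if χ ∈ A then (χ : G → ℂ) 1 * conj ((χ : G → ℂ) g) else 0 := by
  rw [blockCoeff, finsum_mem_eq_sum_ite]

theorem blockCoeff_isClassFunction (A : Set (IrrCharacter G)) :
    IsClassFunction G (blockCoeff A) := by
  intro g h
  simp only [blockCoeff]
  congr 1
  apply finsum_congr
  intro χ
  apply finsum_congr
  intro _
  rw [isClassFunction_irr χ g h]

/-- First orthogonality: the central character of `ψ` sends the idempotent of `A` to `1` or `0`. -/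
theorem omega_blockCoeff (A : Set (IrrCharacter G)) [DecidablePred (· ∈ A)] (ψ : IrrCharacter G) :
    omega (blockCoeff A) (ψ : G → ℂ) = if ψ ∈ A then 1 else 0 := by
  classical
  have h1 : (ψ : G → ℂ) 1 ≠ 0 := IsIrrCharacter.apply_one_ne_zero ψ.2
  have hsum : ∑ g : G, blockCoeff A g * (ψ : G → ℂ) g
      = ∑ χ : IrrCharacter G, if χ ∈ A then (χ : G → ℂ) 1 * classInner (ψ : G → ℂ) (χ : G → ℂ) else 0 := by
    simp_rw [blockCoeff_eq_sum A, classInner_def, Finset.mul_sum, Finset.sum_mul]
    rw [Finset.sum_comm]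
    apply Finset.sum_congr rfl
    intro χ _
    by_cases hχ : χ ∈ A
    · simp only [hχ, if_true]
      apply Finset.sum_congr rfl
      intro g _
      ring
    · simp [hχ]
  rw [omega, hsum]
  simp_rw [irr_orthonormal]
  by_cases hψ : ψ ∈ A
  · rw [if_pos hψ, Finset.sum_eq_single ψ]
    · simp [hψ, h1]
    · intro χ _ hne
      by_cases hχ : χ ∈ A
      · simp [hχ, hne.symm]
      · simp [hχ]
    · intro h; exact absurd (Finset.mem_univ _) h
  · rw [if_neg hψ]
    have : ∑ χ : IrrCharacter G, (if χ ∈ A then (χ : G → ℂ) 1 * (if ψ = χ then 1 else 0) else 0) = 0 := by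
      apply Finset.sum_eq_zero
      intro χ _
      by_cases hχ : χ ∈ A
      · have : ψ ≠ χ := fun e => hψ (e ▸ hχ)
        simp [hχ, this]
      · simp [hχ]
    rw [this, zero_div]

/-- Second orthogonality: a class function whose central-character values are the indicator of `B`
is the idempotent coefficient function of `B`. -/
theorem blockCoeff_eq_of_omega (B : Set (IrrCharacter G)) [DecidablePred (· ∈ B)] {f : G → ℂ}
    (hf : IsClassFunction G f)
    (h : ∀ χ : IrrCharacter G, omega f (χ : G → ℂ) = if χ ∈ B then 1 else 0) (g : G) :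
    blockCoeff B g = f g := by
  classical
  have hkey : ∀ χ : IrrCharacter G, (if χ ∈ B then (χ : G → ℂ) 1 * conj ((χ : G → ℂ) g) else 0)
      = ∑ x : G, f x * ((χ : G → ℂ) x * conj ((χ : G → ℂ) g)) := by
    intro χ
    have h1 : (χ : G → ℂ) 1 ≠ 0 := IsIrrCharacter.apply_one_ne_zero χ.2
    have h2 := h χ
    rw [omega, div_eq_iff h1] at h2
    have : ∑ x : G, f x * ((χ : G → ℂ) x * conj ((χ : G → ℂ) g))
        = (∑ x : G, f x * (χ : G → ℂ) x) * conj ((χ : G → ℂ) g) := by
      rw [Finset.sum_mul]; apply Finset.sum_congr rfl; intro x _; ring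
    rw [this, h2]
    by_cases hχ : χ ∈ B <;> simp [hχ]
  rw [blockCoeff_eq_sum B]
  simp_rw [hkey]
  rw [Finset.sum_comm]
  simp_rw [← Finset.mul_sum, second_orthogonality]
  have hfx : ∀ x : G, f x * (if IsConj x g then (Nat.card (Subgroup.centralizer ({g} : Set G)) : ℂ) else 0)
      = if IsConj g x then f g * (Nat.card (Subgroup.centralizer ({g} : Set G)) : ℂ) else 0 := by
    intro x
    by_cases hx : IsConj g x
    · rw [if_pos hx, if_pos hx.symm]
      obtain ⟨c, rfl⟩ := isConj_iff.1 hx
      rw [hf g c]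
    · have : ¬ IsConj x g := fun e => hx e.symm
      rw [if_neg hx, if_neg this, mul_zero]
  simp_rw [hfx]
  rw [← Finset.sum_filter, Finset.sum_const, nsmul_eq_mul]
  have hcard : ((Finset.univ.filter (fun x => IsConj g x)).card : ℂ)
      = (Nat.card {x : G // IsConj g x} : ℂ) := by
    rw [Nat.card_eq_fintype_card, Fintype.card_subtype]
  rw [hcard]
  have hmul := card_centralizer_mul_card_conj g
  have hne : (Nat.card G : ℂ) ≠ 0 := card_ne_zero_complex
  rw [← hmul]
  have h0 : (Nat.card (Subgroup.centralizer ({g} : Set G)) : ℂ) ≠ 0 := by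
    have : Nat.card (Subgroup.centralizer ({g} : Set G)) ≠ 0 := Nat.card_pos.ne'
    exact_mod_cast this
  have h0' : (Nat.card {x : G // IsConj g x} : ℂ) ≠ 0 := by
    have : Nat.card {x : G // IsConj g x} ≠ 0 := by
      have : Nonempty {x : G // IsConj g x} := ⟨⟨g, IsConj.refl g⟩⟩
      exact Nat.card_pos.ne'
    exact_mod_cast this
  push_cast
  field_simp

end BlockCoeff

section Osima

open Cfsg.Agent.Lib.Helper82 Cfsg.Agent.Lib.Helper83

variable [Fintype (IrrCharacter G)] {M : Ideal AlgInt} (hM : M.IsPrime)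

include hM in
theorem unit_prod {ι : Type*} (s : Finset ι) (f : ι → ℂ)
    (h : ∀ i ∈ s, MemLocalRing M (f i) ∧ ¬ MemLocalIdeal M (f i)) :
    MemLocalRing M (∏ i ∈ s, f i) ∧ ¬ MemLocalIdeal M (∏ i ∈ s, f i) := by
  classical
  induction s using Finset.induction_on with
  | empty => simpa using ⟨memLocalRing_one hM, not_memLocalIdeal_one hM⟩
  | insert a s ha ih =>
    rw [Finset.prod_insert ha]
    have h1 := h a (Finset.mem_insert_self a s)
    have h2 := ih (fun i hi => h i (Finset.mem_insert_of_mem hi))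
    refine ⟨memLocalRing_mul hM h1.1 h2.1, fun hcon => ?_⟩
    rcases memLocalIdeal_of_mul_memLocalIdeal hM h1.1 h2.1 hcon with h3 | h3
    · exact h1.2 h3
    · exact h2.2 h3

include hM in
theorem memLocalRing_centralChar (χ : IrrCharacter G) (g : G) :
    MemLocalRing M (centralChar (χ : G → ℂ) g) :=
  memLocalRing_of_isIntegral hM (IsIrrCharacter.isIntegral_centralChar χ.2 g)

/-- A separating element: zero outside the block of `χ₀`, a unit of the local ring on it. -/
theorem exists_separating (χ₀ : IrrCharacter G) :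
    ∃ w ∈ realizable (G := G) M hM, (∀ ψ : IrrCharacter G, ψ ∉ blockOf M (χ₀ : G → ℂ) → w ψ = 0) ∧
      ∀ χ : IrrCharacter G, χ ∈ blockOf M (χ₀ : G → ℂ) →
        MemLocalRing M (w χ) ∧ ¬ MemLocalIdeal M (w χ) := by
  classical
  -- separating group elements
  have hsep : ∀ ψ : IrrCharacter G, ψ ∉ blockOf M (χ₀ : G → ℂ) →
      ∃ g : G, ¬ MemLocalIdeal M (centralChar (χ₀ : G → ℂ) g - centralChar (ψ : G → ℂ) g) := by
    intro ψ hψ
    rw [mem_blockOf_iff] at hψ
    exact not_forall.1 hψ
  let sep : IrrCharacter G → G := fun ψ =>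
    if h : ψ ∉ blockOf M (χ₀ : G → ℂ) then Classical.choose (hsep ψ h) else 1
  have hsep' : ∀ ψ : IrrCharacter G, ψ ∉ blockOf M (χ₀ : G → ℂ) →
      ¬ MemLocalIdeal M (centralChar (χ₀ : G → ℂ) (sep ψ) - centralChar (ψ : G → ℂ) (sep ψ)) := by
    intro ψ hψ
    simp only [sep, dif_pos hψ]
    exact Classical.choose_spec (hsep ψ hψ)
  let a : IrrCharacter G → (IrrCharacter G → ℂ) := fun ψ =>
    (fun χ : IrrCharacter G => centralChar (χ : G → ℂ) (sep ψ)) -
      (fun _ : IrrCharacter G => centralChar (ψ : G → ℂ) (sep ψ))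
  have ha : ∀ ψ, a ψ ∈ realizable (G := G) M hM := fun ψ =>
    Subring.sub_mem _ (centralChar_mem_realizable M hM (sep ψ))
      (const_mem_realizable M hM (memLocalRing_centralChar hM ψ (sep ψ)))
  refine ⟨∏ ψ ∈ Finset.univ.filter (fun ψ => ψ ∉ blockOf M (χ₀ : G → ℂ)), a ψ,
    Subring.prod_mem _ (fun ψ _ => ha ψ), ?_, ?_⟩
  · intro ψ hψ
    rw [Finset.prod_apply]
    apply Finset.prod_eq_zero (i := ψ) (by simp [hψ])
    simp [a]
  · intro χ hχ
    rw [Finset.prod_apply]
    apply unit_prod hM
    intro ψ hψ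
    rw [Finset.mem_filter] at hψ
    have hR : MemLocalRing M (a ψ χ) := by
      simp only [a, Pi.sub_apply]
      exact memLocalRing_sub hM (memLocalRing_centralChar hM χ _) (memLocalRing_centralChar hM ψ _)
    refine ⟨hR, fun hcon => ?_⟩
    apply hsep' ψ hψ.2
    rw [mem_blockOf_iff] at hχ
    have h1 := hχ (sep ψ)
    have : centralChar (χ₀ : G → ℂ) (sep ψ) - centralChar (ψ : G → ℂ) (sep ψ)
        = (centralChar (χ₀ : G → ℂ) (sep ψ) - centralChar (χ : G → ℂ) (sep ψ)) + a ψ χ := by
      simp only [a, Pi.sub_apply]; ring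
    rw [this]
    exact memLocalIdeal_add hM h1 hcon

/-- The indicator vector of a block is realised by a class function with values in the local
ring. -/
theorem indicator_mem_realizable (χ₀ : IrrCharacter G) [DecidablePred (· ∈ blockOf M (χ₀ : G → ℂ))] :
    (fun χ : IrrCharacter G => if χ ∈ blockOf M (χ₀ : G → ℂ) then (1 : ℂ) else 0)
      ∈ realizable (G := G) M hM := by
  classical
  obtain ⟨w, hw, hw0, hwu⟩ := exists_separating hM χ₀
  let fac : IrrCharacter G → (IrrCharacter G → ℂ) := fun χ =>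
    (w - fun _ => w χ) * fun _ => (-(w χ))⁻¹
  have hfac : ∀ χ ∈ Finset.univ.filter (fun χ => χ ∈ blockOf M (χ₀ : G → ℂ)),
      fac χ ∈ realizable (G := G) M hM := by
    intro χ hχ
    rw [Finset.mem_filter] at hχ
    obtain ⟨h1, h2⟩ := hwu χ hχ.2
    apply Subring.mul_mem
    · exact Subring.sub_mem _ hw (const_mem_realizable M hM h1)
    · apply const_mem_realizable M hM
      apply memLocalRing_inv (memLocalRing_neg h1)
      intro hcon
      apply h2
      have := memLocalIdeal_neg hcon
      rwa [neg_neg] at this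
  have hE : (1 - ∏ χ ∈ Finset.univ.filter (fun χ => χ ∈ blockOf M (χ₀ : G → ℂ)), fac χ)
      ∈ realizable (G := G) M hM :=
    Subring.sub_mem _ (Subring.one_mem _) (Subring.prod_mem _ hfac)
  convert hE using 1
  ext ψ
  rw [Pi.sub_apply, Pi.one_apply, Finset.prod_apply]
  by_cases hψ : ψ ∈ blockOf M (χ₀ : G → ℂ)
  · rw [if_pos hψ]
    have : ∏ χ ∈ Finset.univ.filter (fun χ => χ ∈ blockOf M (χ₀ : G → ℂ)), fac χ ψ = 0 := by
      apply Finset.prod_eq_zero (i := ψ) (by simp [hψ])
      simp [fac]
    rw [this, sub_zero]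
  · rw [if_neg hψ]
    have : ∏ χ ∈ Finset.univ.filter (fun χ => χ ∈ blockOf M (χ₀ : G → ℂ)), fac χ ψ = 1 := by
      apply Finset.prod_eq_one
      intro χ hχ
      rw [Finset.mem_filter] at hχ
      obtain ⟨h1, h2⟩ := hwu χ hχ.2
      have hne : w χ ≠ 0 := by
        intro h0
        apply h2
        rw [h0]; exact memLocalIdeal_zero hM
      simp only [fac, Pi.mul_apply, Pi.sub_apply, hw0 ψ hψ, zero_sub]
      field_simp
    rw [this, sub_self]

include hM in
/-- **Osima's theorem**: the coefficients of a block idempotent are local integers. -/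
theorem memLocalRing_blockCoeff_blockOf (χ₀ : IrrCharacter G) (g : G) :
    MemLocalRing M (blockCoeff (blockOf M (χ₀ : G → ℂ)) g) := by
  classical
  obtain ⟨f, hf1, hf2, hf3⟩ := indicator_mem_realizable hM χ₀
  rw [blockCoeff_eq_of_omega _ hf1 (fun χ => (hf3 χ).symm) g]
  exact hf2 g

end Osima

end Cfsg.Agent.Lib.Helper21
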