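import Mathlib
import Cfsg.Prelude.Def_Blocks
import Cfsg.Agent.Lib.Helper21.Osima

set_option autoImplicit false
set_option linter.unusedSectionVars false

namespace Cfsg.Agent.Lib.Helper21

open Cfsg
open scoped ComplexConjugate
open Cfsg.Agent.Lib.Helper82 Cfsg.Agent.Lib.Helper83

universe u
variable {G : Type u} [Group G] [Fintype G]

/-- Decomposition of `Ω f χ` as a sum over conjugacy classes. -/
theorem omega_eq_sum_classes [DecidableEq (ConjClasses G)] [Fintype (ConjClasses G)] {f χ : G → ℂ}
    (hf : IsClassFunction G f) (hχ : IsClassFunction G χ) :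
    omega f χ = ∑ K : ConjClasses G, f (Quotient.out K) * centralChar χ (Quotient.out K) := by
  classical
  rw [omega, ← Finset.sum_fiberwise (Finset.univ : Finset G) (ConjClasses.mk : G → ConjClasses G),
    Finset.sum_div]
  apply Finset.sum_congr rfl
  intro K _
  have hK : ConjClasses.mk (Quotient.out K) = K := Quotient.out_eq K
  have hconj : ∀ g : G, ConjClasses.mk g = K ↔ IsConj (Quotient.out K) g := by
    intro g
    rw [← hK, ConjClasses.mk_eq_mk_iff_isConj, isConj_comm]
    rw [hK]
  have hval : ∀ g ∈ Finset.univ.filter (fun g : G => ConjClasses.mk g = K),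
      f g * χ g = f (Quotient.out K) * χ (Quotient.out K) := by
    intro g hg
    rw [Finset.mem_filter, hconj] at hg
    obtain ⟨c, rfl⟩ := isConj_iff.1 hg.2
    rw [hf, hχ]
  rw [Finset.sum_congr rfl hval, Finset.sum_const, nsmul_eq_mul, centralChar]
  have hcard : ((Finset.univ.filter (fun g : G => ConjClasses.mk g = K)).card : ℂ)
      = ((Subgroup.centralizer ({Quotient.out K} : Set G)).index : ℂ) := by
    rw [Cfsg.Agent.Lib.Helper83.index_centralizer_eq_card_conj, Nat.card_eq_fintype_card, Fintype.card_subtype]
    congr 2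
    ext g
    simp only [Finset.mem_filter, Finset.mem_univ, true_and]
    exact hconj g
  rw [hcard]
  ring

section

variable [Fintype (IrrCharacter G)] {M : Ideal AlgInt} (hM : M.IsPrime)

include hM in
/-- Central characters of characters in the same block agree modulo the local ideal on every
central element with local-integer coefficients. -/
theorem omega_sub_memLocalIdeal {f : G → ℂ} (hf : IsClassFunction G f)
    (hfR : ∀ g, MemLocalRing M (f g)) {χ ψ : IrrCharacter G}
    (h : SameBlock M (χ : G → ℂ) (ψ : G → ℂ)) :
    MemLocalIdeal M (omega f (χ : G → ℂ) - omega f (ψ : G → ℂ)) := by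
  classical
  rw [omega_eq_sum_classes hf (isClassFunction_irr χ), omega_eq_sum_classes hf (isClassFunction_irr ψ),
    ← Finset.sum_sub_distrib]
  apply memLocalIdeal_sum hM
  intro K _
  rw [← mul_sub]
  exact memLocalIdeal_mul_left hM (hfR _) (h _)

include hM in
/-- A set of irreducible characters whose idempotent has local-integer coefficients is a union of
blocks. -/
theorem blockOf_subset_of_memLocalRing_blockCoeff (A : Set (IrrCharacter G))
    (hA : ∀ g : G, MemLocalRing M (blockCoeff A g)) {χ : IrrCharacter G} (hχ : χ ∈ A) :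
    blockOf M (χ : G → ℂ) ⊆ A := by
  classical
  intro ψ hψ
  rw [mem_blockOf_iff] at hψ
  by_contra hψA
  have h1 := omega_sub_memLocalIdeal hM (blockCoeff_isClassFunction A) hA hψ
  rw [omega_blockCoeff, omega_blockCoeff, if_pos hχ, if_neg hψA, sub_zero] at h1
  exact not_memLocalIdeal_one hM h1

include hM in
/-- Every block has a defect class. -/
theorem exists_isDefectClass (χ₀ : IrrCharacter G) :
    ∃ g : G, IsDefectClass M (blockOf M (χ₀ : G → ℂ)) g := by
  classical
  set B := blockOf M (χ₀ : G → ℂ) with hB
  have hR : ∀ g, MemLocalRing M (blockCoeff B g) := memLocalRing_blockCoeff_blockOf hM χ₀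
  have h1 : omega (blockCoeff B) (χ₀ : G → ℂ) = 1 := by
    rw [omega_blockCoeff, if_pos (mem_blockOf_self hM χ₀)]
  rw [omega_eq_sum_classes (blockCoeff_isClassFunction B) (isClassFunction_irr χ₀)] at h1
  have hex : ∃ K : ConjClasses G, ¬ MemLocalIdeal M
      (blockCoeff B (Quotient.out K) * centralChar (χ₀ : G → ℂ) (Quotient.out K)) := by
    by_contra hcon
    push Not at hcon
    have := memLocalIdeal_sum hM Finset.univ _ (fun K _ => hcon K)
    rw [h1] at this
    exact not_memLocalIdeal_one hM this
  obtain ⟨K, hK⟩ := hex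
  refine ⟨Quotient.out K, hR _, fun hcon => ?_, fun χ hχ hcon => ?_⟩
  · exact hK (memLocalIdeal_mul_right hM hcon (memLocalRing_centralChar hM χ₀ _))
  · apply hK
    apply memLocalIdeal_mul_left hM (hR _)
    rw [hB, mem_blockOf_iff] at hχ
    have := memLocalIdeal_add hM (hχ (Quotient.out K)) hcon
    rwa [sub_add_cancel] at this

end

end Cfsg.Agent.Lib.Helper21
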