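import Mathlib
import Cfsg.Prelude.Def_Blocks
import Cfsg.Agent.Lib.Helper21.OsimaApps
import Cfsg.Agent.S0903

set_option autoImplicit false
set_option linter.unusedSectionVars false

namespace Cfsg.Agent.Lib.Helper21

open Cfsg
open scoped ComplexConjugate
open Cfsg.Agent.Lib.Helper82 Cfsg.Agent.Lib.Helper83

universe u
variable {G : Type u} [Group G] [Fintype G]
variable [Fintype (IrrCharacter G)] {M : Ideal AlgInt} (hM : M.IsPrime)

/-- An element of `realizable` all of whose entries are units of the local ring has its pointwise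
inverse in `realizable`. -/
theorem exists_inverse_realizable {t : IrrCharacter G → ℂ} (ht : t ∈ realizable (G := G) M hM)
    (hu : ∀ ψ, MemLocalRing M (t ψ) ∧ ¬ MemLocalIdeal M (t ψ)) :
    ∃ u ∈ realizable (G := G) M hM, ∀ ψ, u ψ * t ψ = 1 := by
  classical
  have hne : ∀ ψ, t ψ ≠ 0 := by
    intro ψ h0
    apply (hu ψ).2
    rw [h0]; exact memLocalIdeal_zero hM
  have key : ∀ s : Finset (IrrCharacter G), ∃ y ∈ realizable (G := G) M hM,
      ∀ ψ, ∏ χ ∈ s, (1 - t ψ * (t χ)⁻¹) = 1 - t ψ * y ψ := by
    intro s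
    induction s using Finset.induction_on with
    | empty => exact ⟨0, Subring.zero_mem _, fun ψ => by simp⟩
    | insert χ s hχ ih =>
      obtain ⟨y, hy, hy'⟩ := ih
      have hc : MemLocalRing M (t χ)⁻¹ := memLocalRing_inv (hu χ).1 (hu χ).2
      refine ⟨y + (fun _ => (t χ)⁻¹) * (1 - t * y), ?_, fun ψ => ?_⟩
      · apply Subring.add_mem _ hy
        apply Subring.mul_mem _ (const_mem_realizable M hM hc)
        exact Subring.sub_mem _ (Subring.one_mem _) (Subring.mul_mem _ ht hy)
      · rw [Finset.prod_insert hχ, hy' ψ]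
        simp only [Pi.add_apply, Pi.mul_apply, Pi.sub_apply, Pi.one_apply]
        ring
  obtain ⟨y, hy, hy'⟩ := key Finset.univ
  refine ⟨y, hy, fun ψ => ?_⟩
  have h0 : ∏ χ ∈ (Finset.univ : Finset (IrrCharacter G)), (1 - t ψ * (t χ)⁻¹) = 0 := by
    apply Finset.prod_eq_zero (Finset.mem_univ ψ)
    rw [mul_inv_cancel₀ (hne ψ), sub_self]
  have := hy' ψ
  rw [h0] at this
  rw [mul_comm]
  exact (sub_eq_zero.1 this.symm).symm

/-- The number of `x` in the class of `a` with `x⁻¹ * k` in the class of `l`, as a count of pairs. -/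
theorem card_filter_eq_card_pairs [DecidableEq G] (a l k : G) [DecidablePred (IsConj a)]
    [DecidablePred (IsConj l)] :
    (Finset.univ.filter (fun x : G => IsConj a x ∧ IsConj l (x⁻¹ * k))).card
      = Nat.card {xy : G × G // IsConj a xy.1 ∧ IsConj l xy.2 ∧ xy.1 * xy.2 = k} := by
  rw [Nat.card_eq_fintype_card, ← Fintype.card_subtype]
  apply Fintype.card_congr
  exact
    { toFun := fun x => ⟨(x.1, x.1⁻¹ * k), x.2.1, x.2.2, by simp⟩
      invFun := fun xy => ⟨xy.1.1, xy.2.1, by
        have h3 := xy.2.2.2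
        have : xy.1.1⁻¹ * k = xy.1.2 := inv_mul_eq_iff_eq_mul.2 h3.symm
        rw [this]; exact xy.2.2.1⟩
      left_inv := fun x => rfl
      right_inv := fun xy => by
        apply Subtype.ext
        have h3 := xy.2.2.2
        have : xy.1.1⁻¹ * k = xy.1.2 := inv_mul_eq_iff_eq_mul.2 h3.symm
        simp only [this] }

/-- **Key lemma for the min–max theorem.** If the idempotent coefficient of the block at `k` is
a unit and the central character of the block does not vanish on the class of `l`, then every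
`p`-subgroup centralizing `k` centralizes some conjugate of `l`. -/
theorem exists_conj_centralized {p : ℕ} [Fact p.Prime] (hMod : IsPModular p M)
    (χ₀ : IrrCharacter G) (k l : G)
    (hk : ¬ MemLocalIdeal M (blockCoeff (blockOf M (χ₀ : G → ℂ)) k))
    (hl : ∃ χ ∈ blockOf M (χ₀ : G → ℂ), ¬ MemLocalIdeal M (centralChar (χ : G → ℂ) l))
    (P : Subgroup G) (hP : IsPGroup p P) (hPk : k ∈ Subgroup.centralizer (P : Set G)) :
    ∃ y, IsConj l y ∧ y ∈ Subgroup.centralizer (P : Set G) := by
  classical
  have hM : M.IsPrime := hMod.2.1.isPrime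
  set B := blockOf M (χ₀ : G → ℂ) with hB
  have hind := indicator_mem_realizable hM χ₀
  have hcl := centralChar_mem_realizable M hM l
  -- the central character values on `l` are units on `B`
  obtain ⟨χ₁, hχ₁B, hχ₁⟩ := hl
  have hunitB : ∀ χ : IrrCharacter G, χ ∈ B → ¬ MemLocalIdeal M (centralChar (χ : G → ℂ) l) := by
    intro χ hχ hcon
    apply hχ₁
    rw [hB, mem_blockOf_iff] at hχ hχ₁B
    have h1 := sameBlock_trans hM (sameBlock_symm hχ₁B) hχ
    have := memLocalIdeal_add hM (h1 l) hcon
    rwa [sub_add_cancel] at this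
  set indB : IrrCharacter G → ℂ := fun χ => if χ ∈ B then (1 : ℂ) else 0 with hindB
  set cl : IrrCharacter G → ℂ := fun χ => centralChar (χ : G → ℂ) l with hcldef
  have ht : indB * cl + (1 - indB) ∈ realizable (G := G) M hM :=
    Subring.add_mem _ (Subring.mul_mem _ hind hcl) (Subring.sub_mem _ (Subring.one_mem _) hind)
  have htu : ∀ ψ, MemLocalRing M ((indB * cl + (1 - indB)) ψ) ∧
      ¬ MemLocalIdeal M ((indB * cl + (1 - indB)) ψ) := by
    intro ψ
    simp only [Pi.add_apply, Pi.mul_apply, Pi.sub_apply, Pi.one_apply, hindB, hcldef]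
    by_cases hψ : ψ ∈ B
    · simp only [if_pos hψ, one_mul, sub_self, add_zero]
      exact ⟨memLocalRing_centralChar hM ψ l, hunitB ψ hψ⟩
    · simp only [if_neg hψ, zero_mul, sub_zero, zero_add]
      exact ⟨memLocalRing_one hM, not_memLocalIdeal_one hM⟩
  obtain ⟨u, hu, hu'⟩ := exists_inverse_realizable hM ht htu
  obtain ⟨f, hf1, hf2, hf3⟩ := Subring.mul_mem _ hu hind
  -- the class indicator of `l`
  set ind : G → ℂ := fun x => if IsConj l x then (1 : ℂ) else 0 with hinddef
  have hindcf : IsClassFunction G ind := isClassFunction_indicator l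
  have hom : ∀ χ : IrrCharacter G, omega (conv f ind) (χ : G → ℂ) = if χ ∈ B then 1 else 0 := by
    intro χ
    rw [omega_conv χ.2 f ind hindcf, ← hf3 χ,
      omega_indicator (isClassFunction_irr χ) l]
    have h1 := hu' χ
    simp only [Pi.add_apply, Pi.mul_apply, Pi.sub_apply, Pi.one_apply, hindB, hcldef] at h1 ⊢
    by_cases hχ : χ ∈ B
    · simp only [if_pos hχ, one_mul, sub_self, add_zero, mul_one] at h1 ⊢
      exact h1
    · simp only [if_neg hχ, mul_zero, zero_mul]
  have hbc := blockCoeff_eq_of_omega B (conv_isClassFunction hf1 hindcf) hom k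
  -- decompose the convolution over conjugacy classes
  have hconv : conv f ind k = ∑ K : ConjClasses G, f (Quotient.out K) *
      ((Finset.univ.filter (fun x : G => IsConj (Quotient.out K) x ∧ IsConj l (x⁻¹ * k))).card : ℂ) := by
    rw [conv, ← Finset.sum_fiberwise (Finset.univ : Finset G) (ConjClasses.mk : G → ConjClasses G)]
    apply Finset.sum_congr rfl
    intro K _
    have hK : ConjClasses.mk (Quotient.out K) = K := Quotient.out_eq K
    have hconj : ∀ g : G, ConjClasses.mk g = K ↔ IsConj (Quotient.out K) g := by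
      intro g
      rw [← hK, ConjClasses.mk_eq_mk_iff_isConj, isConj_comm]
      rw [hK]
    have hval : ∀ x ∈ Finset.univ.filter (fun g : G => ConjClasses.mk g = K),
        f x * ind (x⁻¹ * k) = f (Quotient.out K) * (if IsConj l (x⁻¹ * k) then 1 else 0) := by
      intro x hx
      rw [Finset.mem_filter, hconj] at hx
      obtain ⟨c, rfl⟩ := isConj_iff.1 hx.2
      rw [hf1]
    rw [Finset.sum_congr rfl hval, ← Finset.mul_sum, Finset.sum_boole, Finset.filter_filter]
    congr 3
    ext x
    simp only [Finset.mem_filter, Finset.mem_univ, true_and]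
    rw [hconj]
  by_contra hcon
  push Not at hcon
  apply hk
  rw [hbc, hconv]
  apply memLocalIdeal_sum hM
  intro K _
  apply memLocalIdeal_mul_left hM (hf2 _)
  rw [memLocalIdeal_natCast_iff hMod, card_filter_eq_card_pairs]
  have h903 := Cfsg.Agent.S0903.result p P hP k hPk (Quotient.out K) l
  have hempty : IsEmpty {xy : G × G // IsConj (Quotient.out K) xy.1 ∧ IsConj l xy.2 ∧ xy.1 * xy.2 = k ∧
      xy.1 ∈ Subgroup.centralizer (P : Set G) ∧ xy.2 ∈ Subgroup.centralizer (P : Set G)} := by
    constructor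
    rintro ⟨xy, _, h2, _, _, h5⟩
    exact hcon xy.2 h2 h5
  rw [Nat.card_eq_zero.2 (Or.inl hempty)] at h903
  exact (Nat.modEq_zero_iff_dvd).1 h903

end Cfsg.Agent.Lib.Helper21
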