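import Mathlib
import Cfsg.Prelude.Def_Blocks
import Cfsg.Agent.Lib.Helper21.OsimaApps

set_option autoImplicit false
set_option linter.unusedSectionVars false

namespace Cfsg.Agent.Lib.Helper21

open Cfsg
open scoped ComplexConjugate
open Cfsg.Agent.Lib.Helper82 Cfsg.Agent.Lib.Helper83

universe u
variable {G : Type u} [Group G] [Fintype G]

/-- The coefficient function of an element of `ℤ[G]`, with complex values. -/
noncomputable def coeffFn (a : MonoidAlgebra ℤ G) : G → ℂ := fun g => ((a.coeff g : ℤ) : ℂ)

theorem coeffFn_mul (a b : MonoidAlgebra ℤ G) : coeffFn (a * b) = conv (coeffFn a) (coeffFn b) := by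
  classical
  ext z
  simp only [coeffFn, conv]
  rw [MonoidAlgebra.coeff_mul_apply_left, Finsupp.sum_fintype _ _ (by intro x; simp)]
  push_cast
  rfl

theorem coeffFn_one [DecidableEq G] :
    coeffFn (1 : MonoidAlgebra ℤ G) = fun g => if g = 1 then (1 : ℂ) else 0 := by
  ext g
  simp only [coeffFn, MonoidAlgebra.one_def, MonoidAlgebra.coeff_single, Finsupp.single_apply]
  by_cases hg : g = 1
  · simp [hg]
  · have : ¬ (1 = g) := fun h => hg h.symm
    simp [hg, this]

/-- The class sum of `g` in `ℤ[G]`. -/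
noncomputable def classSumZ (g : G) [DecidablePred (IsConj g)] : MonoidAlgebra ℤ G :=
  ∑ x ∈ Finset.univ.filter (fun x => IsConj g x), MonoidAlgebra.single x (1 : ℤ)

theorem coeffFn_classSumZ (g : G) [DecidablePred (IsConj g)] :
    coeffFn (classSumZ g) = fun x => if IsConj g x then (1 : ℂ) else 0 := by
  classical
  ext z
  simp only [coeffFn, classSumZ, MonoidAlgebra.coeff_sum, MonoidAlgebra.coeff_single,
    Finsupp.finsetSum_apply, Finsupp.single_apply]
  rw [Finset.sum_ite_eq']
  by_cases hz : IsConj g z <;> simp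

theorem coeffFn_classSumZ_pow (g : G) [DecidablePred (IsConj g)] (n : ℕ) :
    IsClassFunction G (coeffFn (classSumZ g ^ n)) ∧
      ∀ χ : G → ℂ, IsIrrCharacter G χ →
        omega (coeffFn (classSumZ g ^ n)) χ = (centralChar χ g) ^ n := by
  classical
  induction n with
  | zero =>
    rw [pow_zero, coeffFn_one]
    refine ⟨isClassFunction_delta 1, fun χ hχ => ?_⟩
    rw [omega_delta 1 χ (IsIrrCharacter.apply_one_ne_zero hχ), pow_zero]
  | succ n ih =>
    rw [pow_succ, coeffFn_mul, coeffFn_classSumZ]
    refine ⟨conv_isClassFunction ih.1 (isClassFunction_indicator g), fun χ hχ => ?_⟩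
    rw [omega_conv hχ _ _ (isClassFunction_indicator g), ih.2 χ hχ,
      omega_indicator (IsCharacter.isClassFunction (IsIrrCharacter.isCharacter hχ)), pow_succ]

section

variable [Fintype (IrrCharacter G)] {M : Ideal AlgInt} (hM : M.IsPrime)

include hM in
theorem memLocalRing_omega {f : G → ℂ} (hf : IsClassFunction G f)
    (hfR : ∀ g, MemLocalRing M (f g)) (χ : IrrCharacter G) :
    MemLocalRing M (omega f (χ : G → ℂ)) := by
  classical
  rw [omega_eq_sum_classes hf (isClassFunction_irr χ)]
  exact memLocalRing_sum hM _ _ (fun K _ => memLocalRing_mul hM (hfR _) (memLocalRing_centralChar hM χ _))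

include hM in
theorem memLocalIdeal_of_pow {x : ℂ} (hx : MemLocalRing M x) (n : ℕ)
    (h : MemLocalIdeal M (x ^ n)) : MemLocalIdeal M x := by
  induction n with
  | zero => rw [pow_zero] at h; exact absurd h (not_memLocalIdeal_one hM)
  | succ n ih =>
    rw [pow_succ] at h
    rcases memLocalIdeal_of_mul_memLocalIdeal hM (memLocalRing_pow hM hx n) hx h with h1 | h1
    · exact ih h1
    · exact h1

/-- If the class sum of `g` is nilpotent in the group algebra over `ZMod p`, then every central
character vanishes on it modulo the local ideal. -/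
theorem memLocalIdeal_centralChar_of_isNilpotent {p : ℕ} [Fact p.Prime] (hMod : IsPModular p M)
    (g : G) [DecidablePred (IsConj g)]
    (hnil : IsNilpotent (∑ x ∈ Finset.univ.filter (fun x => IsConj g x),
      MonoidAlgebra.single x (1 : ZMod p) : MonoidAlgebra (ZMod p) G))
    (χ : IrrCharacter G) : MemLocalIdeal M (centralChar (χ : G → ℂ) g) := by
  classical
  have hM : M.IsPrime := hMod.2.1.isPrime
  obtain ⟨n, hn⟩ := hnil
  have hmap : MonoidAlgebra.mapRingHom G (Int.castRingHom (ZMod p)) (classSumZ g)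
      = ∑ x ∈ Finset.univ.filter (fun x => IsConj g x), MonoidAlgebra.single x (1 : ZMod p) := by
    rw [classSumZ, map_sum]
    apply Finset.sum_congr rfl
    intro x _
    rw [MonoidAlgebra.mapRingHom_single, map_one]
  have hzero : MonoidAlgebra.mapRingHom G (Int.castRingHom (ZMod p)) (classSumZ g ^ n) = 0 := by
    rw [map_pow, hmap, hn]
  have hdvd : ∀ z : G, (p : ℤ) ∣ (classSumZ g ^ n).coeff z := by
    intro z
    have := congrArg (fun a : MonoidAlgebra (ZMod p) G => a.coeff z) hzero
    simp only [MonoidAlgebra.coeff_mapRingHom, MonoidAlgebra.coeff_zero, Finsupp.coe_zero,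
      Pi.zero_apply, Int.coe_castRingHom] at this
    exact (ZMod.intCast_zmod_eq_zero_iff_dvd _ p).1 this
  obtain ⟨hcf, hom⟩ := coeffFn_classSumZ_pow g n
  have hp0 : (p : ℂ) ≠ 0 := by
    exact_mod_cast (Fact.out : p.Prime).ne_zero
  set f' : G → ℂ := fun z => (((classSumZ g ^ n).coeff z / (p : ℤ) : ℤ) : ℂ) with hf'
  have hff' : coeffFn (classSumZ g ^ n) = (p : ℂ) • f' := by
    ext z
    simp only [coeffFn, hf', Pi.smul_apply, smul_eq_mul]
    obtain ⟨c, hc⟩ := hdvd z
    rw [hc, Int.mul_ediv_cancel_left _ (by exact_mod_cast (Fact.out : p.Prime).ne_zero)]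
    push_cast
    ring
  have hf'cf : IsClassFunction G f' := by
    intro z h
    have h1 := hcf z h
    rw [hff'] at h1
    simp only [Pi.smul_apply, smul_eq_mul] at h1
    exact mul_left_cancel₀ hp0 h1
  have hf'R : ∀ z, MemLocalRing M (f' z) := fun z => memLocalRing_intCast hM _
  have h1 := hom (χ : G → ℂ) χ.2
  rw [hff', omega_smul] at h1
  apply memLocalIdeal_of_pow hM (memLocalRing_centralChar hM χ g) n
  rw [← h1]
  apply memLocalIdeal_mul_right hM _ (memLocalRing_omega hM hf'cf hf'R χ)
  exact (memLocalIdeal_natCast_iff hMod p).2 dvd_rfl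

end

end Cfsg.Agent.Lib.Helper21
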