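import Mathlib
import Cfsg.Prelude.Def_Blocks
import Cfsg.Agent.Lib.Helper21.MinMax
import Cfsg.Agent.Lib.Helper21.NilpBridge

set_option autoImplicit false
set_option linter.unusedSectionVars false

namespace Cfsg.Agent.Lib.Helper21

open Cfsg
open scoped ComplexConjugate
open Cfsg.Agent.Lib.Helper82 Cfsg.Agent.Lib.Helper83

universe u
variable {G : Type u} [Group G] [Fintype G]
variable [Fintype (IrrCharacter G)]

/-- Fourier inversion for class functions. -/
theorem fourier_inversion {f : G → ℂ} (hf : IsClassFunction G f) (g : G) :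
    ∑ χ : IrrCharacter G, (∑ x : G, f x * (χ : G → ℂ) x) * conj ((χ : G → ℂ) g)
      = (Nat.card G : ℂ) * f g := by
  classical
  have hkey : ∀ χ : IrrCharacter G, (∑ x : G, f x * (χ : G → ℂ) x) * conj ((χ : G → ℂ) g)
      = ∑ x : G, f x * ((χ : G → ℂ) x * conj ((χ : G → ℂ) g)) := by
    intro χ
    rw [Finset.sum_mul]; apply Finset.sum_congr rfl; intro x _; ring
  simp_rw [hkey]
  rw [Finset.sum_comm]
  simp_rw [← Finset.mul_sum, second_orthogonality]
  have hfx : ∀ x : G, f x * (if IsConj x g then (Nat.card (Subgroup.centralizer ({g} : Set G)) : ℂ) else 0)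
      = if IsConj g x then f g * (Nat.card (Subgroup.centralizer ({g} : Set G)) : ℂ) else 0 := by
    intro x
    by_cases hx : IsConj g x
    · rw [if_pos hx, if_pos hx.symm]
      obtain ⟨c, rfl⟩ := isConj_iff.1 hx
      rw [hf g c]
    · have : ¬ IsConj x g := fun e => hx e.symm
      rw [if_neg hx, if_neg this, mul_zero]
  simp_rw [hfx]
  rw [← Finset.sum_filter, Finset.sum_const, nsmul_eq_mul]
  have hcard : ((Finset.univ.filter (fun x => IsConj g x)).card : ℂ)
      = (Nat.card {x : G // IsConj g x} : ℂ) := by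
    rw [Nat.card_eq_fintype_card, Fintype.card_subtype]
  rw [hcard]
  have hmul := card_centralizer_mul_card_conj g
  rw [← hmul]
  push_cast
  ring

/-- A class function is determined by its central-character values. -/
theorem eq_of_omega_eq {f h : G → ℂ} (hf : IsClassFunction G f) (hh : IsClassFunction G h)
    (H : ∀ χ : IrrCharacter G, omega f (χ : G → ℂ) = omega h (χ : G → ℂ)) : f = h := by
  funext g
  have hne : (Nat.card G : ℂ) ≠ 0 := card_ne_zero_complex
  have h1 := fourier_inversion hf g
  have h2 := fourier_inversion hh g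
  have h3 : ∀ χ : IrrCharacter G, ∑ x : G, f x * (χ : G → ℂ) x = ∑ x : G, h x * (χ : G → ℂ) x := by
    intro χ
    have h1 : (χ : G → ℂ) 1 ≠ 0 := IsIrrCharacter.apply_one_ne_zero χ.2
    have := H χ
    rw [omega, omega, div_left_inj' h1] at this
    exact this
  simp_rw [h3] at h1
  rw [h1] at h2
  exact mul_left_cancel₀ hne h2

/-- The unit of the convolution algebra. -/
noncomputable def deltaOne : G → ℂ :=
  haveI := Classical.decEq G
  fun g => if g = 1 then (1 : ℂ) else 0

theorem deltaOne_eq [DecidableEq G] : (deltaOne : G → ℂ) = fun g => if g = 1 then (1 : ℂ) else 0 := by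
  unfold deltaOne
  funext g
  congr

theorem deltaOne_isClassFunction : IsClassFunction G (deltaOne : G → ℂ) := by
  classical
  rw [deltaOne_eq]
  exact isClassFunction_delta 1

theorem omega_deltaOne (χ : IrrCharacter G) : omega (deltaOne : G → ℂ) (χ : G → ℂ) = 1 := by
  classical
  rw [deltaOne_eq]
  exact omega_delta 1 _ (IsIrrCharacter.apply_one_ne_zero χ.2)

variable (M : Ideal AlgInt)

/-- Class functions with values in the local ring. -/
def IsRClass (f : G → ℂ) : Prop := IsClassFunction G f ∧ ∀ g, MemLocalRing M (f g)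

/-- A functional on functions that is a unital algebra homomorphism modulo the local ideal on
class functions with local-integer values. -/
structure IsModHom (β : (G → ℂ) → ℂ) : Prop where
  add : ∀ f h, β (f + h) = β f + β h
  smul : ∀ (c : ℂ) f, β (c • f) = c * β f
  one : β deltaOne = 1
  memR : ∀ f, IsRClass M f → MemLocalRing M (β f)
  mul : ∀ f h, IsRClass M f → IsRClass M h → MemLocalIdeal M (β (conv f h) - β f * β h)

variable {M} (hM : M.IsPrime)

include hM in
theorem deltaOne_isRClass : IsRClass M (deltaOne : G → ℂ) := by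
  classical
  refine ⟨deltaOne_isClassFunction, fun g => ?_⟩
  rw [deltaOne_eq]
  by_cases hg : g = 1
  · simp only [hg, if_true]; exact memLocalRing_one hM
  · simp only [hg, if_false]; exact memLocalRing_zero hM

include hM in
theorem IsRClass.conv {f h : G → ℂ} (hf : IsRClass M f) (hh : IsRClass M h) :
    IsRClass M (conv f h) :=
  ⟨conv_isClassFunction hf.1 hh.1, conv_memLocalRing M hM hf.2 hh.2⟩

include hM in
theorem IsRClass.sub {f h : G → ℂ} (hf : IsRClass M f) (hh : IsRClass M h) :
    IsRClass M (f - h) :=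
  ⟨fun g x => by simp only [Pi.sub_apply, hf.1 g x, hh.1 g x],
    fun g => memLocalRing_sub hM (hf.2 g) (hh.2 g)⟩

include hM in
theorem IsRClass.smul {c : ℂ} (hc : MemLocalRing M c) {f : G → ℂ} (hf : IsRClass M f) :
    IsRClass M (c • f) :=
  ⟨fun g x => by simp only [Pi.smul_apply, hf.1 g x],
    fun g => by rw [Pi.smul_apply, smul_eq_mul]; exact memLocalRing_mul hM hc (hf.2 g)⟩

include hM in
theorem blockCoeff_isRClass (χ : IrrCharacter G) :
    IsRClass M (blockCoeff (blockOf M (χ : G → ℂ))) :=
  ⟨blockCoeff_isClassFunction _, memLocalRing_blockCoeff_blockOf hM χ⟩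

theorem IsModHom.zero {β : (G → ℂ) → ℂ} (hβ : IsModHom M β) : β 0 = 0 := by
  have := hβ.smul 0 0
  simpa using this

theorem IsModHom.sub {β : (G → ℂ) → ℂ} (hβ : IsModHom M β) (f h : G → ℂ) :
    β (f - h) = β f - β h := by
  have h1 : f - h = f + (-1 : ℂ) • h := by ext; simp [sub_eq_add_neg]
  rw [h1, hβ.add, hβ.smul]; ring

include hM in
/-- **Every unital homomorphism `Z(RG) → R/𝔪` is a central character modulo `𝔪`.** -/
theorem exists_irr_of_isModHom {β : (G → ℂ) → ℂ} (hβ : IsModHom M β) :
    ∃ χ₁ : IrrCharacter G, ∀ f, IsRClass M f →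
      MemLocalIdeal M (β f - omega f (χ₁ : G → ℂ)) := by
  classical
  -- Step 1: some block idempotent is not killed
  have step1 : ∃ χ₁ : IrrCharacter G,
      ¬ MemLocalIdeal M (β (blockCoeff (blockOf M (χ₁ : G → ℂ)))) := by
    by_contra hcon
    push Not at hcon
    have key : ∀ s : Finset (IrrCharacter G), ∃ f : G → ℂ, IsRClass M f ∧
        (∀ ψ : IrrCharacter G, omega f (ψ : G → ℂ)
          = ∏ χ ∈ s, (1 - if ψ ∈ blockOf M (χ : G → ℂ) then (1 : ℂ) else 0)) ∧
        MemLocalIdeal M (β f - 1) := by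
      intro s
      induction s using Finset.induction_on with
      | empty =>
        refine ⟨deltaOne, deltaOne_isRClass hM, fun ψ => ?_, ?_⟩
        · rw [omega_deltaOne, Finset.prod_empty]
        · rw [hβ.one, sub_self]; exact memLocalIdeal_zero hM
      | insert a s ha ih =>
        obtain ⟨f, hf, hf2, hf3⟩ := ih
        set y : G → ℂ := deltaOne - blockCoeff (blockOf M (a : G → ℂ)) with hy
        have hyR : IsRClass M y := (deltaOne_isRClass hM).sub hM (blockCoeff_isRClass hM a)
        refine ⟨conv y f, hyR.conv hM hf, fun ψ => ?_, ?_⟩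
        · rw [omega_conv ψ.2 _ _ hf.1, Finset.prod_insert ha, hf2 ψ, hy, omega_sub,
            omega_deltaOne, omega_blockCoeff]
        · have h1 := hβ.mul y f hyR hf
          have h2 : β y - 1 = - β (blockCoeff (blockOf M (a : G → ℂ))) := by
            rw [hy, hβ.sub, hβ.one]; ring
          have h3 : MemLocalIdeal M (β y - 1) := by
            rw [h2]; exact memLocalIdeal_neg (hcon a)
          have h4 : β (conv y f) - 1 = (β (conv y f) - β y * β f) + (β y - 1) * β f + (β f - 1) := by
            ring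
          rw [h4]
          exact memLocalIdeal_add hM (memLocalIdeal_add hM h1
            (memLocalIdeal_mul_right hM h3 (hβ.memR f hf))) hf3
    obtain ⟨f, hf, hf2, hf3⟩ := key Finset.univ
    have hf0 : f = 0 := by
      apply eq_of_omega_eq hf.1 (fun g x => rfl)
      intro ψ
      rw [hf2 ψ, omega_zero]
      apply Finset.prod_eq_zero (Finset.mem_univ ψ)
      rw [if_pos (mem_blockOf_self hM ψ), sub_self]
    rw [hf0, hβ.zero, zero_sub] at hf3
    have := memLocalIdeal_neg hf3
    rw [neg_neg] at this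
    exact not_memLocalIdeal_one hM this
  obtain ⟨χ₁, hχ₁⟩ := step1
  refine ⟨χ₁, ?_⟩
  set ε : G → ℂ := blockCoeff (blockOf M (χ₁ : G → ℂ)) with hε
  have hεR : IsRClass M ε := blockCoeff_isRClass hM χ₁
  -- Step 2: β ε ≡ 1
  have hεε : conv ε ε = ε := by
    apply eq_of_omega_eq (hεR.conv hM hεR).1 hεR.1
    intro ψ
    rw [omega_conv ψ.2 _ _ hεR.1, hε, omega_blockCoeff]
    split_ifs <;> simp
  have step2 : MemLocalIdeal M (β ε - 1) := by
    have h1 := hβ.mul ε ε hεR hεR
    rw [hεε] at h1
    have h2 : β ε - β ε * β ε = β ε * (-(β ε - 1)) := by ring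
    rw [h2] at h1
    rcases memLocalIdeal_of_mul_memLocalIdeal hM (hβ.memR ε hεR)
      (memLocalRing_neg (memLocalRing_sub hM (hβ.memR ε hεR) (memLocalRing_one hM))) h1 with h | h
    · exact absurd h hχ₁
    · have := memLocalIdeal_neg h
      rwa [neg_neg] at this
  -- Step 3
  intro f hf
  set c : ℂ := omega f (χ₁ : G → ℂ) with hc
  have hcR : MemLocalRing M c := memLocalRing_omega hM hf.1 hf.2 χ₁
  set f' : G → ℂ := f - c • deltaOne with hf'
  have hf'R : IsRClass M f' := hf.sub hM ((deltaOne_isRClass hM).smul hM hcR)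
  set y : G → ℂ := conv f' ε with hy
  have hyR : IsRClass M y := hf'R.conv hM hεR
  have hyω : ∀ ψ : IrrCharacter G, MemLocalIdeal M (omega y (ψ : G → ℂ)) := by
    intro ψ
    rw [hy, omega_conv ψ.2 _ _ hεR.1, hε, omega_blockCoeff, hf', omega_sub, omega_smul,
      omega_deltaOne, mul_one]
    by_cases hψ : ψ ∈ blockOf M (χ₁ : G → ℂ)
    · rw [if_pos hψ, mul_one]
      rw [mem_blockOf_iff] at hψ
      have := omega_sub_memLocalIdeal hM hf.1 hf.2 hψ
      have := memLocalIdeal_neg this
      rwa [neg_sub] at this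
    · rw [if_neg hψ, mul_zero]; exact memLocalIdeal_zero hM
  have hβy : MemLocalIdeal M (β y) := by
    by_contra hcon
    set t : ℂ := β y with ht
    have htR : MemLocalRing M t := hβ.memR y hyR
    have htne : t ≠ 0 := by
      intro h0; apply hcon; rw [h0]; exact memLocalIdeal_zero hM
    have htinv : MemLocalRing M t⁻¹ := memLocalRing_inv htR hcon
    set w : G → ℂ := deltaOne - t⁻¹ • y with hw
    have hwR : IsRClass M w := (deltaOne_isRClass hM).sub hM (hyR.smul hM htinv)
    have hwω : ∀ ψ : IrrCharacter G, omega w (ψ : G → ℂ) = 1 - t⁻¹ * omega y (ψ : G → ℂ) := by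
      intro ψ
      rw [hw, omega_sub, omega_smul, omega_deltaOne]
    have hwmem : (fun ψ : IrrCharacter G => omega w (ψ : G → ℂ)) ∈ realizable (G := G) M hM :=
      ⟨w, hwR.1, hwR.2, fun ψ => rfl⟩
    obtain ⟨u, ⟨fu, hfu1, hfu2, hfu3⟩, hu2⟩ := exists_inverse_realizable hM hwmem (by
      intro ψ
      refine ⟨memLocalRing_omega hM hwR.1 hwR.2 ψ, fun h => ?_⟩
      rw [hwω] at h
      have h2 := memLocalIdeal_mul_left hM htinv (hyω ψ)
      have := memLocalIdeal_add hM h h2
      rw [sub_add_cancel] at this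
      exact not_memLocalIdeal_one hM this)
    have hfuR : IsRClass M fu := ⟨hfu1, hfu2⟩
    have hprod : conv fu w = deltaOne := by
      apply eq_of_omega_eq (hfuR.conv hM hwR).1 deltaOne_isClassFunction
      intro ψ
      rw [omega_conv ψ.2 _ _ hwR.1, omega_deltaOne, ← hfu3 ψ]
      exact hu2 ψ
    have h1 := hβ.mul fu w hfuR hwR
    rw [hprod, hβ.one] at h1
    have hβw : β w = 0 := by
      rw [hw, hβ.sub, hβ.smul, hβ.one, ← ht]
      field_simp
      ring
    rw [hβw, mul_zero, sub_zero] at h1
    exact not_memLocalIdeal_one hM h1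
  have h1 := hβ.mul f' ε hf'R hεR
  rw [← hy] at h1
  have h2 : β f' = β f - c := by
    rw [hf', hβ.sub, hβ.smul, hβ.one, mul_one]
  -- β f' * β ε ∈ 𝔪
  have h3 : MemLocalIdeal M (β f' * β ε) := by
    have := memLocalIdeal_sub hM hβy h1
    rwa [sub_sub_cancel] at this
  rcases memLocalIdeal_of_mul_memLocalIdeal hM (hβ.memR f' hf'R) (hβ.memR ε hεR) h3 with h | h
  · rwa [h2] at h
  · exact absurd h hχ₁

end Cfsg.Agent.Lib.Helper21
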