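import Mathlib
import Cfsg.Prelude.Def_Blocks
import Cfsg.Agent.Lib.Helper21.BlockHom

set_option autoImplicit false
set_option linter.unusedSectionVars false

namespace Cfsg.Agent.Lib.Helper21

open Cfsg
open scoped ComplexConjugate
open Cfsg.Agent.Lib.Helper82 Cfsg.Agent.Lib.Helper83

universe u
variable {G : Type u} [Group G] [Fintype G]
variable [Fintype (IrrCharacter G)]
variable (M : Ideal AlgInt) (hM : M.IsPrime)

/-- Class functions with values in the local ideal. -/
def IsMClass (f : G → ℂ) : Prop := IsClassFunction G f ∧ ∀ g, MemLocalIdeal M (f g)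

variable {M}

theorem IsMClass.isRClass {f : G → ℂ} (hf : IsMClass M f) : IsRClass M f :=
  ⟨hf.1, fun g => memLocalIdeal_memLocalRing (hf.2 g)⟩

include hM in
theorem IsMClass.add {f h : G → ℂ} (hf : IsMClass M f) (hh : IsMClass M h) : IsMClass M (f + h) :=
  ⟨fun g x => by simp only [Pi.add_apply, hf.1 g x, hh.1 g x],
    fun g => memLocalIdeal_add hM (hf.2 g) (hh.2 g)⟩

include hM in
theorem IsMClass.zero : IsMClass M (0 : G → ℂ) :=
  ⟨fun _ _ => rfl, fun _ => memLocalIdeal_zero hM⟩

include hM in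
theorem IsMClass.conv_left {f h : G → ℂ} (hf : IsRClass M f) (hh : IsMClass M h) :
    IsMClass M (conv f h) :=
  ⟨conv_isClassFunction hf.1 hh.1, fun z => by
    simp only [conv]
    exact memLocalIdeal_sum hM _ _ (fun x _ => memLocalIdeal_mul_left hM (hf.2 x) (hh.2 _))⟩

variable (M)

/-- The ideal `𝔪 Z(RG)` of `Z(RG)`, the latter being identified with `realizable`. -/
def modIdeal : Ideal (realizable (G := G) M hM) where
  carrier := {v | ∃ m : G → ℂ, IsMClass M m ∧
    ∀ χ : IrrCharacter G, (v : IrrCharacter G → ℂ) χ = omega m (χ : G → ℂ)}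
  add_mem' := by
    rintro v w ⟨m, hm, hv⟩ ⟨m', hm', hw⟩
    refine ⟨m + m', hm.add hM hm', fun χ => ?_⟩
    rw [Subring.coe_add, Pi.add_apply, hv, hw, omega_add]
  zero_mem' := ⟨0, IsMClass.zero hM, fun χ => by rw [omega_zero]; rfl⟩
  smul_mem' := by
    rintro c v ⟨m, hm, hv⟩
    obtain ⟨f, hf1, hf2, hf3⟩ := c.2
    refine ⟨conv f m, IsMClass.conv_left hM ⟨hf1, hf2⟩ hm, fun χ => ?_⟩
    rw [smul_eq_mul, Subring.coe_mul, Pi.mul_apply, hf3, hv, omega_conv χ.2 _ _ hm.1]

/-- The centre of the group algebra over the residue field, `Z(RG)/𝔪 Z(RG)`. -/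
abbrev CenterMod : Type u := (realizable (G := G) M hM) ⧸ modIdeal (G := G) M hM

variable {M}

/-- The element of `Z(RG)` attached to a class function with local-integer values. -/
noncomputable def toRealizable (f : G → ℂ) (hf : IsRClass M f) : realizable (G := G) M hM :=
  ⟨fun χ => omega f (χ : G → ℂ), f, hf.1, hf.2, fun _ => rfl⟩

/-- The class of a function in `Z(kG)`. -/
noncomputable def cls (f : G → ℂ) (hf : IsRClass M f) : CenterMod (G := G) M hM :=
  Ideal.Quotient.mk _ (toRealizable hM f hf)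

theorem cls_eq_iff {f h : G → ℂ} (hf : IsRClass M f) (hh : IsRClass M h) :
    cls hM f hf = cls hM h hh ↔ ∀ g, MemLocalIdeal M (f g - h g) := by
  rw [cls, cls, Ideal.Quotient.eq]
  constructor
  · rintro ⟨m, hm, hv⟩ g
    have : f - h = m := by
      apply eq_of_omega_eq (hf.sub hM hh).1 hm.1
      intro χ
      rw [← hv χ, omega_sub]
      rfl
    have h2 := hm.2 g
    rw [← this] at h2
    exact h2
  · intro hg
    refine ⟨f - h, ⟨(hf.sub hM hh).1, hg⟩, fun χ => ?_⟩
    rw [omega_sub]
    rfl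

theorem cls_eq_zero_iff {f : G → ℂ} (hf : IsRClass M f) :
    cls hM f hf = 0 ↔ ∀ g, MemLocalIdeal M (f g) := by
  rw [cls, Ideal.Quotient.eq_zero_iff_mem]
  constructor
  · rintro ⟨m, hm, hv⟩ g
    have : f = m := by
      apply eq_of_omega_eq hf.1 hm.1
      intro χ
      rw [← hv χ]
      rfl
    rw [this]
    exact hm.2 g
  · intro hg
    exact ⟨f, ⟨hf.1, hg⟩, fun χ => rfl⟩

theorem cls_conv {f h : G → ℂ} (hf : IsRClass M f) (hh : IsRClass M h) :
    cls hM (conv f h) (hf.conv hM hh) = cls hM f hf * cls hM h hh := by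
  rw [cls, cls, cls, ← map_mul]
  congr 1
  apply Subtype.ext
  funext χ
  rw [Subring.coe_mul, Pi.mul_apply]
  exact omega_conv χ.2 _ _ hh.1

theorem cls_sub {f h : G → ℂ} (hf : IsRClass M f) (hh : IsRClass M h) :
    cls hM (f - h) (hf.sub hM hh) = cls hM f hf - cls hM h hh := by
  rw [cls, cls, cls, ← map_sub]
  congr 1
  apply Subtype.ext
  funext χ
  rw [AddSubgroupClass.coe_sub, Pi.sub_apply]
  exact omega_sub _ _ _

theorem cls_deltaOne : cls hM (deltaOne : G → ℂ) (deltaOne_isRClass hM) = 1 := by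
  rw [cls, ← map_one (Ideal.Quotient.mk (modIdeal (G := G) M hM))]
  congr 1
  apply Subtype.ext
  funext χ
  rw [Subring.coe_one, Pi.one_apply]
  exact omega_deltaOne χ

/-- An element of `Z(RG)` all of whose central-character values lie in the local ideal is
nilpotent in `Z(kG)`. -/
theorem isNilpotent_cls {f : G → ℂ} (hf : IsRClass M f)
    (hω : ∀ χ : IrrCharacter G, MemLocalIdeal M (omega f (χ : G → ℂ))) :
    IsNilpotent (cls hM f hf) := by
  classical
  refine ⟨Fintype.card (IrrCharacter G), ?_⟩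
  -- the constants `t χ`
  have hconst : ∀ χ : IrrCharacter G, ∃ c : realizable (G := G) M hM,
      c ∈ modIdeal (G := G) M hM ∧
      ∀ ψ : IrrCharacter G, (c : IrrCharacter G → ℂ) ψ = omega f (χ : G → ℂ) := by
    intro χ
    have hmc : IsMClass M (omega f (χ : G → ℂ) • (deltaOne : G → ℂ)) := by
      refine ⟨fun g x => by simp only [Pi.smul_apply, deltaOne_isClassFunction g x], fun g => ?_⟩
      rw [Pi.smul_apply, smul_eq_mul]
      exact memLocalIdeal_mul_right hM (hω χ) ((deltaOne_isRClass hM).2 g)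
    refine ⟨toRealizable hM _ hmc.isRClass, ⟨_, hmc, fun ψ => rfl⟩, fun ψ => ?_⟩
    show omega (omega f (χ : G → ℂ) • (deltaOne : G → ℂ)) (ψ : G → ℂ) = _
    rw [omega_smul, omega_deltaOne, mul_one]
  choose c hc1 hc2 using hconst
  have hprod : ∏ χ : IrrCharacter G, (toRealizable hM f hf - c χ) = 0 := by
    apply Subtype.ext
    funext ψ
    rw [SubmonoidClass.coe_finsetProd, Finset.prod_apply]
    apply Finset.prod_eq_zero (Finset.mem_univ ψ)
    rw [AddSubgroupClass.coe_sub, Pi.sub_apply, hc2 ψ ψ]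
    exact sub_self _
  have := congrArg (Ideal.Quotient.mk (modIdeal (G := G) M hM)) hprod
  rw [map_prod, map_zero] at this
  have h2 : ∀ χ : IrrCharacter G, Ideal.Quotient.mk (modIdeal (G := G) M hM)
      (toRealizable hM f hf - c χ) = cls hM f hf := by
    intro χ
    rw [map_sub, Ideal.Quotient.eq_zero_iff_mem.2 (hc1 χ), sub_zero]
    rfl
  rw [Finset.prod_congr rfl (fun χ _ => h2 χ), Finset.prod_const, Finset.card_univ] at this
  exact this

end Cfsg.Agent.Lib.Helper21
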