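import Mathlib
import Cfsg.Prelude.Def_Blocks
import Cfsg.Agent.Lib.Helper21.OsimaApps
import Cfsg.Agent.Lib.Helper21.MinMax

set_option autoImplicit false
set_option linter.unusedSectionVars false

namespace Cfsg.Agent.Lib.Helper21

open Cfsg
open scoped ComplexConjugate
open Cfsg.Agent.Lib.Helper82 Cfsg.Agent.Lib.Helper83

universe u
variable {G : Type u} [Group G]

/-- The class size (index of the centralizer) is invariant under conjugation. -/
theorem index_centralizer_conj (g c : G) :
    (Subgroup.centralizer ({c * g * c⁻¹} : Set G)).index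
      = (Subgroup.centralizer ({g} : Set G)).index := by
  rw [Cfsg.Agent.Lib.Helper83.index_centralizer_eq_card_conj,
    Cfsg.Agent.Lib.Helper83.index_centralizer_eq_card_conj]
  apply Nat.card_congr
  refine Equiv.subtypeEquivRight ?_
  intro x
  have h : IsConj g (c * g * c⁻¹) := isConj_iff.2 ⟨c, rfl⟩
  exact ⟨fun e => h.trans e, fun e => h.symm.trans e⟩

theorem index_centralizer_of_isConj {g g' : G} (h : IsConj g g') :
    (Subgroup.centralizer ({g'} : Set G)).index
      = (Subgroup.centralizer ({g} : Set G)).index := by
  obtain ⟨c, rfl⟩ := isConj_iff.1 h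
  exact index_centralizer_conj g c

theorem centralChar_of_isConj {χ : G → ℂ} (hχ : IsClassFunction G χ) {g g' : G}
    (h : IsConj g g') : centralChar χ g' = centralChar χ g := by
  rw [centralChar, centralChar, index_centralizer_of_isConj h]
  obtain ⟨c, rfl⟩ := isConj_iff.1 h
  rw [hχ]

theorem blockCoeff_of_isConj [Fintype G] [Fintype (IrrCharacter G)] (A : Set (IrrCharacter G)) {g g' : G}
    (h : IsConj g g') : blockCoeff A g' = blockCoeff A g := by
  obtain ⟨c, rfl⟩ := isConj_iff.1 h
  exact blockCoeff_isClassFunction A g c

/-- A conjugate of a defect class representative is a defect class representative. -/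
theorem isDefectClass_of_isConj [Fintype G] [Fintype (IrrCharacter G)] {M : Ideal AlgInt} {B : Set (IrrCharacter G)}
    {g g' : G} (h : IsConj g g') (hg : IsDefectClass M B g) : IsDefectClass M B g' := by
  obtain ⟨h1, h2, h3⟩ := hg
  refine ⟨?_, ?_, ?_⟩
  · rwa [blockCoeff_of_isConj B h]
  · rwa [blockCoeff_of_isConj B h]
  · intro χ hχ
    rw [centralChar_of_isConj (isClassFunction_irr χ) h]
    exact h3 χ hχ

section Induced

variable [Fintype G] (H : Subgroup G) [Fintype H]

/-- The indicator on `H` of the `G`-class of `g`. -/
noncomputable def classInd (g : G) : H → ℂ :=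
  haveI := Classical.decPred (fun h : H => IsConj g (h : G))
  fun h => if IsConj g (h : G) then (1 : ℂ) else 0

theorem classInd_apply (g : G) (h : H) [Decidable (IsConj g (h : G))] :
    classInd H g h = if IsConj g (h : G) then (1 : ℂ) else 0 := by
  unfold classInd
  congr

theorem classInd_isClassFunction (g : G) : IsClassFunction H (classInd H g) := by
  classical
  intro x c
  rw [classInd_apply, classInd_apply]
  have h1 : IsConj g ((c * x * c⁻¹ : H) : G) ↔ IsConj g (x : G) := by
    constructor
    · intro e
      refine e.trans (isConj_iff.2 ⟨(c : G)⁻¹, ?_⟩)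
      push_cast; group
    · intro e
      refine e.trans (isConj_iff.2 ⟨(c : G), ?_⟩)
      push_cast; rfl
  exact if_congr h1 rfl rfl

theorem inducedCentralChar_eq_omega (ξ : H → ℂ) (g : G) :
    inducedCentralChar H ξ g = omega (classInd H g) ξ := by
  classical
  rw [inducedCentralChar, finsum_mem_eq_finite_toFinset_sum _ (Set.toFinite _), omega,
    Finset.sum_div]
  rw [← Finset.sum_filter_add_sum_filter_not Finset.univ (fun h : H => IsConj g (h : G))]
  have h0 : ∑ h ∈ Finset.univ.filter (fun h : H => ¬ IsConj g (h : G)),
      classInd H g h * ξ h / ξ 1 = 0 := by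
    apply Finset.sum_eq_zero
    intro h hh
    rw [Finset.mem_filter] at hh
    rw [classInd_apply, if_neg hh.2]
    simp
  rw [h0, add_zero]
  apply Finset.sum_congr
  · ext x; simp
  · intro h hh
    rw [Finset.mem_filter] at hh
    rw [classInd_apply, if_pos hh.2, one_mul]

theorem inducedCentralChar_eq_sum_classes [DecidableEq (ConjClasses H)] [Fintype (ConjClasses H)]
    (ξ : IrrCharacter H) (g : G) :
    inducedCentralChar H (ξ : H → ℂ) g
      = ∑ L : ConjClasses H, classInd H g (Quotient.out L) * centralChar (ξ : H → ℂ) (Quotient.out L) := by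
  rw [inducedCentralChar_eq_omega,
    omega_eq_sum_classes (classInd_isClassFunction H g) (isClassFunction_irr ξ)]

end Induced

end Cfsg.Agent.Lib.Helper21
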