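import Mathlib
import Cfsg.Prelude.Def_Blocks
import Cfsg.Agent.Lib.Helper21.InducedBlock

set_option autoImplicit false
set_option linter.unusedSectionVars false

namespace Cfsg.Agent.Lib.Helper21

open Cfsg
open scoped ComplexConjugate
open Cfsg.Agent.Lib.Helper82 Cfsg.Agent.Lib.Helper83

universe u

/-- A sum of an invariant local-integer valued function over a finite set on which a `p`-group
acts without fixed points lies in the local ideal. -/
theorem sum_memLocalIdeal_of_fixedPointFree {p : ℕ} [Fact p.Prime] {M : Ideal AlgInt}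
    (hMod : IsPModular p M) {Q : Type*} [Group Q] [Finite Q] (hQ : IsPGroup p Q)
    {S : Type*} [Fintype S] [MulAction Q S] (F : S → ℂ) (hF : ∀ (u : Q) (s : S), F (u • s) = F s)
    (hR : ∀ s, MemLocalRing M (F s)) (hfix : ∀ s : S, ∃ u : Q, u • s ≠ s) :
    MemLocalIdeal M (∑ s, F s) := by
  classical
  have hM : M.IsPrime := hMod.2.1.isPrime
  have e := MulAction.selfEquivSigmaOrbits Q S
  have : Fintype (MulAction.orbitRel.Quotient Q S) := Fintype.ofFinite _
  have : ∀ ω : MulAction.orbitRel.Quotient Q S, Fintype (MulAction.orbit Q (Quotient.out ω)) :=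
    fun ω => Fintype.ofFinite _
  rw [← (MulAction.selfEquivSigmaOrbits Q S).symm.sum_comp, Fintype.sum_sigma]
  apply memLocalIdeal_sum hM
  intro ω _
  have h1 : ∀ x : MulAction.orbit Q (Quotient.out ω),
      F ((MulAction.selfEquivSigmaOrbits Q S).symm ⟨ω, x⟩) = F (Quotient.out ω) := by
    intro x
    have hx : (MulAction.selfEquivSigmaOrbits Q S).symm ⟨ω, x⟩ = (x : S) := rfl
    rw [hx]
    obtain ⟨u, hu⟩ := x.2
    rw [← hu]
    exact hF u _
  rw [Finset.sum_congr rfl (fun x _ => h1 x), Finset.sum_const, nsmul_eq_mul]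
  apply memLocalIdeal_mul_right hM _ (hR _)
  rw [Finset.card_univ, ← Nat.card_eq_fintype_card]
  obtain ⟨n, hn⟩ := hQ.card_orbit (Quotient.out ω)
  rw [hn, memLocalIdeal_natCast_iff hMod]
  apply dvd_pow_self
  intro h0
  rw [h0, pow_zero, Nat.card_eq_one_iff_unique] at hn
  obtain ⟨hsub, _⟩ := hn
  obtain ⟨u, hu⟩ := hfix (Quotient.out ω)
  apply hu
  have := @Subsingleton.elim _ hsub
    (⟨u • Quotient.out ω, MulAction.mem_orbit _ u⟩ : MulAction.orbit Q (Quotient.out ω))
    ⟨Quotient.out ω, MulAction.mem_orbit_self _⟩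
  exact congrArg Subtype.val this

section Brauer

variable {G : Type u} [Group G]

/-- Conjugation action of `P` on the complement of its centralizer. -/
@[instance_reducible]
def conjActionCompl (P : Subgroup G) :
    MulAction P {x : G // x ∉ Subgroup.centralizer (P : Set G)} where
  smul t x := ⟨(t : G) * x.1 * (t : G)⁻¹, by
    intro hx
    apply x.2
    rw [Subgroup.mem_centralizer_iff] at hx ⊢
    intro q hq
    have hq' : (t : G) * q * (t : G)⁻¹ ∈ P := P.mul_mem (P.mul_mem t.2 hq) (P.inv_mem t.2)
    have h1 := hx _ hq'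
    calc q * x.1 = (t : G)⁻¹ * (((t : G) * q * (t : G)⁻¹) * ((t : G) * x.1 * (t : G)⁻¹)) * t := by group
      _ = (t : G)⁻¹ * (((t : G) * x.1 * (t : G)⁻¹) * ((t : G) * q * (t : G)⁻¹)) * t := by rw [h1]
      _ = x.1 * q := by group⟩
  one_smul x := by
    apply Subtype.ext
    show ((1 : P) : G) * x.1 * ((1 : P) : G)⁻¹ = x.1
    simp
  mul_smul s t x := by
    apply Subtype.ext
    show ((s * t : P) : G) * x.1 * ((s * t : P) : G)⁻¹
      = (s : G) * ((t : G) * x.1 * (t : G)⁻¹) * (s : G)⁻¹
    simp [mul_assoc]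

variable [Fintype G] (P H : Subgroup G) [Fintype H]

/-- The Brauer map on functions: restrict to `C_G(P)` and view on `H`. -/
noncomputable def resC (F : G → ℂ) : H → ℂ :=
  haveI := Classical.decPred (fun h : H => (h : G) ∈ Subgroup.centralizer (P : Set G))
  fun h => if (h : G) ∈ Subgroup.centralizer (P : Set G) then F h else 0

theorem resC_apply (F : G → ℂ) (h : H) [Decidable ((h : G) ∈ Subgroup.centralizer (P : Set G))] :
    resC P H F h = if (h : G) ∈ Subgroup.centralizer (P : Set G) then F h else 0 := by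
  unfold resC
  congr

theorem resC_add (F₁ F₂ : G → ℂ) : resC P H (F₁ + F₂) = resC P H F₁ + resC P H F₂ := by
  classical
  ext h
  simp only [Pi.add_apply, resC_apply]
  split_ifs <;> simp

theorem resC_smul (c : ℂ) (F : G → ℂ) : resC P H (c • F) = c • resC P H F := by
  classical
  ext h
  simp only [Pi.smul_apply, resC_apply, smul_eq_mul]
  split_ifs <;> simp

theorem resC_memLocalRing {M : Ideal AlgInt} (hM : M.IsPrime) {F : G → ℂ}
    (hF : ∀ g, MemLocalRing M (F g)) (h : H) : MemLocalRing M (resC P H F h) := by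
  classical
  rw [resC_apply]
  split_ifs
  · exact hF _
  · exact memLocalRing_zero hM

/-- `H ≤ N_G(P)` stabilizes `C_G(P)`. -/
theorem conj_mem_centralizer_iff (hHN : H ≤ Subgroup.normalizer (P : Set G)) (x c : H) :
    ((c * x * c⁻¹ : H) : G) ∈ Subgroup.centralizer (P : Set G) ↔
      (x : G) ∈ Subgroup.centralizer (P : Set G) := by
  have hone : ∀ (x : H) (c : H), (x : G) ∈ Subgroup.centralizer (P : Set G) →
      ((c * x * c⁻¹ : H) : G) ∈ Subgroup.centralizer (P : Set G) := by
    intro x c hx
    rw [Subgroup.mem_centralizer_iff] at hx ⊢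
    intro q hq
    have hcN : (c : G)⁻¹ ∈ Subgroup.normalizer (P : Set G) :=
      Subgroup.inv_mem _ (hHN c.2)
    have hq' : (c : G)⁻¹ * q * ((c : G)⁻¹)⁻¹ ∈ P := (Subgroup.mem_normalizer_iff.1 hcN q).1 hq
    have h1 := hx _ hq'
    simp only [inv_inv] at h1
    push_cast
    calc q * ((c : G) * x * (c : G)⁻¹) = c * (((c : G)⁻¹ * q * c) * x) * (c : G)⁻¹ := by group
      _ = c * (x * ((c : G)⁻¹ * q * c)) * (c : G)⁻¹ := by rw [h1]
      _ = (c : G) * x * (c : G)⁻¹ * q := by group
  refine ⟨fun h => ?_, hone x c⟩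
  have := hone (c * x * c⁻¹) c⁻¹ h
  have e : c⁻¹ * (c * x * c⁻¹) * c⁻¹⁻¹ = x := by group
  rwa [e] at this

theorem resC_isClassFunction (hHN : H ≤ Subgroup.normalizer (P : Set G)) {F : G → ℂ}
    (hF : IsClassFunction G F) : IsClassFunction H (resC P H F) := by
  classical
  intro x c
  rw [resC_apply, resC_apply]
  have h2 : F ((c * x * c⁻¹ : H) : G) = F (x : G) := by
    push_cast
    exact hF _ _
  rw [h2]
  exact if_congr (conj_mem_centralizer_iff P H hHN x c) rfl rfl

theorem brauerCentralChar_eq_omega (ξ : H → ℂ) (g : G) [DecidablePred (IsConj g)] :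
    brauerCentralChar P H ξ g
      = omega (resC P H (fun x => if IsConj g x then (1 : ℂ) else 0)) ξ := by
  classical
  rw [brauerCentralChar, finsum_mem_eq_finite_toFinset_sum _ (Set.toFinite _), omega,
    Finset.sum_div]
  rw [← Finset.sum_filter_add_sum_filter_not Finset.univ
    (fun h : H => IsConj g (h : G) ∧ (h : G) ∈ Subgroup.centralizer (P : Set G))]
  have h0 : ∑ h ∈ Finset.univ.filter
      (fun h : H => ¬ (IsConj g (h : G) ∧ (h : G) ∈ Subgroup.centralizer (P : Set G))),
      resC P H (fun x => if IsConj g x then (1 : ℂ) else 0) h * ξ h / ξ 1 = 0 := by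
    apply Finset.sum_eq_zero
    intro h hh
    rw [Finset.mem_filter] at hh
    rw [resC_apply]
    by_cases h1 : (h : G) ∈ Subgroup.centralizer (P : Set G)
    · rw [if_pos h1, if_neg (fun hc => hh.2 ⟨hc, h1⟩)]; simp
    · rw [if_neg h1]; simp
  rw [h0, add_zero]
  apply Finset.sum_congr
  · ext x; simp
  · intro h hh
    rw [Finset.mem_filter] at hh
    rw [resC_apply, if_pos hh.2.2, if_pos hh.2.1, one_mul]

/-- The Brauer map is multiplicative modulo the local ideal. -/
theorem resC_conv_sub {p : ℕ} [Fact p.Prime] {M : Ideal AlgInt} (hMod : IsPModular p M)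
    (hP : IsPGroup p P) (hCH : Subgroup.centralizer (P : Set G) ≤ H)
    {F₁ F₂ : G → ℂ} (h₁ : IsClassFunction G F₁) (h₂ : IsClassFunction G F₂)
    (hR₁ : ∀ g, MemLocalRing M (F₁ g)) (hR₂ : ∀ g, MemLocalRing M (F₂ g)) (z : H) :
    MemLocalIdeal M (resC P H (conv F₁ F₂) z - conv (resC P H F₁) (resC P H F₂) z) := by
  classical
  have hM : M.IsPrime := hMod.2.1.isPrime
  by_cases hz : (z : G) ∈ Subgroup.centralizer (P : Set G)
  · -- rewrite the sum over `H` as a sum over `G`
    have hH : conv (resC P H F₁) (resC P H F₂) z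
        = ∑ x : G, if x ∈ Subgroup.centralizer (P : Set G) then F₁ x * F₂ (x⁻¹ * z) else 0 := by
      simp only [conv]
      have e1 : ∀ x : H, resC P H F₁ x * resC P H F₂ (x⁻¹ * z)
          = (fun x : G => if x ∈ Subgroup.centralizer (P : Set G) then F₁ x * F₂ (x⁻¹ * z) else 0)
            (x : G) := by
        intro x
        rw [resC_apply, resC_apply]
        by_cases hx : (x : G) ∈ Subgroup.centralizer (P : Set G)
        · have hxz : ((x⁻¹ * z : H) : G) ∈ Subgroup.centralizer (P : Set G) := by
            push_cast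
            exact Subgroup.mul_mem _ (Subgroup.inv_mem _ hx) hz
          simp only [if_pos hx, if_pos hxz]
          push_cast
          rfl
        · simp only [if_neg hx, zero_mul]
      rw [Finset.sum_congr rfl (fun x _ => e1 x)]
      rw [← Finset.sum_subtype (Finset.univ.filter (fun x : G => x ∈ H))
        (fun x => by simp) (fun x : G =>
          if x ∈ Subgroup.centralizer (P : Set G) then F₁ x * F₂ (x⁻¹ * z) else 0)]
      rw [Finset.sum_filter]
      apply Finset.sum_congr rfl
      intro x _
      by_cases hx : x ∈ Subgroup.centralizer (P : Set G)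
      · rw [if_pos (hCH hx)]
      · rw [if_neg hx]; simp
    rw [resC_apply, if_pos hz, hH]
    simp only [conv]
    rw [← Finset.sum_sub_distrib]
    have e2 : ∀ x : G, F₁ x * F₂ (x⁻¹ * z) -
        (if x ∈ Subgroup.centralizer (P : Set G) then F₁ x * F₂ (x⁻¹ * z) else 0)
        = if x ∉ Subgroup.centralizer (P : Set G) then F₁ x * F₂ (x⁻¹ * z) else 0 := by
      intro x
      by_cases hx : x ∈ Subgroup.centralizer (P : Set G)
      · simp [hx]
      · simp [hx]
    rw [Finset.sum_congr rfl (fun x _ => e2 x), ← Finset.sum_filter]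
    rw [Finset.sum_subtype (p := fun x : G => x ∉ Subgroup.centralizer (P : Set G))
        (Finset.univ.filter (fun x : G => x ∉ Subgroup.centralizer (P : Set G)))
        (fun x => by simp) (fun x : G => F₁ x * F₂ (x⁻¹ * z))]
    let _ := conjActionCompl P
    have hsmul : ∀ (t : P) (x : {x : G // x ∉ Subgroup.centralizer (P : Set G)}),
        ((t • x : {x : G // x ∉ Subgroup.centralizer (P : Set G)}) : G)
          = (t : G) * x.1 * (t : G)⁻¹ := fun _ _ => rfl
    apply sum_memLocalIdeal_of_fixedPointFree hMod hP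
      (fun x : {x : G // x ∉ Subgroup.centralizer (P : Set G)} => F₁ x * F₂ ((x : G)⁻¹ * z))
    · intro t x
      simp only [hsmul]
      rw [h₁]
      have hzt : (t : G) * z = z * t := (Subgroup.mem_centralizer_iff.1 hz (t : G) t.2)
      have : ((t : G) * x.1 * (t : G)⁻¹)⁻¹ * z = (t : G) * (x.1⁻¹ * z) * (t : G)⁻¹ := by
        have : z = (t : G) * z * (t : G)⁻¹ := by rw [hzt]; group
        conv_lhs => rw [this]
        group
      rw [this, h₂]
    · intro x
      exact memLocalRing_mul hM (hR₁ _) (hR₂ _)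
    · intro x
      by_contra hcon
      push Not at hcon
      apply x.2
      rw [Subgroup.mem_centralizer_iff]
      intro q hq
      have h1 := congrArg Subtype.val (hcon ⟨q, hq⟩)
      rw [hsmul] at h1
      exact mul_inv_eq_iff_eq_mul.1 h1
  · rw [resC_apply, if_neg hz]
    have h0 : conv (resC P H F₁) (resC P H F₂) z = 0 := by
      simp only [conv]
      apply Finset.sum_eq_zero
      intro x _
      rw [resC_apply, resC_apply]
      by_cases hx : (x : G) ∈ Subgroup.centralizer (P : Set G)
      · have hxz : ((x⁻¹ * z : H) : G) ∉ Subgroup.centralizer (P : Set G) := by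
          intro hc
          apply hz
          have := Subgroup.mul_mem _ hx hc
          push_cast at this
          simpa using this
        rw [if_neg hxz, mul_zero]
      · rw [if_neg hx, zero_mul]
    rw [h0, sub_zero]
    exact memLocalIdeal_zero hM

end Brauer

end Cfsg.Agent.Lib.Helper21
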