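import Mathlib

set_option autoImplicit false
set_option linter.style.haveILetI false

namespace Cfsg.Agent.Lib.Helper21

open MonoidAlgebra

section
variable (F : Type*) [Field F] {G : Type*} [Group G]

/-- `t - 1` in the group algebra. -/
noncomputable def aug (t : G) : MonoidAlgebra F G := MonoidAlgebra.single t 1 - 1

/-- A product of augmentation generators times a group element. -/
noncomputable def wgen (l : List G) (g : G) : MonoidAlgebra F G :=
  (l.map (aug F)).prod * MonoidAlgebra.single g 1

/-- The span of the generators with `k` augmentation factors from `Q`. -/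
noncomputable def augW (Q : Subgroup G) (k : ℕ) : Submodule F (MonoidAlgebra F G) :=
  Submodule.span F {a | ∃ (l : List G) (g : G), l.length = k ∧ (∀ t ∈ l, t ∈ Q) ∧ a = wgen F l g}

variable {F}

theorem single_mul_aug (g s : G) :
    MonoidAlgebra.single g (1 : F) * aug F s = aug F (g * s * g⁻¹) * MonoidAlgebra.single g 1 := by
  simp only [aug, mul_sub, sub_mul, MonoidAlgebra.one_def, MonoidAlgebra.single_mul_single, mul_one,
    one_mul, inv_mul_cancel_right]

theorem single_mul_prod (g : G) (l : List G) :
    MonoidAlgebra.single g (1 : F) * (l.map (aug F)).prod =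
      ((l.map (fun s => g * s * g⁻¹)).map (aug F)).prod * MonoidAlgebra.single g 1 := by
  induction l with
  | nil => simp
  | cons s l ih =>
    simp only [List.map_cons, List.prod_cons]
    calc MonoidAlgebra.single g (1 : F) * (aug F s * (l.map (aug F)).prod)
        = (MonoidAlgebra.single g (1 : F) * aug F s) * (l.map (aug F)).prod := (mul_assoc _ _ _).symm
      _ = aug F (g * s * g⁻¹) * (MonoidAlgebra.single g (1 : F) * (l.map (aug F)).prod) := by
          rw [single_mul_aug, mul_assoc]
      _ = aug F (g * s * g⁻¹) * (((l.map (fun s => g * s * g⁻¹)).map (aug F)).prod *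
            MonoidAlgebra.single g 1) := by rw [ih]
      _ = _ := (mul_assoc _ _ _).symm

theorem wgen_mul (l l' : List G) (g g' : G) :
    wgen F l g * wgen F l' g' = wgen F (l ++ l'.map (fun s => g * s * g⁻¹)) (g * g') := by
  simp only [wgen, List.map_append, List.prod_append]
  rw [mul_assoc, ← mul_assoc (MonoidAlgebra.single g 1), single_mul_prod, mul_assoc, mul_assoc,
    MonoidAlgebra.single_mul_single, mul_one]

theorem augW_mul_le (Q : Subgroup G) [hQ : Q.Normal] (i j : ℕ) :
    augW F Q i * augW F Q j ≤ augW F Q (i + j) := by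
  rw [augW, augW, Submodule.span_mul_span]
  apply Submodule.span_mono
  rintro _ ⟨_, ⟨l, g, hl, hlQ, rfl⟩, _, ⟨l', g', hl', hlQ', rfl⟩, rfl⟩
  refine ⟨l ++ l'.map (fun s => g * s * g⁻¹), g * g', ?_, ?_, ?_⟩
  · simp [hl, hl']
  · intro t ht
    rcases List.mem_append.1 ht with h | h
    · exact hlQ t h
    · obtain ⟨s, hs, rfl⟩ := List.mem_map.1 h
      exact hQ.conj_mem s (hlQ' s hs) g
  · exact wgen_mul l l' g g'

theorem one_mem_augW_zero (Q : Subgroup G) : (1 : MonoidAlgebra F G) ∈ augW F Q 0 := by
  apply Submodule.subset_span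
  refine ⟨[], 1, rfl, by simp, ?_⟩
  simp [wgen, MonoidAlgebra.one_def]

theorem list_prod_mem_augW (Q : Subgroup G) [hQ : Q.Normal] (l : List (MonoidAlgebra F G))
    (hl : ∀ a ∈ l, a ∈ augW F Q 1) : l.prod ∈ augW F Q l.length := by
  induction l with
  | nil => simpa using one_mem_augW_zero Q
  | cons a l ih =>
    rw [List.prod_cons, List.length_cons, add_comm]
    apply augW_mul_le Q 1 l.length
    exact Submodule.mul_mem_mul (hl a (List.mem_cons_self)) (ih fun b hb => hl b (List.mem_cons_of_mem _ hb))

theorem pow_mem_augW (Q : Subgroup G) [hQ : Q.Normal] {a : MonoidAlgebra F G}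
    (ha : a ∈ augW F Q 1) (k : ℕ) : a ^ k ∈ augW F Q k := by
  have := list_prod_mem_augW Q (List.replicate k a) (by
    intro b hb
    rw [List.eq_of_mem_replicate hb]; exact ha)
  simpa using this

theorem augW_eq_bot (Q : Subgroup G) (N : ℕ)
    (h : ∀ l : List G, l.length = N → (∀ t ∈ l, t ∈ Q) → (l.map (aug F)).prod = 0) :
    augW F Q N = ⊥ := by
  rw [augW, Submodule.span_eq_bot]
  rintro _ ⟨l, g, hl, hlQ, rfl⟩
  rw [wgen, h l hl hlQ, zero_mul]

/-- The kernel of `F[G] → F[G/Q]` is contained in `augW F Q 1`. -/
theorem mem_augW_one_of_mapDomain_eq_zero (Q : Subgroup G) [hQ : Q.Normal] (a : MonoidAlgebra F G)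
    (ha : MonoidAlgebra.mapDomain (QuotientGroup.mk : G → G ⧸ Q) a = 0) : a ∈ augW F Q 1 := by
  classical
  let r : G → G := fun g => (QuotientGroup.mk g : G ⧸ Q).out
  have hr : ∀ g, g * (r g)⁻¹ ∈ Q := by
    intro g
    have h1 : (QuotientGroup.mk (r g) : G ⧸ Q) = QuotientGroup.mk g := Quotient.out_eq' _
    have h2 : (r g)⁻¹ * g ∈ Q := QuotientGroup.eq.1 h1
    have := hQ.conj_mem _ h2 (r g)
    simpa [mul_assoc] using this
  have h0 : MonoidAlgebra.mapDomain r a = 0 := by
    have : MonoidAlgebra.mapDomain r a =
        MonoidAlgebra.mapDomain (Quotient.out : G ⧸ Q → G)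
          (MonoidAlgebra.mapDomain (QuotientGroup.mk : G → G ⧸ Q) a) := by
      apply MonoidAlgebra.coeff_injective
      simp only [MonoidAlgebra.mapDomain, MonoidAlgebra.coeff_ofCoeff]
      rw [← Finsupp.mapDomain_comp]
      rfl
    rw [this, ha, MonoidAlgebra.mapDomain_zero]
  have hdecomp : a = a.coeff.sum (fun g c => c • (MonoidAlgebra.single g (1 : F) - MonoidAlgebra.single (r g) 1)) := by
    have h1 : a.coeff.sum (fun g c => c • (MonoidAlgebra.single g (1 : F) - MonoidAlgebra.single (r g) 1))
        = a.coeff.sum (fun g c => MonoidAlgebra.single g c) - a.coeff.sum (fun g c => MonoidAlgebra.single (r g) c) := by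
      rw [← Finsupp.sum_sub]
      apply Finsupp.sum_congr
      intro g _
      rw [smul_sub, MonoidAlgebra.smul_single', MonoidAlgebra.smul_single', mul_one]
    rw [h1, MonoidAlgebra.sum_coeff_single]
    have h2 : a.coeff.sum (fun g c => MonoidAlgebra.single (r g) c) = MonoidAlgebra.mapDomain r a := by
      apply MonoidAlgebra.coeff_injective
      simp only [MonoidAlgebra.mapDomain, MonoidAlgebra.coeff_ofCoeff, Finsupp.mapDomain]
      rw [MonoidAlgebra.coeff_finsuppSum]
      rfl
    rw [h2, h0, sub_zero]
  rw [hdecomp]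
  apply Submodule.sum_mem
  intro g _
  apply Submodule.smul_mem
  apply Submodule.subset_span
  refine ⟨[g * (r g)⁻¹], r g, rfl, ?_, ?_⟩
  · intro t ht
    rw [List.mem_singleton] at ht
    rw [ht]; exact hr g
  · simp [wgen, aug, sub_mul, MonoidAlgebra.single_mul_single, MonoidAlgebra.one_def]

theorem charP_monoidAlgebra (p : ℕ) [CharP F p] : CharP (MonoidAlgebra F G) p := by
  apply charP_of_injective_ringHom (f := (MonoidAlgebra.singleOneRingHom : F →+* MonoidAlgebra F G)) _ p
  intro a b h
  exact MonoidAlgebra.single_right_injective h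

theorem aug_commute_of_central {z : G} (hz : z ∈ Subgroup.center G) (x : MonoidAlgebra F G) :
    Commute (aug F z) x := by
  have h1 : Commute (MonoidAlgebra.single z (1 : F)) x :=
    MonoidAlgebra.single_commute (fun m' => (Subgroup.mem_center_iff.1 hz m').symm)
      (fun r' => Commute.one_left r') x
  exact h1.sub_left (Commute.one_left x)

theorem aug_pow_char (p : ℕ) [Fact p.Prime] [CharP F p] {z : G} (hz : z ^ p = 1) :
    (aug F z) ^ p = 0 := by
  have := charP_monoidAlgebra (F := F) (G := G) p
  rw [aug, sub_pow_char_of_commute p (Commute.one_right _), one_pow, MonoidAlgebra.single_pow, hz,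
    one_pow, MonoidAlgebra.one_def, sub_self]

theorem aug_zpowers_eq (z t : G) (ht : t ∈ Subgroup.zpowers z) [Finite G] :
    ∃ s : MonoidAlgebra F G, aug F t = aug F z * s := by
  have : t ∈ Submonoid.powers z := by
    rwa [mem_powers_iff_mem_zpowers]
  obtain ⟨k, rfl⟩ := this
  refine ⟨∑ i ∈ Finset.range k, (MonoidAlgebra.single z (1 : F)) ^ i, ?_⟩
  rw [aug, aug, mul_geom_sum, MonoidAlgebra.single_pow, one_pow]

theorem prod_aug_zpowers [Finite G] {z : G} (hz : z ∈ Subgroup.center G) (l : List G)
    (hl : ∀ t ∈ l, t ∈ Subgroup.zpowers z) :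
    ∃ S : MonoidAlgebra F G, (l.map (aug F)).prod = (aug F z) ^ l.length * S := by
  induction l with
  | nil => exact ⟨1, by simp⟩
  | cons t l ih =>
    obtain ⟨S, hS⟩ := ih (fun u hu => hl u (List.mem_cons_of_mem _ hu))
    obtain ⟨s, hs⟩ := aug_zpowers_eq (F := F) z t (hl t List.mem_cons_self)
    refine ⟨s * S, ?_⟩
    rw [List.map_cons, List.prod_cons, hS, hs, List.length_cons, pow_succ']
    have hc : Commute ((aug F z) ^ l.length) s := (aug_commute_of_central hz s).pow_left _
    calc aug F z * s * (aug F z ^ l.length * S) = aug F z * (s * aug F z ^ l.length) * S := by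
          simp only [mul_assoc]
      _ = aug F z * (aug F z ^ l.length * s) * S := by rw [hc.eq]
      _ = _ := by simp only [mul_assoc]


theorem mapDomain_aug {H : Type*} [Group H] (f : G →* H) (t : G) :
    MonoidAlgebra.mapDomainRingHom F f (aug F t) = aug F (f t) := by
  rw [aug, map_sub, map_one]
  simp [aug, MonoidAlgebra.mapDomainRingHom, MonoidAlgebra.mapDomain_single]

theorem mapDomain_prod_aug {H : Type*} [Group H] (f : G →* H) (l : List G) :
    MonoidAlgebra.mapDomainRingHom F f (l.map (aug F)).prod = ((l.map f).map (aug F)).prod := by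
  rw [map_list_prod, List.map_map, List.map_map]
  congr 1
  apply List.map_congr_left
  intro t _
  exact mapDomain_aug f t

end

section
universe u
variable {F : Type*} [Field F]

/-- In characteristic `p`, a product of sufficiently many augmentation generators of a finite
`p`-group vanishes (the augmentation ideal is nilpotent). -/
theorem exists_prod_aug_eq_zero (p : ℕ) [Fact p.Prime] [CharP F p] (Q : Type u) [hG : Group Q]
    [Finite Q] (hQ : IsPGroup p Q) :
    ∃ N : ℕ, ∀ l : List Q, l.length = N → (l.map (aug F)).prod = 0 := by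
  induction Q using Finite.induction_subsingleton_or_nontrivial generalizing hG with
  | hbase Q =>
    refine ⟨1, fun l hl => ?_⟩
    obtain ⟨t, rfl⟩ := List.length_eq_one_iff.1 hl
    have : t = 1 := Subsingleton.elim _ _
    simp [this, aug, MonoidAlgebra.one_def]
  | hstep Q ih =>
    have hcen : Nontrivial (Subgroup.center Q) := hQ.center_nontrivial
    have hdvd : p ∣ Nat.card (Subgroup.center Q) := by
      rcases (hQ.to_subgroup (Subgroup.center Q)).card_eq_or_dvd with h | h
      · exfalso
        have := Finite.one_lt_card_iff_nontrivial.2 hcen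
        omega
      · exact h
    obtain ⟨x, hx⟩ := exists_prime_orderOf_dvd_card' p hdvd
    set z : Q := (x : Q) with hzdef
    have hz : z ∈ Subgroup.center Q := x.2
    have hzp : orderOf z = p := by rw [hzdef, Subgroup.orderOf_coe, hx]
    have hZle : ∀ n ∈ Subgroup.zpowers z, n ∈ Subgroup.center Q := by
      intro n hn
      exact (Subgroup.zpowers_le.2 hz) hn
    haveI hZn : (Subgroup.zpowers z).Normal := by
      constructor
      intro n hn g
      have := (Subgroup.mem_center_iff.1 (hZle n hn)) g
      rw [this, mul_inv_cancel_right]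
      exact hn
    have hcard : Nat.card (Q ⧸ Subgroup.zpowers z) < Nat.card Q := by
      rw [Subgroup.card_eq_card_quotient_mul_card_subgroup (Subgroup.zpowers z)]
      apply lt_mul_of_one_lt_right Nat.card_pos
      rw [Nat.card_zpowers, hzp]
      exact (Fact.out : p.Prime).one_lt
    obtain ⟨N', hN'⟩ := ih (Q ⧸ Subgroup.zpowers z) hcard (hQ.to_quotient _)
    refine ⟨N' * p, ?_⟩
    have claim : ∀ m : ℕ, ∀ l : List Q, l.length = N' * m →
        (l.map (aug F)).prod ∈ augW F (Subgroup.zpowers z) m := by
      intro m
      induction m with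
      | zero =>
        intro l hl
        have : l = [] := List.length_eq_zero_iff.1 (by simpa using hl)
        subst this
        simpa using one_mem_augW_zero (F := F) (Subgroup.zpowers z)
      | succ m ihm =>
        intro l hl
        rw [← List.take_append_drop N' l, List.map_append, List.prod_append]
        have hlen1 : (l.take N').length = N' := by
          rw [List.length_take, hl]
          apply min_eq_left
          rw [Nat.mul_succ]; omega
        have hlen2 : (l.drop N').length = N' * m := by
          rw [List.length_drop, hl, Nat.mul_succ]; omega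
        have h1 : ((l.take N').map (aug F)).prod ∈ augW F (Subgroup.zpowers z) 1 := by
          apply mem_augW_one_of_mapDomain_eq_zero
          have := mapDomain_prod_aug (F := F) (QuotientGroup.mk' (Subgroup.zpowers z)) (l.take N')
          rw [hN' _ (by rw [List.length_map, hlen1])] at this
          exact this
        have h2 := ihm (l.drop N') hlen2
        have := augW_mul_le (F := F) (Subgroup.zpowers z) 1 m (Submodule.mul_mem_mul h1 h2)
        rwa [add_comm] at this
    intro l hl
    have h := claim p l hl
    have hbot : augW F (Subgroup.zpowers z) p = ⊥ := by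
      apply augW_eq_bot
      intro l' hl' hl'Z
      obtain ⟨S, hS⟩ := prod_aug_zpowers (F := F) hz l' hl'Z
      rw [hS, hl', aug_pow_char p (by rw [← hzp]; exact pow_orderOf_eq_one z), zero_mul]
    rw [hbot] at h
    exact (Submodule.mem_bot F).1 h

/-- Elements of the kernel of `F[G] → F[G/Q]`, for a finite normal `p`-subgroup `Q` and `F` of
characteristic `p`, are nilpotent. -/
theorem isNilpotent_of_mapDomain_eq_zero (p : ℕ) [Fact p.Prime] [CharP F p] {G : Type u} [Group G]
    (Q : Subgroup G) [hQn : Q.Normal] [Finite Q] (hQ : IsPGroup p Q) (a : MonoidAlgebra F G)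
    (ha : MonoidAlgebra.mapDomain (QuotientGroup.mk : G → G ⧸ Q) a = 0) : IsNilpotent a := by
  obtain ⟨N, hN⟩ := exists_prod_aug_eq_zero (F := F) p Q hQ
  refine ⟨N, ?_⟩
  have h1 := pow_mem_augW Q (mem_augW_one_of_mapDomain_eq_zero Q a ha) N
  have hbot : augW F Q N = ⊥ := by
    apply augW_eq_bot
    intro l hl hlQ
    let l' : List Q := l.attach.map (fun t => ⟨t.1, hlQ t.1 t.2⟩)
    have hl' : l'.map Q.subtype = l := by
      simp only [l', List.map_map]
      conv_rhs => rw [← List.attach_map_subtype_val l]
      rfl
    have hlen : l'.length = N := by simp [l', hl]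
    have := mapDomain_prod_aug (F := F) Q.subtype l'
    rw [hN l' hlen, map_zero, hl'] at this
    exact this.symm
  rw [hbot] at h1
  exact (Submodule.mem_bot F).1 h1

end

end Cfsg.Agent.Lib.Helper21
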