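import Mathlib
import Cfsg.Prelude.Def_Blocks
import Cfsg.Agent.Lib.Helper21.CenterMod
import Cfsg.Agent.S0919

set_option autoImplicit false
set_option linter.unusedSectionVars false

namespace Cfsg.Agent.Lib.Helper21

open Cfsg
open scoped ComplexConjugate
open Cfsg.Agent.Lib.Helper82 Cfsg.Agent.Lib.Helper83

universe u
variable {G : Type u} [Group G] [Fintype G] [Fintype (IrrCharacter G)]
variable {M : Ideal AlgInt}

/-- The block idempotent is idempotent for convolution. -/
theorem conv_blockCoeff_self (hM : M.IsPrime) (χ₀ : IrrCharacter G) :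
    conv (blockCoeff (blockOf M (χ₀ : G → ℂ))) (blockCoeff (blockOf M (χ₀ : G → ℂ)))
      = blockCoeff (blockOf M (χ₀ : G → ℂ)) := by
  classical
  have hεR := blockCoeff_isRClass hM χ₀
  apply eq_of_omega_eq (hεR.conv hM hεR).1 hεR.1
  intro ψ
  rw [omega_conv ψ.2 _ _ hεR.1, omega_blockCoeff]
  split_ifs <;> simp

/-- Brauer correspondence, with the congruence of central characters on all of `Z(RG)`. -/
theorem exists_brauer_correspondent {p : ℕ} [Fact p.Prime] (hMod : IsPModular p M)
    (P H : Subgroup G) [Fintype H] [Fintype (IrrCharacter H)] (hP : IsPGroup p P) (hPH : P ≤ H)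
    (hCH : Subgroup.centralizer (P : Set G) ≤ H) (hHN : H ≤ Subgroup.normalizer (P : Set G))
    (ξ₀ : IrrCharacter H) :
    ∃ χ₁ : IrrCharacter G,
      (∀ f, IsRClass M f →
        MemLocalIdeal M (omega (resC P H f) (ξ₀ : H → ℂ) - omega f (χ₁ : G → ℂ))) ∧
      IsInducedBlock M H (blockOf M (ξ₀ : H → ℂ)) (blockOf M (χ₁ : G → ℂ)) := by
  classical
  have hprime : M.IsPrime := hMod.2.1.isPrime
  obtain ⟨χ₁, hχ₁⟩ := exists_irr_of_isModHom hprime
    (Cfsg.Agent.S0919.isModHom_brauer hMod P H hP hCH hHN ξ₀)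
  refine ⟨χ₁, hχ₁, ⟨ξ₀, rfl⟩, ⟨χ₁, rfl⟩, fun ξ hξ χ hχ g => ?_⟩
  have hind : IsRClass M (fun x : G => if IsConj g x then (1 : ℂ) else 0) := by
    refine ⟨isClassFunction_indicator g, fun x => ?_⟩
    by_cases hx : IsConj g x
    · simp only [hx, if_true]; exact memLocalRing_one hprime
    · simp only [hx, if_false]; exact memLocalRing_zero hprime
  have h3 := hχ₁ _ hind
  rw [← brauerCentralChar_eq_omega, omega_indicator (isClassFunction_irr χ₁)] at h3
  have h2 := Cfsg.Agent.S0918.induced_sub_brauer p M hMod P H hP hPH hHN ξ₀ g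
  have h4 : MemLocalIdeal M (centralChar (χ₁ : G → ℂ) g - centralChar (χ : G → ℂ) g) := by
    rw [mem_blockOf_iff] at hχ
    exact hχ g
  have h1 : MemLocalIdeal M (inducedCentralChar H (ξ : H → ℂ) g -
      inducedCentralChar H (ξ₀ : H → ℂ) g) := by
    rw [inducedCentralChar_eq_omega, inducedCentralChar_eq_omega]
    rw [mem_blockOf_iff] at hξ
    have hR : ∀ h : H, MemLocalRing M (classInd H g h) := by
      intro h
      rw [classInd_apply]
      split_ifs
      · exact memLocalRing_one hprime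
      · exact memLocalRing_zero hprime
    have := omega_sub_memLocalIdeal hprime (classInd_isClassFunction H g) hR hξ
    have := memLocalIdeal_neg this
    rwa [neg_sub] at this
  have := memLocalIdeal_add hprime (memLocalIdeal_add hprime (memLocalIdeal_add hprime h1 h2) h3) h4
  convert this using 1
  ring

/-- A block of a subgroup induces at most one block. -/
theorem isInducedBlock_unique (hM : M.IsPrime) (H : Subgroup G) {b : Set (IrrCharacter H)}
    {B B' : Set (IrrCharacter G)} (h : IsInducedBlock M H b B) (h' : IsInducedBlock M H b B') :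
    B = B' := by
  obtain ⟨hb, hB, hc⟩ := h
  obtain ⟨_, hB', hc'⟩ := h'
  obtain ⟨ξ, hξ⟩ := Cfsg.Agent.Lib.Helper82.IsPBlock.nonempty hM hb
  obtain ⟨χ, hχ⟩ := Cfsg.Agent.Lib.Helper82.IsPBlock.nonempty hM hB
  obtain ⟨χ', hχ'⟩ := Cfsg.Agent.Lib.Helper82.IsPBlock.nonempty hM hB'
  have hs : SameBlock M (χ : G → ℂ) (χ' : G → ℂ) := by
    intro g
    have := memLocalIdeal_sub hM (hc' ξ hξ χ' hχ' g) (hc ξ hξ χ hχ g)
    convert this using 1
    ring
  rw [IsPBlock.eq_blockOf hM hB hχ, IsPBlock.eq_blockOf hM hB' hχ']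
  exact blockOf_eq_of_sameBlock hM hs

/-- If no block of `H` induces `B`, the Brauer image of the idempotent of `B` vanishes modulo the
local ideal. -/
theorem resC_blockCoeff_memLocalIdeal {p : ℕ} [Fact p.Prime] (hMod : IsPModular p M)
    (P H : Subgroup G) [Fintype H] [Fintype (IrrCharacter H)] (hP : IsPGroup p P) (hPH : P ≤ H)
    (hCH : Subgroup.centralizer (P : Set G) ≤ H) (hHN : H ≤ Subgroup.normalizer (P : Set G))
    (χ₀ : IrrCharacter G)
    (hno : ∀ b : Set (IrrCharacter H), ¬ IsInducedBlock M H b (blockOf M (χ₀ : G → ℂ)))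
    (z : H) : MemLocalIdeal M (resC P H (blockCoeff (blockOf M (χ₀ : G → ℂ))) z) := by
  classical
  have hprime : M.IsPrime := hMod.2.1.isPrime
  set e := blockCoeff (blockOf M (χ₀ : G → ℂ)) with he
  have heR : IsRClass M e := blockCoeff_isRClass hprime χ₀
  have hyR : IsRClass M (resC P H e) :=
    ⟨resC_isClassFunction P H hHN heR.1, resC_memLocalRing P H hprime heR.2⟩
  have hω : ∀ ξ : IrrCharacter H, MemLocalIdeal M (omega (resC P H e) (ξ : H → ℂ)) := by
    intro ξ
    obtain ⟨χ₁, h1, h2⟩ := exists_brauer_correspondent hMod P H hP hPH hCH hHN ξ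
    have h3 := h1 e heR
    rw [he, omega_blockCoeff] at h3
    have hχ₁ : χ₁ ∉ blockOf M (χ₀ : G → ℂ) := by
      intro hmem
      rw [mem_blockOf_iff] at hmem
      apply hno (blockOf M (ξ : H → ℂ))
      rw [blockOf_eq_of_sameBlock hprime hmem]
      exact h2
    rw [if_neg hχ₁, sub_zero] at h3
    exact h3
  have hnil := isNilpotent_cls hprime hyR hω
  have hidem : IsIdempotentElem (cls hprime (resC P H e) hyR) := by
    rw [IsIdempotentElem, ← cls_conv, cls_eq_iff]
    intro g
    have := resC_conv_sub P H hMod hP hCH heR.1 heR.1 heR.2 heR.2 g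
    rw [he, conv_blockCoeff_self hprime χ₀] at this
    have := memLocalIdeal_neg this
    rwa [neg_sub] at this
  have h0 := hidem.eq_zero_of_isNilpotent hnil
  rw [cls_eq_zero_iff] at h0
  exact h0 z

end Cfsg.Agent.Lib.Helper21
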