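import Mathlib
import Cfsg.Prelude.Def_Blocks
import Cfsg.Agent.Lib.Helper21.InducedBlock

set_option autoImplicit false
set_option linter.unusedSectionVars false

namespace Cfsg.Agent.Lib.Helper21

open Cfsg
open scoped ComplexConjugate
open Cfsg.Agent.Lib.Helper82 Cfsg.Agent.Lib.Helper83

universe u
variable {G : Type u} [Group G] [Fintype G] (H : Subgroup G) [Fintype H]

/-- Summing a class function against the induced central character over class representatives
is the same as summing the restriction against `ξ`. -/
theorem sum_classes_mul_induced [DecidableEq (ConjClasses G)] [Fintype (ConjClasses G)]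
    {f : G → ℂ} (hf : IsClassFunction G f) (ξ : H → ℂ) :
    ∑ K : ConjClasses G, f (Quotient.out K) * inducedCentralChar H ξ (Quotient.out K)
      = omega (fun h : H => f (h : G)) ξ := by
  classical
  simp_rw [inducedCentralChar_eq_omega, omega, mul_div_assoc', Finset.mul_sum]
  rw [← Finset.sum_div, Finset.sum_comm]
  congr 1
  apply Finset.sum_congr rfl
  intro h _
  rw [Finset.sum_eq_single (ConjClasses.mk (h : G))]
  · have hc : IsConj (Quotient.out (ConjClasses.mk (h : G))) (h : G) := by
      rw [← ConjClasses.mk_eq_mk_iff_isConj]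
      exact Quotient.out_eq _
    rw [classInd_apply, if_pos hc, one_mul]
    obtain ⟨c, hc'⟩ := isConj_iff.1 hc
    have hfh : f (h : G) = f (Quotient.out (ConjClasses.mk (h : G))) := by
      conv_lhs => rw [← hc']
      exact hf _ _
    rw [hfh]
  · intro K _ hK
    have hc : ¬ IsConj (Quotient.out K) (h : G) := by
      intro hc
      apply hK
      rw [← ConjClasses.mk_eq_mk_iff_isConj] at hc
      rw [← hc]
      exact (Quotient.out_eq K).symm
    rw [classInd_apply, if_neg hc, zero_mul, mul_zero]
  · intro h0
    exact absurd (Finset.mem_univ _) h0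

/-- If `b` induces `B`, the central character of `ξ ∈ b` maps the restriction of the idempotent
of `B` to `1` modulo the local ideal. -/
theorem omega_restrict_blockCoeff_sub_one [Fintype (IrrCharacter G)] [Fintype (IrrCharacter H)]
    {M : Ideal AlgInt} (hM : M.IsPrime) {b : Set (IrrCharacter H)} {B : Set (IrrCharacter G)}
    (hind : IsInducedBlock M H b B) {ξ : IrrCharacter H} (hξ : ξ ∈ b) :
    MemLocalIdeal M (omega (fun h : H => blockCoeff B (h : G)) (ξ : H → ℂ) - 1) := by
  classical
  obtain ⟨_, ⟨χ₀, rfl⟩, hcong⟩ := hind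
  have hχ₀ : χ₀ ∈ blockOf M (χ₀ : G → ℂ) := mem_blockOf_self hM χ₀
  set B := blockOf M (χ₀ : G → ℂ) with hBdef
  have hR : ∀ g, MemLocalRing M (blockCoeff B g) := memLocalRing_blockCoeff_blockOf hM χ₀
  have h1 : omega (blockCoeff B) (χ₀ : G → ℂ) = 1 := by
    rw [omega_blockCoeff, if_pos hχ₀]
  rw [omega_eq_sum_classes (blockCoeff_isClassFunction B) (isClassFunction_irr χ₀)] at h1
  rw [← sum_classes_mul_induced H (blockCoeff_isClassFunction B), ← h1, ← Finset.sum_sub_distrib]
  apply memLocalIdeal_sum hM
  intro K _
  rw [← mul_sub]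
  exact memLocalIdeal_mul_left hM (hR _) (hcong ξ hξ χ₀ hχ₀ _)

end Cfsg.Agent.Lib.Helper21
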