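import Mathlib

set_option autoImplicit false

namespace Cfsg.Agent.Lib.Helper21

open scoped Pointwise

/-- If `S` is a Sylow `p`-subgroup of the subgroup `H` of `G` whose image in `G` is `P`, then every
`p`-subgroup `Q` of `G` contained in `H` is conjugate, by an element of `H`, into `P`. -/
theorem exists_conj_mem_of_sylow_subgroup {G : Type*} [Group G] [Finite G] {p : ℕ} [Fact p.Prime]
    {H P Q : Subgroup G} (S : Sylow p H) (hS : (S : Subgroup H).map H.subtype = P)
    (hQ : IsPGroup p Q) (hQH : Q ≤ H) :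
    ∃ h ∈ H, ∀ q ∈ Q, h⁻¹ * q * h ∈ P := by
  have hQ1 : IsPGroup p (Q.subgroupOf H) := hQ.comap_subtype
  obtain ⟨S', hS'⟩ := hQ1.exists_le_sylow
  obtain ⟨h, hh⟩ := MulAction.exists_smul_eq H S S'
  refine ⟨h, h.2, fun q hq => ?_⟩
  have h1 : (⟨q, hQH hq⟩ : H) ∈ Q.subgroupOf H := by
    rw [Subgroup.mem_subgroupOf]; exact hq
  have h2 : (⟨q, hQH hq⟩ : H) ∈ (S' : Subgroup H) := hS' h1
  rw [← hh, Sylow.coe_subgroup_smul, Subgroup.mem_pointwise_smul_iff_inv_smul_mem] at h2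
  rw [← hS, Subgroup.mem_map]
  refine ⟨_, h2, ?_⟩
  simp [MulAut.smul_def]

/-- In a finite group, a proper subgroup `P` of a `p`-subgroup `Q` is normalized by some element
of `Q` outside `P`. -/
theorem exists_mem_normalizer_not_mem_of_lt {G : Type*} [Group G] [Finite G] {p : ℕ}
    [Fact p.Prime] {P Q : Subgroup G} (hQ : IsPGroup p Q) (hPQ : P < Q) :
    ∃ y ∈ Q, y ∉ P ∧ y ∈ Subgroup.normalizer (P : Set G) := by
  have : Group.IsNilpotent Q := hQ.isNilpotent
  have hnc : NormalizerCondition Q := Group.normalizerCondition_of_isNilpotent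
  have hlt : P.subgroupOf Q < ⊤ := by
    rw [lt_top_iff_ne_top, Ne, Subgroup.subgroupOf_eq_top]
    exact not_le_of_gt hPQ
  obtain ⟨hle, hnle⟩ := hnc _ hlt
  obtain ⟨y, hy1, hy2⟩ := SetLike.not_le_iff_exists.1 hnle
  refine ⟨y, y.2, ?_, ?_⟩
  · intro hyP
    exact hy2 (Subgroup.mem_subgroupOf.2 hyP)
  · apply Subgroup.mem_normalizer_fintype
    intro t ht
    have ht' : (⟨t, hPQ.le ht⟩ : Q) ∈ P.subgroupOf Q := Subgroup.mem_subgroupOf.2 ht
    have := (Subgroup.mem_normalizer_iff.1 hy1 _).1 ht'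
    rw [Subgroup.mem_subgroupOf] at this
    simpa using this

end Cfsg.Agent.Lib.Helper21
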