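import Mathlib
import Cfsg.Prelude.Def_Blocks
import Cfsg.Agent.Lib.Helper21.BrauerCorr
import Cfsg.Agent.S0912

set_option autoImplicit false
set_option linter.unusedSectionVars false

namespace Cfsg.Agent.Lib.Helper21

open Cfsg
open scoped ComplexConjugate
open Cfsg.Agent.Lib.Helper82 Cfsg.Agent.Lib.Helper83

universe u
variable {X : Type u} [Group X] [Fintype X]

/-- Cut a function down to the centralizer of `P`. -/
noncomputable def cutC (P : Subgroup X) (F : X → ℂ) : X → ℂ :=
  haveI := Classical.decPred (fun x : X => x ∈ Subgroup.centralizer (P : Set X))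
  fun x => if x ∈ Subgroup.centralizer (P : Set X) then F x else 0

theorem cutC_apply (P : Subgroup X) (F : X → ℂ) (x : X)
    [Decidable (x ∈ Subgroup.centralizer (P : Set X))] :
    cutC P F x = if x ∈ Subgroup.centralizer (P : Set X) then F x else 0 := by
  unfold cutC
  congr

theorem cutC_isClassFunction (P : Subgroup X) [P.Normal] {F : X → ℂ}
    (hF : IsClassFunction X F) : IsClassFunction X (cutC P F) := by
  classical
  intro x c
  rw [cutC_apply, cutC_apply, hF]
  have hn : (Subgroup.centralizer (P : Set X)).Normal := Subgroup.normal_centralizer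
  have : c * x * c⁻¹ ∈ Subgroup.centralizer (P : Set X) ↔ x ∈ Subgroup.centralizer (P : Set X) := by
    constructor
    · intro h
      have := hn.conj_mem _ h c⁻¹
      simpa [mul_assoc] using this
    · intro h
      exact hn.conj_mem _ h c
  exact if_congr this rfl rfl

theorem cutC_memLocalRing (P : Subgroup X) {M : Ideal AlgInt} (hM : M.IsPrime) {F : X → ℂ}
    (hF : ∀ g, MemLocalRing M (F g)) (x : X) : MemLocalRing M (cutC P F x) := by
  classical
  rw [cutC_apply]
  split_ifs
  · exact hF _
  · exact memLocalRing_zero hM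

/-- Cutting down to the centralizer of a `p`-subgroup is multiplicative modulo the local ideal. -/
theorem cutC_conv_sub {p : ℕ} [Fact p.Prime] {M : Ideal AlgInt} (hMod : IsPModular p M)
    (P : Subgroup X) (hP : IsPGroup p P)
    {F₁ F₂ : X → ℂ} (h₁ : IsClassFunction X F₁) (h₂ : IsClassFunction X F₂)
    (hR₁ : ∀ g, MemLocalRing M (F₁ g)) (hR₂ : ∀ g, MemLocalRing M (F₂ g)) (z : X) :
    MemLocalIdeal M (cutC P (conv F₁ F₂) z - conv (cutC P F₁) (cutC P F₂) z) := by
  classical
  have hM : M.IsPrime := hMod.2.1.isPrime
  by_cases hz : z ∈ Subgroup.centralizer (P : Set X)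
  · have hH : conv (cutC P F₁) (cutC P F₂) z
        = ∑ x : X, if x ∈ Subgroup.centralizer (P : Set X) then F₁ x * F₂ (x⁻¹ * z) else 0 := by
      simp only [conv]
      apply Finset.sum_congr rfl
      intro x _
      rw [cutC_apply, cutC_apply]
      by_cases hx : x ∈ Subgroup.centralizer (P : Set X)
      · have hxz : x⁻¹ * z ∈ Subgroup.centralizer (P : Set X) :=
          Subgroup.mul_mem _ (Subgroup.inv_mem _ hx) hz
        simp only [if_pos hx, if_pos hxz]
      · simp only [if_neg hx, zero_mul]
    rw [cutC_apply, if_pos hz, hH]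
    simp only [conv]
    rw [← Finset.sum_sub_distrib]
    have e2 : ∀ x : X, F₁ x * F₂ (x⁻¹ * z) -
        (if x ∈ Subgroup.centralizer (P : Set X) then F₁ x * F₂ (x⁻¹ * z) else 0)
        = if x ∉ Subgroup.centralizer (P : Set X) then F₁ x * F₂ (x⁻¹ * z) else 0 := by
      intro x
      by_cases hx : x ∈ Subgroup.centralizer (P : Set X)
      · simp [hx]
      · simp [hx]
    rw [Finset.sum_congr rfl (fun x _ => e2 x), ← Finset.sum_filter]
    rw [Finset.sum_subtype (p := fun x : X => x ∉ Subgroup.centralizer (P : Set X))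
        (Finset.univ.filter (fun x : X => x ∉ Subgroup.centralizer (P : Set X)))
        (fun x => by simp) (fun x : X => F₁ x * F₂ (x⁻¹ * z))]
    let _ := conjActionCompl P
    have hsmul : ∀ (t : P) (x : {x : X // x ∉ Subgroup.centralizer (P : Set X)}),
        ((t • x : {x : X // x ∉ Subgroup.centralizer (P : Set X)}) : X)
          = (t : X) * x.1 * (t : X)⁻¹ := fun _ _ => rfl
    apply sum_memLocalIdeal_of_fixedPointFree hMod hP
      (fun x : {x : X // x ∉ Subgroup.centralizer (P : Set X)} => F₁ x * F₂ ((x : X)⁻¹ * z))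
    · intro t x
      simp only [hsmul]
      rw [h₁]
      have hzt : (t : X) * z = z * t := (Subgroup.mem_centralizer_iff.1 hz (t : X) t.2)
      have : ((t : X) * x.1 * (t : X)⁻¹)⁻¹ * z = (t : X) * (x.1⁻¹ * z) * (t : X)⁻¹ := by
        have : z = (t : X) * z * (t : X)⁻¹ := by rw [hzt]; group
        conv_lhs => rw [this]
        group
      rw [this, h₂]
    · intro x
      exact memLocalRing_mul hM (hR₁ _) (hR₂ _)
    · intro x
      by_contra hcon
      push Not at hcon
      apply x.2
      rw [Subgroup.mem_centralizer_iff]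
      intro q hq
      have h1 := congrArg Subtype.val (hcon ⟨q, hq⟩)
      rw [hsmul] at h1
      exact mul_inv_eq_iff_eq_mul.1 h1
  · rw [cutC_apply, if_neg hz]
    have h0 : conv (cutC P F₁) (cutC P F₂) z = 0 := by
      simp only [conv]
      apply Finset.sum_eq_zero
      intro x _
      rw [cutC_apply, cutC_apply]
      by_cases hx : x ∈ Subgroup.centralizer (P : Set X)
      · have hxz : x⁻¹ * z ∉ Subgroup.centralizer (P : Set X) := by
          intro hc
          apply hz
          have := Subgroup.mul_mem _ hx hc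
          simpa using this
        rw [if_neg hxz, mul_zero]
      · rw [if_neg hx, zero_mul]
    rw [h0, sub_zero]
    exact memLocalIdeal_zero hM

variable [Fintype (IrrCharacter X)]

/-- **Block idempotents are supported on the centralizer of any normal `p`-subgroup**, modulo the
local ideal. -/
theorem blockCoeff_memLocalIdeal_of_not_mem_centralizer {p : ℕ} [Fact p.Prime]
    {M : Ideal AlgInt} (hMod : IsPModular p M) (P : Subgroup X) [P.Normal] (hP : IsPGroup p P)
    (ξ₀ : IrrCharacter X) (h : X) (hh : h ∉ Subgroup.centralizer (P : Set X)) :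
    MemLocalIdeal M (blockCoeff (blockOf M (ξ₀ : X → ℂ)) h) := by
  classical
  have hM : M.IsPrime := hMod.2.1.isPrime
  set e := blockCoeff (blockOf M (ξ₀ : X → ℂ)) with he
  have heR : IsRClass M e := blockCoeff_isRClass hM ξ₀
  have he'R : IsRClass M (cutC P e) :=
    ⟨cutC_isClassFunction P heR.1, cutC_memLocalRing P hM heR.2⟩
  have hPle : P ≤ pCore p X := le_sSup ⟨inferInstance, hP⟩
  have hidem : IsIdempotentElem (cls hM e heR) := by
    rw [IsIdempotentElem, ← cls_conv, cls_eq_iff]
    intro g
    rw [he, conv_blockCoeff_self hM ξ₀, sub_self]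
    exact memLocalIdeal_zero hM
  have hidem' : IsIdempotentElem (cls hM (cutC P e) he'R) := by
    rw [IsIdempotentElem, ← cls_conv, cls_eq_iff]
    intro g
    have := cutC_conv_sub hMod P hP heR.1 heR.1 heR.2 heR.2 g
    rw [he, conv_blockCoeff_self hM ξ₀] at this
    have := memLocalIdeal_neg this
    rwa [neg_sub] at this
  have hnil : IsNilpotent (cls hM e heR - cls hM (cutC P e) he'R) := by
    rw [← cls_sub]
    apply isNilpotent_cls
    intro ξ
    rw [omega_eq_sum_classes (heR.sub hM he'R).1 (isClassFunction_irr ξ)]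
    apply memLocalIdeal_sum hM
    intro K _
    by_cases hK : Quotient.out K ∈ Subgroup.centralizer (P : Set X)
    · rw [Pi.sub_apply, cutC_apply, if_pos hK, sub_self, zero_mul]
      exact memLocalIdeal_zero hM
    · apply memLocalIdeal_mul_left hM ((heR.sub hM he'R).2 _)
      by_contra hcon
      obtain ⟨x, hx, hxc⟩ := Cfsg.Agent.S0912.exists_conj_mem_centralizer_pCore p M hMod
        (Quotient.out K) ξ hcon
      apply hK
      have hxP : x ∈ Subgroup.centralizer (P : Set X) :=
        Subgroup.centralizer_le (s := (P : Set X)) (t := (pCore p X : Set X))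
          (by exact_mod_cast hPle) hxc
      obtain ⟨c, rfl⟩ := isConj_iff.1 hx
      have hn : (Subgroup.centralizer (P : Set X)).Normal := Subgroup.normal_centralizer
      have := hn.conj_mem _ hxP c⁻¹
      simpa [mul_assoc] using this
  have heq := eq_of_isNilpotent_sub_of_isIdempotentElem hidem hidem' hnil
  rw [cls_eq_iff] at heq
  have := heq h
  rwa [cutC_apply, if_neg hh, sub_zero] at this

end Cfsg.Agent.Lib.Helper21
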