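import Mathlib
import Cfsg.Prelude.Def_Blocks
import Cfsg.Agent.Lib.Helper21.InducedSum

set_option autoImplicit false
set_option linter.unusedSectionVars false

namespace Cfsg.Agent.Lib.Helper21

open Cfsg
open scoped ComplexConjugate
open Cfsg.Agent.Lib.Helper82 Cfsg.Agent.Lib.Helper83

universe u

section Arith

variable {p : ℕ} [Fact p.Prime] {M : Ideal AlgInt}

/-- If `n = m * t` with `t ≡ 1` modulo the local ideal then `n` and `m` have the same `p`-part. -/
theorem factorization_eq_of_mul_unit (hMod : IsPModular p M) {n m : ℕ} {t : ℂ}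
    (hnm : (n : ℂ) = m * t) (hm : m ≠ 0) (ht : MemLocalIdeal M (t - 1)) :
    n ≠ 0 ∧ n.factorization p = m.factorization p := by
  have hp : p.Prime := Fact.out
  have hM : M.IsPrime := hMod.2.1.isPrime
  have htR : MemLocalRing M t := by
    have := memLocalRing_add hM (memLocalIdeal_memLocalRing ht) (memLocalRing_one hM)
    rwa [sub_add_cancel] at this
  have htI : ¬ MemLocalIdeal M t := by
    intro h
    have := memLocalIdeal_sub hM h ht
    rw [sub_sub_cancel] at this
    exact not_memLocalIdeal_one hM this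
  have hn : n ≠ 0 := by
    rintro rfl
    have hm' : (m : ℂ) ≠ 0 := by exact_mod_cast hm
    have h0 : (m : ℂ) * t = 0 := by rw [← hnm]; simp
    have : t = 0 := by
      rcases mul_eq_zero.1 h0 with h | h
      · exact absurd h hm'
      · exact h
    apply htI
    rw [this]; exact memLocalIdeal_zero hM
  refine ⟨hn, ?_⟩
  set r := n.factorization p with hr
  set s := m.factorization p with hs
  set n' := n / p ^ r with hn'
  set m' := m / p ^ s with hm'
  have hnn : p ^ r * n' = n := Nat.ordProj_mul_ordCompl_eq_self n p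
  have hmm : p ^ s * m' = m := Nat.ordProj_mul_ordCompl_eq_self m p
  have hpn' : ¬ p ∣ n' := Nat.not_dvd_ordCompl hp hn
  have hpm' : ¬ p ∣ m' := Nat.not_dvd_ordCompl hp hm
  have hpc : (p : ℂ) ≠ 0 := by exact_mod_cast hp.ne_zero
  have heq : (p : ℂ) ^ r * n' = (p : ℂ) ^ s * m' * t := by
    rw [← hnn, ← hmm] at hnm
    push_cast at hnm
    exact hnm
  rcases lt_trichotomy r s with hlt | heq' | hgt
  · exfalso
    obtain ⟨k, hk⟩ := Nat.exists_eq_add_of_lt hlt
    -- n' = p^(k+1) m' t
    have h1 : (n' : ℂ) = (p : ℂ) ^ (k + 1) * m' * t := by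
      have : (p : ℂ) ^ r * n' = (p : ℂ) ^ r * ((p : ℂ) ^ (k + 1) * m' * t) := by
        rw [heq, hk]; ring
      exact mul_left_cancel₀ (pow_ne_zero r hpc) this
    apply hpn'
    rw [← memLocalIdeal_natCast_iff hMod, h1]
    apply memLocalIdeal_mul_right hM _ htR
    have : ((p : ℂ) ^ (k + 1) * m') = ((p ^ (k + 1) * m' : ℕ) : ℂ) := by push_cast; ring
    rw [this, memLocalIdeal_natCast_iff hMod]
    exact Dvd.dvd.mul_right (dvd_pow_self p (Nat.succ_ne_zero k)) _
  · exact heq'
  · exfalso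
    obtain ⟨k, hk⟩ := Nat.exists_eq_add_of_lt hgt
    -- p^(k+1) n' = m' t
    have h1 : (p : ℂ) ^ (k + 1) * n' = m' * t := by
      have : (p : ℂ) ^ s * ((p : ℂ) ^ (k + 1) * n') = (p : ℂ) ^ s * (m' * t) := by
        rw [← mul_assoc, ← mul_assoc, ← heq, hk]; ring
      exact mul_left_cancel₀ (pow_ne_zero s hpc) this
    have h2 : MemLocalIdeal M ((m' : ℂ) * t) := by
      rw [← h1]
      have : ((p : ℂ) ^ (k + 1) * n') = ((p ^ (k + 1) * n' : ℕ) : ℂ) := by push_cast; ring
      rw [this, memLocalIdeal_natCast_iff hMod]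
      exact Dvd.dvd.mul_right (dvd_pow_self p (Nat.succ_ne_zero k)) _
    rcases memLocalIdeal_of_mul_memLocalIdeal hM (memLocalRing_natCast hM m') htR h2 with h | h
    · exact hpm' ((memLocalIdeal_natCast_iff hMod m').1 h)
    · exact htI h

/-- If `n = m * t` with `t` in the local ideal then `n = 0` or `n` has a larger `p`-part. -/
theorem factorization_lt_of_mul_ideal (hMod : IsPModular p M) {n m : ℕ} {t : ℂ}
    (hnm : (n : ℂ) = m * t) (hm : m ≠ 0) (ht : MemLocalIdeal M t) :
    n = 0 ∨ m.factorization p < n.factorization p := by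
  have hp : p.Prime := Fact.out
  have hM : M.IsPrime := hMod.2.1.isPrime
  by_cases hn : n = 0
  · exact Or.inl hn
  right
  set r := n.factorization p with hr
  set s := m.factorization p with hs
  set n' := n / p ^ r with hn'
  set m' := m / p ^ s with hm'
  have hnn : p ^ r * n' = n := Nat.ordProj_mul_ordCompl_eq_self n p
  have hmm : p ^ s * m' = m := Nat.ordProj_mul_ordCompl_eq_self m p
  have hpn' : ¬ p ∣ n' := Nat.not_dvd_ordCompl hp hn
  have hpc : (p : ℂ) ≠ 0 := by exact_mod_cast hp.ne_zero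
  have heq : (p : ℂ) ^ r * n' = (p : ℂ) ^ s * m' * t := by
    rw [← hnn, ← hmm] at hnm
    push_cast at hnm
    exact hnm
  by_contra hle
  push Not at hle
  obtain ⟨k, hk⟩ := Nat.exists_eq_add_of_le hle
  have h1 : (n' : ℂ) = (p : ℂ) ^ k * m' * t := by
    have : (p : ℂ) ^ r * n' = (p : ℂ) ^ r * ((p : ℂ) ^ k * m' * t) := by
      rw [heq, hk]; ring
    exact mul_left_cancel₀ (pow_ne_zero r hpc) this
  apply hpn'
  rw [← memLocalIdeal_natCast_iff hMod, h1]
  apply memLocalIdeal_mul_left hM _ ht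
  have : ((p : ℂ) ^ k * m') = ((p ^ k * m' : ℕ) : ℂ) := by push_cast; ring
  rw [this]
  exact memLocalRing_natCast hM _

end Arith

section

variable {G : Type u} [Group G] [Fintype G] (H : Subgroup G) [Fintype H]
variable [Fintype (IrrCharacter G)] [Fintype (IrrCharacter H)]

/-- If `b` induces `B₀ ∋ χ₀`, the central character of `ξ ∈ b` maps the restriction of the
idempotent of any block `B'` to `1` or `0` modulo the local ideal, according as `B' = B₀` or not. -/
theorem omega_restrict_blockCoeff_sub_ite {M : Ideal AlgInt} (hM : M.IsPrime)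
    {b : Set (IrrCharacter H)} {B₀ : Set (IrrCharacter G)}
    (hind : IsInducedBlock M H b B₀) {ξ : IrrCharacter H} (hξ : ξ ∈ b)
    {χ₀ : IrrCharacter G} (hχ₀ : χ₀ ∈ B₀) (χ' : IrrCharacter G)
    [DecidablePred (· ∈ blockOf M (χ' : G → ℂ))] :
    MemLocalIdeal M (omega (fun h : H => blockCoeff (blockOf M (χ' : G → ℂ)) (h : G)) (ξ : H → ℂ) -
      (if χ₀ ∈ blockOf M (χ' : G → ℂ) then 1 else 0)) := by
  classical
  obtain ⟨_, _, hcong⟩ := hind
  have hR : ∀ g, MemLocalRing M (blockCoeff (blockOf M (χ' : G → ℂ)) g) :=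
    memLocalRing_blockCoeff_blockOf hM χ'
  have h1 : omega (blockCoeff (blockOf M (χ' : G → ℂ))) (χ₀ : G → ℂ)
      = if χ₀ ∈ blockOf M (χ' : G → ℂ) then 1 else 0 := omega_blockCoeff _ χ₀
  rw [omega_eq_sum_classes (blockCoeff_isClassFunction _) (isClassFunction_irr χ₀)] at h1
  rw [← sum_classes_mul_induced H (blockCoeff_isClassFunction _), ← h1,
    ← Finset.sum_sub_distrib]
  apply memLocalIdeal_sum hM
  intro K _
  rw [← mul_sub]
  exact memLocalIdeal_mul_left hM (hR _) (hcong ξ hξ χ₀ hχ₀ _)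

/-- The `B`-part of an induced character at `1`, in terms of the restricted block idempotent. -/
theorem sum_block_inner_restrict_mul_degree (B : Set (IrrCharacter G)) [DecidablePred (· ∈ B)]
    (ξ : IrrCharacter H) :
    ∑ χ : IrrCharacter G, (if χ ∈ B then
        classInner (ξ : H → ℂ) (fun h : H => (χ : G → ℂ) h) * (χ : G → ℂ) 1 else 0)
      = (H.index : ℂ) * (ξ : H → ℂ) 1 *
        omega (fun h : H => blockCoeff B (h : G)) (ξ : H → ℂ) := by
  classical
  have hξ1 : (ξ : H → ℂ) 1 ≠ 0 := IsIrrCharacter.apply_one_ne_zero ξ.2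
  have hH : (Nat.card H : ℂ) ≠ 0 := by
    have : Nat.card H ≠ 0 := Nat.card_pos.ne'
    exact_mod_cast this
  have hG : (Nat.card G : ℂ) ≠ 0 := card_ne_zero_complex
  have hidx : (H.index : ℂ) = (Nat.card G : ℂ) / (Nat.card H : ℂ) := by
    rw [eq_div_iff hH]
    have := H.index_mul_card
    exact_mod_cast this
  have key : ∑ χ : IrrCharacter G, (if χ ∈ B then
        classInner (ξ : H → ℂ) (fun h : H => (χ : G → ℂ) h) * (χ : G → ℂ) 1 else 0)
      = (H.index : ℂ) * ∑ h : H, blockCoeff B (h : G) * (ξ : H → ℂ) h := by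
    simp_rw [blockCoeff_eq_sum B, classInner]
    rw [hidx]
    have e1 : ∀ χ : IrrCharacter G, (if χ ∈ B then
        (Nat.card H : ℂ)⁻¹ * (∑ h : H, (ξ : H → ℂ) h * conj ((χ : G → ℂ) h)) * (χ : G → ℂ) 1 else 0)
        = (Nat.card H : ℂ)⁻¹ * ∑ h : H, (ξ : H → ℂ) h *
          (if χ ∈ B then (χ : G → ℂ) 1 * conj ((χ : G → ℂ) h) else 0) := by
      intro χ
      by_cases hχ : χ ∈ B
      · simp only [if_pos hχ]
        rw [mul_assoc, Finset.sum_mul]
        congr 1
        apply Finset.sum_congr rfl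
        intro h _
        ring
      · simp only [if_neg hχ, mul_zero, Finset.sum_const_zero]
    rw [Finset.sum_congr rfl (fun χ _ => e1 χ), ← Finset.mul_sum, Finset.sum_comm]
    simp_rw [← Finset.mul_sum]
    rw [Finset.mul_sum, Finset.mul_sum]
    apply Finset.sum_congr rfl
    intro h _
    field_simp
  rw [key, omega]
  field_simp

end

end Cfsg.Agent.Lib.Helper21
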