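import Mathlib
import Cfsg.Prelude.Def_Blocks
import Cfsg.Agent.Lib.Helper21.BlockPartVal
import Cfsg.Agent.Lib.Helper82.BlockOrth
import Cfsg.Agent.Lib.Helper82.CharBasic
import Cfsg.Agent.Lib.Helper83.Decompose
import Cfsg.Agent.Lib.Helper21.BlockHom

set_option autoImplicit false
set_option linter.unusedSectionVars false

namespace Cfsg.Agent.Lib.Helper21

open Cfsg
open scoped ComplexConjugate
open Cfsg.Agent.Lib.Helper82 Cfsg.Agent.Lib.Helper83

universe u
variable {G : Type u} [Group G] [Fintype G]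

/-- The complex conjugate of `χ`, truncated to the `p`-regular elements. -/
noncomputable def regConj (p : ℕ) (χ : G → ℂ) : G → ℂ :=
  fun g => if p ∣ orderOf g then 0 else conj (χ g)

theorem regConj_apply (p : ℕ) (χ : G → ℂ) (g : G) :
    regConj p χ g = if p ∣ orderOf g then 0 else conj (χ g) := rfl

theorem regConj_isClassFunction (p : ℕ) {χ : G → ℂ} (hχ : IsClassFunction G χ) :
    IsClassFunction G (regConj p χ) := by
  intro g h
  have ho : orderOf (h * g * h⁻¹) = orderOf g := by
    have := orderOf_injective (MulAut.conj h).toMonoidHom (MulAut.conj h).injective g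
    simpa [MulAut.conj_apply] using this
  rw [regConj_apply, regConj_apply, ho, hχ g h]

theorem regConj_memLocalRing (p : ℕ) {M : Ideal AlgInt} (hM : M.IsPrime) (χ : IrrCharacter G)
    (g : G) : MemLocalRing M (regConj p (χ : G → ℂ) g) := by
  rw [regConj_apply]
  split_ifs
  · exact memLocalRing_zero hM
  · have hc : IsCharacter G (χ : G → ℂ) := IrrCharacter_isCharacter χ
    rw [← char_inv hc]
    exact memLocalRing_of_isIntegral hM (Cfsg.Agent.Lib.Helper82.IsCharacter.isIntegral hc g⁻¹)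

/-- General form of the induced block congruence: for a class function `f` on `G` with
local-integer values, `ω_ξ(f|_H) ≡ ω_χ₀(f)`. -/
theorem omega_restrict_sub_memLocalIdeal (H : Subgroup G) [Fintype H]
    {M : Ideal AlgInt} (hM : M.IsPrime)
    {b : Set (IrrCharacter H)} {B₀ : Set (IrrCharacter G)}
    (hind : IsInducedBlock M H b B₀) {ξ : IrrCharacter H} (hξ : ξ ∈ b)
    {χ₀ : IrrCharacter G} (hχ₀ : χ₀ ∈ B₀) {f : G → ℂ} (hf : IsClassFunction G f)
    (hfR : ∀ g, MemLocalRing M (f g)) :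
    MemLocalIdeal M (omega (fun h : H => f (h : G)) (ξ : H → ℂ) - omega f (χ₀ : G → ℂ)) := by
  classical
  obtain ⟨_, _, hcong⟩ := hind
  rw [omega_eq_sum_classes hf (isClassFunction_irr χ₀), ← sum_classes_mul_induced H hf,
    ← Finset.sum_sub_distrib]
  apply memLocalIdeal_sum hM
  intro K _
  rw [← mul_sub]
  exact memLocalIdeal_mul_left hM (hfR _) (hcong ξ hξ χ₀ hχ₀ _)

/-- `ω_{χ'}(regConj χ) · χ'(1) = Σ_{g p-regular} conj χ(g) χ'(g)`. -/
theorem sum_regConj_mul (p : ℕ) (χ χ' : G → ℂ) :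
    ∑ g : G, regConj p χ g * χ' g = ∑ g : G, (if p ∣ orderOf g then 0 else χ' g * conj (χ g)) := by
  apply Finset.sum_congr rfl
  intro g _
  rw [regConj_apply]
  split_ifs
  · rw [zero_mul]
  · ring

/-- Block orthogonality: `ω_{χ'}(regConj χ) = 0` for `χ`, `χ'` in different blocks. -/
theorem omega_regConj_eq_zero {p : ℕ} {M : Ideal AlgInt} (hMp : IsPModular p M)
    (χ χ' : IrrCharacter G) (h : ¬ SameBlock M (χ' : G → ℂ) (χ : G → ℂ)) :
    ∑ g : G, regConj p (χ : G → ℂ) g * (χ' : G → ℂ) g = 0 := by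
  rw [sum_regConj_mul]
  exact sum_regular_mul_conj_eq_zero hMp χ' χ h

/-- A quotient of natural numbers whose denominator has the smaller `p`-part is a local integer. -/
theorem memLocalRing_natCast_div {p : ℕ} [Fact p.Prime] {M : Ideal AlgInt} (hMp : IsPModular p M)
    {n m : ℕ} (hm : m ≠ 0) (h : m.factorization p ≤ n.factorization p) :
    MemLocalRing M ((n : ℂ) / (m : ℂ)) := by
  have hp : p.Prime := Fact.out
  have hM : M.IsPrime := hMp.2.1.isPrime
  by_cases hn : n = 0
  · subst hn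
    simp only [Nat.cast_zero, zero_div]
    exact memLocalRing_zero hM
  set r := n.factorization p with hr
  set s := m.factorization p with hs
  set n' := n / p ^ r with hn'
  set m' := m / p ^ s with hm'
  have hnn : p ^ r * n' = n := Nat.ordProj_mul_ordCompl_eq_self n p
  have hmm : p ^ s * m' = m := Nat.ordProj_mul_ordCompl_eq_self m p
  have hpm' : ¬ p ∣ m' := Nat.not_dvd_ordCompl hp hm
  have hpc : (p : ℂ) ≠ 0 := by exact_mod_cast hp.ne_zero
  obtain ⟨k, hk⟩ := Nat.exists_eq_add_of_le h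
  have hm'0 : (m' : ℂ) ≠ 0 := by
    have : m' ≠ 0 := fun h0 => hpm' (h0 ▸ dvd_zero p)
    exact_mod_cast this
  have heq : (n : ℂ) / (m : ℂ) = ((p ^ k * n' : ℕ) : ℂ) * (m' : ℂ)⁻¹ := by
    rw [← hnn, ← hmm, hk]
    push_cast
    field_simp
    ring
  rw [heq]
  apply memLocalRing_mul hM (memLocalRing_natCast hM _)
  apply memLocalRing_inv (memLocalRing_natCast hM _)
  rw [memLocalIdeal_natCast_iff hMp]
  exact hpm'

/-- For `χ` of minimal `p`-part of degree in its block (height zero), the number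
`(1/χ(1)) Σ_{g p-regular} |χ(g)|²` is a unit of the local ring. -/
theorem omega_regConj_not_memLocalIdeal [Fintype (IrrCharacter G)] {p : ℕ} [Fact p.Prime]
    {M : Ideal AlgInt} (hMp : IsPModular p M) (χ : IrrCharacter G)
    (hmin : ∀ χ' : IrrCharacter G, SameBlock M (χ : G → ℂ) (χ' : G → ℂ) →
      (charDegree (χ : G → ℂ)).factorization p ≤ (charDegree (χ' : G → ℂ)).factorization p) :
    ¬ MemLocalIdeal M (omega (regConj p (χ : G → ℂ)) (χ : G → ℂ)) := by
  classical
  intro hα
  have hp : p.Prime := Fact.out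
  have hM : M.IsPrime := hMp.2.1.isPrime
  have hχ1 : (χ : G → ℂ) 1 ≠ 0 := IsIrrCharacter.apply_one_ne_zero χ.2
  have hχc : IsCharacter G (χ : G → ℂ) := IrrCharacter_isCharacter χ
  have hdegχ : (charDegree (χ : G → ℂ) : ℂ) = (χ : G → ℂ) 1 := charDegree_cast hχc
  have hdeg0 : charDegree (χ : G → ℂ) ≠ 0 := by
    intro h0
    rw [h0] at hdegχ
    exact hχ1 (by rw [← hdegχ]; simp)
  set Θ := regConj p (χ : G → ℂ) with hΘ
  have hΘc : IsClassFunction G Θ := regConj_isClassFunction p (isClassFunction_irr χ)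
  have hΘR : ∀ g, MemLocalRing M (Θ g) := regConj_memLocalRing p hM χ
  -- all coefficients lie in the local ideal
  have hc : ∀ χ' : IrrCharacter G,
      MemLocalIdeal M ((∑ g : G, Θ g * (χ' : G → ℂ) g) / (χ : G → ℂ) 1) := by
    intro χ'
    by_cases hs : SameBlock M (χ : G → ℂ) (χ' : G → ℂ)
    · have hχ'1 : (χ' : G → ℂ) 1 ≠ 0 := IsIrrCharacter.apply_one_ne_zero χ'.2
      have hχ'c : IsCharacter G (χ' : G → ℂ) := IrrCharacter_isCharacter χ'
      have hdegχ' : (charDegree (χ' : G → ℂ) : ℂ) = (χ' : G → ℂ) 1 := charDegree_cast hχ'c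
      have e : (∑ g : G, Θ g * (χ' : G → ℂ) g) / (χ : G → ℂ) 1
          = ((charDegree (χ' : G → ℂ) : ℂ) / (charDegree (χ : G → ℂ) : ℂ)) *
            omega Θ (χ' : G → ℂ) := by
        rw [omega, hdegχ, hdegχ']
        field_simp
      rw [e]
      apply memLocalIdeal_mul_left hM (memLocalRing_natCast_div hMp hdeg0 (hmin χ' hs))
      have h1 := omega_sub_memLocalIdeal hM hΘc hΘR (sameBlock_symm hs)
      have := memLocalIdeal_add hM h1 hα
      rwa [sub_add_cancel] at this
    · have hs' : ¬ SameBlock M (χ' : G → ℂ) (χ : G → ℂ) := fun h => hs (sameBlock_symm h)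
      rw [omega_regConj_eq_zero hMp χ χ' hs', zero_div]
      exact memLocalIdeal_zero hM
  -- a Sylow subgroup
  obtain P : Sylow p G := default
  have : Fintype (P : Subgroup G) := Fintype.ofFinite _
  have hPsing : ∀ u : (P : Subgroup G), u ≠ 1 → p ∣ orderOf (u : G) := by
    intro u hu
    obtain ⟨k, hk⟩ := (IsPGroup.iff_orderOf.1 P.2) u
    rw [Subgroup.orderOf_coe, hk]
    have hk0 : k ≠ 0 := by
      rintro rfl
      rw [pow_zero, orderOf_eq_one_iff] at hk
      exact hu hk
    exact dvd_pow_self p hk0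
  have hsumΘ : ∑ u : (P : Subgroup G), Θ (u : G) = (χ : G → ℂ) 1 := by
    rw [Finset.sum_eq_single (1 : (P : Subgroup G))]
    · rw [hΘ, regConj_apply, Subgroup.coe_one, orderOf_one, if_neg]
      · rw [← hdegχ]; simp
      · intro h
        exact hp.one_lt.ne' (Nat.dvd_one.1 h)
    · intro u _ hu
      rw [hΘ, regConj_apply, if_pos (hPsing u hu)]
    · intro h; exact absurd (Finset.mem_univ _) h
  -- multiplicities of the trivial character
  have hnat : ∀ χ' : IrrCharacter G, ∃ n : ℕ,
      ∑ u : (P : Subgroup G), conj ((χ' : G → ℂ) (u : G)) = (Nat.card (P : Subgroup G) : ℂ) * n := by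
    intro χ'
    obtain ⟨n, hn⟩ := classInner_char_nat
      (isCharacter_restrict (P : Subgroup G) (IrrCharacter_isCharacter χ'))
      (isCharacter_one (G := (P : Subgroup G)))
    refine ⟨n, ?_⟩
    have hP0 : (Nat.card (P : Subgroup G) : ℂ) ≠ 0 := card_ne_zero_complex
    rw [classInner_def] at hn
    simp only [map_one, mul_one] at hn
    have h2 : ∑ u : (P : Subgroup G), (χ' : G → ℂ) (u : G) = (Nat.card (P : Subgroup G) : ℂ) * n := by
      rw [← hn, ← mul_assoc, mul_inv_cancel₀ hP0, one_mul]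
    rw [← map_sum, h2]
    simp
  choose n hn using hnat
  have hG0 : (Nat.card G : ℂ) ≠ 0 := card_ne_zero_complex
  have hP0 : (Nat.card (P : Subgroup G) : ℂ) ≠ 0 := card_ne_zero_complex
  have hfour : (Nat.card G : ℂ) * (χ : G → ℂ) 1 = ∑ χ' : IrrCharacter G,
      (∑ x : G, Θ x * (χ' : G → ℂ) x) * ((Nat.card (P : Subgroup G) : ℂ) * n χ') := by
    rw [← hsumΘ, Finset.mul_sum]
    simp_rw [← fourier_inversion hΘc]
    rw [Finset.sum_comm]
    apply Finset.sum_congr rfl
    intro χ' _
    rw [← Finset.mul_sum, hn χ']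
  have hidx : ((P : Subgroup G).index : ℂ) = ∑ χ' : IrrCharacter G,
      ((∑ x : G, Θ x * (χ' : G → ℂ) x) / (χ : G → ℂ) 1) * (n χ' : ℂ) := by
    have h1 : ((P : Subgroup G).index : ℂ) = (Nat.card G : ℂ) / (Nat.card (P : Subgroup G) : ℂ) := by
      rw [eq_div_iff hP0]
      have := (P : Subgroup G).index_mul_card
      exact_mod_cast this
    rw [h1, div_eq_iff hP0, Finset.sum_mul]
    have h2 : (Nat.card G : ℂ) = (Nat.card G : ℂ) * (χ : G → ℂ) 1 / (χ : G → ℂ) 1 := by
      field_simp
    rw [h2, hfour, Finset.sum_div]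
    apply Finset.sum_congr rfl
    intro χ' _
    field_simp
  have hmem : MemLocalIdeal M ((P : Subgroup G).index : ℂ) := by
    rw [hidx]
    apply memLocalIdeal_sum hM
    intro χ' _
    exact memLocalIdeal_mul_right hM (hc χ') (memLocalRing_natCast hM _)
  rw [memLocalIdeal_natCast_iff hMp] at hmem
  exact P.not_dvd_index hmem

end Cfsg.Agent.Lib.Helper21
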