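import Mathlib
import Cfsg.Prelude.Def_Blocks
import Cfsg.Agent.Lib.Helper21.RegularPart

set_option autoImplicit false
set_option linter.unusedSectionVars false

namespace Cfsg.Agent.Lib.Helper21

open Cfsg
open scoped ComplexConjugate
open Cfsg.Agent.Lib.Helper82 Cfsg.Agent.Lib.Helper83

universe u
variable {G : Type u} [Group G] [Fintype G]

section Arith

variable {p : ℕ} [Fact p.Prime] {M : Ideal AlgInt}

/-- If `n = m * t` with `t` a unit of the local ring then `n` and `m` have the same `p`-part. -/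
theorem factorization_eq_of_mul_unit' (hMod : IsPModular p M) {n m : ℕ} {t : ℂ}
    (hnm : (n : ℂ) = m * t) (hm : m ≠ 0) (htR : MemLocalRing M t) (htI : ¬ MemLocalIdeal M t) :
    n ≠ 0 ∧ n.factorization p = m.factorization p := by
  have hp : p.Prime := Fact.out
  have hM : M.IsPrime := hMod.2.1.isPrime
  have hn : n ≠ 0 := by
    rintro rfl
    have hm' : (m : ℂ) ≠ 0 := by exact_mod_cast hm
    have h0 : (m : ℂ) * t = 0 := by rw [← hnm]; simp
    have : t = 0 := by
      rcases mul_eq_zero.1 h0 with h | h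
      · exact absurd h hm'
      · exact h
    apply htI
    rw [this]; exact memLocalIdeal_zero hM
  refine ⟨hn, ?_⟩
  set r := n.factorization p with hr
  set s := m.factorization p with hs
  set n' := n / p ^ r with hn'
  set m' := m / p ^ s with hm'
  have hnn : p ^ r * n' = n := Nat.ordProj_mul_ordCompl_eq_self n p
  have hmm : p ^ s * m' = m := Nat.ordProj_mul_ordCompl_eq_self m p
  have hpn' : ¬ p ∣ n' := Nat.not_dvd_ordCompl hp hn
  have hpm' : ¬ p ∣ m' := Nat.not_dvd_ordCompl hp hm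
  have hpc : (p : ℂ) ≠ 0 := by exact_mod_cast hp.ne_zero
  have heq : (p : ℂ) ^ r * n' = (p : ℂ) ^ s * m' * t := by
    rw [← hnn, ← hmm] at hnm
    push_cast at hnm
    exact hnm
  rcases lt_trichotomy r s with hlt | heq' | hgt
  · exfalso
    obtain ⟨k, hk⟩ := Nat.exists_eq_add_of_lt hlt
    have h1 : (n' : ℂ) = (p : ℂ) ^ (k + 1) * m' * t := by
      have : (p : ℂ) ^ r * n' = (p : ℂ) ^ r * ((p : ℂ) ^ (k + 1) * m' * t) := by
        rw [heq, hk]; ring
      exact mul_left_cancel₀ (pow_ne_zero r hpc) this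
    apply hpn'
    rw [← memLocalIdeal_natCast_iff hMod, h1]
    apply memLocalIdeal_mul_right hM _ htR
    have : ((p : ℂ) ^ (k + 1) * m') = ((p ^ (k + 1) * m' : ℕ) : ℂ) := by push_cast; ring
    rw [this, memLocalIdeal_natCast_iff hMod]
    exact Dvd.dvd.mul_right (dvd_pow_self p (Nat.succ_ne_zero k)) _
  · exact heq'
  · exfalso
    obtain ⟨k, hk⟩ := Nat.exists_eq_add_of_lt hgt
    have h1 : (p : ℂ) ^ (k + 1) * n' = m' * t := by
      have : (p : ℂ) ^ s * ((p : ℂ) ^ (k + 1) * n') = (p : ℂ) ^ s * (m' * t) := by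
        rw [← mul_assoc, ← mul_assoc, ← heq, hk]; ring
      exact mul_left_cancel₀ (pow_ne_zero s hpc) this
    have h2 : MemLocalIdeal M ((m' : ℂ) * t) := by
      rw [← h1]
      have : ((p : ℂ) ^ (k + 1) * n') = ((p ^ (k + 1) * n' : ℕ) : ℂ) := by push_cast; ring
      rw [this, memLocalIdeal_natCast_iff hMod]
      exact Dvd.dvd.mul_right (dvd_pow_self p (Nat.succ_ne_zero k)) _
    rcases memLocalIdeal_of_mul_memLocalIdeal hM (memLocalRing_natCast hM m') htR h2 with h | h
    · exact hpm' ((memLocalIdeal_natCast_iff hMod m').1 h)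
    · exact htI h

end Arith

section Sylow

variable {p : ℕ} [Fact p.Prime]

theorem sylow_dvd_orderOf (P : Sylow p G) (u : (P : Subgroup G)) (hu : u ≠ 1) :
    p ∣ orderOf (u : G) := by
  obtain ⟨k, hk⟩ := (IsPGroup.iff_orderOf.1 P.2) u
  rw [Subgroup.orderOf_coe, hk]
  have hk0 : k ≠ 0 := by
    rintro rfl
    rw [pow_zero, orderOf_eq_one_iff] at hk
    exact hu hk
  exact dvd_pow_self p hk0

theorem sum_sylow_of_vanish (P : Sylow p G) [Fintype (P : Subgroup G)] (D : G → ℂ)
    (hD : ∀ g, p ∣ orderOf g → D g = 0) : ∑ u : (P : Subgroup G), D (u : G) = D 1 := by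
  classical
  rw [Finset.sum_eq_single (1 : (P : Subgroup G))]
  · rw [Subgroup.coe_one]
  · intro u _ hu
    exact hD _ (sylow_dvd_orderOf P u hu)
  · intro h; exact absurd (Finset.mem_univ _) h

theorem sum_sylow_irr (P : Sylow p G) [Fintype (P : Subgroup G)] (ψ : IrrCharacter G) :
    ∃ n : ℕ, ∑ u : (P : Subgroup G), (ψ : G → ℂ) (u : G) = (Nat.card (P : Subgroup G) : ℂ) * n := by
  obtain ⟨n, hn⟩ := classInner_char_nat
    (isCharacter_restrict (P : Subgroup G) (IrrCharacter_isCharacter ψ))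
    (isCharacter_one (G := (P : Subgroup G)))
  refine ⟨n, ?_⟩
  have hP0 : (Nat.card (P : Subgroup G) : ℂ) ≠ 0 := card_ne_zero_complex
  rw [classInner_def] at hn
  simp only [map_one, mul_one] at hn
  rw [← hn, ← mul_assoc, mul_inv_cancel₀ hP0, one_mul]

theorem sum_sylow_irr_conj (P : Sylow p G) [Fintype (P : Subgroup G)] (ψ : IrrCharacter G) :
    ∃ n : ℕ, ∑ u : (P : Subgroup G), conj ((ψ : G → ℂ) (u : G))
      = (Nat.card (P : Subgroup G) : ℂ) * n := by
  obtain ⟨n, hn⟩ := sum_sylow_irr P ψ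
  refine ⟨n, ?_⟩
  rw [← map_sum, hn]
  simp

variable [Fintype (IrrCharacter G)] {M : Ideal AlgInt}

/-- A combination of class functions with coefficients in the local ideal which vanishes on the
`p`-singular elements has value at `1` in `|P| · 𝔪`. -/
theorem apply_one_div_card_sylow_memLocalIdeal (hMp : IsPModular p M) (P : Sylow p G)
    [Fintype (P : Subgroup G)] (m : IrrCharacter G → ℂ) (F : IrrCharacter G → G → ℂ)
    (hF : ∀ ψ, ∃ n : ℕ, ∑ u : (P : Subgroup G), F ψ (u : G)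
      = (Nat.card (P : Subgroup G) : ℂ) * n)
    (hm : ∀ ψ, MemLocalIdeal M (m ψ)) (D : G → ℂ) (hD : ∀ g, D g = ∑ ψ, m ψ * F ψ g)
    (hvan : ∀ g, p ∣ orderOf g → D g = 0) :
    MemLocalIdeal M (D 1 / (Nat.card (P : Subgroup G) : ℂ)) := by
  classical
  have hM : M.IsPrime := hMp.2.1.isPrime
  have hP0 : (Nat.card (P : Subgroup G) : ℂ) ≠ 0 := card_ne_zero_complex
  choose n hn using hF
  have h1 : D 1 = ∑ ψ, m ψ * ((Nat.card (P : Subgroup G) : ℂ) * n ψ) := by
    rw [← sum_sylow_of_vanish P D hvan]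
    simp_rw [hD]
    rw [Finset.sum_comm]
    apply Finset.sum_congr rfl
    intro ψ _
    rw [← Finset.mul_sum]
    rw [hn ψ]
  have h2 : D 1 / (Nat.card (P : Subgroup G) : ℂ) = ∑ ψ, m ψ * (n ψ : ℂ) := by
    rw [h1, Finset.sum_div]
    apply Finset.sum_congr rfl
    intro ψ _
    field_simp
  rw [h2]
  apply memLocalIdeal_sum hM
  intro ψ _
  exact memLocalIdeal_mul_right hM (hm ψ) (memLocalRing_natCast hM _)

/-- Same with local-integer coefficients. -/
theorem apply_one_div_card_sylow_memLocalRing (hMp : IsPModular p M) (P : Sylow p G)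
    [Fintype (P : Subgroup G)] (m : IrrCharacter G → ℂ) (F : IrrCharacter G → G → ℂ)
    (hF : ∀ ψ, ∃ n : ℕ, ∑ u : (P : Subgroup G), F ψ (u : G)
      = (Nat.card (P : Subgroup G) : ℂ) * n)
    (hm : ∀ ψ, MemLocalRing M (m ψ)) (D : G → ℂ) (hD : ∀ g, D g = ∑ ψ, m ψ * F ψ g)
    (hvan : ∀ g, p ∣ orderOf g → D g = 0) :
    MemLocalRing M (D 1 / (Nat.card (P : Subgroup G) : ℂ)) := by
  classical
  have hM : M.IsPrime := hMp.2.1.isPrime
  have hP0 : (Nat.card (P : Subgroup G) : ℂ) ≠ 0 := card_ne_zero_complex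
  choose n hn using hF
  have h1 : D 1 = ∑ ψ, m ψ * ((Nat.card (P : Subgroup G) : ℂ) * n ψ) := by
    rw [← sum_sylow_of_vanish P D hvan]
    simp_rw [hD]
    rw [Finset.sum_comm]
    apply Finset.sum_congr rfl
    intro ψ _
    rw [← Finset.mul_sum]
    rw [hn ψ]
  have h2 : D 1 / (Nat.card (P : Subgroup G) : ℂ) = ∑ ψ, m ψ * (n ψ : ℂ) := by
    rw [h1, Finset.sum_div]
    apply Finset.sum_congr rfl
    intro ψ _
    field_simp
  rw [h2]
  apply memLocalRing_sum hM
  intro ψ _
  exact memLocalRing_mul hM (hm ψ) (memLocalRing_natCast hM _)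

end Sylow

end Cfsg.Agent.Lib.Helper21
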