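import Mathlib
import Cfsg.Prelude.Def_Blocks
import Cfsg.Agent.Lib.Helper21.SylowVanish
import Cfsg.Agent.Lib.Helper21.NilpBridge
import Cfsg.Agent.Lib.Helper82.WeakOrth

set_option autoImplicit false
set_option linter.unusedSectionVars false

namespace Cfsg.Agent.Lib.Helper21

open Cfsg
open scoped ComplexConjugate
open Cfsg.Agent.Lib.Helper82 Cfsg.Agent.Lib.Helper83

universe u
variable {G : Type u} [Group G] [Fintype G] [Fintype (IrrCharacter G)]
variable {p : ℕ} [Fact p.Prime] {M : Ideal AlgInt}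

/-- The coefficient `(Σ_x regConj χ x · ψ x)/χ(1)` in terms of the central character of `ψ`. -/
theorem sum_regConj_div_eq (χ ψ : IrrCharacter G) :
    (∑ g : G, regConj p (χ : G → ℂ) g * (ψ : G → ℂ) g) / (χ : G → ℂ) 1
      = ((charDegree (ψ : G → ℂ) : ℂ) / (charDegree (χ : G → ℂ) : ℂ)) *
        omega (regConj p (χ : G → ℂ)) (ψ : G → ℂ) := by
  have hχ1 : (χ : G → ℂ) 1 ≠ 0 := IsIrrCharacter.apply_one_ne_zero χ.2
  have hψ1 : (ψ : G → ℂ) 1 ≠ 0 := IsIrrCharacter.apply_one_ne_zero ψ.2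
  rw [omega, charDegree_cast (IrrCharacter_isCharacter χ), charDegree_cast (IrrCharacter_isCharacter ψ)]
  field_simp

/-- Brauer: for a block `B` with a character `χ` of height zero, the `p`-part of
`Σ_{ψ ∈ B} ψ(1)²` is `|G|_p · χ(1)_p`. -/
theorem factorization_sum_degree_sq (hMp : IsPModular p M) (χ : IrrCharacter G)
    [DecidablePred (· ∈ blockOf M (χ : G → ℂ))]
    (hmin : ∀ χ' : IrrCharacter G, SameBlock M (χ : G → ℂ) (χ' : G → ℂ) →
      (charDegree (χ : G → ℂ)).factorization p ≤ (charDegree (χ' : G → ℂ)).factorization p) :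
    (∑ ψ : IrrCharacter G, if ψ ∈ blockOf M (χ : G → ℂ) then
      charDegree (ψ : G → ℂ) ^ 2 else 0).factorization p
      = (Nat.card G).factorization p + (charDegree (χ : G → ℂ)).factorization p := by
  classical
  have hp : p.Prime := Fact.out
  have hM : M.IsPrime := hMp.2.1.isPrime
  have hχ1 : (χ : G → ℂ) 1 ≠ 0 := IsIrrCharacter.apply_one_ne_zero χ.2
  have hχc : IsCharacter G (χ : G → ℂ) := IrrCharacter_isCharacter χ
  have hdegχ : (charDegree (χ : G → ℂ) : ℂ) = (χ : G → ℂ) 1 := charDegree_cast hχc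
  have hdeg0 : charDegree (χ : G → ℂ) ≠ 0 := by
    intro h0
    rw [h0] at hdegχ
    exact hχ1 (by rw [← hdegχ]; simp)
  set Θ := regConj p (χ : G → ℂ) with hΘ
  have hΘc : IsClassFunction G Θ := regConj_isClassFunction p (isClassFunction_irr χ)
  have hΘR : ∀ g, MemLocalRing M (Θ g) := regConj_memLocalRing p hM χ
  set α := omega Θ (χ : G → ℂ) with hα
  have hαR : MemLocalRing M α := memLocalRing_omega hM hΘc hΘR χ
  have hαI : ¬ MemLocalIdeal M α := omega_regConj_not_memLocalIdeal hMp χ hmin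
  obtain P : Sylow p G := default
  have : Fintype (P : Subgroup G) := Fintype.ofFinite _
  have hG0 : (Nat.card G : ℂ) ≠ 0 := card_ne_zero_complex
  have hP0 : (Nat.card (P : Subgroup G) : ℂ) ≠ 0 := card_ne_zero_complex
  -- the coefficients
  set m : IrrCharacter G → ℂ := fun ψ => if ψ ∈ (blockOf M (χ : G → ℂ)) then
    (∑ g : G, Θ g * (ψ : G → ℂ) g) / (χ : G → ℂ) 1 -
      ((charDegree (ψ : G → ℂ) : ℂ) / (charDegree (χ : G → ℂ) : ℂ)) * α else 0 with hm
  have hmI : ∀ ψ, MemLocalIdeal M (m ψ) := by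
    intro ψ
    simp only [hm]
    split_ifs with hψ
    · rw [sum_regConj_div_eq, ← mul_sub]
      have hs : SameBlock M (χ : G → ℂ) (ψ : G → ℂ) := mem_blockOf_iff.1 hψ
      apply memLocalIdeal_mul_left hM (memLocalRing_natCast_div hMp hdeg0 (hmin ψ hs))
      exact omega_sub_memLocalIdeal hM hΘc hΘR (sameBlock_symm hs)
    · exact memLocalIdeal_zero hM
  set D : G → ℂ := fun g => ∑ ψ, m ψ * conj ((ψ : G → ℂ) g) with hD
  have hDeq : ∀ g, D g = (Nat.card G : ℂ) * Θ g / (χ : G → ℂ) 1 -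
      α / (χ : G → ℂ) 1 * ((Nat.card G : ℂ) * blockCoeff (blockOf M (χ : G → ℂ)) g) := by
    intro g
    have h1 : (Nat.card G : ℂ) * Θ g / (χ : G → ℂ) 1 = ∑ ψ : IrrCharacter G,
        (if ψ ∈ (blockOf M (χ : G → ℂ)) then (∑ x : G, Θ x * (ψ : G → ℂ) x) / (χ : G → ℂ) 1 else 0) *
          conj ((ψ : G → ℂ) g) := by
      rw [← fourier_inversion hΘc, Finset.sum_div]
      apply Finset.sum_congr rfl
      intro ψ _
      split_ifs with hψ
      · ring
      · have hs' : ¬ SameBlock M (ψ : G → ℂ) (χ : G → ℂ) := fun h =>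
          hψ (mem_blockOf_iff.2 (sameBlock_symm h))
        rw [omega_regConj_eq_zero hMp χ ψ hs']
        simp
    have h2 : (Nat.card G : ℂ) * blockCoeff (blockOf M (χ : G → ℂ)) g = ∑ ψ : IrrCharacter G,
        if ψ ∈ (blockOf M (χ : G → ℂ)) then (ψ : G → ℂ) 1 * conj ((ψ : G → ℂ) g) else 0 := by
      rw [blockCoeff_eq_sum, ← mul_assoc, mul_inv_cancel₀ hG0, one_mul]
    rw [h1, h2, Finset.mul_sum, ← Finset.sum_sub_distrib]
    apply Finset.sum_congr rfl
    intro ψ _
    simp only [hm]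
    split_ifs with hψ
    · rw [charDegree_cast (IrrCharacter_isCharacter ψ), hdegχ]
      field_simp
    · simp
  have hvan : ∀ g, p ∣ orderOf g → D g = 0 := by
    intro g hg
    rw [hDeq, hΘ, regConj_apply, if_pos hg, blockCoeff_eq_zero_of_singular hMp χ g hg]
    simp
  have hkey := apply_one_div_card_sylow_memLocalIdeal hMp P m
    (fun ψ g => conj ((ψ : G → ℂ) g)) (fun ψ => sum_sylow_irr_conj P ψ) hmI D (fun g => rfl) hvan
  -- the sum of squares
  set S : ℕ := ∑ ψ : IrrCharacter G, if ψ ∈ (blockOf M (χ : G → ℂ)) then charDegree (ψ : G → ℂ) ^ 2 else 0 with hS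
  have hS1 : (Nat.card G : ℂ) * blockCoeff (blockOf M (χ : G → ℂ)) 1 = (S : ℂ) := by
    rw [blockCoeff_eq_sum, ← mul_assoc, mul_inv_cancel₀ hG0, one_mul, hS]
    push_cast
    apply Finset.sum_congr rfl
    intro ψ _
    split_ifs
    · have h1 := charDegree_cast (IrrCharacter_isCharacter ψ)
      rw [h1, ← h1]
      simp only [Complex.conj_natCast]
      ring
    · rfl
  have hΘ1 : Θ 1 = (χ : G → ℂ) 1 := by
    rw [hΘ, regConj_apply, orderOf_one, if_neg]
    · rw [← hdegχ]; simp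
    · intro h
      exact hp.one_lt.ne' (Nat.dvd_one.1 h)
  set t : ℂ := (S : ℂ) / ((charDegree (χ : G → ℂ) : ℂ) * (Nat.card (P : Subgroup G) : ℂ)) with ht
  have hidx : ((P : Subgroup G).index : ℂ) = (Nat.card G : ℂ) / (Nat.card (P : Subgroup G) : ℂ) := by
    rw [eq_div_iff hP0]
    have := (P : Subgroup G).index_mul_card
    exact_mod_cast this
  have hD1 : D 1 / (Nat.card (P : Subgroup G) : ℂ) = ((P : Subgroup G).index : ℂ) - α * t := by
    rw [hDeq, hΘ1, hS1, hidx, ht, hdegχ]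
    field_simp
  rw [hD1] at hkey
  have hidxI : ¬ MemLocalIdeal M (((P : Subgroup G).index : ℕ) : ℂ) := by
    rw [memLocalIdeal_natCast_iff hMp]
    exact P.not_dvd_index
  have hαtR : MemLocalRing M (α * t) := by
    have := memLocalRing_sub hM (memLocalRing_natCast hM (P : Subgroup G).index)
      (memLocalIdeal_memLocalRing hkey)
    rwa [sub_sub_cancel] at this
  have hαtI : ¬ MemLocalIdeal M (α * t) := by
    intro h
    apply hidxI
    have := memLocalIdeal_add hM hkey h
    rwa [sub_add_cancel] at this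
  have hα0 : α ≠ 0 := by
    intro h0
    apply hαI
    rw [h0]; exact memLocalIdeal_zero hM
  have htR : MemLocalRing M t := by
    have := memLocalRing_mul hM (memLocalRing_inv hαR hαI) hαtR
    rwa [← mul_assoc, inv_mul_cancel₀ hα0, one_mul] at this
  have htI : ¬ MemLocalIdeal M t := fun h => hαtI (memLocalIdeal_mul_left hM hαR h)
  have hdP0 : charDegree (χ : G → ℂ) * Nat.card (P : Subgroup G) ≠ 0 :=
    Nat.mul_ne_zero hdeg0 Nat.card_pos.ne'
  have hnm : (S : ℂ) = ((charDegree (χ : G → ℂ) * Nat.card (P : Subgroup G) : ℕ) : ℂ) * t := by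
    rw [ht]
    push_cast
    have hd0 : (charDegree (χ : G → ℂ) : ℂ) ≠ 0 := by exact_mod_cast hdeg0
    field_simp
  obtain ⟨_, hfac⟩ := factorization_eq_of_mul_unit' hMp hnm hdP0 htR htI
  rw [hfac, Nat.factorization_mul hdeg0 Nat.card_pos.ne', Finsupp.add_apply,
    P.card_eq_multiplicity, Nat.factorization_pow]
  simp [hp.factorization_self]
  ring

end Cfsg.Agent.Lib.Helper21
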