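import Mathlib

/-!
# Graded nilpotency (pigeonhole on partial products)

Abstract form of the statement: if `J` is a graded (one-sided) ideal of a ring graded by a finite
group `Γ`, and the degree-one part of `J` is nilpotent, then `J` is nilpotent.  Homogeneous
elements of `J` of degree `t` are encoded by a predicate `S t a`; the nilpotency of the degree-one
part by a filtration predicate `F j a` ("`a` is a product of `j` degree-one elements").
-/

set_option autoImplicit false
set_option linter.unusedSectionVars false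

namespace Cfsg.Agent.Lib.Helper21

section GradedNil

variable {Γ : Type*} [Group Γ]
variable {A : Type*} [MonoidWithZero A]

/-- degree of a word of homogeneous elements -/
def wdeg (l : List (Γ × A)) : Γ := (l.map Prod.fst).prod

/-- value of a word of homogeneous elements -/
def wval (l : List (Γ × A)) : A := (l.map Prod.snd).prod

@[simp] theorem wval_nil : wval ([] : List (Γ × A)) = 1 := rfl

@[simp] theorem wval_cons (x : Γ × A) (l : List (Γ × A)) : wval (x :: l) = x.2 * wval l := by
  simp [wval]

@[simp] theorem wval_append (l₁ l₂ : List (Γ × A)) : wval (l₁ ++ l₂) = wval l₁ * wval l₂ := by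
  simp [wval]

/-- number of nonempty prefixes `l'` of `l` with `d * wdeg l' = g` -/
def visitsTo [DecidableEq Γ] (g : Γ) : Γ → List (Γ × A) → ℕ
  | _, [] => 0
  | d, x :: l => (if d * x.1 = g then 1 else 0) + visitsTo g (d * x.1) l

theorem sum_visitsTo [Fintype Γ] [DecidableEq Γ] (d : Γ) (l : List (Γ × A)) :
    ∑ g, visitsTo g d l = l.length := by
  induction l generalizing d with
  | nil => simp [visitsTo]
  | cons x l ih =>
    simp only [visitsTo, Finset.sum_add_distrib, ih, List.length_cons]
    rw [Finset.sum_ite_eq]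
    simp [add_comm]

theorem visitsTo_shift [DecidableEq Γ] (c g d : Γ) (l : List (Γ × A)) :
    visitsTo (c * g) (c * d) l = visitsTo g d l := by
  induction l generalizing d with
  | nil => simp [visitsTo]
  | cons x l ih =>
    simp only [visitsTo]
    rw [mul_assoc, ih]
    simp only [mul_right_inj]

theorem exists_split_of_visitsTo [DecidableEq Γ] (g : Γ) (j : ℕ) :
    ∀ (l : List (Γ × A)) (d : Γ), j + 1 ≤ visitsTo g d l →
      ∃ l₁ l₂ : List (Γ × A), l = l₁ ++ l₂ ∧ j ≤ visitsTo g g l₂ := by
  intro l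
  induction l with
  | nil => intro d h; simp [visitsTo] at h
  | cons x l ih =>
    intro d h
    by_cases hd : d * x.1 = g
    · refine ⟨[x], l, rfl, ?_⟩
      simp only [visitsTo, hd, if_true] at h
      omega
    · simp only [visitsTo, hd, if_false, zero_add] at h
      obtain ⟨l₁, l₂, h1, h2⟩ := ih _ h
      exact ⟨x :: l₁, l₂, by rw [h1]; rfl, h2⟩

variable (S : Γ → A → Prop) (F : ℕ → A → Prop) (m : ℕ)

theorem wval_eq_zero_of_visits [DecidableEq Γ]
    (hmul : ∀ s t a b, S s a → S t b → S (s * t) (a * b))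
    (hstep : ∀ j a z, F j a → S 1 z → F (j + 1) (a * z))
    (hend : ∀ j a, F j a → m ≤ j → a = 0) :
    ∀ (l : List (Γ × A)), (∀ x ∈ l, S x.1 x.2) → ∀ (j : ℕ) (acc : A) (d : Γ) (a : A), F j acc →
      (S d a ∨ (d = 1 ∧ a = 1)) → m ≤ j + visitsTo 1 d l → acc * a * wval l = 0 := by
  intro l
  induction l with
  | nil =>
    intro _ j acc d a hF _ hm
    simp only [visitsTo, add_zero] at hm
    rw [hend j acc hF hm, zero_mul, zero_mul]
  | cons x l ih =>
    intro hl j acc d a hF h hm
    have hx : S x.1 x.2 := hl x (List.mem_cons_self)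
    have hl' : ∀ y ∈ l, S y.1 y.2 := fun y hy => hl y (List.mem_cons_of_mem _ hy)
    have hS' : S (d * x.1) (a * x.2) := by
      rcases h with h | ⟨rfl, rfl⟩
      · exact hmul _ _ _ _ h hx
      · simpa using hx
    have hrew : acc * a * wval (x :: l) = acc * (a * x.2) * wval l := by
      rw [wval_cons, mul_assoc, mul_assoc, mul_assoc]
    by_cases hd : d * x.1 = 1
    · have hF' : F (j + 1) (acc * (a * x.2)) := hstep j acc _ hF (hd ▸ hS')
      have hm' : m ≤ j + 1 + visitsTo 1 1 l := by
        simp only [visitsTo, hd, if_true] at hm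
        omega
      have := ih hl' (j + 1) (acc * (a * x.2)) 1 1 hF' (Or.inr ⟨rfl, rfl⟩) hm'
      rw [hrew]
      simpa using this
    · have hm' : m ≤ j + visitsTo 1 (d * x.1) l := by
        simp only [visitsTo, hd, if_false, zero_add] at hm
        exact hm
      have := ih hl' j acc (d * x.1) (a * x.2) hF (Or.inl hS') hm'
      rw [hrew]
      exact this

theorem wval_eq_zero [Fintype Γ] [DecidableEq Γ]
    (hmul : ∀ s t a b, S s a → S t b → S (s * t) (a * b))
    (hzero : F 0 1)
    (hstep : ∀ j a z, F j a → S 1 z → F (j + 1) (a * z))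
    (hend : ∀ j a, F j a → m ≤ j → a = 0)
    (l : List (Γ × A)) (hl : ∀ x ∈ l, S x.1 x.2) (hlen : m * Fintype.card Γ < l.length) :
    wval l = 0 := by
  have hex : ∃ g : Γ, m + 1 ≤ visitsTo g 1 l := by
    by_contra hcon
    push Not at hcon
    have h1 : ∑ g : Γ, visitsTo g 1 l ≤ ∑ _g : Γ, m :=
      Finset.sum_le_sum (fun g _ => by have := hcon g; omega)
    rw [sum_visitsTo, Finset.sum_const, Finset.card_univ, smul_eq_mul, mul_comm] at h1
    omega
  obtain ⟨g, hg⟩ := hex
  obtain ⟨l₁, l₂, h1, h2⟩ := exists_split_of_visitsTo g m l 1 hg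
  have h3 : visitsTo 1 1 l₂ = visitsTo g g l₂ := by
    have := visitsTo_shift g⁻¹ g g l₂
    rwa [inv_mul_cancel] at this
  have hl₂ : ∀ x ∈ l₂, S x.1 x.2 := fun x hx => hl x (by rw [h1]; exact List.mem_append_right _ hx)
  have := wval_eq_zero_of_visits S F m hmul hstep hend l₂ hl₂ 0 1 1 1 hzero (Or.inr ⟨rfl, rfl⟩)
    (by rw [h3]; omega)
  rw [h1, wval_append]
  rw [one_mul, one_mul] at this
  rw [this, mul_zero]

end GradedNil

section Power

variable {Γ : Type*} [Group Γ] [Fintype Γ] [DecidableEq Γ]
variable {A : Type*} [Semiring A]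
variable (S : Γ → A → Prop) (F : ℕ → A → Prop) (m : ℕ)

theorem sum_pow_mem_closure (f : Γ → A) (hf : ∀ t, S t (f t)) (n : ℕ) :
    (∑ t, f t) ^ n ∈ AddSubmonoid.closure
      {x : A | ∃ l : List (Γ × A), (∀ y ∈ l, S y.1 y.2) ∧ l.length = n ∧ x = wval l} := by
  induction n with
  | zero =>
    rw [pow_zero]
    exact AddSubmonoid.subset_closure ⟨[], by simp, rfl, rfl⟩
  | succ n ih =>
    rw [pow_succ, Finset.mul_sum]
    apply AddSubmonoid.sum_mem
    intro t _
    refine AddSubmonoid.closure_induction (motive := fun x _ => x * f t ∈ AddSubmonoid.closure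
      {x : A | ∃ l : List (Γ × A), (∀ y ∈ l, S y.1 y.2) ∧ l.length = n + 1 ∧ x = wval l})
      ?_ ?_ ?_ ih
    · rintro x ⟨l, hl, hlen, rfl⟩
      apply AddSubmonoid.subset_closure
      refine ⟨l ++ [(t, f t)], ?_, by simp [hlen], by simp⟩
      intro y hy
      rcases List.mem_append.1 hy with hy | hy
      · exact hl y hy
      · rw [List.mem_singleton] at hy
        rw [hy]
        exact hf t
    · rw [zero_mul]
      exact zero_mem _
    · intro x y _ _ hx hy
      rw [add_mul]
      exact add_mem hx hy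

theorem sum_pow_eq_zero
    (hmul : ∀ s t a b, S s a → S t b → S (s * t) (a * b))
    (hzero : F 0 1)
    (hstep : ∀ j a z, F j a → S 1 z → F (j + 1) (a * z))
    (hend : ∀ j a, F j a → m ≤ j → a = 0)
    (f : Γ → A) (hf : ∀ t, S t (f t)) (n : ℕ) (hn : m * Fintype.card Γ < n) :
    (∑ t, f t) ^ n = 0 := by
  have h := sum_pow_mem_closure S f hf n
  have hle : AddSubmonoid.closure
      {x : A | ∃ l : List (Γ × A), (∀ y ∈ l, S y.1 y.2) ∧ l.length = n ∧ x = wval l} ≤ ⊥ := by
    rw [AddSubmonoid.closure_le]
    rintro x ⟨l, hl, hlen, rfl⟩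
    have := wval_eq_zero S F m hmul hzero hstep hend l hl (by rw [hlen]; exact hn)
    simp [this]
  have := hle h
  simpa using this

end Power

end Cfsg.Agent.Lib.Helper21
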