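import Mathlib
import Cfsg.Prelude.Def_Blocks
import Cfsg.Prelude.Def_BrauerPairs
import Cfsg.Agent.Lib.Helper21.GradedNil
import Cfsg.Agent.Lib.Helper21.CenterMod
import Cfsg.Agent.Lib.Helper81.SecondMainAux
import Cfsg.Agent.Lib.Helper82.Fong
import Cfsg.Agent.Lib.Helper21.BrauerCorr

/-!
# The key lemma on covering blocks

Let `b` be a `G`-invariant block of the normal subgroup `N` and `B` a block of `G` covering `b`.
Then there is an `N`-invariant element `y` of the group ring over the local ring such that the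
central character of `b` does not vanish modulo the local ideal on the `N`-part of `e_B y`.
(In module language: the block algebra of `b` is a direct summand of the restriction of the block
algebra of `B` to `N × N`.)

The proof is ring-theoretic: `C = (kG)^N` is graded by `G/N`, and the radical `J` of the form
`(x, y) ↦ λ_b((xy)_1)` is a graded right ideal whose degree-one part inside `e_b C` is nilpotent;
by the pigeonhole lemma of `GradedNil`, `J e_b` is nil, so it does not contain the idempotent `e_B`.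
-/

set_option autoImplicit false
set_option linter.unusedSectionVars false
set_option linter.style.haveILetI false

namespace Cfsg.Agent.Lib.Helper21

open Cfsg
open Cfsg.Agent.Lib.Helper81 Cfsg.Agent.Lib.Helper82 Cfsg.Agent.Lib.Helper83

universe u
variable {G : Type u} [Group G] [Fintype G]
variable {M : Ideal AlgInt}

section ToK

variable (hMp : M.IsPrime)

/-- reduction of a function on `G` to the group algebra over the residue field -/
noncomputable def toK (f : G → ℂ) : MonoidAlgebra (LocalResidue M hMp) G :=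
  toMA (fun g => redC M hMp (f g))

theorem toK_conv {f h : G → ℂ} (hf : ∀ g, MemLocalRing M (f g)) (hh : ∀ g, MemLocalRing M (h g)) :
    toK hMp (conv f h) = toK hMp f * toK hMp h := by
  unfold toK
  rw [← toMA_gconv]
  congr 1
  exact red_gconv hMp hf hh

theorem toK_eq_zero_iff {f : G → ℂ} (hf : ∀ g, MemLocalRing M (f g)) :
    toK hMp f = 0 ↔ ∀ g, MemLocalIdeal M (f g) := by
  unfold toK
  rw [toMA_eq_zero_iff]
  constructor
  · intro h g
    exact (redC_eq_zero_iff hMp (hf g)).1 (h g)
  · intro h g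
    exact (redC_eq_zero_iff hMp (hf g)).2 (h g)

theorem toK_congr {f h : G → ℂ} (hf : ∀ g, MemLocalRing M (f g)) (hh : ∀ g, MemLocalRing M (h g))
    (hfh : ∀ g, MemLocalIdeal M (f g - h g)) : toK hMp f = toK hMp h := by
  unfold toK
  congr 1
  funext g
  have h1 := redC_sub hMp (hf g) (hh g)
  rw [(redC_eq_zero_iff hMp (memLocalRing_sub hMp (hf g) (hh g))).2 (hfh g)] at h1
  exact (sub_eq_zero.1 h1.symm)

theorem toK_sum {ι : Type*} (s : Finset ι) (f : ι → G → ℂ)
    (hf : ∀ i ∈ s, ∀ g, MemLocalRing M (f i g)) :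
    toK hMp (fun g => ∑ i ∈ s, f i g) = ∑ i ∈ s, toK hMp (f i) := by
  apply MonoidAlgebra.coeff_injective
  ext g
  rw [MonoidAlgebra.coeff_sum, Finsupp.finsetSum_apply]
  unfold toK
  simp only [toMA_coeff]
  exact redC_sum hMp s (fun i => f i g) (fun i hi => hf i hi g)

theorem toK_deltaOne : toK hMp (deltaOne : G → ℂ) = 1 := by
  classical
  haveI : Fintype (IrrCharacter G) := Fintype.ofFinite _
  unfold toK
  rw [← toMA_gdelta]
  congr 1
  rw [deltaOne_eq]
  exact red_gdelta hMp

theorem toK_zero : toK hMp (0 : G → ℂ) = 0 := by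
  have h0 : ∀ g : G, MemLocalRing M ((0 : G → ℂ) g) := fun g => memLocalRing_zero hMp
  rw [toK_eq_zero_iff hMp h0]
  intro g
  exact memLocalIdeal_zero hMp

end ToK

theorem toMA_injective {R : Type*} [Semiring R] : Function.Injective (toMA : (G → R) → MonoidAlgebra R G) := by
  intro f h hfh
  funext g
  have := congrArg (fun a => a.coeff g) hfh
  simpa using this

theorem conv_assoc' (f g h : G → ℂ) : conv (conv f g) h = conv f (conv g h) := by
  apply toMA_injective
  show toMA (gconv (gconv f g) h) = toMA (gconv f (gconv g h))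
  rw [toMA_gconv, toMA_gconv, toMA_gconv, toMA_gconv, mul_assoc]

theorem conv_deltaOne (f : G → ℂ) : conv f deltaOne = f := by
  classical
  haveI : Fintype (IrrCharacter G) := Fintype.ofFinite _
  apply toMA_injective
  rw [deltaOne_eq]
  show toMA (gconv f gdelta) = toMA f
  rw [toMA_gconv, toMA_gdelta, mul_one]

theorem deltaOne_conv (f : G → ℂ) : conv deltaOne f = f := by
  classical
  haveI : Fintype (IrrCharacter G) := Fintype.ofFinite _
  apply toMA_injective
  rw [deltaOne_eq]
  show toMA (gconv gdelta f) = toMA f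
  rw [toMA_gconv, toMA_gdelta, one_mul]

section Cover

variable (N : Subgroup G) [hN : N.Normal]

/-- functions with local-integer values invariant under conjugation by `N` -/
def IsNInv (M : Ideal AlgInt) (f : G → ℂ) : Prop :=
  (∀ g, MemLocalRing M (f g)) ∧ ∀ n ∈ N, ∀ g, f (n * g * n⁻¹) = f g

open Classical in
/-- the homogeneous component of a function on the coset `t` of `N` -/
noncomputable def cosetComp (t : G ⧸ N) (f : G → ℂ) : G → ℂ :=
  fun g => if (g : G ⧸ N) = t then f g else 0

theorem cosetComp_apply_of_eq {t : G ⧸ N} (f : G → ℂ) {g : G} (hg : (g : G ⧸ N) = t) :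
    cosetComp N t f g = f g := by
  simp [cosetComp, hg]

theorem cosetComp_apply_of_ne {t : G ⧸ N} (f : G → ℂ) {g : G} (hg : (g : G ⧸ N) ≠ t) :
    cosetComp N t f g = 0 := by
  simp [cosetComp, hg]

theorem sum_cosetComp [Fintype (G ⧸ N)] (f : G → ℂ) (g : G) : ∑ t : G ⧸ N, cosetComp N t f g = f g := by
  classical
  rw [Finset.sum_eq_single (g : G ⧸ N)]
  · exact cosetComp_apply_of_eq N f rfl
  · intro t _ ht
    exact cosetComp_apply_of_ne N f (Ne.symm ht)
  · intro h
    exact absurd (Finset.mem_univ _) h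

variable {N}

theorem mk_conj_eq {n : G} (hn : n ∈ N) (g : G) : ((n * g * n⁻¹ : G) : G ⧸ N) = (g : G ⧸ N) := by
  rw [QuotientGroup.mk_mul, QuotientGroup.mk_mul, QuotientGroup.mk_inv,
    (QuotientGroup.eq_one_iff n).2 hn]
  simp

theorem mk_mul_of_mem {n : G} (hn : n ∈ N) (g : G) : ((g * n : G) : G ⧸ N) = (g : G ⧸ N) := by
  rw [QuotientGroup.mk_mul, (QuotientGroup.eq_one_iff n).2 hn, mul_one]

variable (hMp : M.IsPrime)

include hMp in
theorem IsNInv.conv {f h : G → ℂ} (hf : IsNInv N M f) (hh : IsNInv N M h) :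
    IsNInv N M (conv f h) :=
  ⟨conv_memLocalRing M hMp hf.1 hh.1, fun n hn g =>
    gconv_conj_invariant n f h (hf.2 n hn) (hh.2 n hn) g⟩

include hMp in
theorem IsNInv.cosetComp {f : G → ℂ} (hf : IsNInv N M f) (t : G ⧸ N) :
    IsNInv N M (cosetComp N t f) := by
  classical
  refine ⟨fun g => ?_, fun n hn g => ?_⟩
  · by_cases hg : (g : G ⧸ N) = t
    · rw [cosetComp_apply_of_eq N f hg]; exact hf.1 g
    · rw [cosetComp_apply_of_ne N f hg]; exact memLocalRing_zero hMp
  · simp only [Helper21.cosetComp, mk_conj_eq hn g, hf.2 n hn g]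

theorem isNInv_of_isClassFunction {f : G → ℂ} (hf : IsClassFunction G f)
    (hfR : ∀ g, MemLocalRing M (f g)) : IsNInv N M f :=
  ⟨hfR, fun n _ g => hf g n⟩

include hMp in
theorem isNInv_deltaOne : IsNInv N M (deltaOne : G → ℂ) := by
  haveI : Fintype (IrrCharacter G) := Fintype.ofFinite _
  exact isNInv_of_isClassFunction (deltaOne_isRClass hMp).1 (deltaOne_isRClass hMp).2

/-- the support of a product of homogeneous components -/
theorem conv_eq_zero_of_supp {s t : G ⧸ N} {x y : G → ℂ}
    (hx : ∀ g : G, (g : G ⧸ N) ≠ s → x g = 0) (hy : ∀ g : G, (g : G ⧸ N) ≠ t → y g = 0)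
    (g : G) (hg : (g : G ⧸ N) ≠ s * t) : conv x y g = 0 := by
  simp only [Helper21.conv]
  apply Finset.sum_eq_zero
  intro h _
  by_cases hh : (h : G ⧸ N) = s
  · have : ((h⁻¹ * g : G) : G ⧸ N) ≠ t := by
      intro h2
      apply hg
      rw [← hh, ← h2, ← QuotientGroup.mk_mul, mul_inv_cancel_left]
    rw [hy _ this, mul_zero]
  · rw [hx _ hh, zero_mul]

/-- multiplication by a function supported on `N` preserves homogeneous components -/
theorem cosetComp_conv_of_supp (t : G ⧸ N) (x : G → ℂ) {e : G → ℂ} (he : ∀ g, g ∉ N → e g = 0) :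
    conv (cosetComp N t x) e = cosetComp N t (conv x e) := by
  classical
  funext g
  by_cases hg : (g : G ⧸ N) = t
  · rw [cosetComp_apply_of_eq N _ hg]
    simp only [Helper21.conv]
    apply Finset.sum_congr rfl
    intro h _
    by_cases hh : h⁻¹ * g ∈ N
    · have : (h : G ⧸ N) = t := by
        rw [← hg]
        have := mk_mul_of_mem hh h
        rw [mul_inv_cancel_left] at this
        exact this.symm
      rw [cosetComp_apply_of_eq N _ this]
    · rw [he _ hh, mul_zero, mul_zero]
  · rw [cosetComp_apply_of_ne N _ hg]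
    simp only [Helper21.conv]
    apply Finset.sum_eq_zero
    intro h _
    by_cases hh : h⁻¹ * g ∈ N
    · have : (h : G ⧸ N) ≠ t := by
        intro h2
        apply hg
        rw [← h2]
        have := mk_mul_of_mem hh h
        rw [mul_inv_cancel_left] at this
        exact this
      rw [cosetComp_apply_of_ne N _ this, zero_mul]
    · rw [he _ hh, mul_zero]

/-- the pairing `(x, y) ↦ ω_θ((xy)_N)` -/
noncomputable def pairN (N : Subgroup G) [Fintype N] (θ : N → ℂ) (x y : G → ℂ) : ℂ :=
  omega (fun n : N => conv x y (n : G)) θ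

variable [Fintype N]

theorem pairN_assoc (θ : N → ℂ) (x y z : G → ℂ) :
    pairN N θ (conv x y) z = pairN N θ x (conv y z) := by
  unfold pairN
  rw [conv_assoc']

theorem pairN_cosetComp (θ : N → ℂ) (t : G ⧸ N) (x y : G → ℂ) :
    pairN N θ (cosetComp N t x) y = pairN N θ x (cosetComp N t⁻¹ y) := by
  classical
  unfold pairN
  congr 1
  funext n
  simp only [Helper21.conv]
  apply Finset.sum_congr rfl
  intro h _
  have h1 : ((h⁻¹ * (n : G) : G) : G ⧸ N) = (h : G ⧸ N)⁻¹ := by
    rw [mk_mul_of_mem n.2, QuotientGroup.mk_inv]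
  by_cases hh : (h : G ⧸ N) = t
  · rw [cosetComp_apply_of_eq N _ hh, cosetComp_apply_of_eq N _ (by rw [h1, hh])]
  · rw [cosetComp_apply_of_ne N _ hh, cosetComp_apply_of_ne N _ (by rw [h1]; exact fun h2 => hh (inv_injective h2)),
      zero_mul, mul_zero]

end Cover

section Key

variable {p : ℕ} [Fact p.Prime]
variable {N : Subgroup G} [hN : N.Normal] [Fintype N]

/-- membership in the radical of the pairing, inside `e_b C` -/
def InJ (M : Ideal AlgInt) (N : Subgroup G) [Fintype N] (b : Set (IrrCharacter N)) (θ₀ : N → ℂ)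
    (x : G → ℂ) : Prop :=
  IsNInv N M x ∧ conv x (subgroupBlockCoeff N b) = x ∧
    ∀ y, IsNInv N M y → MemLocalIdeal M (pairN N θ₀ x y)

variable {b : Set (IrrCharacter N)} {θ₀ : IrrCharacter N}

variable (hMp : M.IsPrime)

include hMp in
theorem InJ.conv {x y : G → ℂ} (hx : InJ M N b (θ₀ : N → ℂ) x) (hy : InJ M N b (θ₀ : N → ℂ) y) :
    InJ M N b (θ₀ : N → ℂ) (conv x y) := by
  refine ⟨hx.1.conv hMp hy.1, ?_, fun z hz => ?_⟩
  · rw [conv_assoc', hy.2.1]
  · rw [pairN_assoc]
    exact hx.2.2 _ (hy.1.conv hMp hz)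

include hMp in
theorem InJ.cosetComp {x : G → ℂ} (hx : InJ M N b (θ₀ : N → ℂ) x) (t : G ⧸ N) :
    InJ M N b (θ₀ : N → ℂ) (cosetComp N t x) := by
  refine ⟨hx.1.cosetComp hMp t, ?_, fun z hz => ?_⟩
  · rw [cosetComp_conv_of_supp t x (fun g hg => subgroupBlockCoeff_apply_not_mem N b hg), hx.2.1]
  · rw [pairN_cosetComp]
    exact hx.2.2 _ (hz.cosetComp hMp _)

theorem subgroupBlockCoeff_eq_ext0 (b : Set (IrrCharacter N)) :
    subgroupBlockCoeff N b = ext0 N (blockCoeff b) := by
  funext g
  by_cases hg : g ∈ N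
  · rw [subgroupBlockCoeff_apply_mem N b hg, ext0_of_mem N _ hg]
  · rw [subgroupBlockCoeff_apply_not_mem N b hg, ext0_of_not_mem N _ hg]

theorem ext0_injective {R : Type*} [Semiring R] {f h : N → R} (hfh : ext0 N f = ext0 N h) : f = h := by
  funext n
  have := congrFun hfh (n : G)
  rwa [ext0_coe, ext0_coe] at this

include hMp in
theorem InJ.restrict_props (hb : IsPBlock M b) (hθ₀ : θ₀ ∈ b) {x : G → ℂ}
    (hx : InJ M N b (θ₀ : N → ℂ) x) (hsupp : ∀ g : G, (g : G ⧸ N) ≠ 1 → x g = 0) :
    IsRClass M (fun n : N => x n) ∧ x = ext0 N (fun n : N => x n) ∧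
      ∀ θ : IrrCharacter N, MemLocalIdeal M (omega (fun n : N => x n) (θ : N → ℂ)) := by
  classical
  haveI : Fintype (IrrCharacter N) := Fintype.ofFinite _
  have hR : IsRClass M (fun n : N => x n) :=
    ⟨fun g h => hx.1.2 (h : G) h.2 (g : G), fun n => hx.1.1 n⟩
  have hext : x = ext0 N (fun n : N => x n) := by
    funext g
    by_cases hg : g ∈ N
    · rw [ext0_of_mem N _ hg]
    · rw [ext0_of_not_mem N _ hg]
      exact hsupp g (fun h => hg ((QuotientGroup.eq_one_iff g).1 h))
  refine ⟨hR, hext, fun θ => ?_⟩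
  by_cases hθ : θ ∈ b
  · have h1 := omega_sub_memLocalIdeal hMp hR.1 hR.2 (IsPBlock.sameBlock hMp hb hθ hθ₀)
    have h2 : omega (fun n : N => x n) (θ₀ : N → ℂ) = pairN N (θ₀ : N → ℂ) x deltaOne := by
      unfold pairN
      rw [conv_deltaOne]
    have h3 := hx.2.2 _ (isNInv_deltaOne (N := N) hMp)
    rw [← h2] at h3
    have := memLocalIdeal_add hMp h1 h3
    rwa [sub_add_cancel] at this
  · have h1 : Helper21.conv (fun n : N => x n) (blockCoeff b) = fun n : N => x n := by
      apply ext0_injective (N := N)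
      have h2 := hx.2.1
      rw [subgroupBlockCoeff_eq_ext0] at h2
      conv_lhs at h2 => rw [hext]
      have h3 : Helper21.conv (ext0 N fun n : N => x n) (ext0 N (blockCoeff b))
          = ext0 N (Helper21.conv (fun n : N => x n) (blockCoeff b)) :=
        gconv_ext0 N (fun n : N => x n) (blockCoeff b)
      rw [h3] at h2
      rw [h2]
      exact hext
    have h2 := omega_conv θ.2 (fun n : N => x n) (blockCoeff b) (blockCoeff_isClassFunction b)
    rw [h1, omega_blockCoeff, if_neg hθ, mul_zero] at h2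
    rw [h2]
    exact memLocalIdeal_zero hMp

/-- homogeneous elements of `J e_b` of degree `t`, reduced modulo the local ideal -/
def SJ (hMp : M.IsPrime) (N : Subgroup G) [Fintype N] (b : Set (IrrCharacter N)) (θ₀ : N → ℂ)
    (t : G ⧸ N) (a : MonoidAlgebra (LocalResidue M hMp) G) : Prop :=
  ∃ x : G → ℂ, InJ M N b θ₀ x ∧ (∀ g : G, (g : G ⧸ N) ≠ t → x g = 0) ∧ a = toK hMp x

/-- products of `j` central elements of `RN` with central characters in the local ideal -/
def FJ (hMp : M.IsPrime) (N : Subgroup G) [Fintype N] (j : ℕ)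
    (a : MonoidAlgebra (LocalResidue M hMp) G) : Prop :=
  ∃ r : N → ℂ, IsRClass M r ∧ a = toK hMp (ext0 N r) ∧ ∃ T : Finset (IrrCharacter N),
    min j (Nat.card (IrrCharacter N)) ≤ T.card ∧ ∀ θ ∈ T, omega r (θ : N → ℂ) = 0

theorem ext0_zero' : ext0 N (0 : N → ℂ) = 0 := by
  funext g
  by_cases hg : g ∈ N
  · rw [ext0_of_mem N _ hg]; rfl
  · rw [ext0_of_not_mem N _ hg]; rfl

theorem SJ_mul {s t : G ⧸ N} {a a' : MonoidAlgebra (LocalResidue M hMp) G}
    (ha : SJ hMp N b (θ₀ : N → ℂ) s a) (ha' : SJ hMp N b (θ₀ : N → ℂ) t a') :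
    SJ hMp N b (θ₀ : N → ℂ) (s * t) (a * a') := by
  obtain ⟨x, hx, hsx, rfl⟩ := ha
  obtain ⟨y, hy, hsy, rfl⟩ := ha'
  exact ⟨conv x y, hx.conv hMp hy, conv_eq_zero_of_supp hsx hsy, (toK_conv hMp hx.1.1 hy.1.1).symm⟩

theorem FJ_zero : FJ hMp N 0 (1 : MonoidAlgebra (LocalResidue M hMp) G) := by
  classical
  haveI : Fintype (IrrCharacter N) := Fintype.ofFinite _
  haveI : Fintype (IrrCharacter G) := Fintype.ofFinite _
  refine ⟨deltaOne, deltaOne_isRClass hMp, ?_, ∅, by simp, by simp⟩
  have : ext0 N (deltaOne : N → ℂ) = (deltaOne : G → ℂ) := by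
    rw [deltaOne_eq, deltaOne_eq]
    exact ext0_gdelta N
  rw [this, toK_deltaOne]

theorem FJ_end {j : ℕ} {a : MonoidAlgebra (LocalResidue M hMp) G} (ha : FJ hMp N j a)
    (hj : Nat.card (IrrCharacter N) ≤ j) : a = 0 := by
  classical
  haveI : Fintype (IrrCharacter N) := Fintype.ofFinite _
  obtain ⟨r, hr, rfl, T, hT, hT0⟩ := ha
  rw [min_eq_right hj, Nat.card_eq_fintype_card] at hT
  have hTu : T = Finset.univ := Finset.eq_univ_of_card T (le_antisymm (Finset.card_le_univ T) hT)
  have hr0 : r = 0 := by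
    apply eq_of_omega_eq hr.1 (fun _ _ => rfl)
    intro θ
    rw [hT0 θ (by rw [hTu]; exact Finset.mem_univ _), omega_zero]
  rw [hr0, ext0_zero', toK_zero]

theorem FJ_step (hb : IsPBlock M b) (hθ₀ : θ₀ ∈ b) {j : ℕ}
    {a z : MonoidAlgebra (LocalResidue M hMp) G} (ha : FJ hMp N j a)
    (hz : SJ hMp N b (θ₀ : N → ℂ) 1 z) : FJ hMp N (j + 1) (a * z) := by
  classical
  haveI : Fintype (IrrCharacter N) := Fintype.ofFinite _
  obtain ⟨r, hr, rfl, T, hT, hT0⟩ := ha
  obtain ⟨x, hx, hsx, rfl⟩ := hz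
  obtain ⟨hw, hext, hω⟩ := hx.restrict_props hMp hb hθ₀ hsx
  by_cases hall : ∀ θ, θ ∈ T
  · have hr0 : r = 0 := by
      apply eq_of_omega_eq hr.1 (fun _ _ => rfl)
      intro θ
      rw [hT0 θ (hall θ), omega_zero]
    refine ⟨0, ⟨fun _ _ => rfl, fun _ => memLocalRing_zero hMp⟩, ?_, T, ?_, fun θ _ => omega_zero _⟩
    · rw [hr0, ext0_zero', toK_zero, zero_mul]
    · have hTu : T = Finset.univ := Finset.eq_univ_iff_forall.2 hall
      rw [hTu, Finset.card_univ, Nat.card_eq_fintype_card]
      exact min_le_right _ _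
  · push Not at hall
    obtain ⟨θ, hθT⟩ := hall
    set w : N → ℂ := fun n : N => x n with hwdef
    set c : ℂ := omega w (θ : N → ℂ) with hcdef
    have hc : MemLocalIdeal M c := hω θ
    have hu : IsRClass M (w - c • (deltaOne : N → ℂ)) :=
      hw.sub hMp ((deltaOne_isRClass hMp).smul hMp (memLocalIdeal_memLocalRing hc))
    refine ⟨Helper21.conv r (w - c • (deltaOne : N → ℂ)), hr.conv hMp hu, ?_, insert θ T, ?_, ?_⟩
    · have h1 : ext0 N (Helper21.conv r (w - c • (deltaOne : N → ℂ)))
          = Helper21.conv (ext0 N r) (ext0 N (w - c • (deltaOne : N → ℂ))) :=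
        (gconv_ext0 N r (w - c • (deltaOne : N → ℂ))).symm
      have hRr : ∀ g, MemLocalRing M (ext0 N r g) := by
        intro g
        by_cases hg : g ∈ N
        · rw [ext0_of_mem N _ hg]; exact hr.2 _
        · rw [ext0_of_not_mem N _ hg]; exact memLocalRing_zero hMp
      have hRu : ∀ g, MemLocalRing M (ext0 N (w - c • (deltaOne : N → ℂ)) g) := by
        intro g
        by_cases hg : g ∈ N
        · rw [ext0_of_mem N _ hg]; exact hu.2 _
        · rw [ext0_of_not_mem N _ hg]; exact memLocalRing_zero hMp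
      rw [h1, toK_conv hMp hRr hRu]
      congr 1
      symm
      apply toK_congr hMp hRu hx.1.1
      intro g
      by_cases hg : g ∈ N
      · rw [ext0_of_mem N _ hg]
        have : (w - c • (deltaOne : N → ℂ)) ⟨g, hg⟩ - x g = - (c * (deltaOne : N → ℂ) ⟨g, hg⟩) := by
          simp only [Pi.sub_apply, Pi.smul_apply, smul_eq_mul, hwdef]
          ring
        rw [this]
        exact memLocalIdeal_neg (memLocalIdeal_mul_right hMp hc ((deltaOne_isRClass hMp).2 _))
      · rw [ext0_of_not_mem N _ hg, hext, ext0_of_not_mem N _ hg, sub_zero]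
        exact memLocalIdeal_zero hMp
    · rw [Finset.card_insert_of_notMem hθT]
      have := hT
      omega
    · intro ψ hψ
      rw [omega_conv ψ.2 r _ hu.1, omega_sub, omega_smul, omega_deltaOne]
      rcases Finset.mem_insert.1 hψ with rfl | hψ
      · rw [mul_one, sub_self, mul_zero]
      · rw [hT0 ψ hψ, zero_mul]

/-- **Key lemma.** If the block `B` of `G` covers the `G`-invariant block `b` of `N`, there is an
`N`-invariant element `y` of `RG` such that `λ_b` does not vanish on the `N`-part of `e_B y`. -/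
theorem exists_pairN_not_memLocalIdeal (hM : IsPModular p M) (hb : IsPBlock M b)
    (hinv : IsInvariantSet N b) (hθ₀ : θ₀ ∈ b) {χ : IrrCharacter G} (hχ : χ ∈ overSet N b) :
    ∃ y : G → ℂ, IsNInv N M y ∧
      ¬ MemLocalIdeal M (pairN N (θ₀ : N → ℂ) (blockCoeff (blockOf M (χ : G → ℂ))) y) := by
  classical
  have hMp : M.IsPrime := hM.2.1.isPrime
  haveI : Fintype (IrrCharacter G) := Fintype.ofFinite _
  haveI : Fintype (G ⧸ N) := Fintype.ofFinite _
  by_contra hcon
  push Not at hcon
  set eB : G → ℂ := blockCoeff (blockOf M (χ : G → ℂ)) with heB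
  have hInv : IsNInv N M eB :=
    isNInv_of_isClassFunction (blockCoeff_isClassFunction _) (memLocalRing_blockCoeff_blockOf hMp χ)
  have hJ : InJ M N b (θ₀ : N → ℂ) eB := by
    refine ⟨hInv, ?_, hcon⟩
    funext g
    exact (conv_blockCoeff_subgroupBlockCoeff N hM hb hinv hχ g).symm
  -- the homogeneous components
  have hS : ∀ t : G ⧸ N, SJ hMp N b (θ₀ : N → ℂ) t (toK hMp (cosetComp N t eB)) := fun t =>
    ⟨cosetComp N t eB, hJ.cosetComp hMp t, fun g hg => cosetComp_apply_of_ne N eB hg, rfl⟩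
  have hsum : ∑ t : G ⧸ N, toK hMp (cosetComp N t eB) = toK hMp eB := by
    rw [← toK_sum hMp Finset.univ (fun t => cosetComp N t eB)
      (fun t _ g => (hInv.cosetComp hMp t).1 g)]
    congr 1
    funext g
    exact sum_cosetComp N eB g
  have hpow := sum_pow_eq_zero (SJ hMp N b (θ₀ : N → ℂ)) (FJ hMp N) (Nat.card (IrrCharacter N))
    (fun s t a a' ha ha' => SJ_mul hMp ha ha') (FJ_zero hMp)
    (fun j a z ha hz => FJ_step hMp hb hθ₀ ha hz) (fun j a ha hj => FJ_end hMp ha hj)
    (fun t => toK hMp (cosetComp N t eB)) hS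
    (Nat.card (IrrCharacter N) * Fintype.card (G ⧸ N) + 1) (Nat.lt_succ_self _)
  rw [hsum] at hpow
  have hidem : IsIdempotentElem (toK hMp eB) := by
    show toK hMp eB * toK hMp eB = toK hMp eB
    rw [← toK_conv hMp hInv.1 hInv.1, heB, conv_blockCoeff_self hMp χ]
  rw [hidem.pow_succ_eq] at hpow
  rw [toK_eq_zero_iff hMp hInv.1] at hpow
  obtain ⟨g, hg⟩ := exists_isDefectClass hMp χ
  exact hg.2.1 (hpow g)

end Key

end Cfsg.Agent.Lib.Helper21
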