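import Mathlib
import Cfsg.Agent.Lib.Helper21.CoverKey
import Cfsg.Agent.Lib.Helper21.BrauerMap
import Cfsg.Agent.Lib.Helper85.Clifford
import Cfsg.Agent.Lib.Helper22.DefectConj
import Cfsg.Agent.S0911

/-!
# Blocks covering a `G`-invariant block: characters below, and Knörr's theorem

Consequences of the key lemma of `CoverKey` for a block `B` of `G` covering a `G`-invariant block
`b` of the normal subgroup `N`:

* every `θ ∈ b` lies under some `χ ∈ B`;
* (Knörr) some defect group `P` of `B` has `P ∩ N` a defect group of `b`.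
-/

set_option autoImplicit false
set_option linter.unusedSectionVars false
set_option linter.style.haveILetI false

namespace Cfsg.Agent.Lib.Helper21

open Cfsg
open Cfsg.Agent.Lib.Helper81 Cfsg.Agent.Lib.Helper82 Cfsg.Agent.Lib.Helper83

universe u
variable {G : Type u} [Group G] [Fintype G]
variable {p : ℕ} [Fact p.Prime] {M : Ideal AlgInt}

/-- For functions invariant under conjugation by the `p`-subgroup `P`, the value of the convolution
at an element centralizing `P` is congruent to the sum over the centralizer of `P`. -/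
theorem conv_sub_sum_centralizer (hMod : IsPModular p M) (P : Subgroup G) (hP : IsPGroup p P)
    {F₁ F₂ : G → ℂ} (h₁ : ∀ t ∈ P, ∀ g, F₁ (t * g * t⁻¹) = F₁ g)
    (h₂ : ∀ t ∈ P, ∀ g, F₂ (t * g * t⁻¹) = F₂ g)
    (hR₁ : ∀ g, MemLocalRing M (F₁ g)) (hR₂ : ∀ g, MemLocalRing M (F₂ g)) (z : G)
    (hz : z ∈ Subgroup.centralizer (P : Set G)) [DecidablePred (· ∈ Subgroup.centralizer (P : Set G))] :
    MemLocalIdeal M (conv F₁ F₂ z -
      ∑ x : G, if x ∈ Subgroup.centralizer (P : Set G) then F₁ x * F₂ (x⁻¹ * z) else 0) := by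
  classical
  have hM : M.IsPrime := hMod.2.1.isPrime
  simp only [conv]
  rw [← Finset.sum_sub_distrib]
  have e2 : ∀ x : G, F₁ x * F₂ (x⁻¹ * z) -
      (if x ∈ Subgroup.centralizer (P : Set G) then F₁ x * F₂ (x⁻¹ * z) else 0)
      = if x ∉ Subgroup.centralizer (P : Set G) then F₁ x * F₂ (x⁻¹ * z) else 0 := by
    intro x
    by_cases hx : x ∈ Subgroup.centralizer (P : Set G)
    · simp [hx]
    · simp [hx]
  rw [Finset.sum_congr rfl (fun x _ => e2 x), ← Finset.sum_filter]
  rw [Finset.sum_subtype (p := fun x : G => x ∉ Subgroup.centralizer (P : Set G))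
      (Finset.univ.filter (fun x : G => x ∉ Subgroup.centralizer (P : Set G)))
      (fun x => by simp) (fun x : G => F₁ x * F₂ (x⁻¹ * z))]
  let _ := conjActionCompl P
  have hsmul : ∀ (t : P) (x : {x : G // x ∉ Subgroup.centralizer (P : Set G)}),
      ((t • x : {x : G // x ∉ Subgroup.centralizer (P : Set G)}) : G)
        = (t : G) * x.1 * (t : G)⁻¹ := fun _ _ => rfl
  apply sum_memLocalIdeal_of_fixedPointFree hMod hP
    (fun x : {x : G // x ∉ Subgroup.centralizer (P : Set G)} => F₁ x * F₂ ((x : G)⁻¹ * z))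
  · intro t x
    simp only [hsmul]
    rw [h₁ t t.2]
    have hzt : (t : G) * z = z * t := (Subgroup.mem_centralizer_iff.1 hz (t : G) t.2)
    have : ((t : G) * x.1 * (t : G)⁻¹)⁻¹ * z = (t : G) * (x.1⁻¹ * z) * (t : G)⁻¹ := by
      have : z = (t : G) * z * (t : G)⁻¹ := by rw [hzt]; group
      conv_lhs => rw [this]
      group
    rw [this, h₂ t t.2]
  · intro x
    exact memLocalRing_mul hM (hR₁ _) (hR₂ _)
  · intro x
    by_contra hcon
    push Not at hcon
    apply x.2
    rw [Subgroup.mem_centralizer_iff]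
    intro q hq
    have h1 := congrArg Subtype.val (hcon ⟨q, hq⟩)
    rw [hsmul] at h1
    exact mul_inv_eq_iff_eq_mul.1 h1

section Inv

variable {N : Subgroup G} [hN : N.Normal] [Fintype N]
variable {b : Set (IrrCharacter N)}

/-- restriction to `N` of a product with a function supported on `N` -/
theorem conv_ext0_apply_coe (a : N → ℂ) (v : G → ℂ) (n : N) :
    conv (ext0 N a) v (n : G) = conv a (fun m : N => v m) n := by
  simp only [conv]
  rw [sum_ext0_mul]
  rfl

theorem isInvariantSet_conjSet (A : Set (IrrCharacter N)) :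
    IsInvariantSet N (Cfsg.Agent.Lib.Helper22.conjSet hN A) := by
  intro g θ hθ θ' hθ'
  have : θ' = Cfsg.Agent.Lib.Helper22.irrConj hN g θ := by
    apply Subtype.ext
    funext n
    rw [hθ' n, Cfsg.Agent.Lib.Helper22.irrConj_apply]
  rw [this]
  exact Cfsg.Agent.Lib.Helper22.irrConj_mem_conjSet hN hθ g

/-- **Every character of a `G`-invariant block `b` lies under every block covering `b`.** -/
theorem exists_over_of_invariant (hM : IsPModular p M) (hb : IsPBlock M b)
    (hinv : IsInvariantSet N b) {χ : IrrCharacter G} (hχ : χ ∈ overSet N b)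
    (θ : IrrCharacter N) (hθ : θ ∈ b) :
    ∃ χ' ∈ blockOf M (χ : G → ℂ),
      classInner (fun n : N => (χ' : G → ℂ) n) (θ : N → ℂ) ≠ 0 := by
  classical
  have hMp : M.IsPrime := hM.2.1.isPrime
  haveI : Fintype (IrrCharacter G) := Fintype.ofFinite _
  haveI : Fintype (IrrCharacter N) := Fintype.ofFinite _
  obtain ⟨y, hy, hnot⟩ := exists_pairN_not_memLocalIdeal hM hb hinv hθ hχ
  by_contra hno
  push Not at hno
  apply hnot
  set eB : G → ℂ := blockCoeff (blockOf M (χ : G → ℂ)) with heB
  set A := Cfsg.Agent.Lib.Helper22.conjSet hN ({θ} : Set (IrrCharacter N)) with hA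
  have hinvA : IsInvariantSet N A := isInvariantSet_conjSet _
  have hθA : θ ∈ A := Cfsg.Agent.Lib.Helper22.subset_conjSet hN _ rfl
  set E : G → ℂ := subgroupBlockCoeff N A with hE
  have hEcl : IsClassFunction G E := subgroupBlockCoeff_isClassFunction N hinvA
  -- `e_B E = 0`
  have hzero : conv eB E = 0 := by
    apply eq_of_omega_eq (conv_isClassFunction (blockCoeff_isClassFunction _) hEcl)
      (fun _ _ => rfl)
    intro ψ
    rw [omega_conv ψ.2 eB E hEcl, omega_zero, heB, omega_blockCoeff]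
    by_cases hψ : ψ ∈ blockOf M (χ : G → ℂ)
    · have hnov : ψ ∉ overSet N A := by
        rintro ⟨θ', ⟨g, θ'', hθ'', rfl⟩, hne⟩
        rw [Set.mem_singleton_iff] at hθ''
        subst hθ''
        apply hne
        have := Cfsg.Agent.Lib.Helper85.classInner_restrict_conjFun hN
          (isClassFunction_irr ψ) (θ'' : N → ℂ) g
        rw [show ((Cfsg.Agent.Lib.Helper22.irrConj hN g θ'' : IrrCharacter N) : N → ℂ)
          = Cfsg.Agent.Lib.Helper85.conjFun hN (θ'' : N → ℂ) g from rfl, this]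
        exact hno ψ hψ
      rw [omega_subgroupBlockCoeff_of_not_over N hnov, mul_zero]
    · rw [if_neg hψ, zero_mul]
  -- restrict `E e_B y = 0` to `N`
  have hInvB : IsNInv N M eB :=
    isNInv_of_isClassFunction (blockCoeff_isClassFunction _) (memLocalRing_blockCoeff_blockOf hMp χ)
  have hInv := hInvB.conv hMp hy
  set u : N → ℂ := fun n : N => conv eB y (n : G) with hu
  have hucl : IsClassFunction N u := fun g h => hInv.2 (h : G) h.2 (g : G)
  have h0 : conv (blockCoeff A) u = 0 := by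
    funext n
    rw [← conv_ext0_apply_coe (blockCoeff A) (conv eB y) n, ← subgroupBlockCoeff_eq_ext0,
      ← conv_assoc', conv_comm_of_isClassFunction eB E hEcl |>.symm, hzero]
    simp [conv]
  have h1 := omega_conv θ.2 (blockCoeff A) u hucl
  rw [h0, omega_zero, omega_blockCoeff, if_pos hθA, one_mul] at h1
  show MemLocalIdeal M (omega u (θ : N → ℂ))
  rw [← h1]
  exact memLocalIdeal_zero hMp

/-- **Knörr's theorem for a `G`-invariant block.** If `B` covers the `G`-invariant block `b` of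
`N`, then some defect group `P` of `B` has `P ∩ N` a defect group of `b`. -/
theorem knorr_invariant (hM : IsPModular p M) (hb : IsPBlock M b)
    (hinv : IsInvariantSet N b) {χ : IrrCharacter G} (hχ : χ ∈ overSet N b) :
    ∃ P : Subgroup G, IsDefectGroup p M (blockOf M (χ : G → ℂ)) P ∧
      IsDefectGroup p M b ((P ⊓ N).subgroupOf N) := by
  classical
  have hMp : M.IsPrime := hM.2.1.isPrime
  haveI : Fintype (IrrCharacter G) := Fintype.ofFinite _
  haveI : Fintype (IrrCharacter N) := Fintype.ofFinite _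
  obtain ⟨θ₀, hθ₀⟩ := IsPBlock.nonempty hMp hb
  obtain ⟨y, hy, hnot⟩ := exists_pairN_not_memLocalIdeal hM hb hinv hθ₀ hχ
  set eB : G → ℂ := blockCoeff (blockOf M (χ : G → ℂ)) with heB
  have hRB : ∀ g, MemLocalRing M (eB g) := memLocalRing_blockCoeff_blockOf hMp χ
  have hInvB : IsNInv N M eB := isNInv_of_isClassFunction (blockCoeff_isClassFunction _) hRB
  have hInv := hInvB.conv hMp hy
  set u : N → ℂ := fun n : N => conv eB y (n : G) with hu
  have hucl : IsClassFunction N u := fun g h => hInv.2 (h : G) h.2 (g : G)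
  have huR : ∀ n, MemLocalRing M (u n) := fun n => hInv.1 n
  -- a class of `N` where both `e_B y` and the central character of `b` are units
  have hex : ∃ n₀ : N, ¬ MemLocalIdeal M (u n₀) ∧
      ¬ MemLocalIdeal M (centralChar (θ₀ : N → ℂ) n₀) := by
    by_contra hcon
    push Not at hcon
    apply hnot
    show MemLocalIdeal M (omega u (θ₀ : N → ℂ))
    rw [omega_eq_sum_classes hucl (isClassFunction_irr θ₀)]
    apply memLocalIdeal_sum hMp
    intro K _
    by_cases hK : MemLocalIdeal M (u (Quotient.out K))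
    · exact memLocalIdeal_mul_right hMp hK (memLocalRing_centralChar hMp θ₀ _)
    · exact memLocalIdeal_mul_left hMp (huR _) (hcon _ hK)
  obtain ⟨n₀, hn₀u, hn₀c⟩ := hex
  -- min-max in `N`
  obtain ⟨θ₁, rfl⟩ := hb
  obtain ⟨g_b, hg_b⟩ := exists_isDefectClass hMp θ₁
  obtain ⟨D₀⟩ : Nonempty (Sylow p (Subgroup.centralizer ({g_b} : Set N))) := inferInstance
  obtain ⟨t, Q, hQ⟩ := (Cfsg.Agent.S0911.result p M hM (blockOf M (θ₁ : N → ℂ)) ⟨θ₁, rfl⟩ g_b
    hg_b D₀ n₀).2 ⟨θ₀, hθ₀, hn₀c⟩
  set Db : Subgroup N := ((D₀ : Subgroup (Subgroup.centralizer ({g_b} : Set N))).map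
    (Subgroup.centralizer ({g_b} : Set N)).subtype).map (MulAut.conj t).toMonoidHom with hDb
  have hDbdef : IsDefectGroup p M (blockOf M (θ₁ : N → ℂ)) Db :=
    isDefectGroup_conj ⟨g_b, hg_b, D₀, rfl⟩ t
  set QN : Subgroup N := (Q : Subgroup (Subgroup.centralizer ({n₀} : Set N))).map
    (Subgroup.centralizer ({n₀} : Set N)).subtype with hQN
  have hQNp : IsPGroup p QN := Q.isPGroup'.map _
  set Y : Subgroup G := QN.map N.subtype with hY
  have hYp : IsPGroup p Y := hQNp.map _
  have hYN : Y ≤ N := by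
    rintro _ ⟨q, _, rfl⟩
    exact q.2
  -- `n₀` centralizes `Y`
  have hn₀Y : (n₀ : G) ∈ Subgroup.centralizer (Y : Set G) := by
    rw [Subgroup.mem_centralizer_iff]
    rintro _ ⟨q, hq, rfl⟩
    obtain ⟨q', _, rfl⟩ := hq
    have := Subgroup.mem_centralizer_singleton_iff.1 q'.2
    exact congrArg Subtype.val this
  -- fixed points of `Y`
  have hfix := conv_sub_sum_centralizer hM Y hYp (F₁ := eB) (F₂ := y)
    (fun t _ g => blockCoeff_isClassFunction _ g t) (fun t ht g => hy.2 t (hYN ht) g)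
    hRB hy.1 (n₀ : G) hn₀Y
  have hex2 : ∃ g : G, g ∈ Subgroup.centralizer (Y : Set G) ∧ ¬ MemLocalIdeal M (eB g) := by
    by_contra hcon
    push Not at hcon
    apply hn₀u
    have hsum : MemLocalIdeal M (∑ x : G, if x ∈ Subgroup.centralizer (Y : Set G) then
        eB x * y (x⁻¹ * (n₀ : G)) else 0) := by
      apply memLocalIdeal_sum hMp
      intro x _
      split_ifs with hx
      · exact memLocalIdeal_mul_right hMp (hcon x hx) (hy.1 _)
      · exact memLocalIdeal_zero hMp
    have := memLocalIdeal_add hMp hfix hsum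
    rwa [sub_add_cancel] at this
  obtain ⟨g, hgY, hgunit⟩ := hex2
  -- min-max in `G`
  obtain ⟨g_B, hg_B⟩ := exists_isDefectClass hMp χ
  obtain ⟨E₀⟩ : Nonempty (Sylow p (Subgroup.centralizer ({g_B} : Set G))) := inferInstance
  obtain ⟨s, QG, hQG⟩ := (Cfsg.Agent.S0911.result p M hM (blockOf M (χ : G → ℂ)) ⟨χ, rfl⟩ g_B
    hg_B E₀ g).1 (hRB g) hgunit
  have hYle : Y ≤ Subgroup.centralizer ({g} : Set G) := by
    intro q hq
    rw [Subgroup.mem_centralizer_singleton_iff]
    exact Subgroup.mem_centralizer_iff.1 hgY q hq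
  obtain ⟨c, _, hc⟩ := exists_le_conj_sylow (Subgroup.centralizer ({g} : Set G)) Y hYp hYle QG
  set P : Subgroup G := ((((E₀ : Subgroup (Subgroup.centralizer ({g_B} : Set G))).map
    (Subgroup.centralizer ({g_B} : Set G)).subtype).map (MulAut.conj s).toMonoidHom).map
      (MulAut.conj c).toMonoidHom) with hP
  have hPdef : IsDefectGroup p M (blockOf M (χ : G → ℂ)) P :=
    isDefectGroup_conj (isDefectGroup_conj ⟨g_B, hg_B, E₀, rfl⟩ s) c
  have hYP : Y ≤ P := hc.trans (Subgroup.map_mono hQG)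
  refine ⟨P, hPdef, ?_⟩
  -- compare with helper82's containment
  obtain ⟨Q', hQ', hle⟩ := exists_defectGroup_ge_inf N hM ⟨θ₁, rfl⟩ hinv hχ hPdef
  have h1 : Db ≤ (P ⊓ N).subgroupOf N := by
    intro d hd
    rw [Subgroup.mem_subgroupOf]
    refine ⟨hYP ?_, d.2⟩
    exact ⟨d, hQ hd, rfl⟩
  have hcard : Nat.card Q' = Nat.card Db := by
    rw [Cfsg.Agent.Lib.Helper22.IsDefectGroup.card_eq hM ⟨θ₁, rfl⟩ hQ',
      Cfsg.Agent.Lib.Helper22.IsDefectGroup.card_eq hM ⟨θ₁, rfl⟩ hDbdef]
  have h2 : Db = Q' := Subgroup.eq_of_le_of_card_ge (h1.trans hle) (le_of_eq hcard)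
  have h3 : (P ⊓ N).subgroupOf N = Q' := le_antisymm hle (h2 ▸ h1)
  rw [h3]
  exact hQ'

end Inv

end Cfsg.Agent.Lib.Helper21
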