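import Mathlib
import Cfsg.Prelude.Def_Blocks
import Cfsg.Agent.Lib.Helper81.BPTransport

/-!
# Transport of defect groups along a group isomorphism
-/

set_option autoImplicit false
set_option linter.unusedSectionVars false

namespace Cfsg.Agent.Lib.Helper21

open Cfsg
open Cfsg.Agent.Lib.Helper82 Cfsg.Agent.Lib.Helper83 Cfsg.Agent.Lib.Helper81

universe u

/-- A `p`-subgroup of `K` at least as large as a Sylow `p`-subgroup of `K` is one. -/
theorem sylow_of_le_of_card' {X : Type*} [Group X] [Finite X] {p : ℕ} [Fact p.Prime]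
    (K T : Subgroup X) (hT : IsPGroup p T) (hTK : T ≤ K) (Q' : Sylow p K)
    (hcard : Nat.card (Q' : Subgroup K) ≤ Nat.card T) :
    ∃ Q'' : Sylow p K, T = (Q'' : Subgroup K).map K.subtype := by
  obtain ⟨Q'', hQ''⟩ := (hT.comap_subtype (K := K)).exists_le_sylow
  refine ⟨Q'', ?_⟩
  have h1 : Nat.card (T.subgroupOf K) = Nat.card T := by
    have := Subgroup.card_map_of_injective (K := T.subgroupOf K) (Subgroup.subtype_injective K)
    rw [← this, Subgroup.subgroupOf_map_subtype, inf_of_le_left hTK]
  have h2 : Nat.card (Q'' : Subgroup K) = Nat.card (Q' : Subgroup K) := by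
    rw [Sylow.card_eq_multiplicity, Sylow.card_eq_multiplicity]
  have h3 : T.subgroupOf K = (Q'' : Subgroup K) := by
    apply Subgroup.eq_of_le_of_card_ge hQ''
    have h1' : Nat.card (Subgroup.comap K.subtype T) = Nat.card T := h1
    rw [h1', h2]
    exact hcard
  rw [← h3, Subgroup.subgroupOf_map_subtype, inf_of_le_left hTK]

variable {H H' : Type u} [Group H] [Group H'] [Finite H] [Finite H']

/-- Centralizers of corresponding elements have the same order. -/
theorem card_centralizer_map (φ : H ≃* H') (h : H) :
    Nat.card (Subgroup.centralizer ({φ h} : Set H')) = Nat.card (Subgroup.centralizer ({h} : Set H)) := by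
  have h1 := Subgroup.card_mul_index (Subgroup.centralizer ({φ h} : Set H'))
  have h2 := Subgroup.card_mul_index (Subgroup.centralizer ({h} : Set H))
  have h3 : Nat.card H = Nat.card H' := Nat.card_congr φ.toEquiv
  rw [index_centralizer_map φ h, ← h3, ← h2] at h1
  exact Nat.eq_of_mul_eq_mul_right (Nat.pos_of_ne_zero Subgroup.index_ne_zero_of_finite) h1

/-- **Transport of defect groups**: the pull-back of a defect group of a block along an
isomorphism is a defect group of the pulled-back block. -/
theorem isDefectGroup_irrComp {p : ℕ} [Fact p.Prime] {M : Ideal AlgInt} (φ : H ≃* H')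
    (θ₀ : IrrCharacter H') {D : Subgroup H'}
    (hD : IsDefectGroup p M (blockOf M (θ₀ : H' → ℂ)) D) :
    IsDefectGroup p M (blockOf M (irrComp φ θ₀ : H → ℂ)) (D.comap φ.toMonoidHom) := by
  classical
  have := Fintype.ofFinite H
  have := Fintype.ofFinite H'
  have := Fintype.ofFinite (IrrCharacter H)
  have := Fintype.ofFinite (IrrCharacter H')
  obtain ⟨g, hg, Q, rfl⟩ := hD
  have hφh : φ (φ.symm g) = g := φ.apply_symm_apply g
  have hbc : blockCoeff (blockOf M (irrComp φ θ₀ : H → ℂ)) (φ.symm g)
      = blockCoeff (blockOf M (θ₀ : H' → ℂ)) g := by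
    rw [blockCoeff_blockOf_irrComp, hφh]
  refine ⟨φ.symm g, ⟨?_, ?_, ?_⟩, ?_⟩
  · rw [hbc]; exact hg.1
  · rw [hbc]; exact hg.2.1
  · intro χ hχ
    have hχ' := (mem_blockOf_irrComp_iff M φ θ₀ χ).1 hχ
    have := hg.2.2 _ hχ'
    have hcc : centralChar (irrComp φ.symm χ : H' → ℂ) g
        = centralChar (χ : H → ℂ) (φ.symm g) := centralChar_comp φ.symm (χ : H → ℂ) g
    rw [hcc] at this
    exact this
  · set T : Subgroup H := ((Q : Subgroup (Subgroup.centralizer ({g} : Set H'))).map
      (Subgroup.centralizer ({g} : Set H')).subtype).comap φ.toMonoidHom with hT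
    have hTp : IsPGroup p T :=
      (Q.isPGroup'.map _).comap_of_injective φ.toMonoidHom φ.injective
    have hTK : T ≤ Subgroup.centralizer ({φ.symm g} : Set H) := by
      intro x hx
      rw [hT, Subgroup.mem_comap] at hx
      have hx' : φ x ∈ Subgroup.centralizer ({g} : Set H') := Subgroup.map_subtype_le _ hx
      rw [Subgroup.mem_centralizer_singleton_iff] at hx' ⊢
      apply φ.injective
      rw [map_mul, map_mul, hφh]
      exact hx'
    obtain Q' : Sylow p (Subgroup.centralizer ({φ.symm g} : Set H)) := default
    have hcard : Nat.card (Q' : Subgroup (Subgroup.centralizer ({φ.symm g} : Set H)))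
        ≤ Nat.card T := by
      have e1 : Nat.card T = Nat.card (Q : Subgroup (Subgroup.centralizer ({g} : Set H'))) := by
        rw [hT, Subgroup.comap_equiv_eq_map_symm',
          Subgroup.card_map_of_injective φ.symm.injective,
          Subgroup.card_map_of_injective (Subgroup.subtype_injective _)]
      rw [e1, Sylow.card_eq_multiplicity, Sylow.card_eq_multiplicity]
      have := card_centralizer_map φ (φ.symm g)
      rw [hφh] at this
      rw [this]
    exact sylow_of_le_of_card' _ T hTp hTK Q' hcard

end Cfsg.Agent.Lib.Helper21
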