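import Mathlib
import Cfsg.Prelude.Def_Characters

set_option autoImplicit false

namespace Cfsg.Agent.Lib.Helper21

open Cfsg

/-- On a one-dimensional coordinate space, the trace is multiplicative. -/
theorem trace_mul_fin_one (f g : (Fin 1 → ℂ) →ₗ[ℂ] (Fin 1 → ℂ)) :
    LinearMap.trace ℂ (Fin 1 → ℂ) (f * g) =
      LinearMap.trace ℂ (Fin 1 → ℂ) f * LinearMap.trace ℂ (Fin 1 → ℂ) g := by
  rw [LinearMap.trace_eq_matrix_trace ℂ (Pi.basisFun ℂ (Fin 1)),
    LinearMap.trace_eq_matrix_trace ℂ (Pi.basisFun ℂ (Fin 1)) f,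
    LinearMap.trace_eq_matrix_trace ℂ (Pi.basisFun ℂ (Fin 1)) g,
    LinearMap.toMatrix_mul]
  simp [Matrix.trace, Matrix.mul_apply]

/-- A character of degree one comes from a representation on `Fin 1 → ℂ`. -/
theorem exists_rep_fin_one {G : Type*} [Group G] {lam : G → ℂ}
    (h : IsCharacter G lam) (h1 : lam 1 = 1) :
    ∃ ρ : Representation ℂ G (Fin 1 → ℂ), ρ.character = lam := by
  obtain ⟨n, ρ, hρ⟩ := h
  have hn : (n : ℂ) = 1 := by
    rw [← h1, ← hρ, Representation.char_one]
    simp
  have hn' : n = 1 := by exact_mod_cast hn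
  subst hn'
  exact ⟨ρ, hρ⟩

/-- A character of degree one is multiplicative. -/
theorem linear_char_mul {G : Type*} [Group G] {lam : G → ℂ}
    (h : IsCharacter G lam) (h1 : lam 1 = 1) (x y : G) : lam (x * y) = lam x * lam y := by
  obtain ⟨ρ, hρ⟩ := exists_rep_fin_one h h1
  rw [← hρ]
  simp only [Representation.character, map_mul]
  exact trace_mul_fin_one _ _

/-- A character of degree one, as a monoid homomorphism. -/
noncomputable def linearCharHom {G : Type*} [Group G] {lam : G → ℂ}
    (h : IsCharacter G lam) (h1 : lam 1 = 1) : G →* ℂ where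
  toFun := lam
  map_one' := h1
  map_mul' := linear_char_mul h h1

@[simp] theorem linearCharHom_apply {G : Type*} [Group G] {lam : G → ℂ}
    (h : IsCharacter G lam) (h1 : lam 1 = 1) (x : G) : linearCharHom h h1 x = lam x := rfl

theorem linear_char_ne_zero {G : Type*} [Group G] {lam : G → ℂ}
    (h : IsCharacter G lam) (h1 : lam 1 = 1) (x : G) : lam x ≠ 0 := by
  intro hx
  have := linear_char_mul h h1 x x⁻¹
  rw [mul_inv_cancel, h1, hx, zero_mul] at this
  exact one_ne_zero this

theorem linear_char_inv {G : Type*} [Group G] {lam : G → ℂ}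
    (h : IsCharacter G lam) (h1 : lam 1 = 1) (x : G) : lam x⁻¹ = (lam x)⁻¹ := by
  have := linear_char_mul h h1 x x⁻¹
  rw [mul_inv_cancel, h1] at this
  exact eq_inv_of_mul_eq_one_right this.symm

end Cfsg.Agent.Lib.Helper21
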