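import Mathlib
import Cfsg.Agent.Lib.Helper21.OsimaApps
import Cfsg.Agent.Lib.Helper21.InducedBlock
import Cfsg.Agent.Lib.Helper34.Induction
import Cfsg.Agent.Lib.Helper85.CliffordCorr

/-!
# Central characters and induction

`omega f (indFun T ψ) = omega (f|_T) ψ` for class functions `f` on `G`; the central character of an
induced function is the induced central character; local integrality of an induced class function.
-/

set_option autoImplicit false
set_option linter.unusedSectionVars false

namespace Cfsg.Agent.Lib.Helper21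

open Cfsg
open scoped ComplexConjugate
open Cfsg.Agent.Lib.Helper82 Cfsg.Agent.Lib.Helper83

universe u
variable {G : Type u} [Group G] [Fintype G] (T : Subgroup G) [Fintype T]

theorem card_eq_card_mul_index_complex :
    (Nat.card G : ℂ) = (Nat.card T : ℂ) * (T.index : ℂ) := by
  rw [← Nat.cast_mul, Subgroup.card_mul_index]

theorem index_ne_zero_complex : (T.index : ℂ) ≠ 0 := by
  have : T.index ≠ 0 := Subgroup.index_ne_zero_of_finite
  exact_mod_cast this

/-- Frobenius reciprocity in bilinear form. -/
theorem sum_mul_indFun (f : G → ℂ) (hf : IsClassFunction G f) (ψ : T → ℂ) :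
    ∑ x : G, f x * indFun T ψ x = (T.index : ℂ) * ∑ t : T, f t * ψ t := by
  have hF : IsClassFunction G (fun x => conj (f x)) := by
    intro g h
    change conj (f (h * g * h⁻¹)) = conj (f g)
    rw [hf g h]
  have h := Cfsg.Agent.Lib.Helper34.classInner_indFun_left T ψ (fun x => conj (f x)) hF
  rw [Cfsg.Agent.Lib.Helper34.classInner_def, Cfsg.Agent.Lib.Helper34.classInner_def] at h
  simp only [Complex.conj_conj] at h
  have hT : (Nat.card T : ℂ) ≠ 0 := by
    have : Nat.card T ≠ 0 := Nat.card_pos.ne'
    exact_mod_cast this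
  have hG : (Nat.card G : ℂ) ≠ 0 := by
    have : Nat.card G ≠ 0 := Nat.card_pos.ne'
    exact_mod_cast this
  have h1 : ∑ x : G, f x * indFun T ψ x = ∑ x : G, indFun T ψ x * f x :=
    Finset.sum_congr rfl fun x _ => mul_comm _ _
  have h2 : ∑ t : T, f t * ψ t = ∑ t : T, ψ t * f t :=
    Finset.sum_congr rfl fun x _ => mul_comm _ _
  rw [h1, h2]
  have h3 : ∑ x : G, indFun T ψ x * f x = (Nat.card G : ℂ) * ((Nat.card T : ℂ)⁻¹ * ∑ t : T, ψ t * f t) := by
    rw [← h]
    field_simp
  rw [h3, card_eq_card_mul_index_complex T]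
  field_simp

theorem omega_indFun_right (f : G → ℂ) (hf : IsClassFunction G f) (ψ : T → ℂ) :
    omega f (indFun T ψ) = omega (fun t : T => f t) ψ := by
  rw [omega, omega, sum_mul_indFun T f hf ψ, Cfsg.Agent.Lib.Helper85.indFun_apply_one]
  exact mul_div_mul_left _ _ (index_ne_zero_complex T)

/-- The central character of an induced function is the induced central character. -/
theorem centralChar_indFun (ψ : T → ℂ) (g : G) :
    centralChar (indFun T ψ) g = inducedCentralChar T ψ g := by
  classical
  rw [← omega_indicator (Cfsg.Agent.Lib.Helper34.indFun_isClassFunction T ψ) g,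
    omega_indFun_right T _ (isClassFunction_indicator g), inducedCentralChar_eq_omega]
  congr 1
  funext t
  rw [classInd_apply]

theorem sum_indFun_mul (f : T → ℂ) (χ : G → ℂ) (hχ : IsClassFunction G χ) :
    ∑ x : G, indFun T f x * χ x = (T.index : ℂ) * ∑ t : T, f t * χ t := by
  have h := sum_mul_indFun T χ hχ f
  have h1 : ∑ x : G, indFun T f x * χ x = ∑ x : G, χ x * indFun T f x :=
    Finset.sum_congr rfl fun x _ => mul_comm _ _
  have h2 : ∑ t : T, f t * χ t = ∑ t : T, χ t * f t :=
    Finset.sum_congr rfl fun x _ => mul_comm _ _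
  rw [h1, h2, h]

/-- `omega` of an induced class function against an induced character. -/
theorem omega_indFun_indFun (f : T → ℂ) (ψ : T → ℂ) :
    omega (indFun T f) (indFun T ψ) = (∑ t : T, f t * indFun T ψ t) / ψ 1 := by
  rw [omega, sum_indFun_mul T f _ (Cfsg.Agent.Lib.Helper34.indFun_isClassFunction T ψ),
    Cfsg.Agent.Lib.Helper85.indFun_apply_one]
  exact mul_div_mul_left _ _ (index_ne_zero_complex T)

/-- Summation over a group of a function invariant under right multiplication by a subgroup. -/
theorem sum_eq_card_mul_sum_quotient [Fintype (G ⧸ T)] (F : G → ℂ)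
    (hF : ∀ x : G, ∀ t ∈ T, F (x * t) = F x) :
    ∑ x : G, F x = (Nat.card T : ℂ) * ∑ q : G ⧸ T, F q.out := by
  classical
  let e : (G ⧸ T) × T ≃ G :=
    { toFun := fun qt => qt.1.out * (qt.2 : G)
      invFun := fun x => ((x : G ⧸ T), ⟨(x : G ⧸ T).out⁻¹ * x, by
        have := QuotientGroup.mk_out_eq_mul T x
        obtain ⟨h, hh⟩ := this
        rw [hh]
        simp⟩)
      left_inv := by
        rintro ⟨q, t⟩
        have h1 : ((q.out * (t : G) : G) : G ⧸ T) = q := by
          rw [QuotientGroup.mk_mul_of_mem _ t.2, QuotientGroup.out_eq']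
        apply Prod.ext
        · exact h1
        · apply Subtype.ext
          change ((q.out * (t : G) : G) : G ⧸ T).out⁻¹ * (q.out * (t : G)) = t
          rw [h1]
          group
      right_inv := by
        intro x
        change (x : G ⧸ T).out * ((x : G ⧸ T).out⁻¹ * x) = x
        group }
  rw [← Equiv.sum_comp e, Fintype.sum_prod_type, Finset.mul_sum]
  apply Finset.sum_congr rfl
  intro q _
  have : ∀ t : T, F (e (q, t)) = F q.out := fun t => hF _ _ t.2
  simp only [this, Finset.sum_const, Finset.card_univ, nsmul_eq_mul, Nat.card_eq_fintype_card]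

theorem extendByZero_conj_of_classFunction (f : T → ℂ) (hf : IsClassFunction T f) (y : G) (t : G)
    (ht : t ∈ T) : extendByZero T f (t⁻¹ * y * t) = extendByZero T f y := by
  by_cases hy : y ∈ T
  · have h1 : t⁻¹ * y * t ∈ T := T.mul_mem (T.mul_mem (T.inv_mem ht) hy) ht
    rw [Cfsg.Agent.Lib.Helper34.extendByZero_apply_mem T f h1,
      Cfsg.Agent.Lib.Helper34.extendByZero_apply_mem T f hy]
    have := hf ⟨y, hy⟩ ⟨t⁻¹, T.inv_mem ht⟩
    rw [← this]
    congr 1
    apply Subtype.ext
    simp
  · have h1 : t⁻¹ * y * t ∉ T := by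
      intro h
      apply hy
      have : y = t * (t⁻¹ * y * t) * t⁻¹ := by group
      rw [this]
      exact T.mul_mem (T.mul_mem ht h) (T.inv_mem ht)
    rw [Cfsg.Agent.Lib.Helper34.extendByZero_apply_not_mem T f h1,
      Cfsg.Agent.Lib.Helper34.extendByZero_apply_not_mem T f hy]

/-- An induced class function with local-integer values has local-integer values. -/
theorem memLocalRing_indFun {M : Ideal AlgInt} (hM : M.IsPrime) (f : T → ℂ)
    (hf : IsClassFunction T f) (hfR : ∀ t, MemLocalRing M (f t)) (g : G) :
    MemLocalRing M (indFun T f g) := by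
  classical
  have : Fintype (G ⧸ T) := Fintype.ofFinite _
  rw [Cfsg.Agent.Lib.Helper34.indFun_apply,
    sum_eq_card_mul_sum_quotient T (fun x => extendByZero T f (x⁻¹ * g * x))]
  · have hT : (Nat.card T : ℂ) ≠ 0 := by
      have : Nat.card T ≠ 0 := Nat.card_pos.ne'
      exact_mod_cast this
    rw [← mul_assoc, inv_mul_cancel₀ hT, one_mul]
    apply memLocalRing_sum hM
    intro q _
    by_cases hq : q.out⁻¹ * g * q.out ∈ T
    · rw [Cfsg.Agent.Lib.Helper34.extendByZero_apply_mem T f hq]
      exact hfR _
    · rw [Cfsg.Agent.Lib.Helper34.extendByZero_apply_not_mem T f hq]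
      exact memLocalRing_zero hM
  · intro x t ht
    have : (x * t)⁻¹ * g * (x * t) = t⁻¹ * (x⁻¹ * g * x) * t := by group
    change extendByZero T f ((x * t)⁻¹ * g * (x * t)) = extendByZero T f (x⁻¹ * g * x)
    rw [this, extendByZero_conj_of_classFunction T f hf _ t ht]

end Cfsg.Agent.Lib.Helper21
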