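import Mathlib
import Cfsg.Agent.Lib.Helper21.CliffordMid
import Cfsg.Agent.Lib.Helper21.OmegaInd
import Cfsg.Agent.Lib.Helper22.Covering

/-!
# The Fong–Reynolds correspondence (character form)

`N ⊴ G`, `b` a block of `N`, `T` a subgroup containing `N` that stabilizes `b` and contains every
element `g` for which `b^g` meets `b`.
-/

set_option autoImplicit false
set_option linter.unusedSectionVars false

namespace Cfsg.Agent.Lib.Helper21

open Cfsg
open scoped ComplexConjugate
open Cfsg.Agent.Lib.Helper82 Cfsg.Agent.Lib.Helper83 Cfsg.Agent.Lib.Helper84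
open Cfsg.Agent.Lib.Helper22 (irrConj irrConj_irrConj irrConj_one)

universe u
variable {G : Type u} [Group G] [Fintype G] (N T : Subgroup G) [hN : N.Normal]
  [Fintype N] [Fintype T] (hNT : N ≤ T) (b : Set (IrrCharacter N))

/-- `ξ` (a function on `T`) lies over the set `b` of irreducible characters of `N`. -/
def OverBlock (ξ : T → ℂ) : Prop :=
  ∃ θ ∈ b, classInner (resFun N T hNT ξ) (θ : N → ℂ) ≠ 0

/-- `T` stabilizes `b`. -/
def StabBlock : Prop := ∀ t ∈ T, ∀ θ ∈ b, irrConj hN t θ ∈ b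

/-- Every element conjugating a member of `b` into `b` lies in `T`. -/
def MeetBlock : Prop := ∀ g : G, ∀ θ ∈ b, irrConj hN g θ ∈ b → g ∈ T

theorem irrConj_coe (g : G) (θ : IrrCharacter N) :
    (irrConj hN g θ : N → ℂ) = conjFun N g (θ : N → ℂ) := rfl

variable {N T b}

theorem constituent_mem_of_over (hstab : StabBlock N T b) {ξ : T → ℂ} (hξ : IsIrrCharacter T ξ)
    (hov : OverBlock N T hNT b ξ) (φ : IrrCharacter N)
    (hφ : classInner (resFun N T hNT ξ) (φ : N → ℂ) ≠ 0) : φ ∈ b := by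
  obtain ⟨θ, hθ, h1⟩ := hov
  obtain ⟨t, ht, htθ⟩ := exists_conj_mem_of_constituents N T hNT hξ θ.2 φ.2 h1 hφ
  have : irrConj hN t θ = φ := Subtype.ext htθ
  rw [← this]
  exact hstab t ht θ hθ

theorem inertia_mem (hmeet : MeetBlock N T b) {θ : IrrCharacter N} (hθ : θ ∈ b) (g : G)
    (hg : conjFun N g (θ : N → ℂ) = (θ : N → ℂ)) : g ∈ T := by
  apply hmeet g θ hθ
  have : irrConj hN g θ = θ := Subtype.ext hg
  rw [this]
  exact hθ

theorem isIrrCharacter_indFun_of_over (hmeet : MeetBlock N T b) {ξ : T → ℂ}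
    (hξ : IsIrrCharacter T ξ) (hov : OverBlock N T hNT b ξ) : IsIrrCharacter G (indFun T ξ) := by
  obtain ⟨θ, hθ, h1⟩ := hov
  exact isIrrCharacter_indFun_mid N T hNT θ.2 (inertia_mem hmeet hθ) hξ h1

/-- Induction is injective on the irreducible characters of `T` lying over `b`. -/
theorem indFun_injective_of_over (hmeet : MeetBlock N T b) {ψ₁ ψ₂ : T → ℂ}
    (h₁ : IsIrrCharacter T ψ₁) (h₂ : IsIrrCharacter T ψ₂) (o₁ : OverBlock N T hNT b ψ₁)
    (o₂ : OverBlock N T hNT b ψ₂) (heq : indFun T ψ₁ = indFun T ψ₂) : ψ₁ = ψ₂ := by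
  obtain ⟨θ₁, hθ₁, c₁⟩ := o₁
  obtain ⟨θ₂, hθ₂, c₂⟩ := o₂
  have hχ : IsIrrCharacter G (indFun T ψ₁) :=
    isIrrCharacter_indFun_mid N T hNT θ₁.2 (inertia_mem hmeet hθ₁) h₁ c₁
  have m₁ := classInner_indFun_mid N T hNT θ₁.2 (inertia_mem hmeet hθ₁) h₁ c₁
  have m₂ := classInner_indFun_mid N T hNT θ₂.2 (inertia_mem hmeet hθ₂) h₂ c₂
  rw [← heq] at m₂
  obtain ⟨g, hg⟩ := clifford_exists_conj N hχ θ₁.2 θ₂.2 (by rw [m₁]; exact c₁)
    (by rw [m₂]; exact c₂)
  have hgT : g ∈ T := by
    apply hmeet g θ₁ hθ₁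
    have : irrConj hN g θ₁ = θ₂ := Subtype.ext hg
    rw [this]
    exact hθ₂
  have hψcl : IsClassFunction T ψ₁ := char_isClassFunction (isCharacter_of_irr h₁)
  have c₁' : classInner (resFun N T hNT ψ₁) (θ₂ : N → ℂ) ≠ 0 := by
    rw [← hg, ← conjFun_resFun_of_mem N T hNT hψcl hgT, classInner_conjFun_conjFun]
    exact c₁
  exact indFun_mid_injective N T hNT θ₂.2 (inertia_mem hmeet hθ₂) h₁ h₂ c₁' c₂ heq

/-- A nonzero character has an irreducible constituent. -/
theorem exists_constituent {K : Type u} [Group K] [Fintype K] {A : K → ℂ} (hA : IsCharacter K A)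
    (h1 : A 1 ≠ 0) : ∃ θ : IrrCharacter K, classInner A (θ : K → ℂ) ≠ 0 := by
  classical
  have : Fintype (IrrCharacter K) := Fintype.ofFinite _
  by_contra hcon
  push Not at hcon
  apply h1
  have hdec := char_eq_sum_irrMult hA
  rw [hdec]
  simp only [Finset.sum_apply, Pi.smul_apply, smul_eq_mul]
  apply Finset.sum_eq_zero
  intro θ _
  rw [irrMult_cast hA, hcon θ, zero_mul]


/-! ### The idempotent of `b` as a class function on `T` -/

theorem blockCoeff_conj_of_stab (hstab : StabBlock N T b) (g : G) (hg : g ∈ T) (n : N) :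
    blockCoeff b (⟨g * n * g⁻¹, hN.conj_mem n n.2 g⟩ : N) = blockCoeff b n := by
  unfold blockCoeff
  congr 1
  apply finsum_mem_eq_of_bijOn (irrConj hN g)
  · refine ⟨fun ψ hψ => hstab g hg ψ hψ, ?_, ?_⟩
    · intro ψ _ ψ' _ h
      have := congrArg (irrConj hN g⁻¹) h
      rwa [irrConj_irrConj, irrConj_irrConj, mul_inv_cancel, irrConj_one, irrConj_one] at this
    · intro ψ hψ
      refine ⟨irrConj hN g⁻¹ ψ, hstab g⁻¹ (T.inv_mem hg) ψ hψ, ?_⟩
      rw [irrConj_irrConj, inv_mul_cancel, irrConj_one]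
  · intro ψ _
    rw [Cfsg.Agent.Lib.Helper22.irrConj_apply, Cfsg.Agent.Lib.Helper22.irrConj_apply]
    congr 2
    apply congrArg
    apply Subtype.ext
    simp

variable (N T b)

/-- The idempotent of `b`, extended by zero to `T`. -/
noncomputable def ebFun : T → ℂ :=
  fun t => by classical exact if h : (t : G) ∈ N then blockCoeff b ⟨(t : G), h⟩ else 0

variable {N T b}

theorem ebFun_of_mem {t : T} (h : (t : G) ∈ N) : ebFun N T b t = blockCoeff b ⟨(t : G), h⟩ := by
  unfold ebFun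
  rw [dif_pos h]

theorem ebFun_of_not_mem {t : T} (h : (t : G) ∉ N) : ebFun N T b t = 0 := by
  unfold ebFun
  rw [dif_neg h]

theorem ebFun_isClassFunction (hstab : StabBlock N T b) : IsClassFunction T (ebFun N T b) := by
  intro t s
  by_cases ht : (t : G) ∈ N
  · have h1 : ((s * t * s⁻¹ : T) : G) ∈ N := by
      have := hN.conj_mem (t : G) ht (s : G)
      simpa using this
    rw [ebFun_of_mem h1, ebFun_of_mem ht]
    have := blockCoeff_conj_of_stab hstab (s : G) s.2 ⟨(t : G), ht⟩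
    rw [← this]
    congr 1
  · have h1 : ((s * t * s⁻¹ : T) : G) ∉ N := by
      intro h
      apply ht
      have := hN.conj_mem _ h (s : G)⁻¹
      simpa [mul_assoc] using this
    rw [ebFun_of_not_mem h1, ebFun_of_not_mem ht]

theorem ebFun_memLocalRing {M : Ideal AlgInt} (hM : M.IsPrime) (hb : IsPBlock M b) (t : T) :
    MemLocalRing M (ebFun N T b t) := by
  classical
  have : Fintype (IrrCharacter N) := Fintype.ofFinite _
  by_cases ht : (t : G) ∈ N
  · rw [ebFun_of_mem ht]
    obtain ⟨χ₀, rfl⟩ := hb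
    exact memLocalRing_blockCoeff_blockOf hM χ₀ _
  · rw [ebFun_of_not_mem ht]
    exact memLocalRing_zero hM

theorem sum_ebFun_mul (ξ : T → ℂ) :
    ∑ t : T, ebFun N T b t * ξ t = ∑ n : N, blockCoeff b n * resFun N T hNT ξ n := by
  classical
  symm
  apply Finset.sum_bij_ne_zero (fun (n : N) _ _ => (⟨(n : G), hNT n.2⟩ : T))
  · intro a _ _
    exact Finset.mem_univ _
  · intro a₁ _ _ a₂ _ _ h
    apply Subtype.ext
    exact congrArg (fun t : T => (t : G)) h
  · intro t _ ht
    have htN : (t : G) ∈ N := by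
      by_contra h
      apply ht
      rw [ebFun_of_not_mem h, zero_mul]
    refine ⟨⟨(t : G), htN⟩, Finset.mem_univ _, ?_, rfl⟩
    rw [ebFun_of_mem htN] at ht
    exact ht
  · intro n _ _
    have hn : ((⟨(n : G), hNT n.2⟩ : T) : G) ∈ N := n.2
    rw [ebFun_of_mem hn]
    rfl

/-- The sum of the idempotent of `b` against a character of `N`. -/
theorem sum_blockCoeff_mul_char [Fintype (IrrCharacter N)] [DecidablePred (· ∈ b)] {A : N → ℂ}
    (hA : IsCharacter N A) :
    ∑ n : N, blockCoeff b n * A n =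
      ∑ θ : IrrCharacter N, if θ ∈ b then classInner A (θ : N → ℂ) * (θ : N → ℂ) 1 else 0 := by
  have hdec := char_eq_sum_irrMult hA
  have h1 : ∀ θ : IrrCharacter N, ∑ n : N, blockCoeff b n * (θ : N → ℂ) n =
      if θ ∈ b then (θ : N → ℂ) 1 else 0 := by
    intro θ
    have h := omega_blockCoeff b θ
    have h1 : (θ : N → ℂ) 1 ≠ 0 := IsIrrCharacter.apply_one_ne_zero θ.2
    rw [omega, div_eq_iff h1] at h
    rw [h]
    split_ifs <;> simp
  conv_lhs => rw [hdec]
  simp only [Finset.sum_apply, Pi.smul_apply, smul_eq_mul, Finset.mul_sum]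
  rw [Finset.sum_comm]
  apply Finset.sum_congr rfl
  intro θ _
  have : ∀ n : N, blockCoeff b n * ((irrMult A θ : ℂ) * (θ : N → ℂ) n) =
      (irrMult A θ : ℂ) * (blockCoeff b n * (θ : N → ℂ) n) := fun n => by ring
  simp_rw [this]
  rw [← Finset.mul_sum, h1 θ, irrMult_cast hA]
  split_ifs <;> simp

theorem char_one_eq_sum [Fintype (IrrCharacter N)] {A : N → ℂ} (hA : IsCharacter N A) :
    A 1 = ∑ θ : IrrCharacter N, classInner A (θ : N → ℂ) * (θ : N → ℂ) 1 := by
  have hdec := char_eq_sum_irrMult hA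
  conv_lhs => rw [hdec]
  simp only [Finset.sum_apply, Pi.smul_apply, smul_eq_mul]
  apply Finset.sum_congr rfl
  intro θ _
  rw [irrMult_cast hA]

theorem omega_ebFun_of_over (hstab : StabBlock N T b) {ξ : T → ℂ} (hξ : IsIrrCharacter T ξ)
    (hov : OverBlock N T hNT b ξ) : omega (ebFun N T b) ξ = 1 := by
  classical
  have : Fintype (IrrCharacter N) := Fintype.ofFinite _
  have hA : IsCharacter N (resFun N T hNT ξ) := isCharacter_resFun N T hNT (isCharacter_of_irr hξ)
  have h1 : ξ 1 ≠ 0 := IsIrrCharacter.apply_one_ne_zero hξ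
  rw [omega, div_eq_iff h1, one_mul, sum_ebFun_mul hNT, sum_blockCoeff_mul_char hA]
  have h2 : ξ 1 = resFun N T hNT ξ 1 := rfl
  rw [h2, char_one_eq_sum hA]
  apply Finset.sum_congr rfl
  intro θ _
  by_cases hθ : θ ∈ b
  · rw [if_pos hθ]
  · rw [if_neg hθ]
    by_cases h0 : classInner (resFun N T hNT ξ) (θ : N → ℂ) = 0
    · rw [h0, zero_mul]
    · exact absurd (constituent_mem_of_over hNT hstab hξ hov θ h0) hθ

theorem omega_ebFun_of_not_over {ξ : T → ℂ} (hξ : IsIrrCharacter T ξ)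
    (hov : ¬ OverBlock N T hNT b ξ) : omega (ebFun N T b) ξ = 0 := by
  classical
  have : Fintype (IrrCharacter N) := Fintype.ofFinite _
  have hA : IsCharacter N (resFun N T hNT ξ) := isCharacter_resFun N T hNT (isCharacter_of_irr hξ)
  rw [omega, sum_ebFun_mul hNT, sum_blockCoeff_mul_char hA]
  have : ∑ θ : IrrCharacter N, (if θ ∈ b then
      classInner (resFun N T hNT ξ) (θ : N → ℂ) * (θ : N → ℂ) 1 else 0) = 0 := by
    apply Finset.sum_eq_zero
    intro θ _
    by_cases hθ : θ ∈ b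
    · rw [if_pos hθ]
      have : classInner (resFun N T hNT ξ) (θ : N → ℂ) = 0 := by
        by_contra h0
        exact hov ⟨θ, hθ, h0⟩
      rw [this, zero_mul]
    · rw [if_neg hθ]
  rw [this, zero_div]

/-- **Covering inside `T`**: a character of `T` in the same block as one lying over the `T`-stable
block `b` lies over `b`. -/
theorem over_of_sameBlock {M : Ideal AlgInt} (hM : M.IsPrime) (hb : IsPBlock M b)
    (hstab : StabBlock N T b) {ψ₀ ξ : IrrCharacter T}
    (hs : SameBlock M (ψ₀ : T → ℂ) (ξ : T → ℂ)) (hov : OverBlock N T hNT b (ψ₀ : T → ℂ)) :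
    OverBlock N T hNT b (ξ : T → ℂ) := by
  classical
  have : Fintype (IrrCharacter T) := Fintype.ofFinite _
  by_contra hcon
  have h1 := omega_ebFun_of_over hNT hstab ψ₀.2 hov
  have h0 := omega_ebFun_of_not_over hNT ξ.2 hcon
  have := omega_sub_memLocalIdeal hM (ebFun_isClassFunction hstab)
    (ebFun_memLocalRing hM hb) hs
  rw [h1, h0, sub_zero] at this
  exact not_memLocalIdeal_one hM this


/-! ### The trace argument -/

variable (N T b)

/-- The indicator function of the conjugacy class of `k₀`. -/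
noncomputable def clsInd {K : Type*} [Group K] (k₀ : K) : K → ℂ :=
  haveI := Classical.decPred (IsConj k₀)
  fun k => if IsConj k₀ k then (1 : ℂ) else 0

theorem clsInd_eq {K : Type*} [Group K] (k₀ : K) [DecidablePred (IsConj k₀)] :
    clsInd k₀ = fun k => if IsConj k₀ k then (1 : ℂ) else 0 := by
  unfold clsInd
  funext k
  congr

/-- The class function on `T` attached to the class of `t₀`, cut by the idempotent of `b`. -/
noncomputable def cutFun (t₀ : T) : T → ℂ :=
  conv (clsInd t₀) (ebFun N T b)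

variable {N T b}

theorem cutFun_isClassFunction (hstab : StabBlock N T b) (t₀ : T) :
    IsClassFunction T (cutFun N T b t₀) := by
  classical
  unfold cutFun
  rw [clsInd_eq t₀]
  exact conv_isClassFunction (isClassFunction_indicator t₀) (ebFun_isClassFunction hstab)

theorem cutFun_memLocalRing {M : Ideal AlgInt} (hM : M.IsPrime) (hb : IsPBlock M b) (t₀ t : T) :
    MemLocalRing M (cutFun N T b t₀ t) := by
  classical
  unfold cutFun
  rw [clsInd_eq t₀]
  apply conv_memLocalRing M hM _ (ebFun_memLocalRing hM hb)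
  intro g
  split_ifs
  · exact memLocalRing_one hM
  · exact memLocalRing_zero hM

theorem omega_cutFun (hstab : StabBlock N T b) (t₀ : T) {ξ : T → ℂ} (hξ : IsIrrCharacter T ξ) :
    omega (cutFun N T b t₀) ξ = centralChar ξ t₀ * omega (ebFun N T b) ξ := by
  classical
  unfold cutFun
  rw [clsInd_eq t₀, omega_conv hξ _ _ (ebFun_isClassFunction hstab),
    omega_indicator (char_isClassFunction (isCharacter_of_irr hξ))]

/-- **Key identity.** For `ψ ∈ Irr(T)` over `b`, the central character of `ψ^G` at the induced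
cut function recovers the central character of `ψ`. -/
theorem omega_indFun_cutFun (hstab : StabBlock N T b) (hmeet : MeetBlock N T b)
    (t₀ : T) {ψ : T → ℂ} (hψ : IsIrrCharacter T ψ) (hov : OverBlock N T hNT b ψ) :
    omega (indFun T (cutFun N T b t₀)) (indFun T ψ) = centralChar ψ t₀ := by
  classical
  have : Fintype (IrrCharacter T) := Fintype.ofFinite _
  have hχ : IsIrrCharacter G (indFun T ψ) := isIrrCharacter_indFun_of_over hNT hmeet hψ hov
  have hχc := isCharacter_of_irr hχ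
  have hχcl := char_isClassFunction hχc
  have hA : IsCharacter T (fun t : T => indFun T ψ t) := isCharacter_restrict T hχc
  have h1 : ψ 1 ≠ 0 := IsIrrCharacter.apply_one_ne_zero hψ
  rw [omega_indFun_indFun, div_eq_iff h1]
  have hdec := char_eq_sum_irrMult hA
  have hsum : ∑ t : T, cutFun N T b t₀ t * indFun T ψ t =
      ∑ ξ : IrrCharacter T, classInner (fun t : T => indFun T ψ t) (ξ : T → ℂ) *
        (omega (cutFun N T b t₀) (ξ : T → ℂ) * (ξ : T → ℂ) 1) := by
    have e0 : ∃ m : IrrCharacter T → ℂ,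
        (∀ ξ, m ξ = classInner (fun t : T => indFun T ψ t) (ξ : T → ℂ)) ∧
        ∀ t : T, indFun T ψ t = ∑ ξ : IrrCharacter T, m ξ * (ξ : T → ℂ) t := by
      refine ⟨fun ξ => (irrMult (fun t : T => indFun T ψ t) ξ : ℂ), fun ξ => irrMult_cast hA ξ, ?_⟩
      intro t
      have h := congrFun hdec t
      rw [Finset.sum_apply] at h
      exact h
    obtain ⟨m, hm, e1⟩ := e0
    have hR : ∑ ξ : IrrCharacter T, classInner (fun t : T => indFun T ψ t) (ξ : T → ℂ) *
        (omega (cutFun N T b t₀) (ξ : T → ℂ) * (ξ : T → ℂ) 1) =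
        ∑ ξ : IrrCharacter T, m ξ * (omega (cutFun N T b t₀) (ξ : T → ℂ) * (ξ : T → ℂ) 1) :=
      Finset.sum_congr rfl (fun ξ _ => by rw [hm])
    have hL : ∑ t : T, cutFun N T b t₀ t * indFun T ψ t =
        ∑ t : T, ∑ ξ : IrrCharacter T, cutFun N T b t₀ t * (m ξ * (ξ : T → ℂ) t) :=
      Finset.sum_congr rfl (fun t _ => by rw [e1 t, Finset.mul_sum])
    rw [hR, hL, Finset.sum_comm]
    apply Finset.sum_congr rfl
    intro ξ _
    have h1ξ : (ξ : T → ℂ) 1 ≠ 0 := IsIrrCharacter.apply_one_ne_zero ξ.2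
    rw [omega, div_mul_cancel₀ _ h1ξ, Finset.mul_sum]
    apply Finset.sum_congr rfl
    intro t _
    ring
  rw [hsum, Finset.sum_eq_single (⟨ψ, hψ⟩ : IrrCharacter T)]
  · -- the term `ξ = ψ`
    have hm : classInner (fun t : T => indFun T ψ t) ψ = 1 := by
      rw [← classInner_conj_symm,
        ← Cfsg.Agent.Lib.Helper34.classInner_indFun_left T ψ (indFun T ψ) hχcl,
        irr_inner_self ⟨indFun T ψ, hχ⟩, map_one]
    change classInner (fun t : T => indFun T ψ t) ψ * (omega (cutFun N T b t₀) ψ * ψ 1) = _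
    rw [hm, one_mul, omega_cutFun hstab t₀ hψ, omega_ebFun_of_over hNT hstab hψ hov, mul_one]
  · intro ξ _ hne
    by_cases hovξ : OverBlock N T hNT b (ξ : T → ℂ)
    · have hχξ : IsIrrCharacter G (indFun T (ξ : T → ℂ)) :=
        isIrrCharacter_indFun_of_over hNT hmeet ξ.2 hovξ
      have hne' : (⟨indFun T (ξ : T → ℂ), hχξ⟩ : IrrCharacter G) ≠ ⟨indFun T ψ, hχ⟩ := by
        intro h
        apply hne
        apply Subtype.ext
        exact indFun_injective_of_over hNT hmeet ξ.2 hψ hovξ hov (congrArg Subtype.val h)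
      have hm : classInner (fun t : T => indFun T ψ t) (ξ : T → ℂ) = 0 := by
        rw [← classInner_conj_symm,
          ← Cfsg.Agent.Lib.Helper34.classInner_indFun_left T (ξ : T → ℂ) (indFun T ψ) hχcl]
        have := irr_inner_ne hne'
        change classInner (indFun T (ξ : T → ℂ)) (indFun T ψ) = 0 at this
        rw [this, map_zero]
      rw [hm, zero_mul]
    · rw [omega_cutFun hstab t₀ ξ.2, omega_ebFun_of_not_over hNT ξ.2 hovξ, mul_zero, zero_mul,
        mul_zero]
  · intro h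
    exact absurd (Finset.mem_univ _) h

/-- **Injectivity of block induction** on blocks covering `b`: if `ψ₁^G` and `ψ₂^G` lie in the same
block of `G`, then `ψ₁` and `ψ₂` lie in the same block of `T`. -/
theorem sameBlock_of_sameBlock_indFun {M : Ideal AlgInt} (hM : M.IsPrime) (hb : IsPBlock M b)
    (hstab : StabBlock N T b) (hmeet : MeetBlock N T b) {ψ₁ ψ₂ : T → ℂ}
    (h₁ : IsIrrCharacter T ψ₁) (h₂ : IsIrrCharacter T ψ₂) (o₁ : OverBlock N T hNT b ψ₁)
    (o₂ : OverBlock N T hNT b ψ₂) (hs : SameBlock M (indFun T ψ₁) (indFun T ψ₂)) :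
    SameBlock M ψ₁ ψ₂ := by
  classical
  have : Fintype (IrrCharacter G) := Fintype.ofFinite _
  intro t₀
  rw [← omega_indFun_cutFun hNT hstab hmeet t₀ h₁ o₁, ← omega_indFun_cutFun hNT hstab hmeet t₀ h₂ o₂]
  have hχ₁ : IsIrrCharacter G (indFun T ψ₁) := isIrrCharacter_indFun_of_over hNT hmeet h₁ o₁
  have hχ₂ : IsIrrCharacter G (indFun T ψ₂) := isIrrCharacter_indFun_of_over hNT hmeet h₂ o₂
  exact omega_sub_memLocalIdeal hM
    (Cfsg.Agent.Lib.Helper34.indFun_isClassFunction T (cutFun N T b t₀))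
    (memLocalRing_indFun T hM _ (cutFun_isClassFunction hstab t₀) (cutFun_memLocalRing hM hb t₀))
    (χ := ⟨indFun T ψ₁, hχ₁⟩) (ψ := ⟨indFun T ψ₂, hχ₂⟩) hs


/-! ### Block induction from `T` -/

/-- Induced central characters of characters of `T` in the same block are congruent. -/
theorem inducedCentralChar_sub_of_sameBlock {M : Ideal AlgInt} (hM : M.IsPrime)
    {ξ ψ : IrrCharacter T} (hs : SameBlock M (ξ : T → ℂ) (ψ : T → ℂ)) (g : G) :
    MemLocalIdeal M (inducedCentralChar T (ξ : T → ℂ) g - inducedCentralChar T (ψ : T → ℂ) g) := by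
  classical
  have : Fintype (IrrCharacter T) := Fintype.ofFinite _
  rw [inducedCentralChar_eq_omega, inducedCentralChar_eq_omega]
  apply omega_sub_memLocalIdeal hM (classInd_isClassFunction T g) _ hs
  intro t
  rw [classInd_apply]
  split_ifs
  · exact memLocalRing_one hM
  · exact memLocalRing_zero hM

/-- If `ψ₀ ∈ Irr(T)` lies over `b`, its block induces the block of `ψ₀^G`. -/
theorem isInducedBlock_of_over {M : Ideal AlgInt} (hM : M.IsPrime)
    {ψ₀ : IrrCharacter T} (χ₀ : IrrCharacter G) (hχ₀ : (χ₀ : G → ℂ) = indFun T (ψ₀ : T → ℂ)) :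
    IsInducedBlock M T (blockOf M (ψ₀ : T → ℂ)) (blockOf M (χ₀ : G → ℂ)) := by
  refine ⟨isPBlock_blockOf ψ₀, isPBlock_blockOf χ₀, ?_⟩
  intro ξ hξ χ hχ g
  have h1 : SameBlock M (ξ : T → ℂ) (ψ₀ : T → ℂ) := sameBlock_symm (mem_blockOf_iff.1 hξ)
  have h2 := inducedCentralChar_sub_of_sameBlock hM h1 g
  have h3 : MemLocalIdeal M (centralChar (χ₀ : G → ℂ) g - centralChar (χ : G → ℂ) g) :=
    mem_blockOf_iff.1 hχ g
  rw [hχ₀, centralChar_indFun] at h3
  have := memLocalIdeal_add hM h2 h3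
  convert this using 1
  ring

/-- A block `B` induced from a block `B'` of `T` contains every irreducible `ψ^G`, `ψ ∈ B'`. -/
theorem indFun_mem_of_isInducedBlock {M : Ideal AlgInt} (hM : M.IsPrime)
    {B' : Set (IrrCharacter T)} {B : Set (IrrCharacter G)} (hind : IsInducedBlock M T B' B)
    {ψ : IrrCharacter T} (hψ : ψ ∈ B') (χ : IrrCharacter G)
    (hχ : (χ : G → ℂ) = indFun T (ψ : T → ℂ)) : χ ∈ B := by
  obtain ⟨χ₁, hχ₁⟩ := IsPBlock.nonempty hM hind.2.1
  apply IsPBlock.mem_of_sameBlock hM hind.2.1 hχ₁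
  intro g
  have := hind.2.2 ψ hψ χ₁ hχ₁ g
  rw [hχ, centralChar_indFun]
  have h2 := memLocalIdeal_neg this
  convert h2 using 1
  ring

/-- Every irreducible character of `G` in a block covering `b` lies over some member of `b`,
given the covering lemma in the form of `S0964`. -/
theorem exists_indFun_eq_of_over {θ : IrrCharacter N} (hθ : θ ∈ b) (hmeet : MeetBlock N T b)
    (χ : IrrCharacter G) (hχθ : classInner (fun n : N => (χ : G → ℂ) n) (θ : N → ℂ) ≠ 0) :
    ∃ ψ : IrrCharacter T, OverBlock N T hNT b (ψ : T → ℂ) ∧ indFun T (ψ : T → ℂ) = (χ : G → ℂ) := by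
  obtain ⟨ψ, hψ, h1, h2⟩ := exists_indFun_mid_eq N T hNT θ.2 (inertia_mem hmeet hθ) χ.2 hχθ
  exact ⟨⟨ψ, hψ⟩, ⟨θ, hθ, h1⟩, h2⟩

end Cfsg.Agent.Lib.Helper21
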