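import Mathlib
import Cfsg.Agent.Lib.Helper21.FongReynolds
import Cfsg.Agent.S0964

/-!
# The Fong–Reynolds correspondence: main statements

`N ⊴ G`, `b` a block of `N`, `N ≤ T ≤ G` with `T` stabilizing `b` and containing every element
conjugating a member of `b` into `b`.
-/

set_option autoImplicit false
set_option linter.unusedSectionVars false

namespace Cfsg.Agent.Lib.Helper21

open Cfsg
open scoped ComplexConjugate
open Cfsg.Agent.Lib.Helper82 Cfsg.Agent.Lib.Helper83 Cfsg.Agent.Lib.Helper84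
open Cfsg.Agent.Lib.Helper22 (irrConj irrConj_irrConj irrConj_one)

universe u
variable {G : Type u} [Group G] [Fintype G] {N T : Subgroup G} [hN : N.Normal]
  [Fintype N] [Fintype T] (hNT : N ≤ T) {b : Set (IrrCharacter N)}

/-- From the description of `T` as the stabilizer of the block `b`. -/
theorem stabBlock_of_stabilizer
    (hT : ∀ g : G, g ∈ T ↔ ∀ θ ∈ b, ∀ θ' : IrrCharacter N,
      (∀ n : N, (θ' : N → ℂ) n = (θ : N → ℂ) ⟨g * n * g⁻¹, hN.conj_mem n n.2 g⟩) → θ' ∈ b) :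
    StabBlock N T b := by
  intro t ht θ hθ
  exact (hT t).1 ht θ hθ (irrConj hN t θ) (fun n => rfl)

theorem meetBlock_of_stabilizer {M : Ideal AlgInt} (hM : M.IsPrime) (hb : IsPBlock M b)
    (hT : ∀ g : G, g ∈ T ↔ ∀ θ ∈ b, ∀ θ' : IrrCharacter N,
      (∀ n : N, (θ' : N → ℂ) n = (θ : N → ℂ) ⟨g * n * g⁻¹, hN.conj_mem n n.2 g⟩) → θ' ∈ b) :
    MeetBlock N T b := by
  intro g θ hθ hgθ
  rw [hT g]
  intro θ₁ hθ₁ θ' hθ'
  have h1 : θ' = irrConj hN g θ₁ := Subtype.ext (funext hθ')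
  rw [h1]
  apply IsPBlock.mem_of_sameBlock hM hb hgθ
  exact Cfsg.Agent.Lib.Helper22.sameBlock_conjFun hN (IsPBlock.sameBlock hM hb hθ hθ₁) g

/-- **Fong–Reynolds, part (i).** -/
theorem fong_reynolds_induce (p : ℕ) [Fact p.Prime] {M : Ideal AlgInt} (hMod : IsPModular p M)
    (hb : IsPBlock M b) (hstab : StabBlock N T b) (hmeet : MeetBlock N T b)
    (B' : Set (IrrCharacter T)) (hB' : IsPBlock M B')
    (hcov : ∃ ψ ∈ B', OverBlock N T hNT b (ψ : T → ℂ)) :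
    ∃ B : Set (IrrCharacter G), IsInducedBlock M T B' B ∧
      (∃ χ ∈ B, ∃ θ ∈ b, classInner (fun n : N => (χ : G → ℂ) n) (θ : N → ℂ) ≠ 0) ∧
      (∀ ψ ∈ B', IsIrrCharacter G (indFun T (ψ : T → ℂ))) ∧
      (∀ ψ ∈ B', OverBlock N T hNT b (ψ : T → ℂ)) ∧
      ∀ χ : IrrCharacter G, χ ∈ B ↔ ∃ ψ ∈ B', (χ : G → ℂ) = indFun T (ψ : T → ℂ) := by
  classical
  have hMp : M.IsPrime := hMod.2.1.isPrime
  obtain ⟨ψ₀, hψ₀, hov₀⟩ := hcov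
  have hB'eq : B' = blockOf M (ψ₀ : T → ℂ) := IsPBlock.eq_blockOf hMp hB' hψ₀
  have hall : ∀ ξ ∈ B', OverBlock N T hNT b (ξ : T → ℂ) := fun ξ hξ =>
    over_of_sameBlock hNT hMp hb hstab (IsPBlock.sameBlock hMp hB' hψ₀ hξ) hov₀
  have hirr : ∀ ξ ∈ B', IsIrrCharacter G (indFun T (ξ : T → ℂ)) := fun ξ hξ =>
    isIrrCharacter_indFun_of_over hNT hmeet ξ.2 (hall ξ hξ)
  set χ₀ : IrrCharacter G := ⟨indFun T (ψ₀ : T → ℂ), hirr ψ₀ hψ₀⟩ with hχ₀def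
  have hχ₀B : χ₀ ∈ blockOf M (χ₀ : G → ℂ) := mem_blockOf_self hMp χ₀
  have hind : IsInducedBlock M T B' (blockOf M (χ₀ : G → ℂ)) := by
    rw [hB'eq]
    exact isInducedBlock_of_over hMp χ₀ rfl
  obtain ⟨θ₀, hθ₀, c₀⟩ := hov₀
  have hcon₀ : classInner (fun n : N => (χ₀ : G → ℂ) n) (θ₀ : N → ℂ) ≠ 0 := by
    have := classInner_indFun_mid N T hNT θ₀.2 (inertia_mem hmeet hθ₀) ψ₀.2 c₀
    change classInner (fun n : N => indFun T (ψ₀ : T → ℂ) n) (θ₀ : N → ℂ) ≠ 0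
    rw [this]
    exact c₀
  refine ⟨blockOf M (χ₀ : G → ℂ), hind, ⟨χ₀, hχ₀B, θ₀, hθ₀, hcon₀⟩, hirr, hall, ?_⟩
  intro χ
  constructor
  · intro hχ
    have hχ1 : (fun n : N => (χ : G → ℂ) n) 1 ≠ 0 := IsIrrCharacter.apply_one_ne_zero χ.2
    obtain ⟨φ, hφ⟩ := exists_constituent
      (isCharacter_restrict N (IrrCharacter_isCharacter χ)) hχ1
    obtain ⟨g, θ', hθ', hconj⟩ := Cfsg.Agent.S0964.result p M hMod N _ (isPBlock_blockOf χ₀) b hb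
      χ₀ hχ₀B θ₀ hθ₀ hcon₀ χ hχ φ hφ
    have hφeq : (φ : N → ℂ) = conjFun N g (θ' : N → ℂ) := funext hconj
    have hχθ' : classInner (fun n : N => (χ : G → ℂ) n) (θ' : N → ℂ) ≠ 0 := by
      rw [← classInner_restrict_conjFun N (isClassFunction_irr χ) g (θ' : N → ℂ), ← hφeq]
      exact hφ
    obtain ⟨ψ, hovψ, hψχ⟩ := exists_indFun_eq_of_over hNT hθ' hmeet χ hχθ'
    refine ⟨ψ, ?_, hψχ.symm⟩
    rw [hB'eq, mem_blockOf_iff]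
    apply sameBlock_of_sameBlock_indFun hNT hMp hb hstab hmeet ψ₀.2 ψ.2 ⟨θ₀, hθ₀, c₀⟩ hovψ
    rw [hψχ]
    exact mem_blockOf_iff.1 hχ
  · rintro ⟨ψ, hψ, hχψ⟩
    exact indFun_mem_of_isInducedBlock hMp hind hψ χ hχψ

/-- **Fong–Reynolds, part (ii).** -/
theorem fong_reynolds_injective {M : Ideal AlgInt} (hMp : M.IsPrime)
    (hb : IsPBlock M b) (hstab : StabBlock N T b) (hmeet : MeetBlock N T b)
    (B'₁ B'₂ : Set (IrrCharacter T)) (h₁ : IsPBlock M B'₁) (h₂ : IsPBlock M B'₂)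
    (c₁ : ∃ ψ ∈ B'₁, OverBlock N T hNT b (ψ : T → ℂ))
    (c₂ : ∃ ψ ∈ B'₂, OverBlock N T hNT b (ψ : T → ℂ))
    (B : Set (IrrCharacter G)) (i₁ : IsInducedBlock M T B'₁ B) (i₂ : IsInducedBlock M T B'₂ B) :
    B'₁ = B'₂ := by
  obtain ⟨ψ₁, hψ₁, o₁⟩ := c₁
  obtain ⟨ψ₂, hψ₂, o₂⟩ := c₂
  have hχ₁ := isIrrCharacter_indFun_of_over hNT hmeet ψ₁.2 o₁
  have hχ₂ := isIrrCharacter_indFun_of_over hNT hmeet ψ₂.2 o₂
  have m₁ := indFun_mem_of_isInducedBlock hMp i₁ hψ₁ ⟨_, hχ₁⟩ rfl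
  have m₂ := indFun_mem_of_isInducedBlock hMp i₂ hψ₂ ⟨_, hχ₂⟩ rfl
  have hs := IsPBlock.sameBlock hMp i₁.2.1 m₁ m₂
  have hs' := sameBlock_of_sameBlock_indFun hNT hMp hb hstab hmeet ψ₁.2 ψ₂.2 o₁ o₂ hs
  rw [IsPBlock.eq_blockOf hMp h₁ hψ₁, IsPBlock.eq_blockOf hMp h₂ hψ₂]
  exact blockOf_eq_of_sameBlock hMp hs'

/-- **Fong–Reynolds, part (iii).** -/
theorem fong_reynolds_surjective {M : Ideal AlgInt} (hMp : M.IsPrime)
    (hmeet : MeetBlock N T b) (B : Set (IrrCharacter G)) (hB : IsPBlock M B)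
    (hcov : ∃ χ ∈ B, ∃ θ ∈ b, classInner (fun n : N => (χ : G → ℂ) n) (θ : N → ℂ) ≠ 0) :
    ∃ B' : Set (IrrCharacter T), IsPBlock M B' ∧
      (∃ ψ ∈ B', OverBlock N T hNT b (ψ : T → ℂ)) ∧ IsInducedBlock M T B' B := by
  obtain ⟨χ, hχ, θ, hθ, hcon⟩ := hcov
  obtain ⟨ψ, hov, hψχ⟩ := exists_indFun_eq_of_over hNT hθ hmeet χ hcon
  refine ⟨blockOf M (ψ : T → ℂ), isPBlock_blockOf ψ, ⟨ψ, mem_blockOf_self hMp ψ, hov⟩, ?_⟩
  rw [IsPBlock.eq_blockOf hMp hB hχ]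
  exact isInducedBlock_of_over hMp χ hψχ.symm

end Cfsg.Agent.Lib.Helper21
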