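import Mathlib
import Cfsg.Agent.Lib.Helper21.FongReynoldsMain
import Cfsg.Agent.Lib.Helper22.DefectConj
import Cfsg.Agent.Lib.Helper04.CoprimeDegree
import Cfsg.Agent.S0917

/-!
# Fong–Reynolds: defect groups and heights
-/

set_option autoImplicit false
set_option linter.unusedSectionVars false

namespace Cfsg.Agent.Lib.Helper21

open Cfsg
open scoped ComplexConjugate
open Cfsg.Agent.Lib.Helper82 Cfsg.Agent.Lib.Helper83 Cfsg.Agent.Lib.Helper84

universe u
variable {G : Type u} [Group G] [Fintype G] {N T : Subgroup G} [hN : N.Normal]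
  [Fintype N] [Fintype T] (hNT : N ≤ T) {b : Set (IrrCharacter N)}

theorem charDegree_indFun {ψ : T → ℂ} (hψ : IsCharacter T ψ) :
    charDegree (indFun T ψ) = T.index * charDegree ψ := by
  apply Cfsg.Agent.Lib.Helper04.charDegree_eq_of_apply_one
  rw [Cfsg.Agent.Lib.Helper85.indFun_apply_one, ← charDegree_cast hψ]
  push_cast
  rfl

theorem charDegree_ne_zero' {K : Type*} [Group K] (ψ : IrrCharacter K) :
    charDegree (ψ : K → ℂ) ≠ 0 := by
  intro h
  have h1 := charDegree_cast (IrrCharacter_isCharacter ψ)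
  rw [h, Nat.cast_zero] at h1
  exact IsIrrCharacter.apply_one_ne_zero ψ.2 h1.symm

theorem sInf_image_add {S : Set ℕ} (hS : S.Nonempty) (c : ℕ) :
    sInf ((fun x => c + x) '' S) = c + sInf S := by
  have hS' : ((fun x => c + x) '' S).Nonempty := hS.image _
  apply le_antisymm
  · exact Nat.sInf_le ⟨sInf S, Nat.sInf_mem hS, rfl⟩
  · obtain ⟨x, hx, hxe⟩ := Nat.sInf_mem hS'
    rw [← hxe]
    exact Nat.add_le_add_left (Nat.sInf_le hx) c

/-- **Fong–Reynolds: heights and defects.** -/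
theorem fong_reynolds_height (p : ℕ) [Fact p.Prime] {M : Ideal AlgInt} (hMod : IsPModular p M)
    (hb : IsPBlock M b) (hstab : StabBlock N T b) (hmeet : MeetBlock N T b)
    (B' : Set (IrrCharacter T)) (hB' : IsPBlock M B')
    (hcov : ∃ ψ ∈ B', OverBlock N T hNT b (ψ : T → ℂ))
    (B : Set (IrrCharacter G)) (hind : IsInducedBlock M T B' B) :
    (∀ ψ ∈ B', ∃ χ ∈ B, (χ : G → ℂ) = indFun T (ψ : T → ℂ) ∧
      blockHeight p B (χ : G → ℂ) = blockHeight p B' (ψ : T → ℂ)) ∧
    blockDefect p B = blockDefect p B' := by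
  classical
  have hMp : M.IsPrime := hMod.2.1.isPrime
  have hp : p.Prime := Fact.out
  obtain ⟨B₀, h1, h2, h3, h4, h5⟩ := fong_reynolds_induce hNT p hMod hb hstab hmeet B' hB' hcov
  obtain ⟨ψ₀, hψ₀, -⟩ := hcov
  have hBB₀ : B = B₀ := by
    have m1 := indFun_mem_of_isInducedBlock hMp hind hψ₀ ⟨_, h3 ψ₀ hψ₀⟩ rfl
    have m2 := indFun_mem_of_isInducedBlock hMp h1 hψ₀ ⟨_, h3 ψ₀ hψ₀⟩ rfl
    rw [IsPBlock.eq_blockOf hMp hind.2.1 m1, IsPBlock.eq_blockOf hMp h1.2.1 m2]
  subst hBB₀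
  set c := T.index.factorization p with hc
  have hidx : T.index ≠ 0 := Subgroup.index_ne_zero_of_finite
  have hdeg : ∀ ψ : IrrCharacter T,
      (charDegree (indFun T (ψ : T → ℂ))).factorization p =
        c + (charDegree (ψ : T → ℂ)).factorization p := by
    intro ψ
    rw [charDegree_indFun (IrrCharacter_isCharacter ψ),
      Nat.factorization_mul hidx (charDegree_ne_zero' ψ), Finsupp.add_apply]
  have himg : (fun χ : IrrCharacter G => (charDegree (χ : G → ℂ)).factorization p) '' B =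
      (fun x => c + x) ''
        ((fun ψ : IrrCharacter T => (charDegree (ψ : T → ℂ)).factorization p) '' B') := by
    ext x
    constructor
    · rintro ⟨χ, hχ, rfl⟩
      obtain ⟨ψ, hψ, hχψ⟩ := (h5 χ).1 hχ
      refine ⟨_, ⟨ψ, hψ, rfl⟩, ?_⟩
      change c + _ = (charDegree (χ : G → ℂ)).factorization p
      rw [hχψ, hdeg ψ]
    · rintro ⟨y, ⟨ψ, hψ, rfl⟩, rfl⟩
      refine ⟨⟨indFun T (ψ : T → ℂ), h3 ψ hψ⟩, (h5 _).2 ⟨ψ, hψ, rfl⟩, ?_⟩
      change (charDegree (indFun T (ψ : T → ℂ))).factorization p = _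
      rw [hdeg ψ]
  have hne : ((fun ψ : IrrCharacter T => (charDegree (ψ : T → ℂ)).factorization p) '' B').Nonempty :=
    ⟨_, ψ₀, hψ₀, rfl⟩
  have hinf := sInf_image_add hne c
  constructor
  · intro ψ hψ
    refine ⟨⟨indFun T (ψ : T → ℂ), h3 ψ hψ⟩, (h5 _).2 ⟨ψ, hψ, rfl⟩, rfl, ?_⟩
    unfold blockHeight
    rw [himg, hinf]
    change (charDegree (indFun T (ψ : T → ℂ))).factorization p - _ = _
    rw [hdeg ψ]
    omega
  · unfold blockDefect
    rw [himg, hinf]
    have hcard : Nat.card G = Nat.card T * T.index := (Subgroup.card_mul_index T).symm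
    have hT0 : Nat.card T ≠ 0 := Nat.card_pos.ne'
    rw [hcard, Nat.factorization_mul hT0 hidx, Finsupp.add_apply]
    omega

/-- **Fong–Reynolds: defect groups.** -/
theorem fong_reynolds_defectGroup (p : ℕ) [Fact p.Prime] {M : Ideal AlgInt} (hMod : IsPModular p M)
    (hb : IsPBlock M b) (hstab : StabBlock N T b) (hmeet : MeetBlock N T b)
    (B' : Set (IrrCharacter T)) (hB' : IsPBlock M B')
    (hcov : ∃ ψ ∈ B', OverBlock N T hNT b (ψ : T → ℂ))
    (B : Set (IrrCharacter G)) (hind : IsInducedBlock M T B' B)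
    (D : Subgroup T) (hD : IsDefectGroup p M B' D) : IsDefectGroup p M B (D.map T.subtype) := by
  have hdef := (fong_reynolds_height hNT p hMod hb hstab hmeet B' hB' hcov B hind).2
  obtain ⟨E, hE, hDE⟩ := Cfsg.Agent.S0917.result p M hMod T B' hB' B hind.2.1 hind D hD
  have c1 := Cfsg.Agent.Lib.Helper22.IsDefectGroup.card_eq hMod hind.2.1 hE
  have c2 := Cfsg.Agent.Lib.Helper22.IsDefectGroup.card_eq hMod hB' hD
  have c3 : Nat.card (D.map T.subtype) = Nat.card D :=
    Subgroup.card_map_of_injective T.subtype_injective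
  have heq : D.map T.subtype = E := by
    apply Subgroup.eq_of_le_of_card_ge hDE
    rw [c3, c1, c2, hdef]
  rw [heq]
  exact hE

end Cfsg.Agent.Lib.Helper21
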