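import Mathlib
import Cfsg.Agent.Lib.Helper21.CoverInv
import Cfsg.Agent.Lib.Helper21.FongReynoldsDefect
import Cfsg.Agent.Lib.Helper21.DefectTransport
import Cfsg.Agent.Lib.Helper85.CliffordCorr

/-!
# Covering blocks: the general case, by the Fong–Reynolds correspondence

`N ⊴ G`, `b` a block of `N`, `B` a block of `G` covering `b`.  With `T` the stabilizer of `b` and
`B'` the Fong–Reynolds correspondent of `B` in `T`, the results of `CoverInv` for the `T`-invariant
block `b` are transported to `G`: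

* every `θ ∈ b` lies under some `χ ∈ B`;
* (Knörr) some defect group `P` of `B` has `P ∩ N` a defect group of `b`.
-/

set_option autoImplicit false
set_option linter.unusedSectionVars false
set_option linter.style.haveILetI false

namespace Cfsg.Agent.Lib.Helper21

open Cfsg
open Cfsg.Agent.Lib.Helper82 Cfsg.Agent.Lib.Helper83 Cfsg.Agent.Lib.Helper84
open Cfsg.Agent.Lib.Helper81 (irrComp irrComp_apply irrComp_symm_irrComp irrComp_irrComp_symm
  mem_blockOf_irrComp_iff)
open Cfsg.Agent.Lib.Helper22 (irrConj irrConj_irrConj irrConj_one)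

universe u
variable {G : Type u} [Group G] [Fintype G]
variable {p : ℕ} [Fact p.Prime] {M : Ideal AlgInt}
variable {N : Subgroup G} [hN : N.Normal] [Fintype N]

/-- the stabilizer of a set of irreducible characters of the normal subgroup `N` -/
def blockStab (hN : N.Normal) (b : Set (IrrCharacter N)) : Subgroup G where
  carrier := {g | ∀ θ, θ ∈ b ↔ irrConj hN g θ ∈ b}
  one_mem' := fun θ => by rw [irrConj_one]
  mul_mem' := by
    intro g h hg hh θ
    rw [← irrConj_irrConj]
    exact (hg θ).trans (hh _)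
  inv_mem' := by
    intro g hg θ
    have := hg (irrConj hN g⁻¹ θ)
    rw [irrConj_irrConj, inv_mul_cancel, irrConj_one] at this
    exact this.symm

theorem le_blockStab (b : Set (IrrCharacter N)) : N ≤ blockStab hN b := by
  intro n hn θ
  have : irrConj hN n θ = θ := by
    apply Subtype.ext
    funext m
    rw [Cfsg.Agent.Lib.Helper22.irrConj_apply]
    have := isClassFunction_irr θ m ⟨n, hn⟩
    rw [← this]
    rfl
  rw [this]

theorem stabBlock_blockStab (b : Set (IrrCharacter N)) [Fintype (blockStab hN b)] :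
    StabBlock N (blockStab hN b) b :=
  fun _ ht θ hθ => (ht θ).1 hθ

theorem meetBlock_blockStab (hMp : M.IsPrime) {b : Set (IrrCharacter N)} (hb : IsPBlock M b)
    [Fintype (blockStab hN b)] : MeetBlock N (blockStab hN b) b := by
  intro g θ hθ hgθ θ₁
  constructor
  · intro hθ₁
    apply IsPBlock.mem_of_sameBlock hMp hb hgθ
    exact Cfsg.Agent.Lib.Helper22.sameBlock_conjFun hN (IsPBlock.sameBlock hMp hb hθ hθ₁) g
  · intro hθ₁
    have hs := Cfsg.Agent.Lib.Helper22.sameBlock_conjFun hN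
      (IsPBlock.sameBlock hMp hb hgθ hθ₁) g⁻¹
    have e1 : ∀ ψ : IrrCharacter N, Cfsg.Agent.Lib.Helper85.conjFun hN
        (irrConj hN g ψ : N → ℂ) g⁻¹ = (ψ : N → ℂ) := by
      intro ψ
      have := irrConj_irrConj hN g⁻¹ g ψ
      rw [mul_inv_cancel, irrConj_one] at this
      exact congrArg Subtype.val this
    rw [e1, e1] at hs
    exact IsPBlock.mem_of_sameBlock hMp hb hθ hs

section Transport

variable {T : Subgroup G} [Fintype T] (hNT : N ≤ T) [Fintype (N.subgroupOf T)]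

/-- stability of `b` under `T` gives invariance of the transported block in the group `T` -/
theorem isInvariantSet_transport (θ₁ : IrrCharacter N)
    (hstab : StabBlock N T (blockOf M (θ₁ : N → ℂ))) :
    IsInvariantSet (N.subgroupOf T)
      (blockOf M (irrComp (Subgroup.subgroupOfEquivOfLe hNT) θ₁ : N.subgroupOf T → ℂ)) := by
  intro g θ hθ θ' hθ'
  rw [mem_blockOf_irrComp_iff] at hθ ⊢
  have : irrComp (Subgroup.subgroupOfEquivOfLe hNT).symm θ' =
      irrConj hN (g : G) (irrComp (Subgroup.subgroupOfEquivOfLe hNT).symm θ) := by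
    apply Subtype.ext
    funext n
    rw [Cfsg.Agent.Lib.Helper22.irrConj_apply, irrComp_apply, irrComp_apply, hθ']
    refine congrArg _ (Subtype.ext (Subtype.ext ?_))
    simp
  rw [this]
  exact hstab (g : G) g.2 _ hθ

/-- multiplicities over `N` computed in the group `T` -/
theorem classInner_transport (ψ : T → ℂ) (θ : IrrCharacter N) :
    classInner (fun n' : N.subgroupOf T => ψ (n' : T))
      (irrComp (Subgroup.subgroupOfEquivOfLe hNT) θ : N.subgroupOf T → ℂ) =
    classInner (resFun N T hNT ψ) (θ : N → ℂ) := by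
  have h1 : (fun n' : N.subgroupOf T => ψ (n' : T)) =
      fun n' => resFun N T hNT ψ (Subgroup.subgroupOfEquivOfLe hNT n') := by
    funext n'
    rw [resFun_apply]
    refine congrArg _ (Subtype.ext ?_)
    simp
  have h2 : (irrComp (Subgroup.subgroupOfEquivOfLe hNT) θ : N.subgroupOf T → ℂ) =
      fun n' => (θ : N → ℂ) (Subgroup.subgroupOfEquivOfLe hNT n') := by
    funext n'
    rw [irrComp_apply]
  rw [h1, h2]
  exact Cfsg.Agent.Lib.Helper85.classInner_comp_mulEquiv _ _ _

/-- transport of the defect group of the block of `N` seen inside `T` -/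
theorem isDefectGroup_transport (θ₁ : IrrCharacter N) (P' : Subgroup T)
    (hD : IsDefectGroup p M
      (blockOf M (irrComp (Subgroup.subgroupOfEquivOfLe hNT) θ₁ : N.subgroupOf T → ℂ))
      ((P' ⊓ N.subgroupOf T).subgroupOf (N.subgroupOf T))) :
    IsDefectGroup p M (blockOf M (θ₁ : N → ℂ)) ((P'.map T.subtype ⊓ N).subgroupOf N) := by
  have h := isDefectGroup_irrComp (Subgroup.subgroupOfEquivOfLe hNT).symm
    (irrComp (Subgroup.subgroupOfEquivOfLe hNT) θ₁) hD
  rw [irrComp_symm_irrComp] at h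
  have heq : ((P' ⊓ N.subgroupOf T).subgroupOf (N.subgroupOf T)).comap
      (Subgroup.subgroupOfEquivOfLe hNT).symm.toMonoidHom =
      (P'.map T.subtype ⊓ N).subgroupOf N := by
    ext n
    rw [Subgroup.mem_comap, Subgroup.mem_subgroupOf, Subgroup.mem_subgroupOf, Subgroup.mem_inf,
      Subgroup.mem_inf]
    constructor
    · rintro ⟨h1, _⟩
      refine ⟨⟨_, h1, ?_⟩, n.2⟩
      simp
    · rintro ⟨⟨x, hx, hxn⟩, _⟩
      have hx' : x = (((Subgroup.subgroupOfEquivOfLe hNT).symm n : N.subgroupOf T) : T) := by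
        apply Subtype.ext
        rw [← Subgroup.coe_subtype, hxn]
        simp
      refine ⟨?_, ?_⟩
      · rw [MulEquiv.coe_toMonoidHom, ← hx']
        exact hx
      · rw [Subgroup.mem_subgroupOf]
        simp
  rw [heq] at h
  exact h

end Transport

section Main

variable {b : Set (IrrCharacter N)} {B : Set (IrrCharacter G)}

/-- The common set-up: the Fong–Reynolds correspondent of `B` over the stabilizer of `b`, and the
transported invariant block. -/
theorem exists_over_of_cover (hM : IsPModular p M) (hb : IsPBlock M b) (hB : IsPBlock M B)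
    (hcov : ∃ χ ∈ B, ∃ θ ∈ b, classInner (fun n : N => (χ : G → ℂ) n) (θ : N → ℂ) ≠ 0)
    (θ : IrrCharacter N) (hθ : θ ∈ b) :
    ∃ χ ∈ B, classInner (fun n : N => (χ : G → ℂ) n) (θ : N → ℂ) ≠ 0 := by
  classical
  have hMp : M.IsPrime := hM.2.1.isPrime
  obtain ⟨θ₁, rfl⟩ := hb
  have hb : IsPBlock M (blockOf M (θ₁ : N → ℂ)) := ⟨θ₁, rfl⟩
  set T := blockStab hN (blockOf M (θ₁ : N → ℂ)) with hT
  haveI : Fintype T := Fintype.ofFinite _
  haveI : Fintype (N.subgroupOf T) := Fintype.ofFinite _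
  have hNT : N ≤ T := le_blockStab _
  have hstab : StabBlock N T (blockOf M (θ₁ : N → ℂ)) := stabBlock_blockStab _
  have hmeet : MeetBlock N T (blockOf M (θ₁ : N → ℂ)) := meetBlock_blockStab hMp hb
  obtain ⟨B', hB', hcov', hind⟩ := fong_reynolds_surjective hNT hMp hmeet B hB hcov
  obtain ⟨ψ₀, hψ₀, θ₂, hθ₂, c₂⟩ := hcov'
  have hB'eq : B' = blockOf M (ψ₀ : T → ℂ) := IsPBlock.eq_blockOf hMp hB' hψ₀
  set e := Subgroup.subgroupOfEquivOfLe hNT with he
  have hb' : IsPBlock M (blockOf M (irrComp e θ₁ : N.subgroupOf T → ℂ)) := ⟨_, rfl⟩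
  have hinv' := isInvariantSet_transport (M := M) hNT θ₁ hstab
  have hover : ψ₀ ∈ overSet (N.subgroupOf T) (blockOf M (irrComp e θ₁ : N.subgroupOf T → ℂ)) := by
    refine ⟨irrComp e θ₂, ?_, ?_⟩
    · rw [mem_blockOf_irrComp_iff, irrComp_symm_irrComp]
      exact hθ₂
    · rw [classInner_transport hNT]
      exact c₂
  have hθ' : irrComp e θ ∈ blockOf M (irrComp e θ₁ : N.subgroupOf T → ℂ) := by
    rw [mem_blockOf_irrComp_iff, irrComp_symm_irrComp]
    exact hθ
  obtain ⟨ψ', hψ', c'⟩ := exists_over_of_invariant hM hb' hinv' hover (irrComp e θ) hθ'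
  rw [classInner_transport hNT] at c'
  rw [← hB'eq] at hψ'
  obtain ⟨χ, hχ, hχe, _⟩ := (fong_reynolds_height hNT p hM hb hstab hmeet B' hB'
    ⟨ψ₀, hψ₀, θ₂, hθ₂, c₂⟩ B hind).1 ψ' hψ'
  refine ⟨χ, hχ, ?_⟩
  rw [hχe, classInner_indFun_mid N T hNT θ.2 (inertia_mem hmeet hθ) ψ'.2 c']
  exact c'

/-- **Knörr's theorem.** If the block `B` of `G` covers the block `b` of the normal subgroup `N`,
some defect group `P` of `B` has `P ∩ N` a defect group of `b`. -/
theorem knorr (hM : IsPModular p M) (hb : IsPBlock M b) (hB : IsPBlock M B)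
    (hcov : ∃ χ ∈ B, ∃ θ ∈ b, classInner (fun n : N => (χ : G → ℂ) n) (θ : N → ℂ) ≠ 0) :
    ∃ P : Subgroup G, IsDefectGroup p M B P ∧ IsDefectGroup p M b ((P ⊓ N).subgroupOf N) := by
  classical
  have hMp : M.IsPrime := hM.2.1.isPrime
  obtain ⟨θ₁, rfl⟩ := hb
  have hb : IsPBlock M (blockOf M (θ₁ : N → ℂ)) := ⟨θ₁, rfl⟩
  set T := blockStab hN (blockOf M (θ₁ : N → ℂ)) with hT
  haveI : Fintype T := Fintype.ofFinite _
  haveI : Fintype (N.subgroupOf T) := Fintype.ofFinite _
  have hNT : N ≤ T := le_blockStab _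
  have hstab : StabBlock N T (blockOf M (θ₁ : N → ℂ)) := stabBlock_blockStab _
  have hmeet : MeetBlock N T (blockOf M (θ₁ : N → ℂ)) := meetBlock_blockStab hMp hb
  obtain ⟨B', hB', hcov', hind⟩ := fong_reynolds_surjective hNT hMp hmeet B hB hcov
  obtain ⟨ψ₀, hψ₀, θ₂, hθ₂, c₂⟩ := hcov'
  have hB'eq : B' = blockOf M (ψ₀ : T → ℂ) := IsPBlock.eq_blockOf hMp hB' hψ₀
  set e := Subgroup.subgroupOfEquivOfLe hNT with he
  have hb' : IsPBlock M (blockOf M (irrComp e θ₁ : N.subgroupOf T → ℂ)) := ⟨_, rfl⟩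
  have hinv' := isInvariantSet_transport (M := M) hNT θ₁ hstab
  have hover : ψ₀ ∈ overSet (N.subgroupOf T) (blockOf M (irrComp e θ₁ : N.subgroupOf T → ℂ)) := by
    refine ⟨irrComp e θ₂, ?_, ?_⟩
    · rw [mem_blockOf_irrComp_iff, irrComp_symm_irrComp]
      exact hθ₂
    · rw [classInner_transport hNT]
      exact c₂
  obtain ⟨P', hP', hD'⟩ := knorr_invariant hM hb' hinv' hover
  rw [← hB'eq] at hP'
  refine ⟨P'.map T.subtype, ?_, isDefectGroup_transport hNT θ₁ P' hD'⟩
  exact fong_reynolds_defectGroup hNT p hM hb hstab hmeet B' hB' ⟨ψ₀, hψ₀, θ₂, hθ₂, c₂⟩ B hind P' hP'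

/-- **Knörr's theorem**, with the additional information that `P` stabilizes `b`. If the block `B` of `G` covers the block `b` of the normal subgroup `N`,
some defect group `P` of `B` has `P ∩ N` a defect group of `b`. -/
theorem knorr_stab (hM : IsPModular p M) (hb : IsPBlock M b) (hB : IsPBlock M B)
    (hcov : ∃ χ ∈ B, ∃ θ ∈ b, classInner (fun n : N => (χ : G → ℂ) n) (θ : N → ℂ) ≠ 0) :
    ∃ P : Subgroup G, IsDefectGroup p M B P ∧ IsDefectGroup p M b ((P ⊓ N).subgroupOf N) ∧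
      P ≤ blockStab hN b := by
  classical
  have hMp : M.IsPrime := hM.2.1.isPrime
  obtain ⟨θ₁, rfl⟩ := hb
  have hb : IsPBlock M (blockOf M (θ₁ : N → ℂ)) := ⟨θ₁, rfl⟩
  set T := blockStab hN (blockOf M (θ₁ : N → ℂ)) with hT
  haveI : Fintype T := Fintype.ofFinite _
  haveI : Fintype (N.subgroupOf T) := Fintype.ofFinite _
  have hNT : N ≤ T := le_blockStab _
  have hstab : StabBlock N T (blockOf M (θ₁ : N → ℂ)) := stabBlock_blockStab _
  have hmeet : MeetBlock N T (blockOf M (θ₁ : N → ℂ)) := meetBlock_blockStab hMp hb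
  obtain ⟨B', hB', hcov', hind⟩ := fong_reynolds_surjective hNT hMp hmeet B hB hcov
  obtain ⟨ψ₀, hψ₀, θ₂, hθ₂, c₂⟩ := hcov'
  have hB'eq : B' = blockOf M (ψ₀ : T → ℂ) := IsPBlock.eq_blockOf hMp hB' hψ₀
  set e := Subgroup.subgroupOfEquivOfLe hNT with he
  have hb' : IsPBlock M (blockOf M (irrComp e θ₁ : N.subgroupOf T → ℂ)) := ⟨_, rfl⟩
  have hinv' := isInvariantSet_transport (M := M) hNT θ₁ hstab
  have hover : ψ₀ ∈ overSet (N.subgroupOf T) (blockOf M (irrComp e θ₁ : N.subgroupOf T → ℂ)) := by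
    refine ⟨irrComp e θ₂, ?_, ?_⟩
    · rw [mem_blockOf_irrComp_iff, irrComp_symm_irrComp]
      exact hθ₂
    · rw [classInner_transport hNT]
      exact c₂
  obtain ⟨P', hP', hD'⟩ := knorr_invariant hM hb' hinv' hover
  rw [← hB'eq] at hP'
  refine ⟨P'.map T.subtype, ?_, isDefectGroup_transport hNT θ₁ P' hD', Subgroup.map_subtype_le P'⟩
  exact fong_reynolds_defectGroup hNT p hM hb hstab hmeet B' hB' ⟨ψ₀, hψ₀, θ₂, hθ₂, c₂⟩ B hind P' hP'

/-- **Knörr's theorem**, with a prescribed defect group `Q` of `b`. -/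
theorem knorr_given (hM : IsPModular p M) (hb : IsPBlock M b) (hB : IsPBlock M B)
    (hcov : ∃ χ ∈ B, ∃ θ ∈ b, classInner (fun n : N => (χ : G → ℂ) n) (θ : N → ℂ) ≠ 0)
    (Q : Subgroup G) (hQN : Q ≤ N) (hQ : IsDefectGroup p M b (Q.subgroupOf N)) :
    ∃ P : Subgroup G, IsDefectGroup p M B P ∧ P ⊓ N = Q := by
  obtain ⟨P₀, hP₀, hD⟩ := knorr hM hb hB hcov
  obtain ⟨t, ht⟩ := Cfsg.Agent.Lib.Helper22.IsDefectGroup.exists_conj hM hb hD hQ
  refine ⟨P₀.map (MulAut.conj (t : G)).toMonoidHom, isDefectGroup_conj hP₀ (t : G), ?_⟩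
  ext g
  rw [Subgroup.mem_inf]
  constructor
  · rintro ⟨⟨x, hx, rfl⟩, hgN⟩
    simp only [MulEquiv.coe_toMonoidHom, MulAut.conj_apply] at hgN ⊢
    have hxN : x ∈ N := by
      have := hN.conj_mem _ hgN (t : G)⁻¹
      simpa [mul_assoc] using this
    have h1 : (⟨x, hxN⟩ : N) ∈ (P₀ ⊓ N).subgroupOf N := by
      rw [Subgroup.mem_subgroupOf]
      exact ⟨hx, hxN⟩
    have h2 : (MulAut.conj t).toMonoidHom ⟨x, hxN⟩ ∈ Q.subgroupOf N := by
      rw [ht]
      exact Subgroup.mem_map_of_mem _ h1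
    rw [Subgroup.mem_subgroupOf] at h2
    simpa using h2
  · intro hg
    have h1 : (⟨g, hQN hg⟩ : N) ∈ Q.subgroupOf N := by
      rw [Subgroup.mem_subgroupOf]
      exact hg
    rw [ht] at h1
    obtain ⟨x', hx', hx'g⟩ := h1
    rw [SetLike.mem_coe, Subgroup.mem_subgroupOf] at hx'
    have hg' : g = (t : G) * (x' : G) * (t : G)⁻¹ := by
      have := congrArg Subtype.val hx'g
      simpa using this.symm
    refine ⟨⟨(x' : G), hx'.1, ?_⟩, hQN hg⟩
    rw [hg']
    simp

end Main

end Cfsg.Agent.Lib.Helper21
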