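import Mathlib
import Cfsg.Agent.Lib.Helper73.RUDefs
import Cfsg.Agent.Lib.Helper73.RUHub

/-!
# K-RU4 leaf A (S2279): the conjugator `g = 1 + l E_{last,0}`
-/

set_option autoImplicit false
set_option linter.unusedSectionVars false
set_option linter.unusedVariables false

namespace Cfsg.Agent.Lib.Helper21.RU4

open Matrix Cfsg.Agent.Lib.Helper73.RU Cfsg.Agent.Lib.Helper73.RUSpec

section defs
variable (m : ℕ) (F : Type*) [Field F]

/-- the index `last - 1` -/
def pen : Fin (m + 3) := ⟨m + 1, by omega⟩

/-- the conjugator `g = 1 + l E_{last,0}` (a transvection) -/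
def g4 (l : F) : Matrix (Fin (m + 3)) (Fin (m + 3)) F :=
  1 + Matrix.single (Fin.last (m + 2)) 0 l

/-- `v = g a g⁻¹ = a + l E_{last,1} - l E_{last-1,0}` -/
def v4 (l : F) : Matrix (Fin (m + 3)) (Fin (m + 3)) F :=
  aMat m F + Matrix.single (Fin.last (m + 2)) 1 l - Matrix.single (pen m) 0 l

end defs

theorem det_g4 (m : ℕ) (F : Type*) [Field F] (l : F) : (g4 m F l).det = 1 := by
  have h : (Fin.last (m + 2) : Fin (m + 3)) ≠ 0 := by
    intro h; have := congrArg Fin.val h; simp at this
  exact Matrix.det_transvection_of_ne _ _ h l

theorem g4_mul_aMat (m : ℕ) (F : Type*) [Field F] (l : F) :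
    g4 m F l * aMat m F = v4 m F l * g4 m F l := by
  have hl0 : (Fin.last (m + 2) : Fin (m + 3)) ≠ 0 := by
    intro h; have := congrArg Fin.val h; simp at this
  have hl1 : (Fin.last (m + 2) : Fin (m + 3)) ≠ 1 := by
    intro h; have := congrArg Fin.val h; simp at this
  have h1 : Matrix.single (Fin.last (m + 2)) (0 : Fin (m + 3)) l * aMat m F =
      Matrix.single (Fin.last (m + 2)) 0 l + Matrix.single (Fin.last (m + 2)) 1 l := by
    ext i j
    by_cases hi : i = Fin.last (m + 2)
    · subst hi
      rw [Matrix.single_mul_apply_same, Matrix.add_apply]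
      unfold aMat
      simp only [of_apply, Matrix.single_apply]
      by_cases hj0 : j = 0
      · subst hj0
        simp
      · by_cases hj1 : j = 1
        · subst hj1
          simp
        · have h4 : ¬ ((0 : Fin (m + 3)) = j) := fun h => hj0 h.symm
          have h5 : ¬ ((0 : Fin (m + 3)).val + 1 = j.val) := by
            intro h
            apply hj1
            ext
            simpa using h.symm
          have h6 : ¬ ((1 : Fin (m + 3)) = j) := fun h => hj1 h.symm
          have h7 : ¬ (1 = j.val) := by
            intro h
            apply hj1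
            ext
            simpa using h.symm
          simp [h4, h5, h6, h7]
    · rw [Matrix.single_mul_apply_of_ne l _ _ _ _ hi, Matrix.add_apply,
        Matrix.single_apply_of_ne, Matrix.single_apply_of_ne, add_zero]
      · rintro ⟨h, -⟩; exact hi h.symm
      · rintro ⟨h, -⟩; exact hi h.symm
  have h2 : aMat m F * Matrix.single (Fin.last (m + 2)) (0 : Fin (m + 3)) l =
      Matrix.single (Fin.last (m + 2)) 0 l + Matrix.single (pen m) 0 l := by
    ext i j
    by_cases hj : j = 0
    · subst hj
      rw [Matrix.mul_single_apply_same, Matrix.add_apply]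
      unfold aMat pen
      simp only [of_apply, Matrix.single_apply]
      by_cases hi : i = Fin.last (m + 2)
      · subst hi
        have : ¬ ((⟨m + 1, by omega⟩ : Fin (m + 3)) = Fin.last (m + 2)) := by
          intro h; have := congrArg Fin.val h; simp at this
        simp [this]
      · by_cases hi2 : i = ⟨m + 1, by omega⟩
        · subst hi2
          have : ¬ ((Fin.last (m + 2) : Fin (m + 3)) = ⟨m + 1, by omega⟩) := by
            intro h; have := congrArg Fin.val h; simp at this
          simp [this]
        · have h4 : ¬ (Fin.last (m + 2) = i) := fun h => hi h.symm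
          have h5 : ¬ ((⟨m + 1, by omega⟩ : Fin (m + 3)) = i) := fun h => hi2 h.symm
          have h6 : ¬ (i.val + 1 = (Fin.last (m + 2) : Fin (m + 3)).val) := by
            intro h
            apply hi2
            ext
            simp at h ⊢
            omega
          have h7 : ¬ (i.val = m + 1) := by
            intro h
            apply hi2
            ext
            simpa using h
          simp [hi, h4, h5, h6, h7]
    · rw [Matrix.mul_single_apply_of_ne l _ _ _ _ hj, Matrix.add_apply,
        Matrix.single_apply_of_ne, Matrix.single_apply_of_ne, add_zero]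
      · rintro ⟨-, h⟩; exact hj h.symm
      · rintro ⟨-, h⟩; exact hj h.symm
  have h3 : Matrix.single (Fin.last (m + 2)) (1 : Fin (m + 3)) l *
      Matrix.single (Fin.last (m + 2)) (0 : Fin (m + 3)) l = 0 :=
    Matrix.single_mul_single_of_ne l _ _ _ hl1.symm l
  have h4 : Matrix.single (pen m) (0 : Fin (m + 3)) l *
      Matrix.single (Fin.last (m + 2)) (0 : Fin (m + 3)) l = 0 :=
    Matrix.single_mul_single_of_ne l _ _ _ hl0.symm l
  unfold g4 v4
  rw [Matrix.add_mul, Matrix.one_mul, Matrix.mul_add, Matrix.mul_one, Matrix.sub_mul,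
    Matrix.add_mul, h1, h2, h3, h4]
  abel

end Cfsg.Agent.Lib.Helper21.RU4
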