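import Mathlib
import Cfsg.Prelude.Def_Blocks
import Cfsg.Agent.Lib.Helper34.GenChar
import Cfsg.Agent.S0164

set_option autoImplicit false
set_option linter.unusedSectionVars false

namespace Cfsg.Agent.Lib.Helper21

open Cfsg
open scoped ComplexConjugate
open Cfsg.Agent.Lib.Helper83 Cfsg.Agent.Lib.Helper34

universe u

section Structure

variable {E : Type u} [Group E]

theorem mem_of_coprime_orderOf_index (C : Subgroup E) [C.Normal] {y : E}
    (h : Nat.Coprime (orderOf y) C.index) : y ∈ C := by
  obtain ⟨m, hm⟩ := exists_pow_eq_self_of_coprime h.symm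
  rw [← hm]
  exact C.pow_mem (C.pow_index_mem y) m

theorem zpowers_normal_of_mem_center {x : E} (hx : x ∈ Subgroup.center E) :
    (Subgroup.zpowers x).Normal := by
  constructor
  intro y hy g
  have hyc : y ∈ Subgroup.center E := (Subgroup.zpowers_le.2 hx) hy
  have : g * y * g⁻¹ = y := by
    rw [Subgroup.mem_center_iff] at hyc
    rw [hyc g, mul_inv_cancel_right]
  rw [this]
  exact hy

/-- An elementary group (for any prime `q`) has a normal `p`-complement, for any prime `p`. -/
theorem exists_normal_pComplement_of_isElementary [Finite E] (p q : ℕ) [Fact p.Prime]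
    (hq : q.Prime) (hE : IsElementary q E) :
    ∃ A : Subgroup E, A.Normal ∧ ¬ p ∣ Nat.card A ∧ ∃ j : ℕ, A.index = p ^ j := by
  have hp : p.Prime := Fact.out
  obtain ⟨x, hx, hcop, k, hk⟩ := hE
  have hCn : (Subgroup.zpowers x).Normal := zpowers_normal_of_mem_center hx
  by_cases hpq : q = p
  · subst hpq
    refine ⟨Subgroup.zpowers x, hCn, ?_, k, hk⟩
    rw [Nat.card_zpowers]
    intro hdvd
    have := Nat.Coprime.eq_one_of_dvd hcop.symm hdvd
    exact hq.one_lt.ne' this
  · obtain P : Sylow p E := default
    have hPC : (P : Subgroup E) ≤ Subgroup.zpowers x := by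
      intro u hu
      apply mem_of_coprime_orderOf_index
      rw [hk]
      obtain ⟨j, hj⟩ := (IsPGroup.iff_orderOf.1 P.2) ⟨u, hu⟩
      have : orderOf u = p ^ j := by
        rw [← hj, ← Subgroup.orderOf_coe]
      rw [this]
      apply Nat.Coprime.pow
      exact (Nat.coprime_primes hp hq).2 (fun h => hpq h.symm)
    have hPcen : ∀ u ∈ (P : Subgroup E), u ∈ Subgroup.center E := fun u hu =>
      (Subgroup.zpowers_le.2 hx) (hPC hu)
    have hP : Subgroup.normalizer (P : Set E) ≤ Subgroup.centralizer (P : Set E) := by
      intro g _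
      rw [Subgroup.mem_centralizer_iff]
      intro u hu
      have := hPcen u hu
      rw [Subgroup.mem_center_iff] at this
      exact (this g).symm
    refine ⟨(MonoidHom.transferSylow P hP).ker, inferInstance,
      MonoidHom.not_dvd_card_ker_transferSylow P hP, ?_⟩
    rw [(MonoidHom.ker_transferSylow_isComplement' P hP).symm.index_eq_card]
    exact IsPGroup.iff_card.1 P.2

/-- A normal `p`-complement consists exactly of the `p`-regular elements. -/
theorem mem_pComplement_iff (p : ℕ) [Fact p.Prime] (A : Subgroup E) [Finite A] [A.Normal]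
    (hA : ¬ p ∣ Nat.card A) {j : ℕ} (hj : A.index = p ^ j) (y : E) :
    y ∈ A ↔ ¬ p ∣ orderOf y := by
  have hp : p.Prime := Fact.out
  constructor
  · intro hy hdvd
    apply hA
    have h1 : orderOf (⟨y, hy⟩ : A) ∣ Nat.card A := orderOf_dvd_natCard _
    have h2 : orderOf (⟨y, hy⟩ : A) = orderOf y := by
      rw [← Subgroup.orderOf_coe]
    rw [h2] at h1
    exact dvd_trans hdvd h1
  · intro hy
    apply mem_of_coprime_orderOf_index
    rw [hj]
    apply Nat.Coprime.pow_right
    exact ((Nat.Prime.coprime_iff_not_dvd hp).2 hy).symm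

end Structure

section Induced

variable {E : Type u} [Group E] [Fintype E]

/-- Inducing the trivial character from a normal subgroup. -/
theorem indFun_one_of_normal (A : Subgroup E) [A.Normal] [DecidablePred (· ∈ A)] (y : E) :
    indFun A (fun _ : A => (1 : ℂ)) y = if y ∈ A then (A.index : ℂ) else 0 := by
  have hA0 : (Nat.card A : ℂ) ≠ 0 := by
    have : Nat.card A ≠ 0 := Nat.card_pos.ne'
    exact_mod_cast this
  rw [indFun_apply]
  split_ifs with hy
  · have : ∀ x : E, extendByZero A (fun _ : A => (1 : ℂ)) (x⁻¹ * y * x) = 1 := by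
      intro x
      have hmem : x⁻¹ * y * x ∈ A := by
        have := ‹A.Normal›.conj_mem y hy x⁻¹
        simpa using this
      rw [extendByZero_apply_mem A _ hmem]
    rw [Finset.sum_congr rfl (fun x _ => this x), Finset.sum_const, Finset.card_univ,
      nsmul_eq_mul, mul_one, ← Nat.card_eq_fintype_card]
    have := A.index_mul_card
    have h2 : (Nat.card E : ℂ) = (A.index : ℂ) * (Nat.card A : ℂ) := by exact_mod_cast this.symm
    rw [h2]
    field_simp
  · have : ∀ x : E, extendByZero A (fun _ : A => (1 : ℂ)) (x⁻¹ * y * x) = 0 := by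
      intro x
      have hmem : x⁻¹ * y * x ∉ A := by
        intro h
        apply hy
        have := ‹A.Normal›.conj_mem _ h x
        simpa [mul_assoc] using this
      rw [extendByZero_apply_not_mem A _ hmem]
    rw [Finset.sum_congr rfl (fun x _ => this x), Finset.sum_const_zero, mul_zero]

/-- On an elementary group, `N` times the indicator of the `p`-regular elements is a character
as soon as the `p`-part of the group order divides `N`. -/
theorem isCharacter_regIndicator_of_isElementary (p q : ℕ) [Fact p.Prime] (hq : q.Prime)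
    (hE : IsElementary q E) (N : ℕ) (hN : ∀ j : ℕ, p ^ j ∣ Nat.card E → p ^ j ∣ N) :
    IsCharacter E (fun y : E => if p ∣ orderOf y then (0 : ℂ) else (N : ℂ)) := by
  classical
  obtain ⟨A, hAn, hAc, j, hj⟩ := exists_normal_pComplement_of_isElementary p q hq hE
  have hdvd : p ^ j ∣ N := by
    apply hN
    rw [← hj]
    exact A.index_dvd_card
  obtain ⟨c, hc⟩ := hdvd
  have hch : IsCharacter E ((c : ℂ) • indFun A (fun _ : A => (1 : ℂ))) :=
    isCharacter_nsmul c (isCharacter_indFun A isCharacter_one)
  convert hch using 1
  funext y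
  rw [Pi.smul_apply, indFun_one_of_normal, hj]
  have hmem := mem_pComplement_iff p A hAc hj y
  by_cases hy : p ∣ orderOf y
  · have : y ∉ A := fun h => (hmem.1 h) hy
    rw [if_pos hy, if_neg this, smul_zero]
  · have : y ∈ A := hmem.2 hy
    rw [if_neg hy, if_pos this, hc]
    push_cast
    rw [smul_eq_mul]
    ring

end Induced

section Main

variable {G : Type u} [Group G] [Fintype G]

/-- `|G|_p` times the indicator function of the `p`-regular elements is a generalized
character. -/
theorem isGeneralizedCharacter_regIndicator (p : ℕ) [Fact p.Prime] :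
    IsGeneralizedCharacter G (fun g : G => if p ∣ orderOf g then (0 : ℂ) else
      ((p ^ (Nat.card G).factorization p : ℕ) : ℂ)) := by
  classical
  have hp : p.Prime := Fact.out
  apply Cfsg.Agent.S0164.result
  · intro g h
    have ho : orderOf (h * g * h⁻¹) = orderOf g := by
      have := orderOf_injective (MulAut.conj h).toMonoidHom (MulAut.conj h).injective g
      simpa [MulAut.conj_apply] using this
    simp only [ho]
  · intro E q hq hE
    have : Fintype E := Fintype.ofFinite _
    have hch := isCharacter_regIndicator_of_isElementary (E := E) p q hq hE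
      (p ^ (Nat.card G).factorization p) (by
        intro j hj
        have h1 : p ^ j ∣ Nat.card G := dvd_trans hj (Subgroup.card_subgroup_dvd_card E)
        have h2 : j ≤ (Nat.card G).factorization p :=
          (hp.pow_dvd_iff_le_factorization Nat.card_pos.ne').1 h1
        exact pow_dvd_pow p h2)
    have := IsCharacter.isGeneralizedCharacter hch
    convert this using 2
    rw [Subgroup.orderOf_coe]

/-- For a character `χ`, the function `|G|_p · χ` on `p`-regular elements, `0` elsewhere, is a
generalized character. -/
theorem isGeneralizedCharacter_regPart (p : ℕ) [Fact p.Prime] {χ : G → ℂ} (hχ : IsCharacter G χ) :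
    IsGeneralizedCharacter G (fun g : G => if p ∣ orderOf g then (0 : ℂ) else
      ((p ^ (Nat.card G).factorization p : ℕ) : ℂ) * χ g) := by
  obtain ⟨a, b, ha, hb, hab⟩ := isGeneralizedCharacter_regIndicator (G := G) p
  refine ⟨a * χ, b * χ, isCharacter_mul ha hχ, isCharacter_mul hb hχ, ?_⟩
  funext g
  have := congrFun hab g
  simp only [Pi.sub_apply, Pi.mul_apply] at this ⊢
  rw [← sub_mul, ← this]
  split_ifs
  · rw [zero_mul]
  · rfl

end Main

end Cfsg.Agent.Lib.Helper21
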