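import Mathlib
import Cfsg.Prelude.Def_Blocks
import Cfsg.Agent.Lib.Helper21.RegularGenChar
import Cfsg.Agent.Lib.Helper21.SylowVanish
import Cfsg.Agent.Lib.Helper21.NilpBridge

set_option autoImplicit false
set_option linter.unusedSectionVars false

namespace Cfsg.Agent.Lib.Helper21

open Cfsg
open scoped ComplexConjugate
open Cfsg.Agent.Lib.Helper82 Cfsg.Agent.Lib.Helper83

universe u

section Arith

variable {p : ℕ} [Fact p.Prime] {M : Ideal AlgInt}

/-- An integer `z` with `z / p^b` a local integer is divisible by `p^b`. -/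
theorem int_pow_dvd_of_memLocalRing_div (hMp : IsPModular p M) (b : ℕ) (z : ℤ)
    (h : MemLocalRing M ((z : ℂ) / (p : ℂ) ^ b)) : (p : ℤ) ^ b ∣ z := by
  have hp : p.Prime := Fact.out
  have hM : M.IsPrime := hMp.2.1.isPrime
  have hpc : (p : ℂ) ≠ 0 := by exact_mod_cast hp.ne_zero
  have hpI : MemLocalIdeal M (p : ℂ) := by
    have := (memLocalIdeal_natCast_iff hMp p).2 (dvd_refl p)
    exact this
  induction b generalizing z with
  | zero => simp
  | succ b ih =>
    have h1 : MemLocalRing M ((z : ℂ) / (p : ℂ) ^ b) := by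
      have := memLocalRing_mul hM (memLocalRing_natCast hM p) h
      convert this using 1
      rw [pow_succ]
      field_simp
    obtain ⟨w, rfl⟩ := ih z h1
    have h2 : MemLocalRing M ((w : ℂ) / (p : ℂ)) := by
      convert h using 1
      push_cast
      rw [pow_succ]
      field_simp
    have h3 : MemLocalIdeal M ((w : ℤ) : ℂ) := by
      have := memLocalIdeal_mul_right hM hpI h2
      convert this using 1
      field_simp
    rw [memLocalIdeal_intCast_iff hMp] at h3
    obtain ⟨v, rfl⟩ := h3
    exact ⟨v, by rw [pow_succ]; ring⟩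

end Arith

section Inner

variable {G : Type u} [Group G] [Fintype G]

/-- The inner product of a truncated character with an irreducible character, first form. -/
theorem inner_regPart_eq_left (p : ℕ) (χ ψ : IrrCharacter G) (c : ℂ) :
    classInner (fun g : G => if p ∣ orderOf g then (0 : ℂ) else c * (χ : G → ℂ) g) (ψ : G → ℂ)
      = c / (Nat.card G : ℂ) * ((χ : G → ℂ) 1 * omega (regConj p (ψ : G → ℂ)) (χ : G → ℂ)) := by
  have hχ1 : (χ : G → ℂ) 1 ≠ 0 := IsIrrCharacter.apply_one_ne_zero χ.2
  rw [classInner_def, omega]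
  have hsum : ∑ g : G, (if p ∣ orderOf g then (0 : ℂ) else c * (χ : G → ℂ) g) * conj ((ψ : G → ℂ) g)
      = c * ∑ g : G, regConj p (ψ : G → ℂ) g * (χ : G → ℂ) g := by
    rw [Finset.mul_sum]
    apply Finset.sum_congr rfl
    intro g _
    rw [regConj_apply]
    split_ifs
    · simp
    · ring
  rw [hsum]
  field_simp

/-- The inner product of a truncated character with an irreducible character, second form. -/
theorem inner_regPart_eq_right (p : ℕ) (χ ψ : IrrCharacter G) (c : ℂ) :
    classInner (fun g : G => if p ∣ orderOf g then (0 : ℂ) else c * (χ : G → ℂ) g) (ψ : G → ℂ)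
      = c / (Nat.card G : ℂ) * ((ψ : G → ℂ) 1 * omega (regConj p (χ : G → ℂ)) (ψ : G → ℂ)) := by
  have hψ1 : (ψ : G → ℂ) 1 ≠ 0 := IsIrrCharacter.apply_one_ne_zero ψ.2
  have hψc : IsCharacter G (ψ : G → ℂ) := IrrCharacter_isCharacter ψ
  have hχc : IsCharacter G (χ : G → ℂ) := IrrCharacter_isCharacter χ
  rw [classInner_def, omega]
  have hsum : ∑ g : G, (if p ∣ orderOf g then (0 : ℂ) else c * (χ : G → ℂ) g) * conj ((ψ : G → ℂ) g)
      = c * ∑ g : G, regConj p (χ : G → ℂ) g * (ψ : G → ℂ) g := by
    rw [← Equiv.sum_comp (Equiv.inv G), Finset.mul_sum]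
    apply Finset.sum_congr rfl
    intro g _
    simp only [Equiv.inv_apply, orderOf_inv, regConj_apply]
    split_ifs
    · simp
    · rw [char_inv hψc, Complex.conj_conj, char_inv hχc]
      ring
  rw [hsum]
  field_simp

end Inner

end Cfsg.Agent.Lib.Helper21
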