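import Mathlib
import Cfsg.Prelude.Def_Blocks
import Cfsg.Agent.Lib.Helper21.Contribution
import Cfsg.Agent.Lib.Helper83.Abelian
import Cfsg.Agent.S4425
import Cfsg.Agent.S4426

set_option autoImplicit false
set_option linter.unusedSectionVars false

namespace Cfsg.Agent.Lib.Helper21

open Cfsg
open scoped ComplexConjugate
open Cfsg.Agent.Lib.Helper82 Cfsg.Agent.Lib.Helper83

universe u
variable {G : Type u} [Group G] [Fintype G] [Fintype (IrrCharacter G)]
variable (p : ℕ) [Fact p.Prime]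

/-- The exponent `a - ν_p(χ(1))`. -/
noncomputable def rowExp (χ : IrrCharacter G) : ℕ :=
  (Nat.card G).factorization p - (charDegree (χ : G → ℂ)).factorization p

/-- The generalized character `p^(a-b) χ` on `p`-regular elements, zero elsewhere. -/
noncomputable def rowFun (χ : IrrCharacter G) : G → ℂ :=
  fun x => if p ∣ orderOf x then (0 : ℂ) else ((p ^ rowExp p χ : ℕ) : ℂ) * (χ : G → ℂ) x

theorem rowFun_isGeneralizedCharacter (χ : IrrCharacter G) :
    IsGeneralizedCharacter G (rowFun p χ) :=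
  (Cfsg.Agent.S4425.result p χ).1

theorem exists_rowInt (χ ψ : IrrCharacter G) :
    ∃ n : ℤ, classInner (rowFun p χ) (ψ : G → ℂ) = n :=
  Cfsg.Agent.Lib.Helper34.classInner_genChar_int (rowFun_isGeneralizedCharacter p χ)
    (Cfsg.Agent.Lib.Helper34.isGeneralizedCharacter_of_irr ψ.2)

/-- The integer contribution `p^(a-b) [χ°, ψ]`. -/
noncomputable def rowInt (χ ψ : IrrCharacter G) : ℤ := Classical.choose (exists_rowInt p χ ψ)

theorem rowInt_spec (χ ψ : IrrCharacter G) :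
    classInner (rowFun p χ) (ψ : G → ℂ) = (rowInt p χ ψ : ℂ) :=
  Classical.choose_spec (exists_rowInt p χ ψ)

theorem rowInt_eq_left (χ ψ : IrrCharacter G) :
    (rowInt p χ ψ : ℂ) = ((p ^ rowExp p χ : ℕ) : ℂ) / (Nat.card G : ℂ) *
      ((χ : G → ℂ) 1 * omega (regConj p (ψ : G → ℂ)) (χ : G → ℂ)) := by
  rw [← rowInt_spec]
  unfold rowFun
  rw [inner_regPart_eq_left]

theorem rowInt_eq_right (χ ψ : IrrCharacter G) :
    (rowInt p χ ψ : ℂ) = ((p ^ rowExp p χ : ℕ) : ℂ) / (Nat.card G : ℂ) *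
      ((ψ : G → ℂ) 1 * omega (regConj p (χ : G → ℂ)) (ψ : G → ℂ)) := by
  rw [← rowInt_spec]
  unfold rowFun
  rw [inner_regPart_eq_right]

theorem rowFun_eq_sum (χ : IrrCharacter G) :
    rowFun p χ = ∑ ψ : IrrCharacter G, ((rowInt p χ ψ : ℤ) : ℂ) • (ψ : G → ℂ) := by
  have h := classFunction_eq_sum_irr
    (Cfsg.Agent.Lib.Helper34.isGeneralizedCharacter_isClassFunction
      (rowFun_isGeneralizedCharacter p χ))
  simp only [rowInt_spec] at h
  exact h

/-- Parseval for the row of `χ`. -/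
theorem sum_rowInt_sq (χ : IrrCharacter G) :
    ∑ ψ : IrrCharacter G, rowInt p χ ψ ^ 2 = (p : ℤ) ^ rowExp p χ * rowInt p χ χ := by
  have h1 : classInner (rowFun p χ) (rowFun p χ)
      = ((∑ ψ : IrrCharacter G, rowInt p χ ψ * rowInt p χ ψ : ℤ) : ℂ) := by
    conv_lhs => rw [rowFun_eq_sum p χ]
    exact Cfsg.Agent.Lib.Helper34.classInner_int_combo _ _
  have h2 : classInner (rowFun p χ) (rowFun p χ)
      = ((p ^ rowExp p χ : ℕ) : ℂ) * classInner (rowFun p χ) (χ : G → ℂ) := by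
    rw [classInner_def, classInner_def]
    have : ∑ g : G, rowFun p χ g * conj (rowFun p χ g)
        = ((p ^ rowExp p χ : ℕ) : ℂ) * ∑ g : G, rowFun p χ g * conj ((χ : G → ℂ) g) := by
      rw [Finset.mul_sum]
      apply Finset.sum_congr rfl
      intro g _
      simp only [rowFun]
      split_ifs
      · simp
      · rw [map_mul, Complex.conj_natCast]
        ring
    rw [this]
    ring
  rw [h2, rowInt_spec] at h1
  have h3 : (((p : ℤ) ^ rowExp p χ * rowInt p χ χ : ℤ) : ℂ)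
      = ((∑ ψ : IrrCharacter G, rowInt p χ ψ ^ 2 : ℤ) : ℂ) := by
    push_cast at h1 ⊢
    rw [h1]
    apply Finset.sum_congr rfl
    intro ψ _
    ring
  exact_mod_cast h3.symm

/-- The diagonal entry as a real sum. -/
theorem rowInt_self_eq (χ : IrrCharacter G) :
    ((rowInt p χ χ : ℤ) : ℝ) = ((p ^ rowExp p χ : ℕ) : ℝ) / (Nat.card G : ℝ) *
      ∑ g : G, (if p ∣ orderOf g then 0 else Complex.normSq ((χ : G → ℂ) g)) := by
  have h : ((rowInt p χ χ : ℤ) : ℂ) = (((p ^ rowExp p χ : ℕ) : ℝ) / (Nat.card G : ℝ) *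
      ∑ g : G, (if p ∣ orderOf g then 0 else Complex.normSq ((χ : G → ℂ) g)) : ℝ) := by
    rw [← rowInt_spec, classInner_def]
    have : ∑ g : G, rowFun p χ g * conj ((χ : G → ℂ) g)
        = ((p ^ rowExp p χ : ℕ) : ℂ) * ((∑ g : G, (if p ∣ orderOf g then 0 else
          Complex.normSq ((χ : G → ℂ) g)) : ℝ) : ℂ) := by
      push_cast
      rw [Finset.mul_sum]
      apply Finset.sum_congr rfl
      intro g _
      simp only [rowFun]
      split_ifs
      · simp
      · push_cast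
        rw [mul_assoc, Complex.mul_conj]
    rw [this]
    push_cast
    ring
  exact_mod_cast h

theorem rowInt_self_pos (χ : IrrCharacter G) : 0 < rowInt p χ χ := by
  have hp : p.Prime := Fact.out
  have h := rowInt_self_eq p χ
  have hpos : (0 : ℝ) < ((rowInt p χ χ : ℤ) : ℝ) := by
    rw [h]
    apply mul_pos
    · apply div_pos
      · exact_mod_cast pow_pos hp.pos _
      · exact_mod_cast Nat.card_pos
    · apply Finset.sum_pos'
      · intro g _
        split_ifs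
        · exact le_refl _
        · exact Complex.normSq_nonneg _
      · refine ⟨1, Finset.mem_univ _, ?_⟩
        rw [orderOf_one, if_neg (by intro h; exact hp.one_lt.ne' (Nat.dvd_one.1 h))]
        rw [Complex.normSq_pos]
        exact IsIrrCharacter.apply_one_ne_zero χ.2
  exact_mod_cast hpos

theorem rowInt_self_le (χ : IrrCharacter G) : rowInt p χ χ ≤ (p : ℤ) ^ rowExp p χ := by
  have hp : p.Prime := Fact.out
  have h := rowInt_self_eq p χ
  have hG : (0 : ℝ) < (Nat.card G : ℝ) := by exact_mod_cast Nat.card_pos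
  have hle : ((rowInt p χ χ : ℤ) : ℝ) ≤ ((p ^ rowExp p χ : ℕ) : ℝ) := by
    rw [h]
    have hs : ∑ g : G, (if p ∣ orderOf g then 0 else Complex.normSq ((χ : G → ℂ) g))
        ≤ (Nat.card G : ℝ) := by
      rw [← irr_sum_normSq χ]
      apply Finset.sum_le_sum
      intro g _
      split_ifs
      · exact Complex.normSq_nonneg _
      · exact le_refl _
    calc ((p ^ rowExp p χ : ℕ) : ℝ) / (Nat.card G : ℝ) *
          ∑ g : G, (if p ∣ orderOf g then 0 else Complex.normSq ((χ : G → ℂ) g))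
        ≤ ((p ^ rowExp p χ : ℕ) : ℝ) / (Nat.card G : ℝ) * (Nat.card G : ℝ) := by
          apply mul_le_mul_of_nonneg_left hs
          apply div_nonneg
          · exact_mod_cast Nat.zero_le _
          · exact hG.le
      _ = ((p ^ rowExp p χ : ℕ) : ℝ) := by
          field_simp
  exact_mod_cast hle

section Local

variable {p} {M : Ideal AlgInt} (hMp : IsPModular p M)
include hMp

theorem charDegree_ne_zero (χ : IrrCharacter G) : charDegree (χ : G → ℂ) ≠ 0 := by
  have hχ1 : (χ : G → ℂ) 1 ≠ 0 := IsIrrCharacter.apply_one_ne_zero χ.2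
  have hdegχ : (charDegree (χ : G → ℂ) : ℂ) = (χ : G → ℂ) 1 :=
    charDegree_cast (IrrCharacter_isCharacter χ)
  intro h0
  rw [h0] at hdegχ
  exact hχ1 (by rw [← hdegχ]; simp)

theorem factorization_charDegree_le (χ : IrrCharacter G) :
    (charDegree (χ : G → ℂ)).factorization p ≤ (Nat.card G).factorization p := by
  have hdvd := IsIrrCharacter.charDegree_dvd_card χ.2
  exact (Nat.factorization_le_iff_dvd (charDegree_ne_zero hMp χ) Nat.card_pos.ne').2 hdvd p

/-- `p^k ∣ rowInt χ ψ` as soon as `ν(ψ(1)) ≥ ν(χ(1)) + k`. -/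
theorem pow_dvd_rowInt (χ ψ : IrrCharacter G) (k : ℕ)
    (hk : (charDegree (χ : G → ℂ)).factorization p + k
      ≤ (charDegree (ψ : G → ℂ)).factorization p) :
    (p : ℤ) ^ k ∣ rowInt p χ ψ := by
  have hp : p.Prime := Fact.out
  have hM : M.IsPrime := hMp.2.1.isPrime
  apply int_pow_dvd_of_memLocalRing_div hMp
  rw [rowInt_eq_right]
  have hG0 : Nat.card G ≠ 0 := Nat.card_pos.ne'
  have hpc : (p : ℂ) ≠ 0 := by exact_mod_cast hp.ne_zero
  have e : ((p ^ rowExp p χ : ℕ) : ℂ) / (Nat.card G : ℂ) *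
      ((ψ : G → ℂ) 1 * omega (regConj p (χ : G → ℂ)) (ψ : G → ℂ)) / (p : ℂ) ^ k
      = (((p ^ rowExp p χ * charDegree (ψ : G → ℂ) : ℕ) : ℂ) / ((p ^ k * Nat.card G : ℕ) : ℂ)) *
        omega (regConj p (χ : G → ℂ)) (ψ : G → ℂ) := by
    push_cast
    rw [charDegree_cast (IrrCharacter_isCharacter ψ)]
    have hGc : (Nat.card G : ℂ) ≠ 0 := by exact_mod_cast hG0
    field_simp
  rw [e]
  apply memLocalRing_mul hM
  · apply memLocalRing_natCast_div hMp (Nat.mul_ne_zero (pow_ne_zero _ hp.ne_zero) hG0)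
    rw [Nat.factorization_mul (pow_ne_zero _ hp.ne_zero) hG0,
      Nat.factorization_mul (pow_ne_zero _ hp.ne_zero) (charDegree_ne_zero hMp ψ),
      Nat.factorization_pow, Nat.factorization_pow]
    simp only [Finsupp.add_apply, Finsupp.smul_apply, hp.factorization_self, smul_eq_mul, mul_one]
    have := factorization_charDegree_le hMp χ
    unfold rowExp
    omega
  · exact memLocalRing_omega hM (regConj_isClassFunction p (isClassFunction_irr χ))
      (regConj_memLocalRing p hM χ) ψ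

/-- The unit `p^e χ(1)/|G|`. -/
theorem rowInt_ne_zero_of_omega (χ ψ : IrrCharacter G)
    (h : omega (regConj p (ψ : G → ℂ)) (χ : G → ℂ) ≠ 0) : rowInt p χ ψ ≠ 0 := by
  have hp : p.Prime := Fact.out
  intro h0
  have e := rowInt_eq_left p χ ψ
  rw [h0] at e
  have hχ1 : (χ : G → ℂ) 1 ≠ 0 := IsIrrCharacter.apply_one_ne_zero χ.2
  have hG0 : (Nat.card G : ℂ) ≠ 0 := card_ne_zero_complex
  have hpe : ((p ^ rowExp p χ : ℕ) : ℂ) ≠ 0 := by
    have : p ^ rowExp p χ ≠ 0 := pow_ne_zero _ hp.ne_zero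
    exact_mod_cast this
  have : ((p ^ rowExp p χ : ℕ) : ℂ) / (Nat.card G : ℂ) *
      ((χ : G → ℂ) 1 * omega (regConj p (ψ : G → ℂ)) (χ : G → ℂ)) ≠ 0 :=
    mul_ne_zero (div_ne_zero hpe hG0) (mul_ne_zero hχ1 h)
  apply this
  rw [← e]
  simp

theorem rowInt_ne_zero_of_omega_right (χ ψ : IrrCharacter G)
    (h : omega (regConj p (χ : G → ℂ)) (ψ : G → ℂ) ≠ 0) : rowInt p χ ψ ≠ 0 := by
  have hp : p.Prime := Fact.out
  intro h0
  have e := rowInt_eq_right p χ ψ
  rw [h0] at e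
  have hψ1 : (ψ : G → ℂ) 1 ≠ 0 := IsIrrCharacter.apply_one_ne_zero ψ.2
  have hG0 : (Nat.card G : ℂ) ≠ 0 := card_ne_zero_complex
  have hpe : ((p ^ rowExp p χ : ℕ) : ℂ) ≠ 0 := by
    have : p ^ rowExp p χ ≠ 0 := pow_ne_zero _ hp.ne_zero
    exact_mod_cast this
  have : ((p ^ rowExp p χ : ℕ) : ℂ) / (Nat.card G : ℂ) *
      ((ψ : G → ℂ) 1 * omega (regConj p (χ : G → ℂ)) (ψ : G → ℂ)) ≠ 0 :=
    mul_ne_zero (div_ne_zero hpe hG0) (mul_ne_zero hψ1 h)
  apply this
  rw [← e]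
  simp

/-- If `ω_χ(regConj χ)` lies in the local ideal (positive height) then `p ∣ rowInt χ χ`. -/
theorem dvd_rowInt_self (χ : IrrCharacter G)
    (h : MemLocalIdeal M (omega (regConj p (χ : G → ℂ)) (χ : G → ℂ))) :
    (p : ℤ) ∣ rowInt p χ χ := by
  have hp : p.Prime := Fact.out
  have hM : M.IsPrime := hMp.2.1.isPrime
  have hG0 : Nat.card G ≠ 0 := Nat.card_pos.ne'
  have hI : MemLocalIdeal M ((rowInt p χ χ : ℤ) : ℂ) := by
    rw [rowInt_eq_left]
    have e : ((p ^ rowExp p χ : ℕ) : ℂ) / (Nat.card G : ℂ) *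
        ((χ : G → ℂ) 1 * omega (regConj p (χ : G → ℂ)) (χ : G → ℂ))
        = (((p ^ rowExp p χ * charDegree (χ : G → ℂ) : ℕ) : ℂ) / ((Nat.card G : ℕ) : ℂ)) *
          omega (regConj p (χ : G → ℂ)) (χ : G → ℂ) := by
      push_cast
      rw [charDegree_cast (IrrCharacter_isCharacter χ)]
      have hGc : (Nat.card G : ℂ) ≠ 0 := by exact_mod_cast hG0
      field_simp
    rw [e]
    apply memLocalIdeal_mul_left hM _ h
    apply memLocalRing_natCast_div hMp hG0
    rw [Nat.factorization_mul (pow_ne_zero _ hp.ne_zero) (charDegree_ne_zero hMp χ),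
      Nat.factorization_pow]
    simp only [Finsupp.add_apply, Finsupp.smul_apply, hp.factorization_self, smul_eq_mul, mul_one]
    have := factorization_charDegree_le hMp χ
    unfold rowExp
    omega
  rw [memLocalIdeal_intCast_iff hMp] at hI
  exact hI

end Local

/-- The arithmetic core of the Brauer–Feit bound. -/
theorem brauerFeit_arith {ι : Type*} [Fintype ι] [DecidableEq ι] (n : ι → ℤ) (w : ι → ℕ)
    (S : Finset ι) (i₀ : ι) (hi₀ : i₀ ∈ S) (P : ℕ)
    (hsum : ∑ i, n i ^ 2 = (P : ℤ) * n i₀)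
    (hw : ∀ i ∈ S, i ≠ i₀ → ((w i : ℤ)) ^ 2 ≤ n i ^ 2) (hw0 : w i₀ = 1) :
    ∑ i ∈ S, w i ^ 2 ≤ P ^ 2 / 4 + 1 := by
  have h1 : ∑ i ∈ S, ((w i : ℤ)) ^ 2 ≤ 1 + ∑ i ∈ Finset.univ.erase i₀, n i ^ 2 := by
    rw [← Finset.add_sum_erase S _ hi₀, hw0]
    have h2 : ∑ i ∈ S.erase i₀, ((w i : ℤ)) ^ 2 ≤ ∑ i ∈ S.erase i₀, n i ^ 2 := by
      apply Finset.sum_le_sum
      intro i hi
      rw [Finset.mem_erase] at hi
      exact hw i hi.2 hi.1
    have h3 : ∑ i ∈ S.erase i₀, n i ^ 2 ≤ ∑ i ∈ Finset.univ.erase i₀, n i ^ 2 := by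
      apply Finset.sum_le_sum_of_subset_of_nonneg
      · intro i hi
        rw [Finset.mem_erase] at hi ⊢
        exact ⟨hi.1, Finset.mem_univ _⟩
      · intro i _ _
        exact sq_nonneg _
    simp only [Nat.cast_one, one_pow]
    linarith
  have h4 : ∑ i ∈ Finset.univ.erase i₀, n i ^ 2 = (P : ℤ) * n i₀ - n i₀ ^ 2 := by
    rw [← hsum, ← Finset.add_sum_erase Finset.univ _ (Finset.mem_univ i₀)]
    ring
  have h5 : 4 * ((P : ℤ) * n i₀ - n i₀ ^ 2) ≤ (P : ℤ) ^ 2 := by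
    nlinarith [sq_nonneg ((P : ℤ) - 2 * n i₀)]
  set X := ∑ i ∈ S, w i ^ 2 with hX
  have hXc : ((X : ℕ) : ℤ) = ∑ i ∈ S, ((w i : ℤ)) ^ 2 := by
    rw [hX]; push_cast; rfl
  have h6 : 4 * ((X : ℤ) - 1) ≤ (P : ℤ) ^ 2 := by
    rw [hXc]
    linarith
  have h7 : 4 * (X - 1) ≤ P ^ 2 := by
    have : ((4 * (X - 1) : ℕ) : ℤ) ≤ ((P ^ 2 : ℕ) : ℤ) := by
      push_cast
      by_cases hX1 : 1 ≤ X
      · rw [Nat.cast_sub hX1]
        push_cast
        linarith
      · have : X - 1 = 0 := by omega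
        rw [this]
        simp
    exact_mod_cast this
  generalize P ^ 2 = Q at h7 ⊢
  omega

end Cfsg.Agent.Lib.Helper21
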