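import Mathlib
import Cfsg.Prelude.Def_Blocks
import Cfsg.Agent.Lib.Helper21.ContribRow

set_option autoImplicit false
set_option linter.unusedSectionVars false

namespace Cfsg.Agent.Lib.Helper21

open Cfsg
open scoped ComplexConjugate
open Cfsg.Agent.Lib.Helper82 Cfsg.Agent.Lib.Helper83

universe u
variable {G : Type u} [Group G] [Fintype G] [Fintype (IrrCharacter G)]
variable {p : ℕ} [Fact p.Prime] {M : Ideal AlgInt}

/-- A block contains a character whose degree has minimal `p`-part. -/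
theorem exists_min_degree (hM : M.IsPrime) {B : Set (IrrCharacter G)} (hB : IsPBlock M B) :
    ∃ χ₀ ∈ B, (charDegree (χ₀ : G → ℂ)).factorization p =
      sInf ((fun ψ : IrrCharacter G => (charDegree (ψ : G → ℂ)).factorization p) '' B) := by
  obtain ⟨χ₁, hχ₁⟩ := Cfsg.Agent.Lib.Helper82.IsPBlock.nonempty hM hB
  have hTne : ((fun ψ : IrrCharacter G =>
      (charDegree (ψ : G → ℂ)).factorization p) '' B).Nonempty := ⟨_, χ₁, hχ₁, rfl⟩
  obtain ⟨χ, hχ, hχs⟩ := Nat.sInf_mem hTne
  exact ⟨χ, hχ, hχs⟩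

/-- Brauer–Feit, weighted form: `Σ_{χ ∈ B} p^(2 ht χ) ≤ p^(2d)/4 + 1`. -/
theorem sum_pow_height_le (hMp : IsPModular p M) {B : Set (IrrCharacter G)} (hB : IsPBlock M B) :
    ∑ᶠ χ ∈ B, p ^ (2 * blockHeight p B (χ : G → ℂ)) ≤ (p ^ blockDefect p B) ^ 2 / 4 + 1 := by
  classical
  have hp : p.Prime := Fact.out
  have hM : M.IsPrime := hMp.2.1.isPrime
  obtain ⟨χ₀, hχ₀, hχ₀s⟩ := exists_min_degree (p := p) hM hB
  have hBχ : B = blockOf M (χ₀ : G → ℂ) := IsPBlock.eq_blockOf hM hB hχ₀
  have hmin : ∀ χ' : IrrCharacter G, SameBlock M (χ₀ : G → ℂ) (χ' : G → ℂ) →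
      (charDegree (χ₀ : G → ℂ)).factorization p ≤ (charDegree (χ' : G → ℂ)).factorization p := by
    intro χ' hs
    have hχ' : χ' ∈ B := by
      rw [hBχ, mem_blockOf_iff]; exact hs
    rw [hχ₀s]
    exact Nat.sInf_le ⟨χ', hχ', rfl⟩
  have hexp : rowExp p χ₀ = blockDefect p B := by
    unfold rowExp blockDefect
    rw [hχ₀s]
  have hht : ∀ ψ : IrrCharacter G, blockHeight p B (ψ : G → ℂ) =
      (charDegree (ψ : G → ℂ)).factorization p - (charDegree (χ₀ : G → ℂ)).factorization p := by
    intro ψ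
    unfold blockHeight
    rw [hχ₀s]
  have hΘc := regConj_isClassFunction p (isClassFunction_irr χ₀)
  have hΘR := regConj_memLocalRing p hM χ₀
  have hα := omega_regConj_not_memLocalIdeal hMp χ₀ hmin
  rw [finsum_mem_eq_finite_toFinset_sum _ (Set.toFinite B)]
  have key := brauerFeit_arith (rowInt p χ₀)
    (fun ψ => p ^ blockHeight p B (ψ : G → ℂ)) (Set.toFinite B).toFinset χ₀
    (by simpa using hχ₀) (p ^ blockDefect p B)
    (by
      rw [sum_rowInt_sq, hexp]
      push_cast
      rfl)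
    (by
      intro ψ hψ _
      have hψB : ψ ∈ B := by simpa using hψ
      have hs : SameBlock M (χ₀ : G → ℂ) (ψ : G → ℂ) := by
        rw [hBχ, mem_blockOf_iff] at hψB
        exact hψB
      have hdvd : (p : ℤ) ^ blockHeight p B (ψ : G → ℂ) ∣ rowInt p χ₀ ψ := by
        apply pow_dvd_rowInt hMp
        rw [hht]
        have := hmin ψ hs
        omega
      have hne : rowInt p χ₀ ψ ≠ 0 := by
        apply rowInt_ne_zero_of_omega_right hMp
        intro h0
        apply hα
        have h1 := omega_sub_memLocalIdeal hM hΘc hΘR hs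
        rw [h0, sub_zero] at h1
        exact h1
      obtain ⟨c, hc⟩ := hdvd
      have hc0 : c ≠ 0 := by
        rintro rfl
        exact hne (by rw [hc, mul_zero])
      rw [hc]
      push_cast
      have hc1 : 1 ≤ c ^ 2 := by
        have : 0 < c ^ 2 := by positivity
        omega
      nlinarith [sq_nonneg ((p : ℤ) ^ blockHeight p B (ψ : G → ℂ))])
    (by
      show p ^ blockHeight p B (χ₀ : G → ℂ) = 1
      rw [hht, Nat.sub_self, pow_zero])
  refine le_trans (le_of_eq ?_) key
  apply Finset.sum_congr rfl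
  intro ψ _
  rw [← pow_mul, mul_comm]

/-- Brauer–Feit: `4 k(B) ≤ p^(2d) + 4`. -/
theorem four_mul_card_block_le (hMp : IsPModular p M) {B : Set (IrrCharacter G)}
    (hB : IsPBlock M B) : 4 * Nat.card B ≤ p ^ (2 * blockDefect p B) + 4 := by
  classical
  have hp : p.Prime := Fact.out
  have h := sum_pow_height_le hMp hB
  rw [finsum_mem_eq_finite_toFinset_sum _ (Set.toFinite B)] at h
  have hcard : Nat.card B ≤ ∑ χ ∈ (Set.toFinite B).toFinset,
      p ^ (2 * blockHeight p B (χ : G → ℂ)) := by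
    rw [Nat.card_eq_card_finite_toFinset (Set.toFinite B), Finset.card_eq_sum_ones]
    apply Finset.sum_le_sum
    intro χ _
    exact Nat.one_le_pow _ _ hp.pos
  have h2 := le_trans hcard h
  rw [← pow_mul, mul_comm] at h2
  generalize p ^ (2 * blockDefect p B) = Q at h2 ⊢
  omega

end Cfsg.Agent.Lib.Helper21
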