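import Mathlib
import Cfsg.Prelude.Def_Blocks
import Cfsg.Agent.Lib.Helper21.OsimaApps
import Cfsg.Agent.Lib.Helper21.SylowAux
import Cfsg.Agent.Lib.Helper83.Quotient
import Cfsg.Agent.Lib.Helper82.VanishOffDefect
import Cfsg.Agent.S0911

set_option autoImplicit false
set_option linter.unusedSectionVars false

namespace Cfsg.Agent.Lib.Helper21

open Cfsg
open scoped ComplexConjugate
open Cfsg.Agent.Lib.Helper82 Cfsg.Agent.Lib.Helper83

universe u
variable {G : Type u} [Group G] (N : Subgroup G) [N.Normal]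

/-- The preimage in `G` of the centralizer of the image of `g` in `G ⧸ N`. -/
def preCentralizer (g : G) : Subgroup G :=
  (Subgroup.centralizer ({(QuotientGroup.mk g : G ⧸ N)} : Set (G ⧸ N))).comap (QuotientGroup.mk' N)

theorem centralizer_le_preCentralizer (g : G) :
    Subgroup.centralizer ({g} : Set G) ≤ preCentralizer N g := by
  intro x hx
  rw [preCentralizer, Subgroup.mem_comap, Subgroup.mem_centralizer_iff]
  intro y hy
  rw [Set.mem_singleton_iff] at hy
  subst hy
  rw [Subgroup.mem_centralizer_iff] at hx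
  have := hx g rfl
  rw [QuotientGroup.mk'_apply, ← QuotientGroup.mk_mul, ← QuotientGroup.mk_mul, this]

/-- The ratio of the class sizes of `g` and of its image. -/
noncomputable def classRatio (g : G) : ℕ :=
  (Subgroup.centralizer ({g} : Set G)).relIndex (preCentralizer N g)

theorem classRatio_mul_index (g : G) :
    classRatio N g * (Subgroup.centralizer ({(QuotientGroup.mk g : G ⧸ N)} : Set (G ⧸ N))).index
      = (Subgroup.centralizer ({g} : Set G)).index := by
  have hidx : (preCentralizer N g).index =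
      (Subgroup.centralizer ({(QuotientGroup.mk g : G ⧸ N)} : Set (G ⧸ N))).index :=
    Subgroup.index_comap_of_surjective _ (QuotientGroup.mk'_surjective N)
  have hmul := Subgroup.relIndex_mul_index (centralizer_le_preCentralizer N g)
  rw [hidx] at hmul
  exact hmul

theorem centralChar_inflate (χ : G ⧸ N → ℂ) (g : G) :
    centralChar (χ ∘ (QuotientGroup.mk : G → G ⧸ N)) g
      = (classRatio N g : ℂ) * centralChar χ (QuotientGroup.mk g) := by
  unfold centralChar
  simp only [Function.comp, QuotientGroup.mk_one]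
  rw [← classRatio_mul_index N g]
  push_cast
  ring

/-- If `p` does not divide the class ratio, the image of a Sylow `p`-subgroup of `C_G(g)` is a
Sylow `p`-subgroup of the centralizer of the image of `g`. -/
theorem exists_sylow_image [Finite G] {p : ℕ} [Fact p.Prime] (g : G)
    (hr : ¬ p ∣ classRatio N g) (Q : Sylow p (Subgroup.centralizer ({g} : Set G))) :
    ∃ Q' : Sylow p (Subgroup.centralizer ({(QuotientGroup.mk g : G ⧸ N)} : Set (G ⧸ N))),
      (Q' : Subgroup (Subgroup.centralizer ({(QuotientGroup.mk g : G ⧸ N)} : Set (G ⧸ N)))).map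
        (Subgroup.centralizer ({(QuotientGroup.mk g : G ⧸ N)} : Set (G ⧸ N))).subtype =
        ((Q : Subgroup (Subgroup.centralizer ({g} : Set G))).map
          (Subgroup.centralizer ({g} : Set G)).subtype).map (QuotientGroup.mk' N) := by
  have hp : p.Prime := Fact.out
  have hCK : Subgroup.centralizer ({g} : Set G) ≤
      (Subgroup.centralizer ({(QuotientGroup.mk g : G ⧸ N)} : Set (G ⧸ N))).comap
        (QuotientGroup.mk' N) := centralizer_le_preCentralizer N g
  have hQGC : (Q : Subgroup (Subgroup.centralizer ({g} : Set G))).map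
      (Subgroup.centralizer ({g} : Set G)).subtype ≤ Subgroup.centralizer ({g} : Set G) :=
    Subgroup.map_subtype_le _
  have hQGp : IsPGroup p ((Q : Subgroup (Subgroup.centralizer ({g} : Set G))).map
      (Subgroup.centralizer ({g} : Set G)).subtype) := Q.isPGroup'.map _
  have hQ₁p : IsPGroup p (((Q : Subgroup (Subgroup.centralizer ({g} : Set G))).map
      (Subgroup.centralizer ({g} : Set G)).subtype).subgroupOf
      ((Subgroup.centralizer ({(QuotientGroup.mk g : G ⧸ N)} : Set (G ⧸ N))).comap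
        (QuotientGroup.mk' N))) := hQGp.comap_subtype
  have hidx : ¬ p ∣ (((Q : Subgroup (Subgroup.centralizer ({g} : Set G))).map
      (Subgroup.centralizer ({g} : Set G)).subtype).subgroupOf
      ((Subgroup.centralizer ({(QuotientGroup.mk g : G ⧸ N)} : Set (G ⧸ N))).comap
        (QuotientGroup.mk' N))).index := by
    have h2 := Subgroup.relIndex_mul_relIndex _ _ _ hQGC hCK
    have h3 : ((Q : Subgroup (Subgroup.centralizer ({g} : Set G))).map
        (Subgroup.centralizer ({g} : Set G)).subtype).relIndex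
        (Subgroup.centralizer ({g} : Set G)) =
          (Q : Subgroup (Subgroup.centralizer ({g} : Set G))).index := by
      rw [Subgroup.relIndex, Subgroup.subgroupOf,
        Subgroup.comap_map_eq_self_of_injective (Subgroup.subtype_injective _)]
    change ¬ p ∣ Subgroup.relIndex _ _
    rw [← h2, h3]
    exact Nat.Prime.not_dvd_mul hp Q.not_dvd_index hr
  have hf : Function.Surjective ((QuotientGroup.mk' N).subgroupComap
      (Subgroup.centralizer ({(QuotientGroup.mk g : G ⧸ N)} : Set (G ⧸ N)))) :=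
    MonoidHom.subgroupComap_surjective_of_surjective _ _ (QuotientGroup.mk'_surjective N)
  refine ⟨(hQ₁p.toSylow hidx).mapSurjective hf, ?_⟩
  rw [Sylow.coe_mapSurjective]
  ext y
  constructor
  · rintro ⟨⟨z, hz⟩, ⟨⟨w, hw⟩, hwQ, hwz⟩, rfl⟩
    refine ⟨w, ?_, ?_⟩
    · exact hwQ
    · have := congrArg Subtype.val hwz
      exact this
  · rintro ⟨w, hwQ, rfl⟩
    have hwK : w ∈ (Subgroup.centralizer ({(QuotientGroup.mk g : G ⧸ N)} : Set (G ⧸ N))).comap
        (QuotientGroup.mk' N) := hCK (hQGC hwQ)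
    refine ⟨⟨QuotientGroup.mk' N w, hwK⟩, ⟨⟨w, hwK⟩, hwQ, rfl⟩, rfl⟩

/-- Defect groups of a block of `G ⧸ N` contained in a block `B` of `G` lie in the image of a
defect group of `B`. -/
theorem exists_defectGroup_image [Finite G] {p : ℕ} [Fact p.Prime] {M : Ideal AlgInt}
    (hMp : IsPModular p M) (Bbar : Set (IrrCharacter (G ⧸ N))) (hBbar : IsPBlock M Bbar)
    (B : Set (IrrCharacter G)) (hB : IsPBlock M B)
    (hsub : ∀ χ ∈ Bbar, ∀ ψ : IrrCharacter G,
      (ψ : G → ℂ) = (χ : G ⧸ N → ℂ) ∘ QuotientGroup.mk → ψ ∈ B)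
    (Dbar : Subgroup (G ⧸ N)) (hDbar : IsDefectGroup p M Bbar Dbar) :
    ∃ P : Subgroup G, IsDefectGroup p M B P ∧ Dbar ≤ P.map (QuotientGroup.mk' N) := by
  classical
  have := Fintype.ofFinite G
  have := Fintype.ofFinite (G ⧸ N)
  have := Fintype.ofFinite (IrrCharacter G)
  have := Fintype.ofFinite (IrrCharacter (G ⧸ N))
  have hp : p.Prime := Fact.out
  have hM : M.IsPrime := hMp.2.1.isPrime
  obtain ⟨χ₀, hχ₀⟩ := Cfsg.Agent.Lib.Helper82.IsPBlock.nonempty hM hBbar
  set ψ₀ : IrrCharacter G := ⟨(χ₀ : G ⧸ N → ℂ) ∘ QuotientGroup.mk,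
    isIrrCharacter_inflate N χ₀.2⟩ with hψ₀
  have hψ₀B : ψ₀ ∈ B := hsub χ₀ hχ₀ ψ₀ rfl
  have hBψ₀ : B = blockOf M (ψ₀ : G → ℂ) := IsPBlock.eq_blockOf hM hB hψ₀B
  have hbcR : ∀ g, MemLocalRing M (blockCoeff B g) := by
    rw [hBψ₀]
    exact memLocalRing_blockCoeff_blockOf hM ψ₀
  -- a suitable class
  obtain ⟨g, hbc, hr, hcc⟩ : ∃ g : G, ¬ MemLocalIdeal M (blockCoeff B g) ∧
      ¬ p ∣ classRatio N g ∧
      ¬ MemLocalIdeal M (centralChar (χ₀ : G ⧸ N → ℂ) (QuotientGroup.mk g)) := by
    by_contra hall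
    push Not at hall
    have h1 : omega (blockCoeff B) (ψ₀ : G → ℂ) = 1 := by
      rw [omega_blockCoeff, if_pos hψ₀B]
    rw [omega_eq_sum_classes (blockCoeff_isClassFunction B) (isClassFunction_irr ψ₀)] at h1
    apply not_memLocalIdeal_one hM
    rw [← h1]
    apply memLocalIdeal_sum hM
    intro K _
    have hcc' : centralChar (ψ₀ : G → ℂ) (Quotient.out K)
        = (classRatio N (Quotient.out K) : ℂ) *
          centralChar (χ₀ : G ⧸ N → ℂ) (QuotientGroup.mk (Quotient.out K)) :=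
      centralChar_inflate N _ _
    rw [hcc']
    have hccR : MemLocalRing M (centralChar (χ₀ : G ⧸ N → ℂ)
        (QuotientGroup.mk (Quotient.out K))) := memLocalRing_centralChar hM χ₀ _
    by_cases h1 : MemLocalIdeal M (blockCoeff B (Quotient.out K))
    · exact memLocalIdeal_mul_right hM h1
        (memLocalRing_mul hM (memLocalRing_natCast hM _) hccR)
    · apply memLocalIdeal_mul_left hM (hbcR _)
      by_cases h2 : p ∣ classRatio N (Quotient.out K)
      · exact memLocalIdeal_mul_right hM ((memLocalIdeal_natCast_iff hMp _).2 h2) hccR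
      · exact memLocalIdeal_mul_left hM (memLocalRing_natCast hM _) (hall _ h1 h2)
  -- defect groups
  obtain ⟨g₁, hg₁⟩ : ∃ g₁ : G, IsDefectClass M B g₁ := by
    rw [hBψ₀]
    exact exists_isDefectClass hM ψ₀
  obtain D : Sylow p (Subgroup.centralizer ({g₁} : Set G)) := default
  have hP₀ : IsDefectGroup p M B ((D : Subgroup (Subgroup.centralizer ({g₁} : Set G))).map
      (Subgroup.centralizer ({g₁} : Set G)).subtype) := ⟨g₁, hg₁, D, rfl⟩
  obtain ⟨x, Q, hQ⟩ := (Cfsg.Agent.S0911.result p M hMp B hB g₁ hg₁ D g).1 (hbcR g) hbc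
  obtain ⟨gb, hgb, Pb, rfl⟩ := hDbar
  obtain ⟨yb, Qb, hQb⟩ := (Cfsg.Agent.S0911.result p M hMp Bbar hBbar gb hgb Pb
    (QuotientGroup.mk g)).2 ⟨χ₀, hχ₀, hcc⟩
  obtain ⟨Q'', hQ''⟩ := exists_sylow_image N g hr Q
  have hpg : IsPGroup p ((((Pb : Subgroup (Subgroup.centralizer ({gb} : Set (G ⧸ N)))).map
      (Subgroup.centralizer ({gb} : Set (G ⧸ N))).subtype).map
      (MulAut.conj yb).toMonoidHom)) := (Pb.isPGroup'.map _).map _
  have hle : (((Pb : Subgroup (Subgroup.centralizer ({gb} : Set (G ⧸ N)))).map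
      (Subgroup.centralizer ({gb} : Set (G ⧸ N))).subtype).map (MulAut.conj yb).toMonoidHom)
      ≤ Subgroup.centralizer ({(QuotientGroup.mk g : G ⧸ N)} : Set (G ⧸ N)) :=
    le_trans hQb (Subgroup.map_subtype_le _)
  obtain ⟨hb, hhb, hconj⟩ := exists_conj_mem_of_sylow_subgroup Q'' hQ'' hpg hle
  obtain ⟨w, hw⟩ := QuotientGroup.mk_surjective (hb⁻¹ * yb)
  refine ⟨_, isDefectGroup_conj hP₀ (w⁻¹ * x), ?_⟩
  intro d₀ hd₀
  have hd : yb * d₀ * yb⁻¹ ∈ (((Pb : Subgroup (Subgroup.centralizer ({gb} : Set (G ⧸ N)))).map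
      (Subgroup.centralizer ({gb} : Set (G ⧸ N))).subtype).map
      (MulAut.conj yb).toMonoidHom) := by
    refine ⟨d₀, hd₀, ?_⟩
    simp [MulAut.conj_apply]
  obtain ⟨u, huQ, hut⟩ := hconj _ hd
  obtain ⟨v, hvP, hvu⟩ := hQ huQ
  refine ⟨(MulAut.conj (w⁻¹ * x)).toMonoidHom v, ⟨v, hvP, rfl⟩, ?_⟩
  have hvu' : x * v * x⁻¹ = u := by simpa [MulAut.conj_apply] using hvu
  have hut' : (QuotientGroup.mk u : G ⧸ N) = hb⁻¹ * (yb * d₀ * yb⁻¹) * hb := hut
  have : (QuotientGroup.mk' N) ((MulAut.conj (w⁻¹ * x)).toMonoidHom v)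
      = (QuotientGroup.mk w : G ⧸ N)⁻¹ * QuotientGroup.mk u * QuotientGroup.mk w := by
    rw [← hvu']
    simp [MulAut.conj_apply, mul_assoc]
  rw [this, hut', hw]
  group

end Cfsg.Agent.Lib.Helper21
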