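import Mathlib
import Cfsg.Prelude.Def_Blocks
import Cfsg.Agent.Lib.Helper21.QuotBlock
import Cfsg.Agent.Lib.Helper21.BlockDegreeSum
import Cfsg.Agent.Lib.Helper21.BrauerFeit
import Cfsg.Agent.Lib.Helper22.BlockQuot
import Cfsg.Agent.Lib.Helper22.DefectConj
import Cfsg.Agent.S0912

/-!
# Blocks of `G ⧸ N` for a normal `p`-subgroup `N`

Every block `B` of `G` contains a block of `G ⧸ N` whose defect groups are the images of the
defect groups of `B`.
-/

set_option autoImplicit false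
set_option linter.unusedSectionVars false

namespace Cfsg.Agent.Lib.Helper21

open Cfsg
open scoped ComplexConjugate
open Cfsg.Agent.Lib.Helper82 Cfsg.Agent.Lib.Helper83

universe u
variable {G : Type u} [Group G] (N : Subgroup G) [N.Normal]

open Classical in
/-- The sum of the conjugate values of an irreducible character over a normal subgroup. -/
theorem sum_normal_conj_irr [Fintype G] [Fintype N] (χ : IrrCharacter G) :
    ∑ n : N, conj ((χ : G → ℂ) n) =
      if (∀ n ∈ N, (χ : G → ℂ) n = (χ : G → ℂ) 1) then (Nat.card N : ℂ) * (χ : G → ℂ) 1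
      else 0 := by
  have hχc : IsCharacter G (χ : G → ℂ) := IrrCharacter_isCharacter χ
  have hdeg : (charDegree (χ : G → ℂ) : ℂ) = (χ : G → ℂ) 1 := charDegree_cast hχc
  split_ifs with h
  · have : ∀ n : N, conj ((χ : G → ℂ) n) = (χ : G → ℂ) 1 := by
      intro n
      rw [h n n.2, ← hdeg, Complex.conj_natCast]
    rw [Finset.sum_congr rfl (fun n _ => this n), Finset.sum_const, Finset.card_univ,
      nsmul_eq_mul, Nat.card_eq_fintype_card]
  · push Not at h
    obtain ⟨x, hx, hne⟩ := h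
    have h0 := irr_sum_normal_eq_zero χ N ⟨x, hx, hne⟩
    rw [← map_sum, h0, map_zero]

open Classical in
/-- For a normal `p`-subgroup `N`, the sum of `χ(1)²` over the characters of a block with `N` in
their kernel is `|N|⁻¹` times the sum over the whole block. -/
theorem card_mul_sum_block_kerGe [Fintype G] [Fintype (IrrCharacter G)] {p : ℕ} [Fact p.Prime]
    {M : Ideal AlgInt} (hMp : IsPModular p M) (hN : IsPGroup p N) (χ₀ : IrrCharacter G) :
    (Nat.card N : ℂ) * ∑ χ : IrrCharacter G,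
        (if χ ∈ blockOf M (χ₀ : G → ℂ) ∧ (∀ n ∈ N, (χ : G → ℂ) n = (χ : G → ℂ) 1)
          then ((χ : G → ℂ) 1) ^ 2 else 0)
      = ∑ χ : IrrCharacter G, if χ ∈ blockOf M (χ₀ : G → ℂ) then ((χ : G → ℂ) 1) ^ 2 else 0 := by
  classical
  have := Fintype.ofFinite N
  have hp : p.Prime := Fact.out
  have hG0 : (Nat.card G : ℂ) ≠ 0 := by
    exact_mod_cast (Nat.card_pos (α := G)).ne'
  -- the block idempotent vanishes on `N` off the identity
  have hz : ∀ n : N, n ≠ 1 → blockCoeff (blockOf M (χ₀ : G → ℂ)) (n : G) = 0 := by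
    intro n hn
    apply blockCoeff_eq_zero_of_singular hMp χ₀
    obtain ⟨k, hk⟩ := (IsPGroup.iff_orderOf.1 hN) n
    rw [Subgroup.orderOf_coe, hk]
    rcases k with _ | k
    · exfalso
      apply hn
      rw [pow_zero, orderOf_eq_one_iff] at hk
      exact hk
    · exact dvd_pow_self p (Nat.succ_ne_zero k)
  have h1 : ∑ n : N, blockCoeff (blockOf M (χ₀ : G → ℂ)) (n : G)
      = blockCoeff (blockOf M (χ₀ : G → ℂ)) 1 := by
    rw [Finset.sum_eq_single (1 : N)]
    · rfl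
    · intro n _ hn
      exact hz n hn
    · intro h
      exact absurd (Finset.mem_univ _) h
  have h2 : ∑ n : N, blockCoeff (blockOf M (χ₀ : G → ℂ)) (n : G)
      = (Nat.card G : ℂ)⁻¹ * ((Nat.card N : ℂ) * ∑ χ : IrrCharacter G,
        (if χ ∈ blockOf M (χ₀ : G → ℂ) ∧ (∀ n ∈ N, (χ : G → ℂ) n = (χ : G → ℂ) 1)
          then ((χ : G → ℂ) 1) ^ 2 else 0)) := by
    simp_rw [blockCoeff_eq_sum]
    rw [← Finset.mul_sum, Finset.sum_comm]
    congr 1
    rw [Finset.mul_sum]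
    apply Finset.sum_congr rfl
    intro χ _
    by_cases hχ : χ ∈ blockOf M (χ₀ : G → ℂ)
    · simp only [hχ, if_true, true_and]
      rw [← Finset.mul_sum, sum_normal_conj_irr N χ]
      split_ifs
      · ring
      · ring
    · simp [hχ]
  have h3 : blockCoeff (blockOf M (χ₀ : G → ℂ)) 1
      = (Nat.card G : ℂ)⁻¹ * ∑ χ : IrrCharacter G,
        if χ ∈ blockOf M (χ₀ : G → ℂ) then ((χ : G → ℂ) 1) ^ 2 else 0 := by
    rw [blockCoeff_eq_sum]
    congr 1
    apply Finset.sum_congr rfl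
    intro χ _
    split_ifs
    · have hdeg : (charDegree (χ : G → ℂ) : ℂ) = (χ : G → ℂ) 1 :=
        charDegree_cast (IrrCharacter_isCharacter χ)
      rw [← hdeg, Complex.conj_natCast]
      ring
    · rfl
  rw [h2, h3] at h1
  exact mul_left_cancel₀ (inv_ne_zero hG0) h1

open Classical in
/-- Sums over `Irr(G ⧸ N)` as sums over the irreducible characters of `G` with `N` in the
kernel. -/
theorem sum_quotient_eq_sum_kerGe [Finite G] [Fintype (IrrCharacter G)]
    [Fintype (IrrCharacter (G ⧸ N))] {β : Type*} [AddCommMonoid β] (F : IrrCharacter G → β) :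
    ∑ ψ : IrrCharacter (G ⧸ N), F ((irrQuotientEquiv N ψ).1)
      = ∑ χ : IrrCharacter G,
        if (∀ n ∈ N, (χ : G → ℂ) n = (χ : G → ℂ) 1) then F χ else 0 := by
  rw [← Finset.sum_filter]
  rw [Fintype.sum_equiv (irrQuotientEquiv N) (fun ψ => F ((irrQuotientEquiv N ψ).1))
    (fun χ => F χ.1) (fun _ => rfl)]
  exact (Finset.sum_subtype (Finset.univ.filter _) (by simp) F).symm

/-- The inflation of a character of `G ⧸ N` has the same degree. -/
theorem charDegree_irrQuotientEquiv [Finite G] (ψ : IrrCharacter (G ⧸ N)) :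
    charDegree (((irrQuotientEquiv N ψ).1 : IrrCharacter G) : G → ℂ)
      = charDegree (ψ : G ⧸ N → ℂ) := by
  unfold charDegree
  rw [irrQuotientEquiv_apply, QuotientGroup.mk_one]

open Classical in
/-- Natural number form of `card_mul_sum_block_kerGe`, over `Irr(G ⧸ N)`. -/
theorem card_mul_sum_quotient_block [Finite G] [Fintype (IrrCharacter G)]
    [Fintype (IrrCharacter (G ⧸ N))] {p : ℕ} [Fact p.Prime]
    {M : Ideal AlgInt} (hMp : IsPModular p M) (hN : IsPGroup p N) (χ₀ : IrrCharacter G) :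
    Nat.card N * ∑ ψ : IrrCharacter (G ⧸ N),
        (if (irrQuotientEquiv N ψ).1 ∈ blockOf M (χ₀ : G → ℂ)
          then charDegree (ψ : G ⧸ N → ℂ) ^ 2 else 0)
      = ∑ χ : IrrCharacter G,
        if χ ∈ blockOf M (χ₀ : G → ℂ) then charDegree (χ : G → ℂ) ^ 2 else 0 := by
  have hdeg : ∀ χ : IrrCharacter G, (charDegree (χ : G → ℂ) : ℂ) = (χ : G → ℂ) 1 :=
    fun χ => charDegree_cast (IrrCharacter_isCharacter χ)
  have h1 : ∑ ψ : IrrCharacter (G ⧸ N),
        (if (irrQuotientEquiv N ψ).1 ∈ blockOf M (χ₀ : G → ℂ)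
          then charDegree (ψ : G ⧸ N → ℂ) ^ 2 else 0)
      = ∑ χ : IrrCharacter G,
        if (∀ n ∈ N, (χ : G → ℂ) n = (χ : G → ℂ) 1) then
          (if χ ∈ blockOf M (χ₀ : G → ℂ) then charDegree (χ : G → ℂ) ^ 2 else 0) else 0 := by
    have h0 := sum_quotient_eq_sum_kerGe N
      (fun χ => if χ ∈ blockOf M (χ₀ : G → ℂ) then charDegree (χ : G → ℂ) ^ 2 else 0)
    refine Eq.trans ?_ h0
    apply Finset.sum_congr rfl
    intro ψ _
    rw [charDegree_irrQuotientEquiv]
  rw [h1]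
  have := Fintype.ofFinite G
  have key := card_mul_sum_block_kerGe N hMp hN χ₀
  have hinj : Function.Injective (Nat.cast : ℕ → ℂ) := Nat.cast_injective
  apply hinj
  push_cast
  simp only [hdeg]
  rw [← key]
  congr 1
  apply Finset.sum_congr rfl
  intro χ _
  by_cases h1 : (∀ n ∈ N, (χ : G → ℂ) n = (χ : G → ℂ) 1)
  · by_cases h2 : χ ∈ blockOf M (χ₀ : G → ℂ)
    · rw [if_pos h1, if_pos h2, if_pos ⟨h2, h1⟩]
    · rw [if_pos h1, if_neg h2, if_neg (fun h => h2 h.1)]
  · rw [if_neg h1, if_neg (fun h => h1 h.2)]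

/-- Inflation maps a block of `G ⧸ N` into a single block of `G`. -/
theorem inflate_mem_block [Finite G] {M : Ideal AlgInt} (hM : M.IsPrime)
    {B : Set (IrrCharacter G)} (hB : IsPBlock M B) {ψ₀ ψ : IrrCharacter (G ⧸ N)}
    (h₀ : (irrQuotientEquiv N ψ₀).1 ∈ B) (hψ : ψ ∈ blockOf M (ψ₀ : G ⧸ N → ℂ))
    (χ : IrrCharacter G) (hχ : (χ : G → ℂ) = (ψ : G ⧸ N → ℂ) ∘ QuotientGroup.mk) : χ ∈ B := by
  have h1 : SameBlock M ((ψ₀ : G ⧸ N → ℂ) ∘ (QuotientGroup.mk : G → G ⧸ N))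
      ((ψ : G ⧸ N → ℂ) ∘ (QuotientGroup.mk : G → G ⧸ N)) :=
    Cfsg.Agent.Lib.Helper22.sameBlock_inflate hM N hψ
  apply IsPBlock.mem_of_sameBlock hM hB h₀
  rw [hχ]
  exact h1

/-- **Blocks of `G ⧸ N`** for a normal `p`-subgroup `N`: every block `B` of `G` contains a block
of `G ⧸ N` containing a character whose inflation has height zero in `B`. -/
theorem exists_quotient_block [Finite G] {p : ℕ} [Fact p.Prime] {M : Ideal AlgInt}
    (hMp : IsPModular p M) (hN : IsPGroup p N) (B : Set (IrrCharacter G)) (hB : IsPBlock M B) :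
    ∃ ψ₀ : IrrCharacter (G ⧸ N), (irrQuotientEquiv N ψ₀).1 ∈ B ∧
      (charDegree (ψ₀ : G ⧸ N → ℂ)).factorization p =
        sInf ((fun ψ : IrrCharacter G => (charDegree (ψ : G → ℂ)).factorization p) '' B) := by
  classical
  have := Fintype.ofFinite G
  have := Fintype.ofFinite (G ⧸ N)
  have := Fintype.ofFinite (IrrCharacter G)
  have := Fintype.ofFinite (IrrCharacter (G ⧸ N))
  have hp : p.Prime := Fact.out
  have hM : M.IsPrime := hMp.2.1.isPrime
  obtain ⟨χ₁, hχ₁B, hχ₁⟩ := exists_min_degree (p := p) hM hB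
  set h := sInf ((fun ψ : IrrCharacter G => (charDegree (ψ : G → ℂ)).factorization p) '' B)
    with hh
  have hBχ₁ : B = blockOf M (χ₁ : G → ℂ) := IsPBlock.eq_blockOf hM hB hχ₁B
  have hge : ∀ χ ∈ B, h ≤ (charDegree (χ : G → ℂ)).factorization p := by
    intro χ hχ
    exact Nat.sInf_le ⟨χ, hχ, rfl⟩
  have hmin : ∀ χ' : IrrCharacter G, SameBlock M (χ₁ : G → ℂ) (χ' : G → ℂ) →
      (charDegree (χ₁ : G → ℂ)).factorization p ≤ (charDegree (χ' : G → ℂ)).factorization p := by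
    intro χ' hsb
    rw [hχ₁]
    apply hge
    rw [hBχ₁]
    exact hsb
  have hfac := factorization_sum_degree_sq hMp χ₁ hmin
  have hcard := card_mul_sum_quotient_block N hMp hN χ₁
  rw [← hBχ₁] at hcard hfac
  set T : ℕ := ∑ ψ : IrrCharacter (G ⧸ N),
        (if (irrQuotientEquiv N ψ).1 ∈ B
          then charDegree (ψ : G ⧸ N → ℂ) ^ 2 else 0) with hT
  -- the order of `N`
  obtain ⟨n, hn⟩ := IsPGroup.iff_card.1 hN
  have hGN : Nat.card G = Nat.card (G ⧸ N) * Nat.card N :=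
    Subgroup.card_eq_card_quotient_mul_card_subgroup N
  have hQpos : Nat.card (G ⧸ N) ≠ 0 := (Nat.card_pos (α := G ⧸ N)).ne'
  have hNpos : Nat.card N ≠ 0 := (Nat.card_pos (α := N)).ne'
  have haG : (Nat.card G).factorization p = (Nat.card (G ⧸ N)).factorization p + n := by
    rw [hGN, Nat.factorization_mul hQpos hNpos, hn]
    simp [hp.factorization_pow]
  -- the sum over `B` is nonzero
  have hSpos : (∑ χ : IrrCharacter G,
        if χ ∈ B then charDegree (χ : G → ℂ) ^ 2 else 0) ≠ 0 := by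
    intro h0
    have h1 := (Finset.sum_eq_zero_iff.1 h0) χ₁ (Finset.mem_univ _)
    rw [if_pos hχ₁B] at h1
    have h2 : charDegree (χ₁ : G → ℂ) ≠ 0 := by
      intro h3
      have h4 : (charDegree (χ₁ : G → ℂ) : ℂ) = (χ₁ : G → ℂ) 1 :=
        charDegree_cast (IrrCharacter_isCharacter χ₁)
      rw [h3, Nat.cast_zero] at h4
      exact IsIrrCharacter.apply_one_ne_zero χ₁.2 h4.symm
    exact h2 (pow_eq_zero_iff (two_ne_zero) |>.1 h1)
  have hTpos : T ≠ 0 := by
    intro h0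
    apply hSpos
    rw [← hcard, h0, mul_zero]
  have hTfac : T.factorization p + n = (Nat.card G).factorization p + h := by
    rw [← hχ₁, ← hfac, ← hcard, Nat.factorization_mul hNpos hTpos, hn]
    simp [hp.factorization_pow, add_comm]
  by_contra hcon
  push Not at hcon
  -- every block inside contributes a multiple of a higher power of `p`
  have hdvd : p ^ ((Nat.card (G ⧸ N)).factorization p + h + 1) ∣ T := by
    set S : Finset (IrrCharacter (G ⧸ N)) :=
      Finset.univ.filter (fun ψ => (irrQuotientEquiv N ψ).1 ∈ B) with hS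
    have hT' : T = ∑ ψ ∈ S, charDegree (ψ : G ⧸ N → ℂ) ^ 2 := by
      rw [hT, hS, Finset.sum_filter]
    rw [hT']
    rw [← Finset.sum_fiberwise_of_maps_to
      (g := fun ψ : IrrCharacter (G ⧸ N) => blockOf M (ψ : G ⧸ N → ℂ))
      (t := S.image (fun ψ : IrrCharacter (G ⧸ N) => blockOf M (ψ : G ⧸ N → ℂ)))
      (fun x hx => Finset.mem_image_of_mem _ hx)]
    apply Finset.dvd_sum
    intro b hb
    obtain ⟨ψ₁, hψ₁S, rfl⟩ := Finset.mem_image.1 hb
    have hψ₁B : (irrQuotientEquiv N ψ₁).1 ∈ B := (Finset.mem_filter.1 hψ₁S).2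
    have hbB : IsPBlock M (blockOf M (ψ₁ : G ⧸ N → ℂ)) := ⟨ψ₁, rfl⟩
    obtain ⟨ψ₂, hψ₂b, hψ₂⟩ := exists_min_degree (p := p) hM hbB
    have hb2 : blockOf M (ψ₁ : G ⧸ N → ℂ) = blockOf M (ψ₂ : G ⧸ N → ℂ) :=
      IsPBlock.eq_blockOf hM hbB hψ₂b
    have hmin2 : ∀ χ' : IrrCharacter (G ⧸ N), SameBlock M (ψ₂ : G ⧸ N → ℂ) (χ' : G ⧸ N → ℂ) →
        (charDegree (ψ₂ : G ⧸ N → ℂ)).factorization p
          ≤ (charDegree (χ' : G ⧸ N → ℂ)).factorization p := by
      intro χ' hsb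
      rw [hψ₂]
      apply Nat.sInf_le
      refine ⟨χ', ?_, rfl⟩
      rw [hb2]
      exact hsb
    have hfac2 := factorization_sum_degree_sq hMp ψ₂ hmin2
    rw [← hb2] at hfac2
    have hinS : ∀ ψ ∈ blockOf M (ψ₁ : G ⧸ N → ℂ), (irrQuotientEquiv N ψ).1 ∈ B := by
      intro ψ hψ
      exact inflate_mem_block N hM hB hψ₁B hψ _ (by funext g; rfl)
    have hsumeq : ∑ ψ ∈ S.filter (fun ψ : IrrCharacter (G ⧸ N) =>
          blockOf M (ψ : G ⧸ N → ℂ) = blockOf M (ψ₁ : G ⧸ N → ℂ)),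
        charDegree (ψ : G ⧸ N → ℂ) ^ 2
        = ∑ ψ : IrrCharacter (G ⧸ N), if ψ ∈ blockOf M (ψ₁ : G ⧸ N → ℂ) then
          charDegree (ψ : G ⧸ N → ℂ) ^ 2 else 0 := by
      rw [← Finset.sum_filter]
      apply Finset.sum_congr _ (fun _ _ => rfl)
      ext ψ
      simp only [Finset.mem_filter, Finset.mem_univ, true_and, hS]
      constructor
      · rintro ⟨_, h2⟩
        rw [← h2]
        exact mem_blockOf_self hM ψ
      · intro h2
        exact ⟨hinS ψ h2, blockOf_eq_of_mem hM h2⟩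
    rw [hsumeq]
    have hψ₂deg : h + 1 ≤ (charDegree (ψ₂ : G ⧸ N → ℂ)).factorization p := by
      have h1 : (irrQuotientEquiv N ψ₂).1 ∈ B := hinS ψ₂ hψ₂b
      have h2 := hge _ h1
      rw [charDegree_irrQuotientEquiv] at h2
      have h3 := hcon ψ₂ h1
      omega
    have hne : (∑ ψ : IrrCharacter (G ⧸ N), if ψ ∈ blockOf M (ψ₁ : G ⧸ N → ℂ) then
          charDegree (ψ : G ⧸ N → ℂ) ^ 2 else 0) ≠ 0 := by
      intro h0
      have h1 := (Finset.sum_eq_zero_iff.1 h0) ψ₂ (Finset.mem_univ _)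
      rw [if_pos hψ₂b] at h1
      have h4 : (charDegree (ψ₂ : G ⧸ N → ℂ) : ℂ) = (ψ₂ : G ⧸ N → ℂ) 1 :=
        charDegree_cast (IrrCharacter_isCharacter ψ₂)
      rw [pow_eq_zero_iff (two_ne_zero) |>.1 h1, Nat.cast_zero] at h4
      exact IsIrrCharacter.apply_one_ne_zero ψ₂.2 h4.symm
    rw [hp.pow_dvd_iff_le_factorization hne, hfac2]
    omega
  have := (hp.pow_dvd_iff_le_factorization hTpos).1 hdvd
  omega

/-- The order of the image of a subgroup containing `N` in `G ⧸ N`. -/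
theorem card_map_mk_mul_card [Finite G] {P : Subgroup G} (hNP : N ≤ P) :
    Nat.card (P.map (QuotientGroup.mk' N)) * Nat.card N = Nat.card P := by
  have hcomap : (P.map (QuotientGroup.mk' N)).comap (QuotientGroup.mk' N) = P := by
    rw [QuotientGroup.comap_map_mk', sup_of_le_right hNP]
  have hidx : (P.map (QuotientGroup.mk' N)).index = P.index := by
    rw [← Subgroup.index_comap_of_surjective _ (QuotientGroup.mk'_surjective N), hcomap]
  have h1 := Subgroup.card_mul_index P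
  have h2 := Subgroup.card_mul_index (P.map (QuotientGroup.mk' N))
  have h3 : Nat.card G = Nat.card (G ⧸ N) * Nat.card N :=
    Subgroup.card_eq_card_quotient_mul_card_subgroup N
  have hpos : P.index ≠ 0 := Subgroup.index_ne_zero_of_finite
  rw [hidx] at h2
  apply Nat.eq_of_mul_eq_mul_right (Nat.pos_of_ne_zero hpos)
  calc Nat.card (P.map (QuotientGroup.mk' N)) * Nat.card N * P.index
      = (Nat.card (P.map (QuotientGroup.mk' N)) * P.index) * Nat.card N := by ring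
    _ = Nat.card P * P.index := by rw [h2, ← h3, h1]

/-- **Blocks of `G ⧸ N`** for a normal `p`-subgroup `N`: every block `B` of `G` contains a block
of `G ⧸ N` whose defect groups are exactly the images of the defect groups of `B`. -/
theorem exists_quotient_block_defectGroup [Finite G] {p : ℕ} [Fact p.Prime] {M : Ideal AlgInt}
    (hMp : IsPModular p M) (hN : IsPGroup p N) (B : Set (IrrCharacter G)) (hB : IsPBlock M B) :
    ∃ Bbar : Set (IrrCharacter (G ⧸ N)), IsPBlock M Bbar ∧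
      (∀ χ ∈ Bbar, ∀ ψ : IrrCharacter G,
        (ψ : G → ℂ) = (χ : G ⧸ N → ℂ) ∘ QuotientGroup.mk → ψ ∈ B) ∧
      ∀ Dbar : Subgroup (G ⧸ N), IsDefectGroup p M Bbar Dbar ↔
        ∃ P : Subgroup G, IsDefectGroup p M B P ∧ Dbar = P.map (QuotientGroup.mk' N) := by
  classical
  have := Fintype.ofFinite G
  have := Fintype.ofFinite (G ⧸ N)
  have := Fintype.ofFinite (IrrCharacter G)
  have := Fintype.ofFinite (IrrCharacter (G ⧸ N))
  have hp : p.Prime := Fact.out
  have hM : M.IsPrime := hMp.2.1.isPrime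
  obtain ⟨ψ₀, hψ₀B, hψ₀⟩ := exists_quotient_block N hMp hN B hB
  set h := sInf ((fun ψ : IrrCharacter G => (charDegree (ψ : G → ℂ)).factorization p) '' B)
    with hh
  have hge : ∀ χ ∈ B, h ≤ (charDegree (χ : G → ℂ)).factorization p := by
    intro χ hχ
    exact Nat.sInf_le ⟨χ, hχ, rfl⟩
  have hBbar : IsPBlock M (blockOf M (ψ₀ : G ⧸ N → ℂ)) := ⟨ψ₀, rfl⟩
  have hsub : ∀ χ ∈ blockOf M (ψ₀ : G ⧸ N → ℂ), ∀ ψ : IrrCharacter G,
      (ψ : G → ℂ) = (χ : G ⧸ N → ℂ) ∘ QuotientGroup.mk → ψ ∈ B := by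
    intro χ hχ ψ hψ
    exact inflate_mem_block N hM hB hψ₀B hχ ψ hψ
  -- the defects
  obtain ⟨n, hn⟩ := IsPGroup.iff_card.1 hN
  have hGN : Nat.card G = Nat.card (G ⧸ N) * Nat.card N :=
    Subgroup.card_eq_card_quotient_mul_card_subgroup N
  have hQpos : Nat.card (G ⧸ N) ≠ 0 := (Nat.card_pos (α := G ⧸ N)).ne'
  have hNpos : Nat.card N ≠ 0 := (Nat.card_pos (α := N)).ne'
  have haG : (Nat.card G).factorization p = (Nat.card (G ⧸ N)).factorization p + n := by
    rw [hGN, Nat.factorization_mul hQpos hNpos, hn]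
    simp [hp.factorization_pow]
  have hinf : sInf ((fun ψ : IrrCharacter (G ⧸ N) =>
      (charDegree (ψ : G ⧸ N → ℂ)).factorization p) '' blockOf M (ψ₀ : G ⧸ N → ℂ)) = h := by
    apply le_antisymm
    · rw [← hψ₀]
      exact Nat.sInf_le ⟨ψ₀, mem_blockOf_self hM ψ₀, rfl⟩
    · have hne : ((fun ψ : IrrCharacter (G ⧸ N) =>
          (charDegree (ψ : G ⧸ N → ℂ)).factorization p) ''
          blockOf M (ψ₀ : G ⧸ N → ℂ)).Nonempty := ⟨_, ψ₀, mem_blockOf_self hM ψ₀, rfl⟩
      apply le_csInf hne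
      rintro _ ⟨ψ, hψ, rfl⟩
      have h1 := hge _ (hsub ψ hψ (irrQuotientEquiv N ψ).1 (by funext g; rfl))
      rw [charDegree_irrQuotientEquiv] at h1
      exact h1
  have hhle : h ≤ (Nat.card (G ⧸ N)).factorization p := by
    rw [← hψ₀]
    have hdvd : charDegree (ψ₀ : G ⧸ N → ℂ) ∣ Nat.card (G ⧸ N) :=
      IsIrrCharacter.charDegree_dvd_card ψ₀.2
    exact (Nat.factorization_le_iff_dvd
      (fun h0 => hQpos (by rw [h0] at hdvd; exact Nat.eq_zero_of_zero_dvd hdvd)) hQpos).2 hdvd p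
  have hdef : blockDefect p (blockOf M (ψ₀ : G ⧸ N → ℂ)) + n = blockDefect p B := by
    unfold blockDefect
    rw [hinf, ← hh, haG]
    omega
  -- forward direction
  have hfwd : ∀ Dbar : Subgroup (G ⧸ N), IsDefectGroup p M (blockOf M (ψ₀ : G ⧸ N → ℂ)) Dbar →
      ∃ P : Subgroup G, IsDefectGroup p M B P ∧ Dbar = P.map (QuotientGroup.mk' N) := by
    intro Dbar hDbar
    obtain ⟨P, hP, hle⟩ := exists_defectGroup_image N hMp _ hBbar B hB hsub Dbar hDbar
    refine ⟨P, hP, ?_⟩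
    have hNP : N ≤ P := by
      refine le_trans ?_ (Cfsg.Agent.S0912.result p M hMp B hB P hP)
      exact le_sSup ⟨inferInstance, hN⟩
    have hc1 := card_map_mk_mul_card N hNP
    have hc2 : Nat.card P = p ^ blockDefect p B :=
      Cfsg.Agent.Lib.Helper22.IsDefectGroup.card_eq hMp hB hP
    have hc3 : Nat.card Dbar = p ^ blockDefect p (blockOf M (ψ₀ : G ⧸ N → ℂ)) :=
      Cfsg.Agent.Lib.Helper22.IsDefectGroup.card_eq hMp hBbar hDbar
    apply Subgroup.eq_of_le_of_card_ge hle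
    rw [hc3]
    apply le_of_eq
    apply Nat.eq_of_mul_eq_mul_right (Nat.pos_of_ne_zero hNpos)
    rw [hc1, hc2, hn, ← pow_add, hdef]
  refine ⟨blockOf M (ψ₀ : G ⧸ N → ℂ), hBbar, hsub, fun Dbar => ⟨hfwd Dbar, ?_⟩⟩
  rintro ⟨P, hP, rfl⟩
  -- some defect group of `Bbar`
  obtain ⟨g₁, hg₁⟩ : ∃ g₁ : G ⧸ N, IsDefectClass M (blockOf M (ψ₀ : G ⧸ N → ℂ)) g₁ :=
    exists_isDefectClass hM ψ₀
  obtain D : Sylow p (Subgroup.centralizer ({g₁} : Set (G ⧸ N))) := default
  have hD₀ : IsDefectGroup p M (blockOf M (ψ₀ : G ⧸ N → ℂ))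
      ((D : Subgroup (Subgroup.centralizer ({g₁} : Set (G ⧸ N)))).map
      (Subgroup.centralizer ({g₁} : Set (G ⧸ N))).subtype) := ⟨g₁, hg₁, D, rfl⟩
  obtain ⟨P₀, hP₀, hDP₀⟩ := hfwd _ hD₀
  obtain ⟨t, ht⟩ := Cfsg.Agent.Lib.Helper22.IsDefectGroup.exists_conj hMp hB hP₀ hP
  have hconj := isDefectGroup_conj hD₀ (QuotientGroup.mk t : G ⧸ N)
  rw [hDP₀] at hconj
  convert hconj using 1
  rw [ht, Subgroup.map_map, Subgroup.map_map]
  congr 1

end Cfsg.Agent.Lib.Helper21
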