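import Mathlib
import Cfsg.Prelude.Def_JordanBlocks
import Cfsg.Prelude.Def_LieClassical
import Cfsg.Agent.Lib.Helper73.UCDefs

set_option autoImplicit false

/-!
# K-UC LEAF B: `hankel d c` is invertible iff `topC d hd c` is

The kernel of `hankel d c` is invariant under the shift `S` (the nilpotent Jordan matrix), so a
nonzero kernel contains a nonzero vector supported on the top indices `(k, d k - 1)`; on those vectors
`hankel d c` acts through the `t × t` matrix `topA d c`, `A l k = c (l, k, d k - 1)` if `d k ≤ d l`,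
which is block triangular with the same diagonal blocks as `topC`.
-/

namespace Cfsg.Agent.Lib.Helper21.UC

open Matrix Cfsg.Agent.Lib.Helper73.UC

variable {K : Type*} [Field K]

section
variable {t : ℕ} (d : Fin t → ℕ)

/-- extension by zero of a vector -/
def vE (v : JI d → K) (k : Fin t) (a : ℕ) : K := if h : a < d k then v ⟨k, ⟨a, h⟩⟩ else 0

/-- extension by zero of a coefficient system -/
def cE (c : CIdx d → K) (l k : Fin t) (s : ℕ) : K :=
  if h : s < min (d l) (d k) then c ⟨l, k, ⟨s, h⟩⟩ else 0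

theorem hankel_apply (c : CIdx d → K) (x y : JI d) :
    hankel d c x y = cE d c x.1 y.1 ((x.2 : ℕ) + (y.2 : ℕ)) := rfl

theorem cE_eq_zero (c : CIdx d → K) (l k : Fin t) (s : ℕ) (h : min (d l) (d k) ≤ s) :
    cE d c l k s = 0 := by
  unfold cE
  rw [dif_neg (by omega)]

theorem vE_apply (v : JI d → K) (x : JI d) : vE d v x.1 (x.2 : ℕ) = v x := by
  unfold vE
  rw [dif_pos x.2.isLt]

theorem mulVec_hankel (c : CIdx d → K) (v : JI d → K) (x : JI d) :
    (hankel d c *ᵥ v) x =
      ∑ k, ∑ a ∈ Finset.range (d k), cE d c x.1 k ((x.2 : ℕ) + a) * vE d v k a := by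
  unfold Matrix.mulVec dotProduct
  rw [Fintype.sum_sigma]
  refine Finset.sum_congr rfl fun k _ => ?_
  rw [← Fin.sum_univ_eq_sum_range (fun a => cE d c x.1 k ((x.2 : ℕ) + a) * vE d v k a) (d k)]
  refine Finset.sum_congr rfl fun a _ => ?_
  show hankel d c x ⟨k, a⟩ * v ⟨k, a⟩ = _
  rw [hankel_apply]
  congr 1
  exact (vE_apply d v ⟨k, a⟩).symm

/-- the shift -/
def shiftV (v : JI d → K) : JI d → K := fun x =>
  if 1 ≤ (x.2 : ℕ) then vE d v x.1 ((x.2 : ℕ) - 1) else 0

theorem vE_shiftV_zero (v : JI d → K) (k : Fin t) : vE d (shiftV d v) k 0 = 0 := by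
  unfold vE
  split_ifs with h
  · simp [shiftV]
  · rfl

theorem vE_shiftV_succ (v : JI d → K) (k : Fin t) (i : ℕ) (hi : i + 1 < d k) :
    vE d (shiftV d v) k (i + 1) = vE d v k i := by
  conv_lhs => unfold vE
  rw [dif_pos hi]
  simp [shiftV]

theorem sum_shift (n : ℕ) (F G : ℕ → K) (hF0 : F 0 = 0) (hGn : ∀ m, n = m + 1 → G m = 0)
    (hFG : ∀ i, i + 1 < n → F (i + 1) = G i) :
    ∑ a ∈ Finset.range n, F a = ∑ a ∈ Finset.range n, G a := by
  cases n with
  | zero => simp
  | succ m =>
    rw [Finset.sum_range_succ', Finset.sum_range_succ, hF0, hGn m rfl]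
    congr 1
    refine Finset.sum_congr rfl fun i hi => ?_
    exact hFG i (by have := Finset.mem_range.1 hi; omega)

theorem mulVec_shiftV (c : CIdx d → K) (v : JI d → K) (h : hankel d c *ᵥ v = 0) :
    hankel d c *ᵥ shiftV d v = 0 := by
  funext x
  obtain ⟨l, b⟩ := x
  rw [mulVec_hankel]
  have key : ∀ k, ∑ a ∈ Finset.range (d k), cE d c l k ((b : ℕ) + a) * vE d (shiftV d v) k a =
      ∑ a ∈ Finset.range (d k), cE d c l k ((b : ℕ) + 1 + a) * vE d v k a := by
    intro k
    apply sum_shift
    · rw [vE_shiftV_zero, mul_zero]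
    · intro m hm
      rw [cE_eq_zero, zero_mul]
      have := min_le_right (d l) (d k)
      omega
    · intro i hi
      rw [vE_shiftV_succ d v k i hi]
      have : (b : ℕ) + (i + 1) = (b : ℕ) + 1 + i := by omega
      rw [this]
  simp only [key]
  by_cases hb : (b : ℕ) + 1 < d l
  · have := congrFun h ⟨l, ⟨(b : ℕ) + 1, hb⟩⟩
    rw [mulVec_hankel] at this
    exact this
  · simp only [Pi.zero_apply]
    refine Finset.sum_eq_zero fun k _ => Finset.sum_eq_zero fun a _ => ?_
    rw [cE_eq_zero, zero_mul]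
    have := min_le_left (d l) (d k)
    omega

theorem iterate_shiftV_ne (v : JI d → K) (m : ℕ) (x : JI d) (hx : (shiftV d)^[m] v x ≠ 0) :
    m ≤ (x.2 : ℕ) := by
  induction m generalizing x with
  | zero => exact Nat.zero_le _
  | succ m ih =>
    rw [Function.iterate_succ_apply'] at hx
    unfold shiftV at hx
    split_ifs at hx with h1
    · unfold vE at hx
      split_ifs at hx with h2
      · have := ih _ hx
        simp only at this
        omega
      · exact absurd rfl hx
    · exact absurd rfl hx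

theorem iterate_shiftV_eq_zero (v : JI d → K) : (shiftV d)^[Finset.univ.sup d] v = 0 := by
  funext x
  by_contra hx
  have h1 := iterate_shiftV_ne d v _ x hx
  have h2 : d x.1 ≤ Finset.univ.sup d := Finset.le_sup (Finset.mem_univ x.1)
  have := x.2.isLt
  omega

theorem exists_top_kernel (c : CIdx d → K) (m : ℕ) :
    ∀ v : JI d → K, v ≠ 0 → hankel d c *ᵥ v = 0 → (shiftV d)^[m] v = 0 →
      ∃ w : JI d → K, w ≠ 0 ∧ hankel d c *ᵥ w = 0 ∧ shiftV d w = 0 := by
  induction m with
  | zero =>
    intro v hv _ h0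
    exact absurd h0 hv
  | succ m ih =>
    intro v hv hH hS
    by_cases h1 : shiftV d v = 0
    · exact ⟨v, hv, hH, h1⟩
    · exact ih (shiftV d v) h1 (mulVec_shiftV d c v hH) (by
        rw [← Function.iterate_succ_apply]; exact hS)

/-- the block triangular `t × t` matrix through which `hankel d c` acts on the top vectors -/
def topA (c : CIdx d → K) : Matrix (Fin t) (Fin t) K :=
  Matrix.of fun l k => cE d c l k (d k - 1)

/-- the top vector attached to `lam` -/
def topV (lam : Fin t → K) : JI d → K := fun x => if (x.2 : ℕ) + 1 = d x.1 then lam x.1 else 0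

theorem vE_topV (lam : Fin t → K) (k : Fin t) (a : ℕ) :
    vE d (topV d lam) k a = if a + 1 = d k then lam k else 0 := by
  unfold vE
  split_ifs with h1 h2 h3
  · simp [topV, h2]
  · simp [topV, h2]
  · omega
  · rfl

theorem mulVec_topV (hd : ∀ k, 1 ≤ d k) (c : CIdx d → K) (lam : Fin t → K)
    (h : topA d c *ᵥ lam = 0) : hankel d c *ᵥ topV d lam = 0 := by
  funext x
  obtain ⟨l, b⟩ := x
  rw [mulVec_hankel]
  have key : ∀ k, ∑ a ∈ Finset.range (d k), cE d c l k ((b : ℕ) + a) * vE d (topV d lam) k a =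
      cE d c l k ((b : ℕ) + (d k - 1)) * lam k := by
    intro k
    rw [Finset.sum_eq_single (d k - 1)]
    · rw [vE_topV, if_pos (by have := hd k; omega)]
    · intro a _ ha
      rw [vE_topV, if_neg (by omega), mul_zero]
    · intro hn
      exact absurd (Finset.mem_range.2 (by have := hd k; omega)) hn
  simp only [key, Pi.zero_apply]
  by_cases hb : (b : ℕ) = 0
  · have := congrFun h l
    unfold Matrix.mulVec dotProduct at this
    simp only [Pi.zero_apply] at this
    rw [← this]
    refine Finset.sum_congr rfl fun k _ => ?_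
    rw [hb, Nat.zero_add]
    rfl
  · refine Finset.sum_eq_zero fun k _ => ?_
    rw [cE_eq_zero, zero_mul]
    have := min_le_right (d l) (d k)
    have := hd k
    omega

theorem exists_topA_kernel (hd : ∀ k, 1 ≤ d k) (c : CIdx d → K) (w : JI d → K) (hw : w ≠ 0)
    (hH : hankel d c *ᵥ w = 0) (hS : shiftV d w = 0) :
    ∃ lam : Fin t → K, lam ≠ 0 ∧ topA d c *ᵥ lam = 0 := by
  have hz : ∀ k a, a + 1 < d k → vE d w k a = 0 := by
    intro k a ha
    rw [← vE_shiftV_succ d w k a ha, hS]
    unfold vE
    split_ifs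
    · rfl
  refine ⟨fun k => vE d w k (d k - 1), ?_, ?_⟩
  · intro h0
    apply hw
    funext x
    have hx := x.2.isLt
    by_cases h1 : (x.2 : ℕ) + 1 < d x.1
    · rw [← vE_apply d w x]
      exact hz _ _ h1
    · have h2 : (x.2 : ℕ) = d x.1 - 1 := by omega
      rw [← vE_apply d w x, h2]
      exact congrFun h0 x.1
  · funext l
    have := congrFun hH ⟨l, ⟨0, hd l⟩⟩
    rw [mulVec_hankel] at this
    simp only [Pi.zero_apply] at this ⊢
    rw [← this]
    unfold Matrix.mulVec dotProduct
    refine Finset.sum_congr rfl fun k _ => ?_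
    rw [Finset.sum_eq_single (d k - 1)]
    · simp only [Nat.zero_add]
      rfl
    · intro a ha hne
      have := Finset.mem_range.1 ha
      rw [hz k a (by omega), mul_zero]
    · intro hn
      exact absurd (Finset.mem_range.2 (by have := hd k; omega)) hn

theorem det_hankel_eq_zero_iff (hd : ∀ k, 1 ≤ d k) (c : CIdx d → K) :
    (hankel d c).det = 0 ↔ (topA d c).det = 0 := by
  rw [← Matrix.exists_mulVec_eq_zero_iff, ← Matrix.exists_mulVec_eq_zero_iff]
  constructor
  · rintro ⟨v, hv, hH⟩
    obtain ⟨w, hw, hHw, hSw⟩ := exists_top_kernel d c _ v hv hH (iterate_shiftV_eq_zero d v)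
    exact exists_topA_kernel d hd c w hw hHw hSw
  · rintro ⟨lam, hl, hA⟩
    refine ⟨topV d lam, ?_, mulVec_topV d hd c lam hA⟩
    intro h0
    apply hl
    funext k
    have := congrFun h0 ⟨k, ⟨d k - 1, by have := hd k; omega⟩⟩
    unfold topV at this
    rw [if_pos (by have := hd k; simp only; omega)] at this
    exact this

theorem topA_blockTriangular (c : CIdx d → K) :
    (topA d c).BlockTriangular (fun k => OrderDual.toDual (d k)) := by
  intro l k hlk
  have h : d l < d k := hlk
  show cE d c l k (d k - 1) = 0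
  apply cE_eq_zero
  have := min_le_left (d l) (d k)
  omega

theorem topC_blockTriangular (hd : ∀ k, 1 ≤ d k) (c : CIdx d → K) :
    (topC d hd c).BlockTriangular (fun k => OrderDual.toDual (d k)) := by
  intro l k hlk
  have h : d l < d k := hlk
  show (if h : d l = d k then _ else 0) = 0
  rw [dif_neg (by omega)]

theorem det_topA (hd : ∀ k, 1 ≤ d k) (c : CIdx d → K) :
    (topA d c).det = (topC d hd c).det := by
  rw [(topA_blockTriangular d c).det, (topC_blockTriangular d hd c).det]
  refine Finset.prod_congr rfl fun a _ => ?_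
  congr 1
  ext ⟨l, hl⟩ ⟨k, hk⟩
  simp only [Matrix.toSquareBlock_def, Matrix.of_apply]
  have hlk : d l = d k := by
    have h1 : OrderDual.toDual (d l) = OrderDual.toDual (d k) := hl.trans hk.symm
    exact h1
  show cE d c l k (d k - 1) = (if h : d l = d k then _ else 0)
  rw [dif_pos hlk]
  unfold cE
  rw [dif_pos (by have := hd k; rw [hlk, min_self]; omega)]

theorem isUnit_det_hankel_iff (hd : ∀ k, 1 ≤ d k) (c : CIdx d → K) :
    IsUnit (hankel d c).det ↔ IsUnit (topC d hd c).det := by
  rw [isUnit_iff_ne_zero, isUnit_iff_ne_zero, not_iff_not, det_hankel_eq_zero_iff d hd c,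
    det_topA d hd c]

end

end Cfsg.Agent.Lib.Helper21.UC
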