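import Mathlib
import Cfsg.Agent.Lib.Helper06.PMinAlt.Defs

/-!
# S2930 pack (helper6), keystones 293011 (K-PMinAlt-C6) and 293012 (K-PMinAlt-C7, C7')

The block relation attached to `S_x ≤ L ≤ S` is an `S`-invariant equivalence relation on the orbit of
`x`; class sizes of the block relation and of the orbit relation (orbit–stabilizer).
-/

set_option autoImplicit false
set_option linter.unusedSectionVars false
set_option linter.unusedVariables false

namespace Cfsg.Agent.Lib.Helper21.PMinAlt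

open Equiv Equiv.Perm
open Cfsg.Agent.Lib.Helper06.PMinAlt

variable {α : Type*} [Fintype α] [DecidableEq α]

/-- **K-PMinAlt-C6.** The block relation is an `S`-invariant equivalence relation on the orbit of `x`. -/
theorem blockRel_props (S L : Subgroup (Perm α)) (x : α) (hL : L ≤ S) (hstab : ∀ s ∈ S, s x = x → s ∈ L) :
    (∀ y y', blockRel S x L y y' → orbRel S x y ∧ orbRel S y y') ∧
    (∀ y, orbRel S x y → blockRel S x L y y) ∧
    (∀ y y', blockRel S x L y y' → blockRel S x L y' y) ∧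
    (∀ y y' y'', blockRel S x L y y' → blockRel S x L y' y'' → blockRel S x L y y'') ∧
    (∀ s ∈ S, ∀ y y', blockRel S x L y y' → blockRel S x L (s y) (s y')) := by
  refine ⟨?_, ?_, ?_, ?_, ?_⟩
  · rintro y y' ⟨s, hs, l, hl, rfl, rfl⟩
    refine ⟨⟨s, hs, rfl⟩, ⟨s * l * s⁻¹, S.mul_mem (S.mul_mem hs (hL hl)) (S.inv_mem hs), ?_⟩⟩
    simp [Perm.mul_apply]
  · rintro y ⟨s, hs, rfl⟩
    exact ⟨s, hs, 1, L.one_mem, rfl, by simp⟩
  · rintro y y' ⟨s, hs, l, hl, rfl, rfl⟩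
    refine ⟨s * l, S.mul_mem hs (hL hl), l⁻¹, L.inv_mem hl, by simp [Perm.mul_apply], ?_⟩
    simp [Perm.mul_apply]
  · rintro y y' y'' ⟨s, hs, l, hl, rfl, rfl⟩ ⟨s₂, hs₂, l₂, hl₂, h1, rfl⟩
    -- `s (l x) = s₂ x`
    have hm : s₂⁻¹ * s * l ∈ L := by
      apply hstab _ (S.mul_mem (S.mul_mem (S.inv_mem hs₂) hs) (hL hl))
      simp only [Perm.mul_apply]
      rw [h1]
      simp
    refine ⟨s, hs, l * (s₂⁻¹ * s * l)⁻¹ * l₂, L.mul_mem (L.mul_mem hl (L.inv_mem hm)) hl₂, rfl, ?_⟩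
    have e : s * (l * (s₂⁻¹ * s * l)⁻¹ * l₂) = s₂ * l₂ := by group
    calc s₂ (l₂ x) = (s₂ * l₂) x := rfl
      _ = (s * (l * (s₂⁻¹ * s * l)⁻¹ * l₂)) x := by rw [e]
      _ = s ((l * (s₂⁻¹ * s * l)⁻¹ * l₂) x) := rfl
  · rintro t ht y y' ⟨s, hs, l, hl, rfl, rfl⟩
    exact ⟨t * s, S.mul_mem ht hs, l, hl, rfl, rfl⟩

/-- orbit–stabilizer for a subgroup `L` of `Perm α`, in `ncard` form -/
theorem orbit_ncard_mul (L : Subgroup (Perm α)) (x : α) :
    {y | ∃ l ∈ L, l x = y}.ncard * Nat.card ↥(L ⊓ MulAction.stabilizer (Perm α) x) = Nat.card ↥L := by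
  have h1 : {y | ∃ l ∈ L, l x = y} = MulAction.orbit ↥L x := by
    ext y
    constructor
    · rintro ⟨l, hl, rfl⟩
      exact ⟨⟨l, hl⟩, rfl⟩
    · rintro ⟨l, rfl⟩
      exact ⟨l.1, l.2, rfl⟩
  have h2 : Nat.card (MulAction.orbit ↥L x) = Nat.card (↥L ⧸ MulAction.stabilizer ↥L x) :=
    Nat.card_congr (MulAction.orbitEquivQuotientStabilizer ↥L x)
  have h3 : Nat.card ↥L =
      Nat.card (↥L ⧸ MulAction.stabilizer ↥L x) * Nat.card (MulAction.stabilizer ↥L x) :=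
    Subgroup.card_eq_card_quotient_mul_card_subgroup _
  have h4 : MulAction.stabilizer ↥L x = (MulAction.stabilizer (Perm α) x).subgroupOf L := by
    ext l
    rw [MulAction.mem_stabilizer_iff, Subgroup.mem_subgroupOf, MulAction.mem_stabilizer_iff]
    rfl
  have h5 : Nat.card (MulAction.stabilizer ↥L x) =
      Nat.card ↥(L ⊓ MulAction.stabilizer (Perm α) x) := by
    rw [h4, inf_comm, ← Subgroup.inf_subgroupOf_right]
    exact Nat.card_congr (Subgroup.subgroupOfEquivOfLe inf_le_right).toEquiv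
  rw [h1, ← Nat.card_coe_set_eq, h2, ← h5, ← h3]

/-- **K-PMinAlt-C7'.** Orbit–stabilizer. -/
theorem orbRel_ncard (S : Subgroup (Perm α)) (x : α) :
    {y | orbRel S x y}.ncard * Nat.card ↥(S ⊓ MulAction.stabilizer (Perm α) x) = Nat.card ↥S :=
  orbit_ncard_mul S x

/-- **K-PMinAlt-C7.** Class sizes of the block relation. -/
theorem blockRel_ncard (S L : Subgroup (Perm α)) (x : α) (hL : L ≤ S) (hstab : ∀ s ∈ S, s x = x → s ∈ L)
    (y : α) (hy : orbRel S x y) :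
    {y' | blockRel S x L y y'}.ncard * Nat.card ↥(S ⊓ MulAction.stabilizer (Perm α) x) = Nat.card ↥L := by
  obtain ⟨s₀, hs₀, rfl⟩ := hy
  have hset : {y' | blockRel S x L (s₀ x) y'} = s₀ '' {y | ∃ l ∈ L, l x = y} := by
    ext y'
    constructor
    · rintro ⟨s, hs, l, hl, h1, rfl⟩
      have hm : s₀⁻¹ * s ∈ L := by
        apply hstab _ (S.mul_mem (S.inv_mem hs₀) hs)
        simp only [Perm.mul_apply]
        rw [← h1]
        simp
      refine ⟨(s₀⁻¹ * s * l) x, ⟨s₀⁻¹ * s * l, L.mul_mem hm hl, rfl⟩, ?_⟩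
      simp [Perm.mul_apply]
    · rintro ⟨_, ⟨l, hl, rfl⟩, rfl⟩
      exact ⟨s₀, hs₀, l, hl, rfl, rfl⟩
  have hinf : S ⊓ MulAction.stabilizer (Perm α) x = L ⊓ MulAction.stabilizer (Perm α) x := by
    apply le_antisymm
    · rintro s ⟨hs, hsx⟩
      exact ⟨hstab s hs (MulAction.mem_stabilizer_iff.mp hsx), hsx⟩
    · exact inf_le_inf_right _ hL
  rw [hset, Set.ncard_image_of_injective _ s₀.injective, hinf]
  exact orbit_ncard_mul L x

end Cfsg.Agent.Lib.Helper21.PMinAlt
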