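import Mathlib
import Cfsg.Prelude.Def_LieExceptional

set_option autoImplicit false

namespace Cfsg.Agent.Lib.Helper21

open Cfsg

section
variable {G Ω : Type*} [Group G] [MulAction G Ω]

theorem zass_two_trans (hZ : IsZassenhausGroup G Ω) {a b c d : Ω} (hab : a ≠ b) (hcd : c ≠ d) :
    ∃ g : G, g • a = c ∧ g • b = d := by
  have h2 := hZ.2.1
  rw [MulAction.is_two_pretransitive_iff] at h2
  exact h2 hab hcd

theorem zass_three_fixed (hZ : IsZassenhausGroup G Ω) {g : G} {a b c : Ω} (hab : a ≠ b)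
    (hbc : b ≠ c) (hac : a ≠ c) (ha : g • a = a) (hb : g • b = b) (hc : g • c = c) : g = 1 :=
  hZ.2.2.1 g a b c hab hbc hac ha hb hc

/-- In a Zassenhaus group every two-point stabilizer is non-trivial. -/
theorem zass_exists_ne_one (hZ : IsZassenhausGroup G Ω) {a b : Ω} (hab : a ≠ b) :
    ∃ x : G, x ≠ 1 ∧ x • a = a ∧ x • b = b := by
  obtain ⟨g₀, hg₀, a', b', hab', ha', hb'⟩ := hZ.2.2.2.1
  obtain ⟨t, hta, htb⟩ := zass_two_trans hZ hab' hab
  refine ⟨t * g₀ * t⁻¹, ?_, ?_, ?_⟩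
  · intro h
    apply hg₀
    have : g₀ = t⁻¹ * (t * g₀ * t⁻¹) * t := by group
    rw [this, h]; group
  · rw [← hta, mul_smul, mul_smul, inv_smul_smul, ha']
  · rw [← htb, mul_smul, mul_smul, inv_smul_smul, hb']

/-- A non-identity element fixing `a ≠ b` fixes no further point. -/
theorem zass_fixed_eq (hZ : IsZassenhausGroup G Ω) {a b c : Ω} (hab : a ≠ b) {x : G} (hx : x ≠ 1)
    (ha : x • a = a) (hb : x • b = b) (hc : x • c = c) : c = a ∨ c = b := by
  by_contra hcon
  push Not at hcon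
  exact hx (zass_three_fixed hZ hab hcon.2.symm hcon.1.symm ha hb hc)

theorem conj_ne_one {g x : G} (hx : x ≠ 1) : g * x * g⁻¹ ≠ 1 := by
  intro h
  apply hx
  have : x = g⁻¹ * (g * x * g⁻¹) * g := by group
  rw [this, h]; group

theorem conj_smul_smul (g x : G) (a : Ω) (ha : x • a = a) : (g * x * g⁻¹) • (g • a) = g • a := by
  rw [mul_smul, inv_smul_smul, mul_smul, ha]

end

end Cfsg.Agent.Lib.Helper21
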