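import Mathlib

set_option autoImplicit false

namespace Cfsg.Agent.Lib.Helper21

open MulAction

/-- Counting lemma for Frobenius-like actions: if a finite group `S` acts transitively on a finite
nonempty set `X` and every non-identity element fixes at most one point, then the number of
elements that are the identity or fixed-point-free equals the number of points. -/
theorem card_one_or_fixedPointFree {S X : Type*} [Group S] [Finite S] [MulAction S X] [Finite X]
    [Nonempty X] [IsPretransitive S X]
    (hfix : ∀ x : S, x ≠ 1 → ∀ c d : X, x • c = c → x • d = d → c = d) :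
    Nat.card {x : S // x = 1 ∨ ∀ c : X, x • c ≠ c} = Nat.card X := by
  classical
  have := Fintype.ofFinite S
  have := Fintype.ofFinite X
  have := Fintype.ofFinite (Quotient (orbitRel S X))
  have hB := sum_card_fixedBy_eq_card_orbits_mul_card_group S X
  have hq : Fintype.card (Quotient (orbitRel S X)) = 1 := by
    have hs : Subsingleton (Quotient (orbitRel S X)) :=
      (pretransitive_iff_subsingleton_quotient S X).1 inferInstance
    have hn : Nonempty (Quotient (orbitRel S X)) := ⟨Quotient.mk'' (Classical.arbitrary X)⟩
    exact Fintype.card_eq_one_iff.2 ⟨Classical.arbitrary _, fun y => Subsingleton.elim _ _⟩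
  rw [hq, one_mul] at hB
  -- pointwise description of the number of fixed points
  have hpt : ∀ x : S, Fintype.card (fixedBy X x) =
      (if x = 1 then Fintype.card X else 0) + (if (x ≠ 1 ∧ ∃ c : X, x • c = c) then 1 else 0) := by
    intro x
    by_cases hx : x = 1
    · subst hx
      have : (fixedBy X (1 : S)) = Set.univ := by
        ext c; simp
      simp [this]
    · by_cases hU : ∃ c : X, x • c = c
      · obtain ⟨c, hc⟩ := hU
        rw [if_neg hx, if_pos ⟨hx, c, hc⟩, zero_add, Fintype.card_eq_one_iff]
        refine ⟨⟨c, hc⟩, fun y => ?_⟩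
        apply Subtype.ext
        exact hfix x hx _ _ y.2 hc
      · rw [if_neg hx, if_neg (fun h => hU h.2), Fintype.card_eq_zero_iff]
        exact ⟨fun y => hU ⟨y.1, y.2⟩⟩
  simp_rw [hpt] at hB
  rw [Finset.sum_add_distrib, Finset.sum_ite_eq' Finset.univ (1 : S)] at hB
  simp only [Finset.mem_univ, if_true] at hB
  rw [Finset.sum_boole] at hB
  -- now split `S`
  have hsplit : Fintype.card S =
      Fintype.card {x : S // x = 1 ∨ ∀ c : X, x • c ≠ c} +
      (Finset.univ.filter (fun x : S => x ≠ 1 ∧ ∃ c : X, x • c = c)).card := by
    rw [Fintype.card_subtype, ← Finset.card_univ (α := S)]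
    rw [← Finset.card_union_of_disjoint]
    · congr 1
      ext x
      simp only [Finset.mem_univ, Finset.mem_union, Finset.mem_filter, true_and, true_iff]
      by_cases hx : x = 1
      · left; left; exact hx
      · by_cases hU : ∃ c : X, x • c = c
        · right; exact ⟨hx, hU⟩
        · left; right; push Not at hU; exact hU
    · rw [Finset.disjoint_filter]
      rintro x _ (h1 | h1) ⟨h2, c, hc⟩
      · exact h2 h1
      · exact h1 c hc
  rw [Nat.card_eq_fintype_card, Nat.card_eq_fintype_card]
  have : (Fintype.card X : ℕ) + (Finset.univ.filter (fun x : S => x ≠ 1 ∧ ∃ c : X, x • c = c)).card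
      = Fintype.card S := by
    exact_mod_cast hB
  omega

end Cfsg.Agent.Lib.Helper21
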