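import Mathlib
import Cfsg.Agent.Lib.Helper16.BG1363Defs
import Cfsg.Agent.Lib.Helper55.Basic
import Cfsg.Agent.Lib.Helper12.CNMaxSub
import Cfsg.Agent.Lib.Helper71.BG11a

/-!
# KEYSTONE 143524  K-1435-P13b  `normalizer_le_of_cent_uniq` (architect helper31)
-/

set_option autoImplicit false

namespace Cfsg.Agent.Lib.Helper21.BG1435

open Cfsg Subgroup Cfsg.Agent.Lib.Helper55 Cfsg.Agent.Lib.Helper11.BG14D Cfsg.Agent.Lib.Helper16.BG1363

variable {G : Type*} [Group G] [Finite G]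

theorem normalizer_le_of_cent_uniq (hG : IsMinSimpleOddOrder G) {M K Ms : Subgroup G} (pf : PF M K Ms)
    (hK1 : K ≠ ⊥) : normalizer (K : Set G) ≤ Ms := by
  have hKMs : K ≤ Ms := pf.hKMs.trans (Cfsg.Agent.Lib.Helper71.BG11.sigmaCore_le Ms)
  have hKtop : K ≠ ⊤ := by
    intro h
    apply pf.hMs.1
    rw [eq_top_iff, ← h]
    exact hKMs
  obtain ⟨L, hL, hNL⟩ := Cfsg.Agent.Lib.Helper12.CNMaxSub.exists_coatom_normalizer_le hG hK1 hKtop
  have hCL : centralizer (K : Set G) ≤ L := le_trans (Subgroup.centralizer_le_normalizer _) hNL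
  have := pf.hCKu L hL hCL
  rw [← this]
  exact hNL

end Cfsg.Agent.Lib.Helper21.BG1435
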