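import Mathlib
import Cfsg.Agent.Lib.Helper16.BG1363Defs
import Cfsg.Agent.Lib.Helper55.Basic
import Cfsg.Agent.Lib.Helper36.BG14P2K
import Cfsg.Agent.Lib.Helper11.BG134P2
import Cfsg.Agent.Lib.Helper31.FittingHall
import Cfsg.Agent.Lib.Helper71.BG11a

/-!
# KEYSTONE 143501  K-1435-Q0  `nu_of_sylow` (architect helper31)
-/

set_option autoImplicit false

namespace Cfsg.Agent.Lib.Helper21.BG1435

open Cfsg Subgroup Cfsg.Agent.Lib.Helper55 Cfsg.Agent.Lib.Helper11.BG14D Cfsg.Agent.Lib.Helper16.BG1363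

variable {G : Type*} [Group G] [Finite G]

theorem nu_of_sylow (hG : IsMinSimpleOddOrder G) {M K U H : Subgroup G} (hM : IsCoatom M)
    (hKU : IsSigmaDecomposition M K U) (hK1 : K ≠ ⊥) (hU1 : U ≠ ⊥) (r : ℕ) [Fact r.Prime]
    (hr : r ∣ Nat.card U) (R : Sylow r U) (hH : IsCoatom H)
    (hNR : normalizer (((R : Subgroup U).map U.subtype : Subgroup G) : Set G) ≤ H) :
    NU M K U ((R : Subgroup U).map U.subtype) H r := by
  have hrp : r.Prime := Fact.out
  have hcardR : Nat.card ((R : Subgroup U).map U.subtype) = Nat.card (R : Subgroup U) :=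
    Subgroup.card_map_of_injective U.subtype_injective
  have hcardR' : Nat.card (R : Subgroup U) = r ^ (Nat.card U).factorization r :=
    Sylow.card_eq_multiplicity R
  have hfpos : 0 < (Nat.card U).factorization r :=
    hrp.factorization_pos_of_dvd Nat.card_pos.ne' hr
  refine ⟨hM, hKU, hK1, hU1, hrp, Subgroup.map_subtype_le _, ?_, ?_, ?_, hH, hNR⟩
  · -- nontrivial
    intro hbot
    have h1 : Nat.card ((R : Subgroup U).map U.subtype) = 1 := by
      rw [hbot]; exact Subgroup.card_bot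
    rw [hcardR, hcardR'] at h1
    have h2 : 1 < r ^ (Nat.card U).factorization r :=
      Nat.one_lt_pow hfpos.ne' hrp.one_lt
    omega
  · exact R.2.map _
  · intro Q hQM hQp hRQ
    obtain ⟨hrσ, hrκ⟩ :=
      Cfsg.Agent.Lib.Helper36.BG14.not_mem_of_dvd_card_U hG hM hKU.hall hKU.compl hrp hr
    have hmul := Cfsg.Agent.Lib.Helper31.IsComplIn.card_mul hKU.compl
    have hKn : K ≤ Subgroup.normalizer (sigmaCore M : Set G) :=
      hKU.hall.1.trans (Cfsg.Agent.Lib.Helper71.BG11.le_normalizer_sigmaCore M)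
    have hdvd : Nat.card (sigmaCore M ⊔ K : Subgroup G) ∣ Nat.card (sigmaCore M) * Nat.card K :=
      Cfsg.Agent.Lib.Helper11.BG134.card_sup_dvd_of_le_normalizer (sigmaCore M) K hKn
    have hrc : ¬ r ∣ Nat.card (K ⊔ sigmaCore M : Subgroup G) := by
      intro h
      rw [sup_comm] at h
      rcases (hrp.dvd_mul).mp (h.trans hdvd) with h1 | h1
      · exact hrσ (Cfsg.Agent.Lib.Helper71.BG11.sigmaCore_pi hG hM hrp h1)
      · exact hrκ (hKU.hall.2.1 r hrp h1)
    obtain ⟨n, hn⟩ := IsPGroup.iff_card.mp hQp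
    have hQdvd : Nat.card Q ∣ Nat.card M := Subgroup.card_dvd_of_le hQM
    rw [hn, ← hmul] at hQdvd
    have hcop : (r ^ n).Coprime (Nat.card (K ⊔ sigmaCore M : Subgroup G)) :=
      Nat.Coprime.pow_left n ((Nat.Prime.coprime_iff_not_dvd hrp).mpr hrc)
    have hQU : r ^ n ∣ Nat.card U := hcop.dvd_of_dvd_mul_right hQdvd
    have hnle : n ≤ (Nat.card U).factorization r :=
      (hrp.pow_dvd_iff_le_factorization Nat.card_pos.ne').mp hQU
    have hle : Nat.card Q ≤ Nat.card ((R : Subgroup U).map U.subtype) := by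
      rw [hn, hcardR, hcardR']
      exact Nat.pow_le_pow_right hrp.pos hnle
    exact (Subgroup.eq_of_le_of_card_ge hRQ hle).symm

end Cfsg.Agent.Lib.Helper21.BG1435
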