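import Cfsg.Agent.Lib.Helper38.OhP.Defs
import Cfsg.Agent.Lib.Helper68.OhC2
import Cfsg.Agent.Lib.Helper68.OhPC0

/-!
# K-OhP-C2 (keystone 597404, architect helper38): the type of a minimal nondegenerate invariant piece,
for a quadratic form in ANY characteristic (uniform port of `Helper68.Oh.plus_iff_of_min`)
-/

set_option autoImplicit false
set_option linter.unusedSectionVars false
set_option linter.unusedVariables false

namespace Cfsg.Agent.Lib.Helper21.OhP

open Module Cfsg.Agent.Lib.Helper98.Elus Cfsg.Agent.Lib.Helper98.Sy Cfsg.Agent.Lib.Helper98.Oh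
  Cfsg.Agent.Lib.Helper38.OhP
open Cfsg.Agent.Lib.Helper98

universe u
variable {F : Type u} [Field F] {V : Type u} [AddCommGroup V] [Module F V]

/-- `i` odd: a minimal piece of dimension `2 i` is of plus type -/
theorem plusQ_of_odd [Fintype F] [FiniteDimensional F V] (Q : QuadraticForm F V)
    (p f : ℕ) [Fact p.Prime] (hF : Fintype.card F = p ^ f)
    (r : ℕ) [Fact r.Prime] (hpr : p ≠ r) (hr2 : r ≠ 2) (hrF : (r : F) ≠ 0) (y : V →ₗ[F] V)
    (hy : y ^ r = 1) (hiso : QIso Q y)
    (W : Submodule F V) (hWV1 : W ≤ V1 r y) (hW : Inv y W)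
    (hWd : finrank F W = cOf (orderOf ((Fintype.card F : ℕ) : ZMod r)))
    (hi : Odd (orderOf ((Fintype.card F : ℕ) : ZMod r))) : PlusQ Q W := by
  have hS : ∀ a b, pB Q a b = pB Q b a := pB_symm Q
  have hisoB : Iso (pB Q) y := hiso.iso
  set i := orderOf ((Fintype.card F : ℕ) : ZMod r) with hi_def
  have hi1 : 1 ≤ i := orderOf_card_pos p f hF r hpr
  obtain ⟨fs, hmonic, hdeg, hprod⟩ := cyclo_factors (F := F) p f hF r hpr
  have hWd' : finrank F W = 2 * i := by
    rw [hWd, cOf, if_neg (Nat.not_even_iff_odd.mpr hi)]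
  obtain ⟨M, hMW, hM, hMd⟩ := greedy y W hW i hi1 fs hmonic (fun g hg => le_of_eq (hdeg g hg))
    (by
      intro v hv
      rw [hprod, aeval_cyclotomic_eq_gsum]
      exact (mem_V1 r y v).mp (hWV1 hv))
    (fun W' hW'W hW' => dvd_finrank_of_le_V1 r hrF y hy W' hW' (le_trans hW'W hWV1)) 1
    (by rw [hWd']; omega)
  rw [mul_one] at hMd
  have hr0 : 0 < r := (Fact.out : r.Prime).pos
  have hMV1 : M ≤ V1 r y := le_trans hMW hWV1
  have hRinv : Inv y (M ⊓ (pB Q).orthogonal M) := fun v hv =>
    Submodule.mem_inf.mpr ⟨hM v (Submodule.mem_inf.mp hv).1,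
      inv_orth r hr0 y hy hisoB M hM v (Submodule.mem_inf.mp hv).2⟩
  have hRd : i ∣ finrank F ↥(M ⊓ (pB Q).orthogonal M) :=
    dvd_finrank_of_le_V1 r hrF y hy _ hRinv (le_trans inf_le_left hMV1)
  have hRle : finrank F ↥(M ⊓ (pB Q).orthogonal M) ≤ i := by
    rw [← hMd]
    exact Submodule.finrank_mono inf_le_left
  obtain ⟨c, hc⟩ := hRd
  have hc01 : c = 0 ∨ c = 1 := by
    have : i * c ≤ i * 1 := by rw [mul_one, ← hc]; exact hRle
    have := Nat.le_of_mul_le_mul_left this (by omega)
    omega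
  rcases hc01 with rfl | rfl
  · exfalso
    have hRbot : M ⊓ (pB Q).orthogonal M = ⊥ :=
      Submodule.finrank_eq_zero.mp (by rw [hc, mul_zero])
    have hMnd : NonDeg (pB Q) M :=
      (Os.nonDeg_iff_disjoint (Os.isRefl_of_symm hS) M).mpr (disjoint_iff.mpr hRbot)
    have hev := Cfsg.Agent.Lib.Helper68.OhP.even_finrank_q Q r hr2 hrF y hy hiso M hMV1 hM hMnd
    rw [hMd] at hev
    exact (Nat.not_even_iff_odd.mpr hi) hev
  · have hRM : M ⊓ (pB Q).orthogonal M = M :=
      Submodule.eq_of_le_of_finrank_eq inf_le_left (by rw [hc, mul_one, hMd])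
    -- `M` is totally isotropic for the polar form
    have hMM : ∀ u ∈ M, ∀ v ∈ M, pB Q u v = 0 := by
      intro u hu v hv
      have hv' : v ∈ (pB Q).orthogonal M := by
        rw [← hRM] at hv
        exact (Submodule.mem_inf.mp hv).2
      exact (LinearMap.BilinForm.mem_orthogonal_iff.mp hv') u hu
    -- the singular vectors of `M` form an invariant subspace
    let S : Submodule F V :=
      { carrier := {v | v ∈ M ∧ Q v = 0}
        add_mem' := by
          rintro a b ⟨ha, ha0⟩ ⟨hb, hb0⟩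
          refine ⟨M.add_mem ha hb, ?_⟩
          have h1 := pB_apply Q a b
          rw [hMM a ha b hb, ha0, hb0] at h1
          have : Q (a + b) = 0 := by
            have h2 : Q (a + b) - 0 - 0 = 0 := h1.symm
            simpa using h2
          exact this
        zero_mem' := ⟨M.zero_mem, by simp⟩
        smul_mem' := by
          rintro c a ⟨ha, ha0⟩
          refine ⟨M.smul_mem c ha, ?_⟩
          show Q (c • a) = 0
          rw [QuadraticMap.map_smul, ha0, smul_zero] }
    have hSM : S ≤ M := fun v hv => hv.1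
    have hSinv : Inv y S := fun v hv => ⟨hM v hv.1, by
      show Q (y v) = 0
      rw [hiso v]; exact hv.2⟩
    have hSd : i ∣ finrank F ↥S :=
      dvd_finrank_of_le_V1 r hrF y hy S hSinv (le_trans hSM hMV1)
    have hSle : finrank F ↥S ≤ i := by
      rw [← hMd]
      exact Submodule.finrank_mono hSM
    obtain ⟨c', hc'⟩ := hSd
    have hc01' : c' = 0 ∨ c' = 1 := by
      have : i * c' ≤ i * 1 := by rw [mul_one, ← hc']; exact hSle
      have := Nat.le_of_mul_le_mul_left this (by omega)
      omega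
    rcases hc01' with rfl | rfl
    · exfalso
      have hSbot : S = ⊥ := Submodule.finrank_eq_zero.mp (by rw [hc', mul_zero])
      have hfix : ∀ v ∈ M, y v = v := by
        intro v hv
        have hyv : y v ∈ M := hM v hv
        have hmem : y v - v ∈ S := by
          refine ⟨M.sub_mem hyv hv, ?_⟩
          show Q (y v - v) = 0
          have h1 := pB_apply Q (y v) (-v)
          have h2 : pB Q (y v) (-v) = 0 := hMM _ hyv _ (M.neg_mem hv)
          have h3 : Q (-v) = Q v := QuadraticMap.map_neg Q v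
          have h4 : pB Q v v = 0 := hMM v hv v hv
          rw [pB_self] at h4
          rw [h2, h3, hiso v, ← sub_eq_add_neg] at h1
          -- 0 = Q (y v - v) - Q v - Q v
          have h5 : Q (y v - v) = Q v + Q v := by
            have := h1
            linear_combination -this
          rw [h5, ← two_mul, h4]
        rw [hSbot] at hmem
        exact sub_eq_zero.mp ((Submodule.mem_bot F).mp hmem)
      have hMbot : M = ⊥ := by
        rw [eq_bot_iff]
        intro v hv
        have hmem : v ∈ V0 y ⊓ V1 r y :=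
          Submodule.mem_inf.mpr ⟨(mem_V0 y _).mpr (hfix v hv), hMV1 hv⟩
        rw [V0_inf_V1 r hrF y] at hmem
        exact hmem
      rw [hMbot, finrank_bot] at hMd
      omega
    · have hSeq : S = M :=
        Submodule.eq_of_le_of_finrank_eq hSM (by rw [hc', mul_one, hMd])
      refine ⟨M, hMW, ?_, by rw [hMd, hWd']⟩
      intro u hu
      rw [← hSeq] at hu
      exact hu.2

/-- `i` even: a minimal piece of dimension `i` is not of plus type -/
theorem not_plusQ_of_even [Fintype F] [FiniteDimensional F V] (Q : QuadraticForm F V)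
    (p f : ℕ) [Fact p.Prime] (hF : Fintype.card F = p ^ f)
    (r : ℕ) [Fact r.Prime] (hpr : p ≠ r) (hr2 : r ≠ 2) (hrF : (r : F) ≠ 0) (y : V →ₗ[F] V)
    (hy : y ^ r = 1) (hiso : QIso Q y)
    (W : Submodule F V) (hWV1 : W ≤ V1 r y) (hW : Inv y W) (hWnd : NonDeg (pB Q) W)
    (hWd : finrank F W = cOf (orderOf ((Fintype.card F : ℕ) : ZMod r)))
    (hi : Even (orderOf ((Fintype.card F : ℕ) : ZMod r))) : ¬ PlusQ Q W := by
  classical
  rintro ⟨U, hUW, hU0, hUd⟩
  set i := orderOf ((Fintype.card F : ℕ) : ZMod r) with hi_def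
  have hi1 : 1 ≤ i := orderOf_card_pos p f hF r hpr
  have hr : r.Prime := Fact.out
  have hWd' : finrank F W = i := by rw [hWd, cOf, if_pos hi]
  obtain ⟨k, hk⟩ := hi
  have hk2 : i = 2 * k := by omega
  have hk1 : 1 ≤ k := by omega
  -- the quadratic form on `W`
  let Qw : QuadraticForm F W := Q.comp W.subtype
  have hQ : ∀ w : W, Qw w = Q (w : V) := fun w => rfl
  have hQND : Cfsg.Agent.Lib.Helper50.QND Qw := by
    intro v hv
    apply Subtype.ext
    apply hWnd (v : V) v.2
    intro w hw
    have h1 := hv ⟨w, hw⟩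
    rw [pB_apply]
    exact h1
  -- the totally singular subspace
  let X : Submodule F W := U.comap W.subtype
  have hXd : finrank F X = finrank F U :=
    LinearEquiv.finrank_eq (Submodule.comapSubtypeEquivOfLe hUW)
  have hplus : Cfsg.Agent.Lib.Helper50.IsPlusType Qw k :=
    Cfsg.Agent.Lib.Helper50.plusType_of_totally_singular k Qw hQND (by rw [hWd', hk2]) X
      (by rw [hXd]; omega) (fun x hx => by rw [hQ]; exact hU0 (x : V) hx)
  obtain ⟨φ, hφ⟩ := hplus
  -- the number of singular vectors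
  set q := Fintype.card F with hq_def
  have hq0 : 0 < q := Fintype.card_pos
  have hcount : Nat.card {w : W // Q (w : V) = 0} =
      q ^ k + (q ^ k - 1) * q ^ (k - 1) := by
    rw [← Cfsg.Agent.Lib.Helper50.card_zeros_plus (F := F) k]
    apply Nat.card_congr
    exact φ.toEquiv.subtypeEquiv (fun w => by
      show Q (w : V) = 0 ↔ Cfsg.quadFormPlus k F (φ w) = 0
      rw [hφ w, hQ])
  -- the action of `y`
  have : Finite V := Module.finite_of_finite F
  have : Fintype {w : W // Q (w : V) = 0} := Fintype.ofFinite _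
  let g : Function.End {w : W // Q (w : V) = 0} := fun w =>
    ⟨⟨y (w.1 : V), hW _ w.1.2⟩, by
      show Q (y (w.1 : V)) = 0
      rw [hiso]
      exact w.2⟩
  have hiter : ∀ (n : ℕ) (w : {w : W // Q (w : V) = 0}),
      (((g^[n] w).1 : W) : V) = (y ^ n) (w.1 : V) := by
    intro n
    induction n with
    | zero => intro w; rfl
    | succ n ih =>
      intro w
      rw [Function.iterate_succ_apply', pow_succ', Module.End.mul_apply, ← ih w]
  have hg : g ^ r ^ 1 = 1 := by
    rw [pow_one]
    funext w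
    apply Subtype.ext
    apply Subtype.ext
    rw [Cfsg.Agent.Lib.Helper68.Oh.end_pow_apply, hiter, hy]
    rfl
  have hmod := Equiv.Perm.card_fixedPoints_modEq (p := r) (n := 1) hg
  have hfix : Fintype.card (Function.fixedPoints g) = 1 := by
    rw [Fintype.card_eq_one_iff]
    have h0 : Q ((0 : W) : V) = 0 := by simp
    refine ⟨⟨⟨0, h0⟩, ?_⟩, ?_⟩
    · show g ⟨0, h0⟩ = ⟨0, h0⟩
      apply Subtype.ext
      apply Subtype.ext
      show y ((0 : W) : V) = ((0 : W) : V)
      simp
    · rintro ⟨w, hw⟩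
      apply Subtype.ext
      apply Subtype.ext
      apply Subtype.ext
      show ((w.1 : W) : V) = 0
      have hyw : y ((w.1 : W) : V) = ((w.1 : W) : V) := by
        have := congrArg (fun z : {w : W // Q (w : V) = 0} => ((z.1 : W) : V)) hw
        exact this
      have hmem : ((w.1 : W) : V) ∈ V0 y ⊓ V1 r y :=
        Submodule.mem_inf.mpr ⟨(mem_V0 y _).mpr hyw, hWV1 w.1.2⟩
      rw [V0_inf_V1 r hrF y] at hmem
      exact (Submodule.mem_bot F).mp hmem
  rw [hfix, ← Nat.card_eq_fintype_card, hcount] at hmod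
  -- arithmetic
  obtain ⟨A, hA⟩ : ∃ A, q ^ k = A + 1 := ⟨q ^ k - 1, by
    have := Nat.one_le_pow k q hq0
    omega⟩
  have hdvd : r ∣ A * (q ^ (k - 1) + 1) := by
    have h1 : 1 ≤ q ^ k + (q ^ k - 1) * q ^ (k - 1) := by
      have := Nat.one_le_pow k q hq0
      omega
    have h3 := (Nat.modEq_iff_dvd' h1).mp hmod.symm
    have h4 : q ^ k + (q ^ k - 1) * q ^ (k - 1) - 1 = A * (q ^ (k - 1) + 1) := by
      rw [hA, Nat.add_sub_cancel]
      have : A + 1 + A * q ^ (k - 1) - 1 = A + A * q ^ (k - 1) := by omega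
      rw [this]
      ring
    rw [h4] at h3
    exact h3
  rcases (Nat.Prime.dvd_mul hr).mp hdvd with hd | hd
  · have hA' : A = q ^ k - 1 := by omega
    rw [hA'] at hd
    have h5 := Cfsg.Agent.Lib.Helper68.Oh.orderOf_dvd_of_dvd_pow_sub_one q r k hq0 hd
    have h6 := Nat.le_of_dvd (by omega) h5
    omega
  · have h5 := Cfsg.Agent.Lib.Helper68.Oh.orderOf_dvd_of_dvd_pow_add_one q r (k - 1) hd
    by_cases hk1' : k = 1
    · rw [hk1'] at hd
      simp only [Nat.sub_self, pow_zero] at hd
      have := Nat.le_of_dvd (by norm_num) hd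
      have := hr.two_le
      omega
    · have h6 := Nat.le_of_dvd (by omega) h5
      omega

/-- **LEAF C2 (597404)** -/
theorem plusQ_iff_of_min [Fintype F] [FiniteDimensional F V] (Q : QuadraticForm F V)
    (hV : NonDeg (pB Q) ⊤) (p f : ℕ) [Fact p.Prime] (hF : Fintype.card F = p ^ f)
    (r : ℕ) [Fact r.Prime] (hpr : p ≠ r) (hr2 : r ≠ 2) (hrF : (r : F) ≠ 0) (y : V →ₗ[F] V)
    (hy : y ^ r = 1) (hiso : QIso Q y)
    (W : Submodule F V) (hWV1 : W ≤ V1 r y) (hW : Inv y W) (hWnd : NonDeg (pB Q) W)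
    (hWd : finrank F W = cOf (orderOf ((Fintype.card F : ℕ) : ZMod r))) :
    PlusQ Q W ↔ Odd (orderOf ((Fintype.card F : ℕ) : ZMod r)) := by
  constructor
  · intro hP
    by_contra hne
    exact not_plusQ_of_even Q p f hF r hpr hr2 hrF y hy hiso W hWV1 hW hWnd hWd
      (Nat.not_odd_iff_even.mp hne) hP
  · intro hi
    exact plusQ_of_odd Q p f hF r hpr hr2 hrF y hy hiso W hWV1 hW hWd hi

end Cfsg.Agent.Lib.Helper21.OhP
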