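import Cfsg.Agent.Lib.Helper38.OhP.Defs
import Cfsg.Agent.Lib.Helper50.GeoBridge
import Cfsg.Agent.Lib.Helper50.PlusForm
import Cfsg.Agent.Lib.Helper50.TypeCriteria

/-!
# K-OhP-T0 (keystone 597418, architect helper38): bridges between `Cfsg.Geo` and the abstract vocabulary
-/

set_option autoImplicit false
set_option linter.unusedSectionVars false
set_option linter.unusedVariables false

namespace Cfsg.Agent.Lib.Helper21.OhP

open Module Cfsg.Agent.Lib.Helper98.Elus Cfsg.Agent.Lib.Helper98.Sy Cfsg.Agent.Lib.Helper38.OhP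

universe u
variable {F : Type u} [Field F] {V : Type u} [AddCommGroup V] [Module F V]

theorem qiso_of_mem_omegaGL (d : ℕ) (x : GL (Fin d ⊕ Fin d) F)
    (hx : x ∈ Cfsg.Geo.omegaGL (Cfsg.quadFormPlus d F)) :
    QIso (Q0 d F) (Matrix.toLin' (x : Matrix (Fin d ⊕ Fin d) (Fin d ⊕ Fin d) F)) := by
  obtain ⟨h, -⟩ := (Cfsg.Agent.Lib.Helper50.mem_omegaGL_iff _ x).mp hx
  intro v
  have hQ : Cfsg.quadFormPlus d F
      ((x : Matrix (Fin d ⊕ Fin d) (Fin d ⊕ Fin d) F).mulVec v) = Cfsg.quadFormPlus d F v := h v v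
  rw [Matrix.toLin'_apply]
  exact hQ

theorem pB_Q0_apply (d : ℕ) (a b : Fin d ⊕ Fin d → F) :
    pB (Q0 d F) a b = QuadraticMap.polar (Cfsg.quadFormPlus d F) a b := by
  rw [QuadraticMap.polarBilin_apply_apply]
  rfl

theorem isHyp_iff (d m : ℕ) (W : Submodule F (Fin d ⊕ Fin d → F)) :
    IsHyp d m W ↔ (finrank F W = m ∧ NonDeg (pB (Q0 d F)) W ∧ PlusQ (Q0 d F) W) := by
  constructor
  · rintro ⟨hm, hnd, U, hUW, hUd, hU⟩
    refine ⟨hm, ?_, U, hUW, fun u hu => hU u hu, by rw [hUd, hm]⟩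
    intro u hu hall
    by_contra hu0
    obtain ⟨v, hv, hne⟩ := hnd u hu hu0
    rw [← pB_Q0_apply] at hne
    exact hne (hall v hv)
  · rintro ⟨hm, hnd, U, hUW, hU, hUd⟩
    refine ⟨hm, ?_, U, hUW, by rw [hUd, hm], fun u hu => hU u hu⟩
    intro u hu hu0
    by_contra hcon
    push Not at hcon
    apply hu0
    apply hnd u hu
    intro v hv
    rw [pB_Q0_apply]
    exact hcon v hv

theorem nonDeg_Q0 (d : ℕ) : NonDeg (pB (Q0 d F)) ⊤ := by
  have h : (QuadraticMap.polarBilin (Cfsg.Agent.Lib.Helper50.QPlus d F)).Nondegenerate :=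
    Cfsg.Agent.Lib.Helper50.QPlus_nondegenerate
  intro u _ hu
  exact h.1 u (fun w => hu w Submodule.mem_top)

theorem finrank_Q0 (d : ℕ) : finrank F (Fin d ⊕ Fin d → F) = 2 * d := by
  rw [Module.finrank_pi, Fintype.card_sum, Fintype.card_fin]
  omega

theorem plusQ_Q0 (d : ℕ) : PlusQ (Q0 d F) ⊤ := by
  obtain ⟨X, hXd, hX⟩ := Cfsg.Agent.Lib.Helper50.exists_totally_singular_of_plusType
    (Cfsg.Agent.Lib.Helper50.QPlus d F) d ⟨LinearEquiv.refl F _, fun v => rfl⟩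
  refine ⟨X, le_top, hX, ?_⟩
  rw [hXd, finrank_top, finrank_Q0]

theorem map_le_iff_inv' (d : ℕ) (g : (Fin d ⊕ Fin d → F) →ₗ[F] (Fin d ⊕ Fin d → F))
    (W : Submodule F (Fin d ⊕ Fin d → F)) : W.map g ≤ W ↔ Inv g W :=
  ⟨fun h v hv => h ⟨v, hv, rfl⟩, fun h => by
    rintro _ ⟨v, hv, rfl⟩
    exact h v hv⟩

end Cfsg.Agent.Lib.Helper21.OhP
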