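import Mathlib
import Cfsg.Agent.Lib.Helper49.RSU3Defs
import Cfsg.Agent.Lib.Helper40.GUConj

/-!
# K-RSU3-L04 (keystone 228304): `xM q a b` is an element of `GJ 3 F q` when `Val q a b`
-/

set_option autoImplicit false
set_option linter.unusedSectionVars false
set_option linter.unusedVariables false

namespace Cfsg.Agent.Lib.Helper21.RSU3

open Matrix Cfsg.Agent.Lib.Helper49.StSU Cfsg.Agent.Lib.Helper49.RSU3

variable {F : Type*} [Field F] [Fintype F] {q : ℕ}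

theorem l04_det (a b : F) : (xM q a b).det = 1 := by
  unfold xM
  rw [Matrix.det_fin_three]
  simp

theorem l04_rev0 : Fin.rev (0 : Fin 3) = 2 := rfl
theorem l04_rev1 : Fin.rev (1 : Fin 3) = 1 := rfl
theorem l04_rev2 : Fin.rev (2 : Fin 3) = 0 := rfl

theorem l04_hJ (φ : F →+* F) (hφ : ∀ x, φ x = x ^ q) (u v : Fin 3 → F) :
    hJ 3 F q u v = u 0 * φ (v 2) + u 1 * φ (v 1) + u 2 * φ (v 0) := by
  unfold hJ
  rw [Fin.sum_univ_three, l04_rev0, l04_rev1, l04_rev2, hφ, hφ, hφ]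

theorem l04_mulVec (a b : F) (u : Fin 3 → F) :
    xM q a b *ᵥ u = ![u 0 + a * u 1 + b * u 2, u 1 - a ^ q * u 2, u 2] := by
  unfold xM
  ext i
  fin_cases i <;> simp [Matrix.mulVec, dotProduct, Fin.sum_univ_three] <;> ring

theorem exists_x (hF : Fintype.card F = q ^ 2) (a b : F) (h : Val q a b) :
    ∃ g : GJ 3 F q, mat g = xM q a b := by
  obtain ⟨φ, hφ, hφφ, -⟩ := Cfsg.Agent.Lib.Helper40.GUConj.exists_frob hF
  have h' : b + φ b + a * φ a = 0 := by
    rw [hφ b, hφ a]; exact h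
  have hM : ∀ u v, hJ 3 F q (xM q a b *ᵥ u) (xM q a b *ᵥ v) = hJ 3 F q u v := by
    intro u v
    rw [l04_hJ φ hφ, l04_hJ φ hφ, l04_mulVec, l04_mulVec, ← hφ a]
    simp only [Matrix.cons_val_zero, Matrix.cons_val_one, Matrix.cons_val_two, Matrix.head_cons,
      Matrix.tail_cons, map_add, map_sub, map_mul, hφφ]
    linear_combination (u 2 * φ (v 2)) * h'
  exact ⟨⟨⟨xM q a b, l04_det a b⟩, hM⟩, rfl⟩

end Cfsg.Agent.Lib.Helper21.RSU3
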