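import Mathlib
import Cfsg.Agent.S1350
import Cfsg.Agent.S1409
import Cfsg.Agent.S1415
import Cfsg.Agent.S1417
import Cfsg.Agent.Lib.Helper54.BG134A3a
import Cfsg.Agent.Lib.Helper55.Uniq2
import Cfsg.Agent.Lib.Helper12.CNMaxSub
import Cfsg.Agent.Lib.Helper13.BG12B
import Cfsg.Agent.Lib.Helper01.BG134T3N

/-! K-S1353-R1 (keystone 135301, architect helper58): `τ₂(M) ≠ ∅` ⟹ prime-order `τ₃`-subgroups of a
complement `E` act regularly on `M_σ`. -/

set_option autoImplicit false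
set_option linter.style.haveILetI false

namespace Cfsg.Agent.Lib.Helper21.BG14

open Cfsg

variable {G : Type*} [Group G] [Finite G]

theorem tau3_regular_of_tau2 (hG : IsMinSimpleOddOrder G) {M E S₀ : Subgroup G} (hM : IsCoatom M)
    (hE : IsComplIn E (sigmaCore M) M) {q : ℕ} (hq : q ∈ tau2 M) {s : ℕ} (hs : s ∈ tau3 M)
    (hS₀E : S₀ ≤ E) (hS₀c : Nat.card S₀ = s) :
    sigmaCore M ⊓ Subgroup.centralizer (S₀ : Set G) = ⊥ := by
  have hsp : s.Prime := hs.1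
  have hqp : q.Prime := hq.1
  haveI : Fact s.Prime := ⟨hsp⟩
  haveI : Fact q.Prime := ⟨hqp⟩
  have hEM : E ≤ M := hE.1
  have hEtop : E ≠ ⊤ := by
    intro h
    apply hM.1
    rw [eq_top_iff, ← h]
    exact hEM
  have hsolv : Group.IsSolvable ↥E := Cfsg.Agent.Lib.Helper55.ms_solvable hG hEtop
  -- a Hall τ₃-subgroup of `E` over `S₀`
  obtain ⟨E₃, hE₃, hS₀E₃⟩ := Cfsg.Agent.Lib.Helper54.BG134.exists_isPiHallOf_ge hsolv (tau3 M) hS₀E
    (by
      intro p hp hpd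
      rw [hS₀c] at hpd
      rw [(Nat.prime_dvd_prime_iff_eq hp hsp).mp hpd]
      exact hs)
  obtain ⟨hE₃cyc, -, hEN₃⟩ := (Cfsg.Agent.S1415.result hG M hM E hE).2.2 E₃ hE₃
  have hES₀ : E ≤ Subgroup.normalizer (S₀ : Set G) :=
    hEN₃.trans (Cfsg.Agent.Lib.Helper01.BG134.normalizer_le_normalizer_of_isCyclic E₃ S₀ hE₃cyc hS₀E₃)
  -- a maximal subgroup over `N_G(S₀)`
  have hS₀bot : S₀ ≠ ⊥ := by
    intro h
    rw [h, Subgroup.card_bot] at hS₀c
    exact hsp.one_lt.ne hS₀c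
  have hS₀top : S₀ ≠ ⊤ := by
    intro h
    apply hEtop
    rw [eq_top_iff, ← h]
    exact hS₀E
  obtain ⟨H, hH, hNH⟩ := Cfsg.Agent.Lib.Helper12.CNMaxSub.exists_coatom_normalizer_le hG hS₀bot hS₀top
  have hHM : H ≠ M := by
    intro h
    rw [h] at hNH
    exact (Cfsg.Agent.S1409.result hG M hM s hs.2.1 S₀ hS₀c hNH).1.2 hs.2.2.2
  -- an elementary abelian `q²` in `E`
  have hHall : IsPiHallOf (sigma M) (sigmaCore M) M := (Cfsg.Agent.S1350.result hG M hM).1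
  obtain ⟨A, hAE, hAel, hAc⟩ := Cfsg.Agent.Lib.Helper13.BG12.exists_elemAb_sq_le_compl hG hM hHall hq hE
  have hAH : A ≤ H := hAE.trans (hES₀.trans hNH)
  have hbot : sigmaCore M ⊓ H = ⊥ :=
    (Cfsg.Agent.S1417.result hG M hM q hq A ⟨hAE.trans hEM, hAel, hAc⟩).2.2.2.2.1 H hH hHM hAH
  rw [eq_bot_iff, ← hbot]
  exact inf_le_inf_left _
    ((Subgroup.centralizer_le_normalizer (S₀ : Set G)).trans hNH)

end Cfsg.Agent.Lib.Helper21.BG14
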