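import Mathlib
import Cfsg.Prelude.Def_Blocks
import Cfsg.Agent.Lib.Helper21.BlockHom
import Cfsg.Agent.S0912

set_option autoImplicit false
set_option linter.unusedSectionVars false

namespace Cfsg.Agent.Lib.Helper21

open Cfsg
open scoped ComplexConjugate
open Cfsg.Agent.Lib.Helper82 Cfsg.Agent.Lib.Helper83

universe u

/-- A `p`-power root of unity is congruent to `1` modulo the local ideal. -/
theorem memLocalIdeal_sub_one_of_pow_eq_one {p : ℕ} [Fact p.Prime] {M : Ideal AlgInt}
    (hMod : IsPModular p M) {t : ℂ} (ht : IsIntegral ℤ t) (k : ℕ) (h : t ^ (p ^ k) = 1) :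
    MemLocalIdeal M (t - 1) := by
  obtain ⟨hp, hMax, hpM⟩ := hMod
  have hprime : M.IsPrime := hMax.isPrime
  let _ : Field (AlgInt ⧸ M) := Ideal.Quotient.field M
  have : CharP (AlgInt ⧸ M) p := by
    rw [CharP.charP_iff_prime_eq_zero hp]
    have := (Ideal.Quotient.eq_zero_iff_mem (I := M)).2 hpM
    rwa [map_natCast] at this
  set a : AlgInt := ⟨t, ht⟩ with ha
  have hpow : a ^ (p ^ k) = 1 := by
    apply Subtype.ext
    simpa using h
  have h1 : (Ideal.Quotient.mk M a - 1) ^ (p ^ k) = 0 := by
    rw [sub_pow_char_pow, ← map_pow, hpow, map_one, one_pow, sub_self]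
  have h2 : Ideal.Quotient.mk M a - 1 = 0 := by
    exact (pow_eq_zero_iff (pow_pos hp.pos k).ne').1 h1
  have h3 : a - 1 ∈ M := by
    rw [← Ideal.Quotient.eq_zero_iff_mem, map_sub, map_one]
    exact h2
  have := (memLocalIdeal_algInt_iff hprime (a - 1)).2 h3
  simpa [ha] using this

section

variable {G : Type u} [Group G] [Fintype G] [Fintype (IrrCharacter G)]

/-- For a central element, the indicator functions multiply. -/
theorem conv_indicator_central [DecidableEq G] (z w : G) :
    conv (fun x : G => if x = z then (1 : ℂ) else 0) (fun x : G => if x = w then (1 : ℂ) else 0)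
      = fun x : G => if x = z * w then (1 : ℂ) else 0 := by
  funext y
  simp only [conv]
  rw [Finset.sum_eq_single z]
  · simp only [if_true, one_mul]
    have : z⁻¹ * y = w ↔ y = z * w := by
      constructor
      · intro h; rw [← h]; group
      · intro h; rw [h]; group
    exact if_congr this rfl rfl
  · intro x _ hx
    rw [if_neg hx, zero_mul]
  · intro h
    exact absurd (Finset.mem_univ z) h

theorem isConj_central_iff {z x : G} (hz : z ∈ Subgroup.center G) : IsConj z x ↔ x = z := by
  constructor
  · intro h
    obtain ⟨c, rfl⟩ := isConj_iff.1 h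
    have := Subgroup.mem_center_iff.1 hz c
    rw [this]; group
  · rintro rfl
    exact IsConj.refl _

theorem centralChar_central_eq_omega [DecidableEq G] (χ : G → ℂ) (hχ : IsClassFunction G χ) (z : G)
    (hz : z ∈ Subgroup.center G) :
    centralChar χ z = omega (fun x : G => if x = z then (1 : ℂ) else 0) χ := by
  classical
  rw [← omega_indicator hχ z]
  congr 1
  funext x
  exact if_congr (isConj_central_iff hz) rfl rfl

/-- The central character is multiplicative on powers of central elements. -/
theorem centralChar_central_pow (χ : IrrCharacter G) (z : G) (hz : z ∈ Subgroup.center G) (n : ℕ) :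
    centralChar (χ : G → ℂ) (z ^ n) = (centralChar (χ : G → ℂ) z) ^ n := by
  classical
  have hcf := isClassFunction_irr χ
  induction n with
  | zero =>
    rw [pow_zero, pow_zero, centralChar_central_eq_omega _ hcf 1 (Subgroup.one_mem _)]
    have := omega_deltaOne χ
    rw [deltaOne_eq] at this
    exact this
  | succ n ih =>
    have hzn : z ^ n ∈ Subgroup.center G := Subgroup.pow_mem _ hz n
    rw [pow_succ', pow_succ', centralChar_central_eq_omega _ hcf _ (Subgroup.mul_mem _ hz hzn),
      ← conv_indicator_central z (z ^ n), omega_conv χ.2, ← centralChar_central_eq_omega _ hcf z hz,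
      ← centralChar_central_eq_omega _ hcf _ hzn, ih]
    intro g c
    have : c * g * c⁻¹ = z ^ n ↔ g = z ^ n := by
      have hc := Subgroup.mem_center_iff.1 hzn
      constructor
      · intro h
        have : g = c⁻¹ * (z ^ n) * c := by rw [← h]; group
        rw [this, hc c⁻¹]; group
      · intro h
        rw [h, hc c]; group
    exact if_congr this rfl rfl

/-- **A finite `p`-group has a single block.** -/
theorem sameBlock_of_isPGroup {p : ℕ} [Fact p.Prime] {M : Ideal AlgInt} (hMod : IsPModular p M)
    (hG : IsPGroup p G) (θ θ' : IrrCharacter G) :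
    SameBlock M (θ : G → ℂ) (θ' : G → ℂ) := by
  classical
  have hM : M.IsPrime := hMod.2.1.isPrime
  have key : ∀ (χ : IrrCharacter G) (g : G), MemLocalIdeal M (centralChar (χ : G → ℂ) g -
      ((Subgroup.centralizer ({g} : Set G)).index : ℂ)) := by
    intro χ g
    by_cases hg : g ∈ Subgroup.center G
    · have hidx : (Subgroup.centralizer ({g} : Set G)).index = 1 := by
        have : Subgroup.centralizer ({g} : Set G) = ⊤ := by
          rw [eq_top_iff]
          intro x _
          rw [Subgroup.mem_centralizer_iff]
          intro y hy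
          rw [Set.mem_singleton_iff] at hy
          subst hy
          exact (Subgroup.mem_center_iff.1 hg x).symm
        rw [this, Subgroup.index_top]
      rw [hidx, Nat.cast_one]
      obtain ⟨k, hk⟩ := IsPGroup.iff_card.1 hG
      apply memLocalIdeal_sub_one_of_pow_eq_one hMod (IsIrrCharacter.isIntegral_centralChar χ.2 g) k
      rw [← centralChar_central_pow χ g hg, ← hk, pow_card_eq_one']
      simpa using centralChar_central_pow χ g hg 0
    · have h1 : MemLocalIdeal M (centralChar (χ : G → ℂ) g) := by
        by_contra hcon
        obtain ⟨x, hx, hxc⟩ := Cfsg.Agent.S0912.exists_conj_mem_centralizer_pCore p M hMod g χ hcon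
        have htop : pCore p G = ⊤ := by
          rw [eq_top_iff]
          apply le_sSup
          exact ⟨inferInstance, hG.to_subgroup ⊤⟩
        rw [htop] at hxc
        have hxZ : x ∈ Subgroup.center G := by
          rw [Subgroup.mem_center_iff]
          intro y
          exact Subgroup.mem_centralizer_iff.1 hxc y (Subgroup.mem_top y)
        apply hg
        obtain ⟨c, rfl⟩ := isConj_iff.1 hx
        have h3 : g = c * g * c⁻¹ := by
          have h4 := Subgroup.mem_center_iff.1 hxZ c⁻¹
          calc g = c⁻¹ * (c * g * c⁻¹) * c := by group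
            _ = (c * g * c⁻¹) * c⁻¹ * c := by rw [h4]
            _ = c * g * c⁻¹ := by group
        rw [h3]
        exact hxZ
      have h2 : MemLocalIdeal M ((Subgroup.centralizer ({g} : Set G)).index : ℂ) := by
        rw [memLocalIdeal_natCast_iff hMod]
        obtain ⟨n, hn⟩ := hG.index (Subgroup.centralizer ({g} : Set G))
        rw [hn]
        apply dvd_pow_self
        rintro rfl
        rw [pow_zero, Subgroup.index_eq_one] at hn
        apply hg
        rw [Subgroup.mem_center_iff]
        intro y
        have hy : y ∈ Subgroup.centralizer ({g} : Set G) := by rw [hn]; trivial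
        exact (Subgroup.mem_centralizer_iff.1 hy g (Set.mem_singleton g)).symm
      exact memLocalIdeal_sub hM h1 h2
  intro g
  have := memLocalIdeal_sub hM (key θ g) (key θ' g)
  convert this using 1
  ring

end

end Cfsg.Agent.Lib.Helper21
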