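import Mathlib
import Cfsg.Prelude.Def_Blocks
import Cfsg.Agent.Lib.Helper21.Contribution
import Cfsg.Agent.Lib.Helper21.PGroupBlock
import Cfsg.Agent.Lib.Helper83.Central
import Cfsg.Agent.S4431

set_option autoImplicit false
set_option linter.unusedSectionVars false

namespace Cfsg.Agent.Lib.Helper21

open Cfsg
open scoped ComplexConjugate
open Cfsg.Agent.Lib.Helper82 Cfsg.Agent.Lib.Helper83

universe u

section Twist

variable {H : Type u} [Group H] [Fintype H]

/-- An irreducible character is multiplicative along a central element. -/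
theorem irr_central_mul (ψ : IrrCharacter H) {z : H} (hz : z ∈ Subgroup.center H) (c : H) :
    (ψ : H → ℂ) (z * c) = (ψ : H → ℂ) z / (ψ : H → ℂ) 1 * (ψ : H → ℂ) c := by
  have hψ1 : (ψ : H → ℂ) 1 ≠ 0 := IsIrrCharacter.apply_one_ne_zero ψ.2
  have hH0 : (Nat.card H : ℂ) ≠ 0 := card_ne_zero_complex
  have h := irr_sum_conj_mul ψ c z
  have hconj : ∀ a : H, a * z * a⁻¹ = z := by
    intro a
    rw [Subgroup.mem_center_iff] at hz
    rw [hz a, mul_inv_cancel_right]
  simp only [hconj, Finset.sum_const, Finset.card_univ, nsmul_eq_mul,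
    ← Nat.card_eq_fintype_card] at h
  have hcz : c * z = z * c := (Subgroup.mem_center_iff.1 hz c)
  rw [hcz] at h
  have h2 : (ψ : H → ℂ) (z * c) = (ψ : H → ℂ) c * (ψ : H → ℂ) z / (ψ : H → ℂ) 1 := by
    apply mul_left_cancel₀ hH0
    rw [h]
    ring
  rw [h2]
  ring

/-- The central character of a central `p`-element is a `p`-power root of unity. -/
theorem irr_central_pow (ψ : IrrCharacter H) {z : H} (hz : z ∈ Subgroup.center H) (n : ℕ) :
    ((ψ : H → ℂ) z / (ψ : H → ℂ) 1) ^ n = (ψ : H → ℂ) (z ^ n) / (ψ : H → ℂ) 1 := by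
  have hψ1 : (ψ : H → ℂ) 1 ≠ 0 := IsIrrCharacter.apply_one_ne_zero ψ.2
  induction n with
  | zero => rw [pow_zero, pow_zero, div_self hψ1]
  | succ n ih =>
    rw [pow_succ', ih, pow_succ', irr_central_mul ψ hz (z ^ n)]
    ring

theorem memLocalIdeal_central_sub_one {p : ℕ} [Fact p.Prime] {M : Ideal AlgInt}
    (hMp : IsPModular p M) (ψ : IrrCharacter H) {z : H} (hz : z ∈ Subgroup.center H)
    (k : ℕ) (hzk : z ^ (p ^ k) = 1) :
    MemLocalIdeal M ((ψ : H → ℂ) z / (ψ : H → ℂ) 1 - 1) := by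
  have hp : p.Prime := Fact.out
  have hψ1 : (ψ : H → ℂ) 1 ≠ 0 := IsIrrCharacter.apply_one_ne_zero ψ.2
  have hpow : ((ψ : H → ℂ) z / (ψ : H → ℂ) 1) ^ (p ^ k) = 1 := by
    rw [irr_central_pow ψ hz, hzk, div_self hψ1]
  apply memLocalIdeal_sub_one_of_pow_eq_one hMp _ k hpow
  refine ⟨Polynomial.X ^ (p ^ k) - Polynomial.C 1, Polynomial.monic_X_pow_sub_C _
    (pow_pos hp.pos k).ne', ?_⟩
  simp [hpow]

/-- Inner product of a central translate. -/
theorem classInner_translate_central (ψ : IrrCharacter H) {z : H} (hz : z ∈ Subgroup.center H)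
    (f : H → ℂ) :
    classInner (fun c : H => f (z * c)) (ψ : H → ℂ)
      = (ψ : H → ℂ) z / (ψ : H → ℂ) 1 * classInner f (ψ : H → ℂ) := by
  have hψc : IsCharacter H (ψ : H → ℂ) := IrrCharacter_isCharacter ψ
  have hψ1 : (ψ : H → ℂ) 1 ≠ 0 := IsIrrCharacter.apply_one_ne_zero ψ.2
  have hz' : z⁻¹ ∈ Subgroup.center H := Subgroup.inv_mem _ hz
  have h1real : conj ((ψ : H → ℂ) 1) = (ψ : H → ℂ) 1 := by
    rw [← charDegree_cast hψc]
    simp
  rw [classInner_def, classInner_def]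
  have : ∑ c : H, f (z * c) * conj ((ψ : H → ℂ) c)
      = (ψ : H → ℂ) z / (ψ : H → ℂ) 1 * ∑ c : H, f c * conj ((ψ : H → ℂ) c) := by
    rw [← Equiv.sum_comp (Equiv.mulLeft z⁻¹), Finset.mul_sum]
    apply Finset.sum_congr rfl
    intro c _
    simp only [Equiv.coe_mulLeft, mul_inv_cancel_left]
    rw [irr_central_mul ψ hz' c, map_mul, map_div₀, char_inv hψc, Complex.conj_conj, h1real]
    ring
  rw [this]
  ring

end Twist

section Main

variable {G : Type u} [Group G] [Fintype G]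

theorem blockPart_eq_sum_ite {H : Type u} [Group H] [Fintype H] [Fintype (IrrCharacter H)]
    (b : Set (IrrCharacter H)) [DecidablePred (· ∈ b)] (ϑ : H → ℂ) (y : H) :
    blockPart b ϑ y = ∑ ψ : IrrCharacter H, if ψ ∈ b then
      classInner ϑ (ψ : H → ℂ) * (ψ : H → ℂ) y else 0 := by
  rw [← finsum_mem_eq_sum_ite]
  unfold blockPart
  apply finsum_congr
  intro χ
  apply finsum_congr
  intro _
  congr 2
  exact Subsingleton.elim _ _

/-- Broué–Puig: for `χ` of height zero in `B = b^G`, `b` a block of a subgroup `H` in whose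
centre the `p`-element `x` lies, the `b`-part of `c ↦ χ(xc)` does not vanish identically on the
`p`-regular elements of `H`. -/
theorem exists_regular_blockPart_ne_zero [Fintype (IrrCharacter G)] {p : ℕ} [Fact p.Prime]
    {M : Ideal AlgInt} (hMp : IsPModular p M)
    (H : Subgroup G) [Fintype H] (x : G) (hxH : x ∈ H)
    (hxc : ∀ h ∈ H, h * x = x * h) (k : ℕ) (hxk : x ^ (p ^ k) = 1)
    (b : Set (IrrCharacter H)) (B : Set (IrrCharacter G)) (hind : IsInducedBlock M H b B)
    (χ : IrrCharacter G) (hχ : χ ∈ B)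
    (hmin : ∀ χ' : IrrCharacter G, SameBlock M (χ : G → ℂ) (χ' : G → ℂ) →
      (charDegree (χ : G → ℂ)).factorization p ≤ (charDegree (χ' : G → ℂ)).factorization p) :
    ∃ y : H, ¬ p ∣ orderOf y ∧ blockPart b (fun c : H => (χ : G → ℂ) (x * (c : G))) y ≠ 0 := by
  classical
  have := Fintype.ofFinite (IrrCharacter H)
  have hp : p.Prime := Fact.out
  have hM : M.IsPrime := hMp.2.1.isPrime
  by_contra hcon
  push Not at hcon
  obtain ⟨ψ₀, hψ₀⟩ := Cfsg.Agent.Lib.Helper82.IsPBlock.nonempty hM hind.1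
  have hbψ₀ : b = blockOf M (ψ₀ : H → ℂ) := IsPBlock.eq_blockOf hM hind.1 hψ₀
  have hψ₀1 : (ψ₀ : H → ℂ) 1 ≠ 0 := IsIrrCharacter.apply_one_ne_zero ψ₀.2
  -- the central element
  set z : H := ⟨x, hxH⟩ with hz
  have hzc : z ∈ Subgroup.center H := by
    rw [Subgroup.mem_center_iff]
    intro h
    apply Subtype.ext
    exact hxc h h.2
  have hzk : z ^ (p ^ k) = 1 := by
    apply Subtype.ext
    simpa using hxk
  set lam : IrrCharacter H → ℂ := fun ψ => (ψ : H → ℂ) z / (ψ : H → ℂ) 1 with hlam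
  have hlamI : ∀ ψ, MemLocalIdeal M (lam ψ - 1) := fun ψ =>
    memLocalIdeal_central_sub_one hMp ψ hzc k hzk
  -- restriction of χ
  set χH : H → ℂ := fun h => (χ : G → ℂ) (h : G) with hχH
  have hχHc : IsCharacter H χH := isCharacter_restrict H (IrrCharacter_isCharacter χ)
  set m : IrrCharacter H → ℕ := fun ψ => irrMult χH ψ with hm
  have hmcast : ∀ ψ, (m ψ : ℂ) = classInner χH (ψ : H → ℂ) := fun ψ => irrMult_cast hχHc ψ
  have hdecomp : ∀ y : H, χH y = ∑ ψ : IrrCharacter H, (m ψ : ℂ) * (ψ : H → ℂ) y := by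
    intro y
    have := congrFun (char_eq_sum_irrMult hχHc) y
    simp only [Finset.sum_apply, Pi.smul_apply, smul_eq_mul] at this
    exact this
  -- the twisted function
  have hϑ : ∀ ψ : IrrCharacter H,
      classInner (fun c : H => (χ : G → ℂ) (x * (c : G))) (ψ : H → ℂ) = lam ψ * (m ψ : ℂ) := by
    intro ψ
    have := classInner_translate_central ψ hzc χH
    rw [hmcast, ← this]
    rfl
  -- r ψ
  set r : IrrCharacter H → ℂ := fun ψ =>
    ∑ y : H, (if p ∣ orderOf y then 0 else (ψ : H → ℂ) y * conj ((ψ₀ : H → ℂ) y)) with hr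
  have hr0 : ∀ ψ, ψ ∉ b → r ψ = 0 := by
    intro ψ hψ
    apply sum_regular_mul_conj_eq_zero hMp ψ ψ₀
    intro hs
    apply hψ
    rw [hbψ₀, mem_blockOf_iff]
    exact sameBlock_symm hs
  have hH0 : (Nat.card H : ℂ) ≠ 0 := card_ne_zero_complex
  have hrR : ∀ ψ, r ψ = (ψ₀ : H → ℂ) 1 * omega (regConj p (ψ : H → ℂ)) (ψ₀ : H → ℂ) := by
    intro ψ
    have e := inner_regPart_eq_right p ψ ψ₀ 1
    rw [classInner_def] at e
    have e2 : ∑ g : H, (if p ∣ orderOf g then (0 : ℂ) else 1 * (ψ : H → ℂ) g) *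
        conj ((ψ₀ : H → ℂ) g) = r ψ := by
      apply Finset.sum_congr rfl
      intro g _
      split_ifs
      · rw [zero_mul]
      · rw [one_mul]
    rw [e2] at e
    have h10 : (Nat.card H : ℂ)⁻¹ ≠ 0 := inv_ne_zero hH0
    rw [one_div] at e
    exact mul_left_cancel₀ h10 e
  -- the vanishing sum
  have hcomm : ∑ ψ : IrrCharacter H, (if ψ ∈ b then lam ψ * (m ψ : ℂ) *
        ∑ y : H, (if p ∣ orderOf y then 0 else (ψ : H → ℂ) y * conj ((ψ₀ : H → ℂ) y)) else 0)
      = ∑ y : H, (if p ∣ orderOf y then (0 : ℂ) else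
        (∑ ψ : IrrCharacter H, if ψ ∈ b then lam ψ * (m ψ : ℂ) * (ψ : H → ℂ) y else 0) *
          conj ((ψ₀ : H → ℂ) y)) := by
    have e1 : ∀ ψ : IrrCharacter H, (if ψ ∈ b then lam ψ * (m ψ : ℂ) *
        ∑ y : H, (if p ∣ orderOf y then 0 else (ψ : H → ℂ) y * conj ((ψ₀ : H → ℂ) y)) else 0)
        = ∑ y : H, (if p ∣ orderOf y then 0 else if ψ ∈ b then
          lam ψ * (m ψ : ℂ) * (ψ : H → ℂ) y * conj ((ψ₀ : H → ℂ) y) else 0) := by
      intro ψ
      split_ifs with hψ
      · rw [Finset.mul_sum]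
        apply Finset.sum_congr rfl
        intro y _
        split_ifs
        · rw [mul_zero]
        · ring
      · simp
    have e2 : ∀ y : H, (if p ∣ orderOf y then (0 : ℂ) else
        (∑ ψ : IrrCharacter H, if ψ ∈ b then lam ψ * (m ψ : ℂ) * (ψ : H → ℂ) y else 0) *
          conj ((ψ₀ : H → ℂ) y))
        = ∑ ψ : IrrCharacter H, (if p ∣ orderOf y then 0 else if ψ ∈ b then
          lam ψ * (m ψ : ℂ) * (ψ : H → ℂ) y * conj ((ψ₀ : H → ℂ) y) else 0) := by
      intro y
      split_ifs with hy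
      · simp
      · rw [Finset.sum_mul]
        apply Finset.sum_congr rfl
        intro ψ _
        split_ifs
        · rfl
        · rw [zero_mul]
    rw [Finset.sum_congr rfl (fun ψ _ => e1 ψ), Finset.sum_congr rfl (fun y _ => e2 y),
      Finset.sum_comm]
  have hsum0' : ∑ ψ : IrrCharacter H, (if ψ ∈ b then lam ψ * (m ψ : ℂ) * r ψ else 0) = 0 := by
    have h1 : ∑ y : H, (if p ∣ orderOf y then 0 else
        blockPart b (fun c : H => (χ : G → ℂ) (x * (c : G))) y * conj ((ψ₀ : H → ℂ) y)) = 0 := by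
      apply Finset.sum_eq_zero
      intro y _
      split_ifs with hy
      · rfl
      · rw [hcon y hy, zero_mul]
    have h2 : ∑ ψ : IrrCharacter H, (if ψ ∈ b then lam ψ * (m ψ : ℂ) * r ψ else 0)
        = ∑ y : H, (if p ∣ orderOf y then 0 else
        blockPart b (fun c : H => (χ : G → ℂ) (x * (c : G))) y * conj ((ψ₀ : H → ℂ) y)) := by
      simp_rw [blockPart_eq_sum_ite, hϑ, hr]
      exact hcomm
    rw [h2, h1]
  have hsum0 : ∑ ψ : IrrCharacter H, lam ψ * (m ψ : ℂ) * r ψ = 0 := by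
    rw [← hsum0']
    apply Finset.sum_congr rfl
    intro ψ _
    split_ifs with hψ
    · rfl
    · rw [hr0 ψ hψ, mul_zero]
  -- the untwisted sum
  set Ω := omega (fun h : H => regConj p (χ : G → ℂ) (h : G)) (ψ₀ : H → ℂ) with hΩ
  have hsum1 : ∑ ψ : IrrCharacter H, (m ψ : ℂ) * r ψ = (ψ₀ : H → ℂ) 1 * Ω := by
    have e := Cfsg.Agent.S4431.inner_eq p H χ ψ₀ 1
    rw [classInner_def, div_eq_iff hψ₀1] at e
    have e2 : ∑ g : H, (if p ∣ orderOf g then (0 : ℂ) else 1 * (χ : G → ℂ) g) *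
        conj ((ψ₀ : H → ℂ) g) = ∑ ψ : IrrCharacter H, (m ψ : ℂ) * r ψ := by
      simp_rw [hr, Finset.mul_sum]
      rw [Finset.sum_comm]
      apply Finset.sum_congr rfl
      intro y _
      split_ifs with hy
      · simp
      · rw [one_mul]
        have := hdecomp y
        simp only [hχH] at this
        rw [this, Finset.sum_mul]
        apply Finset.sum_congr rfl
        intro ψ _
        ring
    rw [e2] at e
    have h10 : (Nat.card H : ℂ)⁻¹ ≠ 0 := inv_ne_zero hH0
    have : (Nat.card H : ℂ)⁻¹ * ∑ ψ : IrrCharacter H, (m ψ : ℂ) * r ψ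
        = (Nat.card H : ℂ)⁻¹ * ((ψ₀ : H → ℂ) 1 * Ω) := by
      rw [e, hΩ]
      ring
    exact mul_left_cancel₀ h10 this
  have hΩI : MemLocalIdeal M Ω := by
    have e : Ω = ∑ ψ : IrrCharacter H, (1 - lam ψ) * ((m ψ : ℂ) *
        omega (regConj p (ψ : H → ℂ)) (ψ₀ : H → ℂ)) := by
      apply mul_left_cancel₀ hψ₀1
      rw [← hsum1, ← sub_zero (∑ ψ : IrrCharacter H, (m ψ : ℂ) * r ψ), ← hsum0,
        ← Finset.sum_sub_distrib, Finset.mul_sum]
      apply Finset.sum_congr rfl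
      intro ψ _
      rw [hrR ψ]
      ring
    rw [e]
    apply memLocalIdeal_sum hM
    intro ψ _
    apply memLocalIdeal_mul_right hM
    · have := memLocalIdeal_neg (hlamI ψ)
      rwa [neg_sub] at this
    · apply memLocalRing_mul hM (memLocalRing_natCast hM _)
      exact memLocalRing_omega hM (regConj_isClassFunction p (isClassFunction_irr ψ))
        (regConj_memLocalRing p hM ψ) ψ₀
  have hΘc : IsClassFunction G (regConj p (χ : G → ℂ)) :=
    regConj_isClassFunction p (isClassFunction_irr χ)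
  have hΘR : ∀ g, MemLocalRing M (regConj p (χ : G → ℂ) g) := regConj_memLocalRing p hM χ
  have h1 := omega_restrict_sub_memLocalIdeal H hM hind hψ₀ hχ hΘc hΘR
  have h3 := memLocalIdeal_sub hM hΩI h1
  rw [sub_sub_cancel] at h3
  exact omega_regConj_not_memLocalIdeal hMp χ hmin h3

end Main

end Cfsg.Agent.Lib.Helper21
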