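import Mathlib
import Cfsg.Prelude.Def_OddOrderLocal
import Cfsg.Agent.Lib.Helper71.BG11a

/-!
# KEYSTONE 138102  K-1381-B  `fitting_compl` (architect helper71), parallel hand
-/

set_option autoImplicit false

namespace Cfsg.Agent.Lib.Helper21.BG1381

open Cfsg Subgroup

variable {G : Type*} [Group G] [Finite G]

theorem fitting_compl {M K U : Subgroup G} (hKU : IsSigmaDecomposition M K U)
    (hd : ⁅M, M⁆ = U ⊔ sigmaCore M) (hF : fittingHallOf M = sigmaCore M) :
    IsComplIn (fittingHallOf M) U ⁅M, M⁆ := by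
  rw [hF, hd]
  have hUn : U ≤ Subgroup.normalizer (sigmaCore M : Set G) :=
    hKU.compl.1.trans (Cfsg.Agent.Lib.Helper71.BG11.le_normalizer_sigmaCore M)
  refine ⟨le_sup_right, le_sup_left, ?_, ?_⟩
  · rw [eq_bot_iff]
    intro x hx
    obtain ⟨hx1, hx2⟩ := Subgroup.mem_inf.mp hx
    have : x ∈ U ⊓ (K ⊔ sigmaCore M) := Subgroup.mem_inf.mpr ⟨hx2, Subgroup.mem_sup_right hx1⟩
    rw [hKU.compl.2.2.1] at this
    exact this
  · intro m hm
    have h := Subgroup.coe_mul_of_right_le_normalizer_left (sigmaCore M) U hUn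
    have hm' : m ∈ ((sigmaCore M ⊔ U : Subgroup G) : Set G) := by
      rw [sup_comm]; exact hm
    rw [h] at hm'
    obtain ⟨s, hs, u, hu, rfl⟩ := Set.mem_mul.mp hm'
    exact ⟨s, hs, u, hu, rfl⟩

end Cfsg.Agent.Lib.Helper21.BG1381
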