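import Mathlib
import Cfsg.Agent.Lib.Helper15.IsoSubE
import Cfsg.Agent.Lib.Helper14.FrobAction
import Cfsg.Agent.Lib.Helper55.Basic

/-!
# K-1383-E3 (keystone 138306, pack K-1383 = S1383, architect helper78; parallel hand)

`P` nonabelian of order `p ^ 3`, `K` acting with `C_P(K) = Z` of order `p` inside `P'` and no
`K`-invariant line of `P / Z`: `K` acts freely on the `p + 1` subgroups of order `p ^ 2` of `P`
containing `Z`, so `|K|` divides `p + 1`.
-/

set_option autoImplicit false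
set_option linter.unusedSectionVars false
set_option linter.unusedVariables false
set_option linter.style.haveILetI false

namespace Cfsg.Agent.Lib.Helper21.BG1383

open Cfsg Subgroup Cfsg.Agent.Lib.Helper55

variable {G : Type*} [Group G]

/-- the conjugation action of a subgroup on the lattice of subgroups -/
@[reducible] def e3Act (K : Subgroup G) : MulAction ↥K (Subgroup G) where
  smul k L := cj (k : G) L
  one_smul L := cj_one L
  mul_smul k k' L := cj_mul (k : G) (k' : G) L

/-- elements of `P'` are central in `P` when `|P| = p ^ 3` -/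
theorem e3_central [Finite G] (p : ℕ) [Fact p.Prime] (P : Subgroup G) (hP : Nat.card P = p ^ 3)
    (hPna : ¬ IsMulCommutative P) {z : G} (hz : z ∈ ⁅P, P⁆) {w : G} (hw : w ∈ P) :
    z * w = w * z := by
  have hna : ¬ ∀ a b : P, a * b = b * a := fun h => hPna ⟨⟨h⟩⟩
  have hle : commutator ↥P ≤ center ↥P := by
    rw [commutator_eq_closure, Subgroup.closure_le]
    rintro g ⟨a, b, rfl⟩
    have := Cfsg.Agent.Lib.Helper15.IsoSub.comm_mem_center_of_cube hP hna a⁻¹ b⁻¹
    rw [inv_inv, inv_inv] at this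
    rw [commutatorElement_def]
    exact this
  rw [← Subgroup.map_subtype_commutator P] at hz
  obtain ⟨z', hz', rfl⟩ := hz
  have hc : z' ∈ center ↥P := hle (by rw [commutator_def]; exact hz')
  have := (Subgroup.mem_center_iff.mp hc) ⟨w, hw⟩
  have h2 := congrArg Subtype.val this
  simpa using h2.symm

/-- the line `⟨v⟩ Z` through `v ∉ Z` has order `p ^ 2` -/
theorem e3_line [Finite G] (p : ℕ) [Fact p.Prime] (P Z : Subgroup G) (hP : Nat.card P = p ^ 3)
    (hPna : ¬ IsMulCommutative P) (hZP : Z ≤ P) (hZ : Nat.card Z = p)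
    (hZc : ∀ z ∈ Z, ∀ w ∈ P, z * w = w * z) {v : G} (hv : v ∈ P) (hvZ : v ∉ Z) :
    Nat.card ↥(zpowers v ⊔ Z) = p ^ 2 := by
  have hp : p.Prime := Fact.out
  have hLP : zpowers v ⊔ Z ≤ P := sup_le (by rw [zpowers_le]; exact hv) hZP
  have hZL : Z ≤ zpowers v ⊔ Z := le_sup_right
  have hvL : v ∈ zpowers v ⊔ Z := Subgroup.mem_sup_left (mem_zpowers v)
  -- elements of the line
  have hZn : Z ≤ normalizer ((zpowers v : Subgroup G) : Set G) := by
    refine le_trans ?_ (Subgroup.centralizer_le_normalizer _)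
    intro z hz
    rw [Subgroup.mem_centralizer_iff]
    intro h hh
    obtain ⟨n, rfl⟩ := mem_zpowers_iff.mp hh
    have hc : Commute z v := hZc z hz v hv
    exact ((hc.zpow_right n).eq).symm
  have hcoe := Subgroup.coe_mul_of_right_le_normalizer_left (zpowers v) Z hZn
  have hcommL : ∀ a ∈ zpowers v ⊔ Z, ∀ b ∈ zpowers v ⊔ Z, a * b = b * a := by
    intro a ha b hb
    have ha' : a ∈ ((zpowers v ⊔ Z : Subgroup G) : Set G) := ha
    have hb' : b ∈ ((zpowers v ⊔ Z : Subgroup G) : Set G) := hb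
    rw [hcoe] at ha' hb'
    obtain ⟨x, hx, z, hz, rfl⟩ := Set.mem_mul.mp ha'
    obtain ⟨y, hy, z', hz', rfl⟩ := Set.mem_mul.mp hb'
    obtain ⟨n, rfl⟩ := mem_zpowers_iff.mp hx
    obtain ⟨n', rfl⟩ := mem_zpowers_iff.mp hy
    have hvn : v ^ n ∈ P := P.zpow_mem hv n
    have hvn' : v ^ n' ∈ P := P.zpow_mem hv n'
    have h1 : z * v ^ n' = v ^ n' * z := hZc z hz _ hvn'
    have h2 : z' * v ^ n = v ^ n * z' := hZc z' hz' _ hvn
    have h3 : z * z' = z' * z := hZc z hz z' (hZP hz')
    have h4 : v ^ n * v ^ n' = v ^ n' * v ^ n := by rw [← zpow_add, ← zpow_add, add_comm]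
    calc v ^ n * z * (v ^ n' * z') = v ^ n * (z * v ^ n') * z' := by group
      _ = v ^ n * (v ^ n' * z) * z' := by rw [h1]
      _ = (v ^ n * v ^ n') * (z * z') := by group
      _ = (v ^ n' * v ^ n) * (z' * z) := by rw [h4, h3]
      _ = v ^ n' * (v ^ n * z') * z := by group
      _ = v ^ n' * (z' * v ^ n) * z := by rw [h2]
      _ = v ^ n' * z' * (v ^ n * z) := by group
  have hdvd : Nat.card ↥(zpowers v ⊔ Z) ∣ p ^ 3 := hP ▸ Subgroup.card_dvd_of_le hLP
  obtain ⟨n, hn3, hn⟩ := (Nat.dvd_prime_pow hp).mp hdvd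
  have hZdvd : p ∣ Nat.card ↥(zpowers v ⊔ Z) := hZ ▸ Subgroup.card_dvd_of_le hZL
  have hn0 : n ≠ 0 := by
    rintro rfl
    rw [hn, pow_zero] at hZdvd
    exact hp.one_lt.ne' (Nat.dvd_one.mp hZdvd)
  have hn1 : n ≠ 1 := by
    rintro rfl
    have : zpowers v ⊔ Z = Z := by
      apply (Subgroup.eq_of_le_of_card_ge hZL _).symm
      rw [hn, hZ, pow_one]
    exact hvZ (this ▸ hvL)
  have hn3' : n ≠ 3 := by
    rintro rfl
    have : zpowers v ⊔ Z = P := Subgroup.eq_of_le_of_card_ge hLP (by rw [hn, hP])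
    apply hPna
    refine ⟨⟨?_⟩⟩
    intro a b
    apply Subtype.ext
    have ha : (a : G) ∈ zpowers v ⊔ Z := this ▸ a.2
    have hb : (b : G) ∈ zpowers v ⊔ Z := this ▸ b.2
    exact hcommL _ ha _ hb
  have : n = 2 := by omega
  rw [hn, this]

theorem e3_card_filter_mem [Finite G] [Fintype G] [DecidableEq G] (L : Subgroup G)
    [DecidablePred (· ∈ L)] :
    (Finset.univ.filter (fun v : G => v ∈ L)).card = Nat.card L := by
  rw [Nat.card_eq_fintype_card, Fintype.card_subtype]

theorem card_dvd_succ_of_no_invariant_line {G : Type*} [Group G] [Finite G] (p : ℕ) [Fact p.Prime]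
    (hp : p ≠ 2) (P K : Subgroup G) (hP : Nat.card P = p ^ 3) (hPna : ¬ IsMulCommutative P)
    (hKP : K ≤ Subgroup.normalizer (P : Set G)) (hKc : IsCyclic K)
    (hcop : (Nat.card K).Coprime p) (hodd : Odd (Nat.card K))
    (hZ : Nat.card ↥(P ⊓ Subgroup.centralizer (K : Set G)) = p)
    (hZ' : P ⊓ Subgroup.centralizer (K : Set G) ≤ ⁅P, P⁆)
    (hfix : ∀ k ∈ K, k ≠ 1 →
      P ⊓ Subgroup.centralizer ({k} : Set G) = P ⊓ Subgroup.centralizer (K : Set G))
    (hline : ∀ a ∈ K, a ≠ 1 → ∀ v ∈ P, v ∉ Subgroup.centralizer (K : Set G) →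
      a * v * a⁻¹ ∉ Subgroup.zpowers v ⊔ (P ⊓ Subgroup.centralizer (K : Set G))) :
    Nat.card K ∣ p + 1 := by
  classical
  have hpp : p.Prime := Fact.out
  set Z : Subgroup G := P ⊓ Subgroup.centralizer (K : Set G) with hZdef
  have hZP : Z ≤ P := inf_le_left
  have hZc : ∀ z ∈ Z, ∀ w ∈ P, z * w = w * z := fun z hz w hw =>
    e3_central p P hP hPna (hZ' hz) hw
  have hlinecard : ∀ v ∈ P, v ∉ Z → Nat.card ↥(zpowers v ⊔ Z) = p ^ 2 := fun v hv hvZ =>
    e3_line p P Z hP hPna hZP hZ hZc hv hvZ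
  -- the set of lines
  let X : Set (Subgroup G) := {L | Z ≤ L ∧ L ≤ P ∧ Nat.card L = p ^ 2}
  -- a line is generated by any of its points outside `Z`
  have hgen : ∀ L ∈ X, ∀ v ∈ L, v ∉ Z → zpowers v ⊔ Z = L := by
    intro L hL v hvL hvZ
    apply Subgroup.eq_of_le_of_card_ge (sup_le (by rw [zpowers_le]; exact hvL) hL.1)
    rw [hlinecard v (hL.2.1 hvL) hvZ, hL.2.2]
  -- `K` acts freely on `X`
  have hdvdX : Nat.card K ∣ Nat.card X := by
    letI := e3Act K
    apply Cfsg.Agent.Lib.Helper14.card_dvd_card_of_free (K := ↥K) (Ω := Subgroup G) X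
    · intro k L hL
      show cj (k : G) L ∈ X
      refine ⟨?_, ?_, ?_⟩
      · intro z hz
        have hzc : z ∈ Subgroup.centralizer (K : Set G) := hz.2
        have hkz : (k : G) * z = z * k := (Subgroup.mem_centralizer_iff.mp hzc) k k.2
        have : z = (k : G) * z * (k : G)⁻¹ := by rw [hkz]; group
        rw [this]
        exact conj_mem_cj (hL.1 hz)
      · calc cj (k : G) L ≤ cj (k : G) P := cj_mono hL.2.1
          _ = P := cj_eq_self_iff.mpr (hKP k.2)
      · rw [card_cj]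
        exact hL.2.2
    · intro k L hL hk
      have hk' : cj (k : G) L = L := hk
      by_contra hk1
      have hk1' : (k : G) ≠ 1 := fun h => hk1 (Subtype.ext h)
      -- a point of `L` outside `Z`
      have hex : ∃ v ∈ L, v ∉ Z := by
        by_contra hcon
        push Not at hcon
        have hLZ : L ≤ Z := fun v hv => hcon v hv
        have h1 := Subgroup.card_le_of_le hLZ
        rw [hL.2.2, hZ] at h1
        have : p < p ^ 2 := by
          calc p = p ^ 1 := (pow_one p).symm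
            _ < p ^ 2 := Nat.pow_lt_pow_right hpp.one_lt (by norm_num)
        omega
      obtain ⟨v, hvL, hvZ⟩ := hex
      have hvP : v ∈ P := hL.2.1 hvL
      have hvC : v ∉ Subgroup.centralizer (K : Set G) := fun h => hvZ ⟨hvP, h⟩
      have h1 := hline k k.2 hk1' v hvP hvC
      apply h1
      rw [hgen L hL v hvL hvZ, ← hk']
      exact conj_mem_cj hvL
  -- counting the lines
  haveI : Fintype G := Fintype.ofFinite G
  haveI : Fintype (Subgroup G) := Fintype.ofFinite _
  let S : Finset G := Finset.univ.filter (fun v => v ∈ P ∧ v ∉ Z)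
  let Xf : Finset (Subgroup G) :=
    Finset.univ.filter (fun L => Z ≤ L ∧ L ≤ P ∧ Nat.card L = p ^ 2)
  have hXf : ∀ L, L ∈ Xf ↔ L ∈ X := by
    intro L
    simp only [Xf, Finset.mem_filter, Finset.mem_univ, true_and]
    exact Iff.rfl
  have hcardX : Nat.card X = Xf.card := by
    rw [Nat.card_eq_fintype_card, Fintype.card_subtype]
    rfl
  have hdiff : ∀ L : Subgroup G, Z ≤ L →
      (Finset.univ.filter (fun v : G => v ∈ L ∧ v ∉ Z)).card = Nat.card L - p := by
    intro L hZL
    have h1 : Finset.univ.filter (fun v : G => v ∈ L ∧ v ∉ Z) =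
        Finset.univ.filter (fun v : G => v ∈ L) \ Finset.univ.filter (fun v : G => v ∈ Z) := by
      ext v
      simp only [Finset.mem_filter, Finset.mem_univ, true_and, Finset.mem_sdiff]
    have hsub : Finset.univ.filter (fun v : G => v ∈ Z) ⊆
        Finset.univ.filter (fun v : G => v ∈ L) := by
      intro v hv
      simp only [Finset.mem_filter, Finset.mem_univ, true_and] at hv ⊢
      exact hZL hv
    rw [h1, Finset.card_sdiff_of_subset hsub, e3_card_filter_mem, e3_card_filter_mem, hZ]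
  have hS : S.card = p ^ 3 - p := by
    have := hdiff P hZP
    rw [hP] at this
    exact this
  have hf : ∀ v ∈ S, zpowers v ⊔ Z ∈ Xf := by
    intro v hv
    simp only [S, Finset.mem_filter, Finset.mem_univ, true_and] at hv
    rw [hXf]
    exact ⟨le_sup_right, sup_le (by rw [zpowers_le]; exact hv.1) hZP, hlinecard v hv.1 hv.2⟩
  have hcount := Finset.card_eq_sum_card_fiberwise hf
  have hfib : ∀ L ∈ Xf, (S.filter (fun v => zpowers v ⊔ Z = L)).card = p ^ 2 - p := by
    intro L hL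
    have hLX : L ∈ X := (hXf L).mp hL
    have h1 : S.filter (fun v => zpowers v ⊔ Z = L) =
        Finset.univ.filter (fun v : G => v ∈ L ∧ v ∉ Z) := by
      ext v
      simp only [S, Finset.mem_filter, Finset.mem_univ, true_and]
      constructor
      · rintro ⟨⟨hvP, hvZ⟩, hvL⟩
        exact ⟨hvL ▸ Subgroup.mem_sup_left (mem_zpowers v), hvZ⟩
      · rintro ⟨hvL, hvZ⟩
        exact ⟨⟨hLX.2.1 hvL, hvZ⟩, hgen L hLX v hvL hvZ⟩
    rw [h1, hdiff L hLX.1, hLX.2.2]
  rw [Finset.sum_congr rfl hfib, Finset.sum_const, smul_eq_mul, hS] at hcount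
  -- `p ^ 3 - p = |X| * (p ^ 2 - p)`
  have hp2 : 2 ≤ p := hpp.two_le
  have hpos : 0 < p ^ 2 - p := by
    have : p < p ^ 2 := by
      calc p = p ^ 1 := (pow_one p).symm
        _ < p ^ 2 := Nat.pow_lt_pow_right hpp.one_lt (by norm_num)
    omega
  have hfac : p ^ 3 - p = (p + 1) * (p ^ 2 - p) := by
    have h1 : p ≤ p ^ 2 := by nlinarith
    have h2 : p ≤ p ^ 3 := by nlinarith [pow_pos hpp.pos 2]
    zify [h1, h2]
    ring
  rw [hfac] at hcount
  have hX1 : Xf.card = p + 1 := (Nat.eq_of_mul_eq_mul_right hpos hcount).symm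
  rw [hcardX, hX1] at hdvdX
  exact hdvdX

end Cfsg.Agent.Lib.Helper21.BG1383
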