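import Mathlib
import Cfsg.Agent.Lib.Helper15.BG147Defs
import Cfsg.Agent.Lib.Helper15.BG142TX
import Cfsg.Agent.Lib.Helper78.BG1310Aux
import Cfsg.Agent.Lib.Helper64.BG14K
import Cfsg.Agent.Lib.Helper16.BG134Asm
import Cfsg.Agent.Lib.Helper71.BG11a

set_option autoImplicit false

/-!
# K-147C LEAF C6 (147106): primes of `K` outside `σ(H)` are in `κ(H)`
-/

namespace Cfsg.Agent.Lib.Helper21.BG147

open Cfsg Cfsg.Agent.Lib.Helper55 Cfsg.Agent.Lib.Helper31.BG134 Cfsg.Agent.Lib.Helper15.BG139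
  Cfsg.Agent.Lib.Helper15.BG142 Cfsg.Agent.Lib.Helper15.BG147

variable {G : Type*} [Group G] [Finite G]

omit [Finite G] in
/-- a subgroup of `K` which is the unique subgroup of `K` of its order is normalised by `K` -/
theorem le_normalizer_of_uniq {K X : Subgroup G} (hXK : X ≤ K)
    (huniq : ∀ Y : Subgroup G, Y ≤ K → Nat.card Y = Nat.card X → Y = X) :
    K ≤ Subgroup.normalizer (X : Set G) := by
  intro k hk
  have hY : X.map (MulAut.conj k).toMonoidHom = X := by
    apply huniq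
    · rintro _ ⟨x, hx, rfl⟩
      exact K.mul_mem (K.mul_mem hk (hXK hx)) (K.inv_mem hk)
    · exact Nat.card_congr
        (X.equivMapOfInjective _ (MulAut.conj k).injective).symm.toEquiv
  rw [Subgroup.mem_normalizer_iff]
  intro h
  constructor
  · intro hh
    rw [← hY]
    exact ⟨h, hh, rfl⟩
  · intro hh
    rw [← hY] at hh
    obtain ⟨h', hh', he⟩ := hh
    have : h' = h := by
      have he' : k * h' * k⁻¹ = k * h * k⁻¹ := he
      have := mul_right_cancel he'
      exact mul_left_cancel this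
    rw [← this]
    exact hh'

/-- LEAF C6 (147106) -/
theorem k_primes {M K X H : Subgroup G} (c : CL M K X H) (c1 : CL1 M K X H) :
    ∀ X2 : Subgroup G, X2 ≤ K → (Nat.card X2).Prime → Nat.card X2 ∉ sigma H →
      Nat.card X2 ∈ kappa H := by
  intro X2 hX2K hp2 hns
  obtain ⟨E, ks⟩ := exists_ks c.hG c.hM c.hK c.hK1
  -- `|X| ∈ σ(H)`
  have hpσ : Nat.card X ∈ sigma H :=
    Cfsg.Agent.Lib.Helper71.BG11.sigmaCore_pi c.hG c.hH c.hXp
      (Subgroup.card_dvd_of_le c1.hXσ)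
  -- both are normal in `K`
  have hnX : K ≤ Subgroup.normalizer (X : Set G) :=
    le_normalizer_of_uniq c.hXK fun Y hY hc => ks.huniq X Y c.hXK hY c.hXp hc
  have hnX2 : K ≤ Subgroup.normalizer (X2 : Set G) :=
    le_normalizer_of_uniq hX2K fun Y hY hc => ks.huniq X2 Y hX2K hY hp2 hc
  -- trivial intersection
  have hne : Nat.card X ≠ Nat.card X2 := fun h => hns (h ▸ hpσ)
  have hbot : X ⊓ X2 = ⊥ := by
    have hX : Fact (Nat.card X).Prime := ⟨c.hXp⟩
    have hdvd : Nat.card (X ⊓ X2 : Subgroup G) ∣ Nat.card X :=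
      Subgroup.card_dvd_of_le inf_le_left
    have hdvd2 : Nat.card (X ⊓ X2 : Subgroup G) ∣ Nat.card X2 :=
      Subgroup.card_dvd_of_le inf_le_right
    rcases (Nat.dvd_prime c.hXp).1 hdvd with h1 | h1
    · exact Subgroup.card_eq_one.1 h1
    · rw [h1] at hdvd2
      rcases (Nat.dvd_prime hp2).1 hdvd2 with h2 | h2
      · exact absurd h2 c.hXp.one_lt.ne'
      · exact absurd h2 hne
  -- they commute
  have hcomm : X ≤ Subgroup.centralizer (X2 : Set G) := by
    intro x hx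
    rw [Subgroup.mem_centralizer_iff]
    intro y hy
    have hy' : y ∈ X2 := hy
    have hxK : x ∈ K := c.hXK hx
    have hyK : y ∈ K := hX2K hy'
    have h1 : x * y * x⁻¹ * y⁻¹ ∈ X2 := by
      have : x * y * x⁻¹ ∈ X2 := ((Subgroup.mem_normalizer_iff.1 (hnX2 hxK)) y).1 hy'
      exact X2.mul_mem this (X2.inv_mem hy')
    have h2 : x * y * x⁻¹ * y⁻¹ ∈ X := by
      have : y * x⁻¹ * y⁻¹ ∈ X :=
        ((Subgroup.mem_normalizer_iff.1 (hnX hyK)) x⁻¹).1 (X.inv_mem hx)
      have h3 : x * y * x⁻¹ * y⁻¹ = x * (y * x⁻¹ * y⁻¹) := by group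
      rw [h3]
      exact X.mul_mem hx this
    have h3 : x * y * x⁻¹ * y⁻¹ ∈ X ⊓ X2 := ⟨h2, h1⟩
    rw [hbot, Subgroup.mem_bot] at h3
    have h4 : x * y = y * x := by
      have := congrArg (fun z => z * y * x) h3
      simpa [mul_assoc] using this
    exact h4.symm
  -- `C_{H_σ}(X2) ≠ 1`
  have hXne : X ≠ ⊥ := by
    intro h
    have := c.hXp.one_lt
    rw [h, Subgroup.card_bot] at this
    exact lt_irrefl _ this
  have hC : CP H X2 ≠ ⊥ := by
    intro h
    apply hXne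
    have : X ≤ CP H X2 := le_inf c1.hXσ hcomm
    rw [h] at this
    exact le_bot_iff.1 this
  have hX2H : X2 ≤ H := (hX2K.trans le_sup_left).trans c1.hZH
  have hdH : Nat.card X2 ∣ Nat.card H := Subgroup.card_dvd_of_le hX2H
  rcases Cfsg.Agent.Lib.Helper16.BG134.mem_tau_cases c.hG c.hH hp2 hdH hns with h1 | h2 | h3
  · exact Cfsg.Agent.Lib.Helper64.BG14.mem_kappa_of_cent_ne_bot c.hG c.hH hp2 hdH hns h1.2.2.2.2
      hX2H rfl hC
  · exfalso
    have hN : Subgroup.normalizer (X2 : Set G) ≤ H :=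
      Cfsg.Agent.Lib.Helper78.BG1310.normalizer_le_of_tau2_cent c.hG c.hH hX2H hp2 h2 hC
    have hCM : CP M X2 ≠ ⊥ := by
      intro h
      apply ks.hKs
      have : KStar M K ≤ CP M X2 :=
        le_inf inf_le_left (inf_le_right.trans (Subgroup.centralizer_le hX2K))
      rw [h] at this
      exact le_bot_iff.1 this
    exact hns (htx' c.hG M X2 H _ c.hM (hX2K.trans c.hK.1) rfl (ks.h13 X2 hX2K hp2) hCM c.hH hN)
  · exact Cfsg.Agent.Lib.Helper64.BG14.mem_kappa_of_cent_ne_bot c.hG c.hH hp2 hdH hns h3.2.2.2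
      hX2H rfl hC

end Cfsg.Agent.Lib.Helper21.BG147
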