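import Mathlib
import Cfsg.Agent.S1446
import Cfsg.Agent.Lib.Helper16.QdFrattini
import Cfsg.Agent.Lib.Helper01.Coprime
import Cfsg.Agent.Lib.Helper11.BG134P2
import Cfsg.Agent.Lib.Helper03.PGroupFrattini
import Cfsg.Agent.Lib.Helper03.CoprimeAbelian
import Cfsg.Agent.Lib.Helper01.Coprime

set_option autoImplicit false

/-!
# K-152-P1 (135602): a Frobenius group `D ⋊ K` acting on a normal `q`-group `Q` with prime action
of `K` and `C_Q(K)` cyclic: `⁅D, D⁆` centralizes `Q` (S1446 clause 3 in `X ⧸ Φ(Q)`).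
-/

namespace Cfsg.Agent.Lib.Helper21.BG152

open Cfsg
open scoped commutatorElement

section burnside

variable {X : Type*} [Group X] [Finite X]

/-- Burnside: a `q'`-element acting trivially on `Q / Φ(Q)` centralizes the normal `q`-subgroup `Q` -/
theorem mem_centralizer_of_frattini {q : ℕ} [Fact q.Prime] (Q : Subgroup X) [Q.Normal]
    (hQ : IsPGroup q Q) (a : X) (ha : (orderOf a).Coprime q)
    (h : ∀ y ∈ Q, a * y * a⁻¹ * y⁻¹ ∈ (frattini Q).map Q.subtype) :
    a ∈ Subgroup.centralizer (Q : Set X) := by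
  obtain ⟨i, hi⟩ := Cfsg.Agent.Lib.Helper16.QdFrattini.exists_pow_mem_centralizer Q hQ a h
  obtain ⟨m, hm⟩ := exists_pow_eq_self_of_coprime (x := a) (n := q ^ i)
    ((ha.pow_right i).symm)
  rw [← hm]
  exact Subgroup.pow_mem _ hi m

end burnside

section tools

variable {G : Type*} [Group G]

theorem mem_normalizer_commutator (H1 H2 : Subgroup G) (g : G)
    (h1 : g ∈ Subgroup.normalizer (H1 : Set G)) (h2 : g ∈ Subgroup.normalizer (H2 : Set G)) :
    g ∈ Subgroup.normalizer ((⁅H1, H2⁆ : Subgroup G) : Set G) := by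
  rw [Subgroup.mem_normalizer_iff_map_conj_eq] at h1 h2 ⊢
  rw [Subgroup.map_commutator, h1, h2]

/-- a `q`-group and a group of order prime to `q` meet trivially -/
theorem inf_eq_bot_of_isPGroup {q : ℕ} [Fact q.Prime] [Finite G] (Q A : Subgroup G)
    (hQ : IsPGroup q Q) (hA : (Nat.card A).Coprime q) : Q ⊓ A = ⊥ := by
  obtain ⟨n, hn⟩ := IsPGroup.iff_card.mp hQ
  apply (Subgroup.disjoint_of_coprime_natCard ?_).eq_bot
  rw [hn]
  exact (hA.pow_right n).symm

end tools

section lift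

variable {X Y : Type*} [Group X] [Finite X] [Group Y]

/-- lifting of fixed points under a coprime action: if `π k` commutes with `π y0`, `y0 ∈ Q`, `k` a
`q'`-element and `ker π ≤ Q`, then some `y ∈ Q` with `π y = π y0` commutes with `k` -/
theorem exists_lift_fixed {q : ℕ} [Fact q.Prime] (Q : Subgroup X) [Q.Normal] (hQ : IsPGroup q Q)
    (π : X →* Y) (hker : π.ker ≤ Q) (k : X) (hk : (orderOf k).Coprime q)
    (y0 : X) (hy0 : y0 ∈ Q) (hc : π k * π y0 = π y0 * π k) :
    ∃ y ∈ Q, k * y = y * k ∧ π y = π y0 := by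
  have hNq : IsPGroup q π.ker := hQ.to_le hker
  have hAcard : Nat.card (Subgroup.zpowers k) = orderOf k := Nat.card_zpowers k
  have hAN : Subgroup.zpowers k ≤ Subgroup.normalizer ((π.ker : Subgroup X) : Set X) := by
    rw [Subgroup.normalizer_eq_top]; exact le_top
  have hcop : (Nat.card π.ker).Coprime (Nat.card (Subgroup.zpowers k)) := by
    obtain ⟨n, hn⟩ := IsPGroup.iff_card.mp hNq
    rw [hn, hAcard]
    exact (hk.pow_right n).symm
  have hcomm : ∀ a ∈ Subgroup.zpowers k, π a * π y0 = π y0 * π a := by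
    intro a ha
    obtain ⟨i, rfl⟩ := Subgroup.mem_zpowers_iff.mp ha
    rw [map_zpow]
    exact ((Commute.zpow_left (show Commute (π k) (π y0) from hc) i)).eq
  have hk' : ∀ a ∈ Subgroup.zpowers k, y0⁻¹ * a * y0 * a⁻¹ ∈ π.ker := by
    intro a ha
    rw [MonoidHom.mem_ker, map_mul, map_mul, map_mul, map_inv, map_inv]
    have := hcomm a ha
    calc (π y0)⁻¹ * π a * π y0 * (π a)⁻¹ = (π y0)⁻¹ * (π a * π y0) * (π a)⁻¹ := by group
      _ = (π y0)⁻¹ * (π y0 * π a) * (π a)⁻¹ := by rw [this]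
      _ = 1 := by group
  have hsolv : Group.IsSolvable π.ker ∨ Group.IsSolvable (Subgroup.zpowers k) := by
    right
    infer_instance
  obtain ⟨n, hn, hnA⟩ := Cfsg.Agent.Lib.Helper01.exists_mul_inv_normalizes hAN hcop hsolv y0 hk'
  have hAQ : Subgroup.zpowers k ≤ Subgroup.normalizer (Q : Set X) := by
    rw [Subgroup.normalizer_eq_top]; exact le_top
  have hdisj : Q ⊓ Subgroup.zpowers k = ⊥ :=
    inf_eq_bot_of_isPGroup Q _ hQ (by rw [hAcard]; exact hk)
  have hcQ : n * y0⁻¹ ∈ Q := Q.mul_mem (hker hn) (Q.inv_mem hy0)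
  have hcent := Cfsg.Agent.Lib.Helper01.mem_centralizer_of_conj_smul_eq hAQ hdisj hcQ hnA
  have hck : k * (n * y0⁻¹) = (n * y0⁻¹) * k :=
    (Subgroup.mem_centralizer_iff.mp hcent) k (Subgroup.mem_zpowers k)
  refine ⟨(n * y0⁻¹)⁻¹, Q.inv_mem hcQ, ?_, ?_⟩
  · have : Commute k (n * y0⁻¹) := hck
    exact this.inv_right.eq
  · have hn1 : π n = 1 := MonoidHom.mem_ker.mp hn
    rw [map_inv, map_mul, hn1, one_mul, map_inv, inv_inv]

end lift

section core

variable {X Y : Type*} [Group X] [Finite X] [Group Y] [Finite Y]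

open Subgroup in
theorem core_lemma {q : ℕ} [Fact q.Prime] [Group.IsSolvable X] (hodd : Odd (Nat.card X))
    (Q D K : Subgroup X) [Q.Normal] (hQ : IsPGroup q Q) (hDq : (Nat.card D).Coprime q)
    (hK1 : K ≠ ⊥) (hKD : K ≤ Subgroup.normalizer (D : Set X))
    (hcop : (Nat.card K).Coprime (q * Nat.card D))
    (hfpf : ∀ k ∈ K, k ≠ 1 → D ⊓ Subgroup.centralizer ({k} : Set X) = ⊥)
    (hprime : ∀ k ∈ K, k ≠ 1 →
      Q ⊓ Subgroup.centralizer ({k} : Set X) = Q ⊓ Subgroup.centralizer (K : Set X))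
    (hcyc : IsCyclic ↥(Q ⊓ Subgroup.centralizer (K : Set X)))
    (π : X →* Y) (hπ : Function.Surjective π) (hker : π.ker ≤ Q)
    (hab : ∀ a ∈ Q, ∀ b ∈ Q, π a * π b = π b * π a) :
    ∀ a ∈ ⁅D, D⁆, ∀ y ∈ Q, π a * π y = π y * π a := by
  classical
  have hDDle : ⁅D, D⁆ ≤ D := by
    rw [Subgroup.commutator_le]
    intro a ha b hb
    rw [commutatorElement_def]
    exact D.mul_mem (D.mul_mem (D.mul_mem ha hb) (D.inv_mem ha)) (D.inv_mem hb)
  by_cases hD1 : D = ⊥
  · intro a ha y _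
    have : a ∈ D := hDDle ha
    rw [hD1, Subgroup.mem_bot] at this
    rw [this, map_one, one_mul, mul_one]
  have hKq : (Nat.card K).Coprime q := hcop.coprime_mul_right_right
  have hKDc : (Nat.card K).Coprime (Nat.card D) := hcop.coprime_mul_left_right
  have hQD : Q ⊓ D = ⊥ := inf_eq_bot_of_isPGroup Q D hQ hDq
  have hQK : Q ⊓ K = ⊥ := inf_eq_bot_of_isPGroup Q K hQ hKq
  have hVn : (Q.map π).Normal := Subgroup.Normal.map inferInstance π hπ
  have hVq : IsPGroup q (Q.map π) := hQ.map π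
  have hDinj : ∀ d ∈ D, π d = 1 → d = 1 := by
    intro d hd h1
    have : d ∈ Q ⊓ D := ⟨hker (MonoidHom.mem_ker.mpr h1), hd⟩
    rw [hQD] at this
    exact Subgroup.mem_bot.mp this
  have hKinj : ∀ k ∈ K, π k = 1 → k = 1 := by
    intro k hk h1
    have : k ∈ Q ⊓ K := ⟨hker (MonoidHom.mem_ker.mpr h1), hk⟩
    rw [hQK] at this
    exact Subgroup.mem_bot.mp this
  -- the hypotheses of S1446
  have h1 : D.map π ≠ ⊥ := by
    intro h
    apply hD1
    rw [eq_bot_iff]
    intro d hd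
    have : π d ∈ D.map π := Subgroup.mem_map_of_mem π hd
    rw [h, Subgroup.mem_bot] at this
    exact Subgroup.mem_bot.mpr (hDinj d hd this)
  have h2 : K.map π ≠ ⊥ := by
    intro h
    apply hK1
    rw [eq_bot_iff]
    intro d hd
    have : π d ∈ K.map π := Subgroup.mem_map_of_mem π hd
    rw [h, Subgroup.mem_bot] at this
    exact Subgroup.mem_bot.mpr (hKinj d hd this)
  have hcardD : Nat.card (D.map π) ∣ Nat.card D := Subgroup.card_map_dvd D π
  have hcardK : Nat.card (K.map π) ∣ Nat.card K := Subgroup.card_map_dvd K π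
  have hDhq : (Nat.card (D.map π)).Coprime q := hDq.coprime_dvd_left hcardD
  have hKhq : (Nat.card (K.map π)).Coprime q := hKq.coprime_dvd_left hcardK
  have h3 : D.map π ⊓ K.map π = ⊥ :=
    (Subgroup.disjoint_of_coprime_natCard
      ((hKDc.symm.coprime_dvd_left hcardD).coprime_dvd_right hcardK)).eq_bot
  have h4 : K.map π ≤ Subgroup.normalizer ((D.map π : Subgroup Y) : Set Y) :=
    (Subgroup.map_mono hKD).trans (Subgroup.le_normalizer_map π)
  have h5 : ∀ r ∈ K.map π, r ≠ 1 →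
      D.map π ⊓ Subgroup.centralizer ({r} : Set Y) = ⊥ := by
    rintro _ ⟨k, hk, rfl⟩ hr
    have hk1 : k ≠ 1 := by
      rintro rfl
      exact hr (map_one π)
    rw [eq_bot_iff]
    rintro _ ⟨⟨d, hd, rfl⟩, hc⟩
    have hc' : π k * π d = π d * π k :=
      (Subgroup.mem_centralizer_iff.mp hc) (π k) (Set.mem_singleton _)
    have hdk : d * k * d⁻¹ * k⁻¹ ∈ D := by
      have h6 : k * d⁻¹ * k⁻¹ ∈ D :=
        (Subgroup.mem_normalizer_iff.mp (hKD hk) d⁻¹).mp (D.inv_mem hd)
      have h7 := D.mul_mem hd h6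
      have e : d * k * d⁻¹ * k⁻¹ = d * (k * d⁻¹ * k⁻¹) := by group
      rw [e]
      exact h7
    have hker1 : π (d * k * d⁻¹ * k⁻¹) = 1 := by
      rw [map_mul, map_mul, map_mul, map_inv, map_inv, ← hc']
      group
    have h8 := hDinj _ hdk hker1
    have hdk' : k * d = d * k := by
      have : d * k = k * d := by
        calc d * k = (d * k * d⁻¹ * k⁻¹) * (k * d) := by group
          _ = k * d := by rw [h8, one_mul]
      exact this.symm
    have h9 : d ∈ D ⊓ Subgroup.centralizer ({k} : Set X) := by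
      refine ⟨hd, ?_⟩
      show d ∈ Subgroup.centralizer ({k} : Set X)
      rw [Subgroup.mem_centralizer_iff]
      intro y hy
      rw [Set.mem_singleton_iff.mp hy]
      exact hdk'
    rw [hfpf k hk hk1, Subgroup.mem_bot] at h9
    rw [h9, map_one]
    exact Subgroup.mem_bot.mpr rfl
  have hYsolv : Group.IsSolvable Y := Group.isSolvable_of_surjective hπ
  have hsolv : Group.IsSolvable ↥(D.map π ⊔ K.map π) := inferInstance
  have hoddY : Odd (Nat.card ↥(D.map π ⊔ K.map π)) :=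
    Odd.of_dvd_nat hodd ((Subgroup.card_subgroup_dvd_card _).trans
      (Subgroup.card_dvd_of_surjective π hπ))
  -- `W`
  have hWV : ⁅Q.map π, D.map π⁆ ≤ Q.map π := Subgroup.commutator_le_left _ _
  have hWq : IsPGroup q ↥⁅Q.map π, D.map π⁆ := hVq.to_le hWV
  have hNV : Subgroup.normalizer ((Q.map π : Subgroup Y) : Set Y) = ⊤ :=
    Subgroup.normalizer_eq_top _
  by_cases hW1 : ⁅Q.map π, D.map π⁆ = ⊥
  · -- `D` acts trivially on `Q / ker`
    rw [Subgroup.commutator_eq_bot_iff_le_centralizer] at hW1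
    intro a ha y hy
    have h6 : π y ∈ Subgroup.centralizer ((D.map π : Subgroup Y) : Set Y) :=
      hW1 (Subgroup.mem_map_of_mem π hy)
    exact (Subgroup.mem_centralizer_iff.mp h6) (π a) (Subgroup.mem_map_of_mem π (hDDle ha))
  have hMn : Group.IsNilpotent ↥⁅Q.map π, D.map π⁆ := hWq.isNilpotent
  have hKM : D.map π ≤ Subgroup.normalizer ((⁅Q.map π, D.map π⁆ : Subgroup Y) : Set Y) := by
    intro g hg
    apply mem_normalizer_commutator
    · rw [hNV]; exact Subgroup.mem_top g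
    · exact Subgroup.le_normalizer hg
  have hRM : K.map π ≤ Subgroup.normalizer ((⁅Q.map π, D.map π⁆ : Subgroup Y) : Set Y) := by
    intro g hg
    apply mem_normalizer_commutator
    · rw [hNV]; exact Subgroup.mem_top g
    · exact h4 hg
  have hcopW : (Nat.card ↥(D.map π ⊔ K.map π)).Coprime (Nat.card ↥⁅Q.map π, D.map π⁆) := by
    obtain ⟨n, hn⟩ := IsPGroup.iff_card.mp hWq
    rw [hn]
    apply Nat.Coprime.pow_right
    have hdvd := Cfsg.Agent.Lib.Helper11.BG134.card_sup_dvd_of_le_normalizer (D.map π) (K.map π) h4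
    exact (Nat.Coprime.mul_left hDhq hKhq).coprime_dvd_left hdvd
  -- the decomposition of `V`
  have hcV : IsMulCommutative ↥(Q.map π) := by
    rw [isMulCommutative_iff]
    rintro ⟨_, a, ha, rfl⟩ ⟨_, b, hb, rfl⟩
    exact Subtype.ext (hab a ha b hb)
  have hPM : Q.map π ≤ Q.map π ⊔ D.map π := le_sup_left
  have hMN : Q.map π ⊔ D.map π ≤ Subgroup.normalizer ((Q.map π : Subgroup Y) : Set Y) := by
    rw [hNV]; exact le_top
  have hcopM : (Nat.card ↥(Q.map π)).Coprime ((Q.map π).relIndex (Q.map π ⊔ D.map π)) := by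
    rw [Subgroup.relIndex_sup_left]
    obtain ⟨n, hn⟩ := IsPGroup.iff_card.mp hVq
    rw [hn]
    apply Nat.Coprime.pow_left
    exact (hDhq.coprime_dvd_left (Subgroup.relIndex_dvd_card _ _)).symm
  have hVab : ∀ v ∈ Q.map π, ∀ w ∈ Q.map π, v * w = w * v := by
    rintro _ ⟨a, ha, rfl⟩ _ ⟨b, hb, rfl⟩
    exact hab a ha b hb
  have hcentM : ∀ w ∈ Q.map π, w ∈ Subgroup.centralizer ((D.map π : Subgroup Y) : Set Y) →
      w ∈ Subgroup.centralizer ((Q.map π ⊔ D.map π : Subgroup Y) : Set Y) := by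
    intro w hw hwD
    have hle : Q.map π ⊔ D.map π ≤ Subgroup.centralizer ({w} : Set Y) := by
      apply sup_le
      · intro v hv
        rw [Subgroup.mem_centralizer_iff]
        intro z hz
        rw [Set.mem_singleton_iff.mp hz]
        exact hVab w hw v hv
      · intro d hd
        rw [Subgroup.mem_centralizer_iff]
        intro z hz
        rw [Set.mem_singleton_iff.mp hz]
        exact ((Subgroup.mem_centralizer_iff.mp hwD) d hd).symm
    rw [Subgroup.mem_centralizer_iff]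
    intro m hm
    exact ((Subgroup.mem_centralizer_iff.mp (hle hm)) w (Set.mem_singleton _)).symm
  have hCK : ⁅Q.map π, D.map π⁆ ⊓ Subgroup.centralizer ((D.map π : Subgroup Y) : Set Y) = ⊥ := by
    rw [eq_bot_iff]
    rintro w ⟨hw1, hw2⟩
    have := Cfsg.Agent.Lib.Helper03.commutator_inf_centralizer_inf_eq_bot_of_abelian_hall
      (Q.map π) (Q.map π ⊔ D.map π) hPM hcV hcopM
    rw [← this]
    exact ⟨⟨Subgroup.commutator_mono le_sup_left le_sup_right hw1, hcentM w (hWV hw1) hw2⟩,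
      hWV hw1⟩
  -- lifting
  have hordK : ∀ k ∈ K, (orderOf k).Coprime q := fun k hk =>
    hKq.coprime_dvd_left (Subgroup.orderOf_dvd_natCard K hk)
  have hlift : ∀ k ∈ K, k ≠ 1 → ∀ w ∈ Q.map π, π k * w = w * π k →
      ∃ y ∈ Q ⊓ Subgroup.centralizer (K : Set X), π y = w := by
    rintro k hk hk1 _ ⟨y0, hy0, rfl⟩ hc
    obtain ⟨y, hyQ, hyk, hyπ⟩ := exists_lift_fixed Q hQ π hker k (hordK k hk) y0 hy0 hc
    refine ⟨y, ?_, hyπ⟩
    rw [← hprime k hk hk1]
    refine ⟨hyQ, ?_⟩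
    show y ∈ Subgroup.centralizer ({k} : Set X)
    rw [Subgroup.mem_centralizer_iff]
    intro z hz
    rw [Set.mem_singleton_iff.mp hz]
    exact hyk
  have hpr : ∀ x ∈ K.map π, x ≠ 1 →
      ⁅Q.map π, D.map π⁆ ⊓ Subgroup.centralizer ({x} : Set Y) =
        ⁅Q.map π, D.map π⁆ ⊓ Subgroup.centralizer ((K.map π : Subgroup Y) : Set Y) := by
    rintro _ ⟨k, hk, rfl⟩ hr
    have hk1 : k ≠ 1 := by
      rintro rfl
      exact hr (map_one π)
    apply le_antisymm
    · rintro w ⟨hw1, hw2⟩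
      refine ⟨hw1, ?_⟩
      have hc : π k * w = w * π k :=
        (Subgroup.mem_centralizer_iff.mp hw2) (π k) (Set.mem_singleton _)
      obtain ⟨y, hy, rfl⟩ := hlift k hk hk1 w (hWV hw1) hc
      show π y ∈ Subgroup.centralizer ((K.map π : Subgroup Y) : Set Y)
      rw [Subgroup.mem_centralizer_iff]
      rintro _ ⟨k', hk', rfl⟩
      rw [← map_mul, ← map_mul, (Subgroup.mem_centralizer_iff.mp hy.2) k' hk']
    · apply inf_le_inf_left
      apply Subgroup.centralizer_le
      intro z hz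
      rw [Set.mem_singleton_iff.mp hz]
      exact Subgroup.mem_map_of_mem π hk
  -- cyclic
  obtain ⟨⟨k0, hk0⟩, hk01⟩ := (Subgroup.ne_bot_iff_exists_ne_one).mp hK1
  have hk01' : k0 ≠ 1 := fun h => hk01 (Subtype.ext h)
  have hcycY : IsCyclic ↥(⁅Q.map π, D.map π⁆ ⊓
      Subgroup.centralizer ((K.map π : Subgroup Y) : Set Y)) := by
    have hle : ⁅Q.map π, D.map π⁆ ⊓ Subgroup.centralizer ((K.map π : Subgroup Y) : Set Y) ≤
        (Q ⊓ Subgroup.centralizer (K : Set X)).map π := by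
      rintro w ⟨hw1, hw2⟩
      have hc : π k0 * w = w * π k0 :=
        (Subgroup.mem_centralizer_iff.mp hw2) (π k0) (Subgroup.mem_map_of_mem π hk0)
      obtain ⟨y, hy, rfl⟩ := hlift k0 hk0 hk01' w (hWV hw1) hc
      exact Subgroup.mem_map_of_mem π hy
    have hc1 : IsCyclic ↥((Q ⊓ Subgroup.centralizer (K : Set X)).map π) :=
      isCyclic_of_surjective (π.subgroupMap _) (π.subgroupMap_surjective _)
    have hc2 : IsCyclic ↥((⁅Q.map π, D.map π⁆ ⊓
        Subgroup.centralizer ((K.map π : Subgroup Y) : Set Y)).subgroupOf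
          ((Q ⊓ Subgroup.centralizer (K : Set X)).map π)) := inferInstance
    exact isCyclic_of_surjective (Subgroup.subgroupOfEquivOfLe hle).toMonoidHom
      (Subgroup.subgroupOfEquivOfLe hle).surjective
  obtain ⟨-, -, hcl3⟩ := Cfsg.Agent.S1446.result (D.map π) (K.map π) ⁅Q.map π, D.map π⁆
    h1 h2 h3 h4 h5 hsolv hoddY hW1 hMn hKM hRM hcopW hCK hpr
  have hDD := hcl3 hcycY
  -- conclusion
  have hVle : Q.map π ≤ ⁅Q.map π, Q.map π ⊔ D.map π⁆ ⊔
      (Subgroup.centralizer ((Q.map π ⊔ D.map π : Subgroup Y) : Set Y) ⊓ Q.map π) :=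
    Cfsg.Agent.Lib.Helper03.le_commutator_sup_centralizer_of_abelian_hall
      (Q.map π) (Q.map π ⊔ D.map π) hPM hMN hcV hcopM
  have hcomW : ⁅Q.map π, Q.map π ⊔ D.map π⁆ ≤ ⁅Q.map π, D.map π⁆ := by
    rw [Subgroup.commutator_le]
    intro v hv m hm
    have hm' : m ∈ ((Q.map π ⊔ D.map π : Subgroup Y) : Set Y) := hm
    rw [Subgroup.normal_mul] at hm'
    obtain ⟨v', hv', d, hd, rfl⟩ := Set.mem_mul.mp hm'
    have hvd : ⁅v, d⁆ ∈ ⁅Q.map π, D.map π⁆ := Subgroup.commutator_mem_commutator hv hd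
    have hvdV : ⁅v, d⁆ ∈ Q.map π := hWV hvd
    have e : ⁅v, v' * d⁆ = ⁅v, d⁆ := by
      have e1 : ⁅v, v' * d⁆ = v' * ⁅v, d⁆ * v'⁻¹ := by
        rw [commutatorElement_def, commutatorElement_def]
        have := hVab v hv v' hv'
        calc v * (v' * d) * v⁻¹ * (v' * d)⁻¹ = (v * v') * d * v⁻¹ * d⁻¹ * v'⁻¹ := by group
          _ = (v' * v) * d * v⁻¹ * d⁻¹ * v'⁻¹ := by rw [this]
          _ = v' * (v * d * v⁻¹ * d⁻¹) * v'⁻¹ := by group
      rw [e1, hVab v' hv' _ hvdV]
      group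
    rw [e]
    exact hvd
  intro a ha y hy
  have haD : π a ∈ D.map π := Subgroup.mem_map_of_mem π (hDDle ha)
  have haDD : π a ∈ ⁅D.map π, D.map π⁆ := by
    rw [← Subgroup.map_commutator]
    exact Subgroup.mem_map_of_mem π ha
  have hle : Q.map π ≤ Subgroup.centralizer ({π a} : Set Y) := by
    refine hVle.trans (sup_le (hcomW.trans ?_) ?_)
    · intro w hw
      rw [Subgroup.mem_centralizer_iff]
      intro z hz
      rw [Set.mem_singleton_iff.mp hz]
      exact ((Subgroup.mem_centralizer_iff.mp (hDD haDD)) w hw).symm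
    · rintro w ⟨hw, -⟩
      rw [Subgroup.mem_centralizer_iff]
      intro z hz
      rw [Set.mem_singleton_iff.mp hz]
      exact (Subgroup.mem_centralizer_iff.mp hw) (π a) (le_sup_right (a := Q.map π) haD)
  exact (Subgroup.mem_centralizer_iff.mp (hle (Subgroup.mem_map_of_mem π hy))) (π a)
    (Set.mem_singleton _)

end core

set_option linter.unusedVariables false in
/-- K-152-P1 (pure; S1446 clause 3 in the quotient by the Frattini subgroup of Q) -/
theorem derived_le_centralizer {X : Type*} [Group X] [Finite X] [Group.IsSolvable X]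
    (hodd : Odd (Nat.card X)) (q : ℕ) [Fact q.Prime] (Q D K : Subgroup X) [Q.Normal]
    (hQ : IsPGroup q Q) (hD : Group.IsNilpotent D) (hDq : (Nat.card D).Coprime q)
    (hK1 : K ≠ ⊥) (hKD : K ≤ Subgroup.normalizer (D : Set X))
    (hcop : (Nat.card K).Coprime (q * Nat.card D))
    (hfpf : ∀ k ∈ K, k ≠ 1 → D ⊓ Subgroup.centralizer ({k} : Set X) = ⊥)
    (hprime : ∀ k ∈ K, k ≠ 1 →
      Q ⊓ Subgroup.centralizer ({k} : Set X) = Q ⊓ Subgroup.centralizer (K : Set X))
    (hcyc : IsCyclic ↥(Q ⊓ Subgroup.centralizer (K : Set X))) :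
    ⁅D, D⁆ ≤ Subgroup.centralizer (Q : Set X) := by
  have hΦn : ((frattini Q).map Q.subtype).Normal := ConjAct.normal_of_characteristic_of_normal
  have hΦQ : (frattini Q).map Q.subtype ≤ Q := Subgroup.map_subtype_le _
  have hker : (QuotientGroup.mk' ((frattini Q).map Q.subtype)).ker ≤ Q := by
    rw [QuotientGroup.ker_mk']; exact hΦQ
  have hcomm : ∀ a ∈ Q, ∀ b ∈ Q, a * b * a⁻¹ * b⁻¹ ∈ (frattini Q).map Q.subtype := by
    intro a ha b hb
    refine ⟨⁅(⟨a, ha⟩ : Q), ⟨b, hb⟩⁆, ?_, ?_⟩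
    · apply Cfsg.Agent.Lib.Helper03.commutator_le_frattini_of_isPGroup hQ
      rw [commutator_def]
      exact Subgroup.commutator_mem_commutator (Subgroup.mem_top _) (Subgroup.mem_top _)
    · simp [commutatorElement_def]
  have hab : ∀ a ∈ Q, ∀ b ∈ Q,
      QuotientGroup.mk' ((frattini Q).map Q.subtype) a *
        QuotientGroup.mk' ((frattini Q).map Q.subtype) b =
      QuotientGroup.mk' ((frattini Q).map Q.subtype) b *
        QuotientGroup.mk' ((frattini Q).map Q.subtype) a := by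
    intro a ha b hb
    have h1 : QuotientGroup.mk' ((frattini Q).map Q.subtype) (a * b * a⁻¹ * b⁻¹) = 1 :=
      (QuotientGroup.eq_one_iff _).mpr (hcomm a ha b hb)
    rw [map_mul, map_mul, map_mul, map_inv, map_inv] at h1
    set u := QuotientGroup.mk' ((frattini Q).map Q.subtype) a
    set v := QuotientGroup.mk' ((frattini Q).map Q.subtype) b
    calc u * v = (u * v * u⁻¹ * v⁻¹) * (v * u) := by group
      _ = v * u := by rw [h1, one_mul]
  have hcore := core_lemma hodd Q D K hQ hDq hK1 hKD hcop hfpf hprime hcyc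
    (QuotientGroup.mk' ((frattini Q).map Q.subtype))
    (QuotientGroup.mk'_surjective _) hker hab
  have hDDle : ⁅D, D⁆ ≤ D := by
    rw [Subgroup.commutator_le]
    intro a ha b hb
    rw [commutatorElement_def]
    exact D.mul_mem (D.mul_mem (D.mul_mem ha hb) (D.inv_mem ha)) (D.inv_mem hb)
  intro a ha
  apply mem_centralizer_of_frattini Q hQ a
  · exact hDq.coprime_dvd_left (Subgroup.orderOf_dvd_natCard D (hDDle ha))
  · intro y hy
    have h1 := hcore a ha y hy
    have h2 : QuotientGroup.mk' ((frattini Q).map Q.subtype) (a * y * a⁻¹ * y⁻¹) = 1 := by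
      rw [map_mul, map_mul, map_mul, map_inv, map_inv, h1]
      group
    exact (QuotientGroup.eq_one_iff _).mp h2

end Cfsg.Agent.Lib.Helper21.BG152
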