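import Mathlib
import Cfsg.Agent.Lib.Helper55.Basic
import Cfsg.Agent.Lib.Helper55.Uniq3
import Cfsg.Agent.Lib.Helper01.BG134CJ
import Cfsg.Agent.Lib.Helper71.BG11a
import Cfsg.Agent.S1350
import Cfsg.Agent.S1378
import Cfsg.Agent.S1404

/-!
# K-1376-B (keystone 137602, pack K-1376 = S1376, architect helper30)

If a nontrivial `r`-subgroup `R` lies in `M_σ ⊓ H_σ` and `N_G(R) ≤ H` then `H = M`:
`r ∈ σ(M) ∩ σ(H)`, so `H = c M c⁻¹` (S1378), `c R c⁻¹ ≤ H`, and `c ∈ H C_G(R) ≤ H` (S1404).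
-/

set_option autoImplicit false
set_option linter.unusedSectionVars false
set_option linter.unusedVariables false

namespace Cfsg.Agent.Lib.Helper21.BG159

open Cfsg Subgroup Cfsg.Agent.Lib.Helper55

variable {G : Type*} [Group G] [Finite G]

/-- `M_σ` commutes with conjugation -/
theorem bSigmaCore_cj (hG : IsMinSimpleOddOrder G) {M : Subgroup G} (hM : IsCoatom M) (y : G) :
    sigmaCore (cj y M) = cj y (sigmaCore M) := by
  have hM' : IsCoatom (cj y M) := isCoatom_cj y hM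
  have hH := (Cfsg.Agent.S1350.result hG M hM).1
  refine ((Cfsg.Agent.S1350.result hG (cj y M) hM').2.2 (cj y (sigmaCore M)) ?_ ?_).symm
  · have h1 : M ≤ normalizer (sigmaCore M : Set G) :=
      Cfsg.Agent.Lib.Helper71.BG11.le_normalizer_sigmaCore M
    have h2 := cj_mono (g := y) h1
    rwa [cj_normalizer] at h2
  · refine ⟨cj_mono hH.1, ?_, ?_⟩
    · intro p hp hpd
      rw [card_cj] at hpd
      rw [Cfsg.Agent.Lib.Helper01.BG134.mem_sigma_cj_iff]
      exact hH.2.1 p hp hpd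
    · intro p hp hpσ hpd
      rw [Cfsg.Agent.Lib.Helper01.BG134.mem_sigma_cj_iff] at hpσ
      have : (cj y (sigmaCore M)).relIndex (cj y M) = (sigmaCore M).relIndex M :=
        Subgroup.relIndex_map_map_of_injective _ _ (MulAut.conj y).injective
      rw [this] at hpd
      exact hH.2.2 p hp hpσ hpd

/-- K-1376-B -/
theorem eq_of_normalizer_le (hG : IsMinSimpleOddOrder G) {M H : Subgroup G} (hM : IsCoatom M)
    (hH : IsCoatom H) (r : ℕ) [Fact r.Prime] (R : Subgroup G) (hR : IsPGroup r R) (hR1 : R ≠ ⊥)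
    (hRM : R ≤ sigmaCore M) (hRH : R ≤ sigmaCore H)
    (hNR : normalizer (R : Set G) ≤ H) : H = M := by
  have hr : r.Prime := Fact.out
  have hrR : r ∣ Nat.card R := by
    obtain ⟨k, hk⟩ := hR.exists_card_eq
    have hk0 : k ≠ 0 := by
      rintro rfl
      rw [pow_zero] at hk
      exact hR1 (Subgroup.eq_bot_of_card_eq R hk)
    rw [hk]
    exact dvd_pow_self r hk0
  have hSM := (Cfsg.Agent.S1350.result hG M hM).1
  have hSH := (Cfsg.Agent.S1350.result hG H hH).1
  have hσM : r ∈ sigma M := hSM.2.1 r hr (hrR.trans (Subgroup.card_dvd_of_le hRM))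
  have hσH : r ∈ sigma H := hSH.2.1 r hr (hrR.trans (Subgroup.card_dvd_of_le hRH))
  obtain ⟨c, hc⟩ := (Cfsg.Agent.S1378.result hG).2 M H hM hH ⟨r, hσM, hσH⟩
  have hc' : H = cj c M := hc
  have hcore : sigmaCore H = cj c (sigmaCore M) := by
    rw [hc']
    exact bSigmaCore_cj hG hM c
  have hcR : cj c R ≤ H := by
    calc cj c R ≤ cj c (sigmaCore M) := cj_mono hRM
      _ = sigmaCore H := hcore.symm
      _ ≤ H := hSH.1
  obtain ⟨h, hh, z, hz, hcz⟩ :=
    (Cfsg.Agent.S1404.result hG H hH r hσH R hR hR1 (hRH.trans hSH.1)).1 c hcR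
  have hzH : z ∈ H := hNR (Subgroup.centralizer_le_normalizer _ hz)
  have hcH : c ∈ H := by rw [hcz]; exact H.mul_mem hh hzH
  have : cj c⁻¹ H = M := by rw [hc', cj_inv_cj]
  rw [← this]
  exact (cj_eq_self_of_mem (H.inv_mem hcH)).symm

end Cfsg.Agent.Lib.Helper21.BG159
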