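import Mathlib
import Cfsg.Prelude.Def_Blocks
import Cfsg.Agent.Lib.Helper21.BrauerCorr
import Cfsg.Agent.Lib.Helper21.SylowAux

set_option autoImplicit false
set_option linter.unusedSectionVars false

namespace Cfsg.Agent.Lib.Helper21

open Cfsg
open scoped ComplexConjugate
open Cfsg.Agent.Lib.Helper82 Cfsg.Agent.Lib.Helper83

universe u

section SylowLemmas

variable {G : Type u} [Group G] [Finite G] {p : ℕ} [Fact p.Prime]

/-- If `D` is (the image of) a Sylow `p`-subgroup of `C_N(l)`, `N = N_G(D)`, then `D ≤ C_G(l)`. -/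
theorem le_centralizer_of_sylow_normalizer (D : Subgroup G)
    (l : Subgroup.normalizer (D : Set G))
    (Q : Sylow p (Subgroup.centralizer ({l} : Set (Subgroup.normalizer (D : Set G)))))
    (hQ : D.subgroupOf (Subgroup.normalizer (D : Set G))
      = (Q : Subgroup (Subgroup.centralizer ({l} : Set (Subgroup.normalizer (D : Set G))))).map
        (Subgroup.centralizer ({l} : Set (Subgroup.normalizer (D : Set G)))).subtype) :
    D ≤ Subgroup.centralizer ({(l : G)} : Set G) := by
  intro d hd
  have h1 : (⟨d, Subgroup.le_normalizer hd⟩ : Subgroup.normalizer (D : Set G)) ∈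
      D.subgroupOf (Subgroup.normalizer (D : Set G)) := Subgroup.mem_subgroupOf.2 hd
  rw [hQ] at h1
  obtain ⟨q, _, hq⟩ := h1
  have h2 := Subgroup.mem_centralizer_iff.1 q.2 l (Set.mem_singleton l)
  rw [Subgroup.coe_subtype] at hq
  rw [hq] at h2
  rw [Subgroup.mem_centralizer_iff]
  intro z hz
  rw [Set.mem_singleton_iff] at hz
  subst hz
  exact congrArg Subtype.val h2

/-- If `D` is a Sylow `p`-subgroup of `C_N(l)`, `N = N_G(D)`, then `D` is a Sylow `p`-subgroup of
`C_G(l)`. -/
theorem sylow_centralizer_of_normalizer (D : Subgroup G)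
    (l : Subgroup.normalizer (D : Set G))
    (Q : Sylow p (Subgroup.centralizer ({l} : Set (Subgroup.normalizer (D : Set G)))))
    (hQ : D.subgroupOf (Subgroup.normalizer (D : Set G))
      = (Q : Subgroup (Subgroup.centralizer ({l} : Set (Subgroup.normalizer (D : Set G))))).map
        (Subgroup.centralizer ({l} : Set (Subgroup.normalizer (D : Set G)))).subtype) :
    ∃ QG : Sylow p (Subgroup.centralizer ({(l : G)} : Set G)),
      D = (QG : Subgroup (Subgroup.centralizer ({(l : G)} : Set G))).map
        (Subgroup.centralizer ({(l : G)} : Set G)).subtype := by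
  classical
  have hDC := le_centralizer_of_sylow_normalizer D l Q hQ
  have hDp : IsPGroup p D := by
    have h1 : IsPGroup p (D.subgroupOf (Subgroup.normalizer (D : Set G))) := by
      rw [hQ]; exact Q.isPGroup'.map _
    have h2 := h1.map (Subgroup.normalizer (D : Set G)).subtype
    rwa [Subgroup.subgroupOf_map_subtype, inf_of_le_left Subgroup.le_normalizer] at h2
  obtain ⟨QG, hQG⟩ := (hDp.comap_subtype (K := Subgroup.centralizer ({(l : G)} : Set G))).exists_le_sylow
  refine ⟨QG, ?_⟩
  set T : Subgroup G := (QG : Subgroup (Subgroup.centralizer ({(l : G)} : Set G))).map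
        (Subgroup.centralizer ({(l : G)} : Set G)).subtype with hT
  have hTp : IsPGroup p T := QG.isPGroup'.map _
  have hDT : D ≤ T := by
    intro d hd
    exact ⟨⟨d, hDC hd⟩, hQG (Subgroup.mem_subgroupOf.2 hd), rfl⟩
  have hTC : T ≤ Subgroup.centralizer ({(l : G)} : Set G) := by
    rintro _ ⟨t, _, rfl⟩
    exact t.2
  by_contra hne
  have hlt : D < T := lt_of_le_of_ne hDT hne
  obtain ⟨y, hyT, hyD, hyN⟩ := exists_mem_normalizer_not_mem_of_lt hTp hlt
  -- the subgroup `S` of `C_N(l)` coming from `T`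
  set S : Subgroup (Subgroup.centralizer ({l} : Set (Subgroup.normalizer (D : Set G)))) :=
    (T.subgroupOf (Subgroup.normalizer (D : Set G))).subgroupOf (Subgroup.centralizer ({l} : Set (Subgroup.normalizer (D : Set G)))) with hS
  have hSp : IsPGroup p S := (hTp.comap_subtype).comap_subtype
  have hQS : (Q : Subgroup (Subgroup.centralizer ({l} : Set (Subgroup.normalizer (D : Set G))))) ≤ S := by
    intro q hq
    rw [hS, Subgroup.mem_subgroupOf, Subgroup.mem_subgroupOf]
    have h1 : (q : (Subgroup.normalizer (D : Set G))) ∈ D.subgroupOf (Subgroup.normalizer (D : Set G)) := by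
      rw [hQ]; exact ⟨q, hq, rfl⟩
    exact hDT (Subgroup.mem_subgroupOf.1 h1)
  have hSQ := Q.is_maximal' hSp hQS
  -- `y` gives an element of `S` outside `Q`
  have hyC : (⟨y, hyN⟩ : (Subgroup.normalizer (D : Set G))) ∈ Subgroup.centralizer ({l} : Set (Subgroup.normalizer (D : Set G))) := by
    rw [Subgroup.mem_centralizer_iff]
    intro z hz
    rw [Set.mem_singleton_iff] at hz
    subst hz
    apply Subtype.ext
    have := Subgroup.mem_centralizer_iff.1 (hTC hyT) (z : G) (Set.mem_singleton _)
    exact this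
  have hyS : (⟨⟨y, hyN⟩, hyC⟩ : Subgroup.centralizer ({l} : Set (Subgroup.normalizer (D : Set G)))) ∈ S := by
    rw [hS, Subgroup.mem_subgroupOf, Subgroup.mem_subgroupOf]
    exact hyT
  rw [hSQ] at hyS
  apply hyD
  have h1 : (⟨y, hyN⟩ : (Subgroup.normalizer (D : Set G))) ∈ D.subgroupOf (Subgroup.normalizer (D : Set G)) := by
    rw [hQ]; exact ⟨_, hyS, rfl⟩
  exact Subgroup.mem_subgroupOf.1 h1

/-- Fusion of elements with defect group `D` in `C_G(D)` is controlled by `N_G(D)`. -/
theorem isConj_normalizer_of_sylow_centralizer (D : Subgroup G) (l h : G)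
    (QG : Sylow p (Subgroup.centralizer ({l} : Set G)))
    (hQG : D = (QG : Subgroup (Subgroup.centralizer ({l} : Set G))).map
        (Subgroup.centralizer ({l} : Set G)).subtype)
    (hh : h ∈ Subgroup.centralizer (D : Set G)) (hconj : IsConj l h) :
    ∃ n ∈ Subgroup.normalizer (D : Set G), n * l * n⁻¹ = h := by
  classical
  obtain ⟨g, rfl⟩ := isConj_iff.1 hconj
  have hDp : IsPGroup p D := by rw [hQG]; exact QG.isPGroup'.map _
  -- `g⁻¹ D g ≤ C_G(l)`
  set D' : Subgroup G := D.map (MulAut.conj g⁻¹).toMonoidHom with hD'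
  have hD'p : IsPGroup p D' := hDp.map _
  have hD'C : D' ≤ Subgroup.centralizer ({l} : Set G) := by
    rintro _ ⟨d, hd, rfl⟩
    rw [Subgroup.mem_centralizer_iff]
    intro z hz
    rw [Set.mem_singleton_iff] at hz
    subst hz
    have h1 := Subgroup.mem_centralizer_iff.1 hh d hd
    simp only [MulEquiv.toMonoidHom_eq_coe, MonoidHom.coe_coe, MulAut.conj_apply, inv_inv]
    calc z * (g⁻¹ * d * g) = g⁻¹ * ((g * z * g⁻¹) * d) * g := by group
      _ = g⁻¹ * (d * (g * z * g⁻¹)) * g := by rw [h1]
      _ = g⁻¹ * d * g * z := by group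
  obtain ⟨c, hc, hcD⟩ := exists_conj_mem_of_sylow_subgroup QG hQG.symm hD'p hD'C
  refine ⟨g * c, ?_, ?_⟩
  · -- `(g c)⁻¹ D (g c) ≤ D`, hence `g c ∈ N_G(D)`
    have hinv : (g * c)⁻¹ ∈ Subgroup.normalizer (D : Set G) := by
      have : Finite (D : Set G) := Set.toFinite _
      apply Subgroup.mem_normalizer_fintype
      intro n hn
      have h1 : (MulAut.conj g⁻¹).toMonoidHom n ∈ D' := ⟨n, hn, rfl⟩
      have h2 := hcD _ h1
      simp only [MulEquiv.toMonoidHom_eq_coe, MonoidHom.coe_coe, MulAut.conj_apply, inv_inv] at h2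
      have e : (g * c)⁻¹ * n * (g * c)⁻¹⁻¹ = c⁻¹ * (g⁻¹ * n * g) * c := by group
      rw [e]
      exact h2
    have := Subgroup.inv_mem _ hinv
    rwa [inv_inv] at this
  · have h1 := Subgroup.mem_centralizer_iff.1 hc l (Set.mem_singleton l)
    calc g * c * l * (g * c)⁻¹ = g * (c * l) * c⁻¹ * g⁻¹ := by group
      _ = g * (l * c) * c⁻¹ * g⁻¹ := by rw [← h1]
      _ = g * l * g⁻¹ := by group

end SylowLemmas

section LocalValue

variable {G : Type u} [Group G] [Fintype G] {p : ℕ} [Fact p.Prime]

/-- For `l ∈ N = N_G(D)` with `D` a Sylow `p`-subgroup of `C_N(l)`, the Brauer image of the class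
sum of `l` is the class sum of `l` in `N`. -/
theorem brauerCentralChar_eq_centralChar (D : Subgroup G)
    [Fintype (Subgroup.normalizer (D : Set G))]
    (l : Subgroup.normalizer (D : Set G))
    (Q : Sylow p (Subgroup.centralizer ({l} : Set (Subgroup.normalizer (D : Set G)))))
    (hQ : D.subgroupOf (Subgroup.normalizer (D : Set G))
      = (Q : Subgroup (Subgroup.centralizer ({l} : Set (Subgroup.normalizer (D : Set G))))).map
        (Subgroup.centralizer ({l} : Set (Subgroup.normalizer (D : Set G)))).subtype)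
    (ξ : Subgroup.normalizer (D : Set G) → ℂ)
    (hξ : IsClassFunction (Subgroup.normalizer (D : Set G)) ξ) :
    brauerCentralChar D (Subgroup.normalizer (D : Set G)) ξ (l : G) = centralChar ξ l := by
  classical
  rw [brauerCentralChar_eq_omega, ← omega_indicator hξ l]
  congr 1
  funext x
  rw [resC_apply]
  have hDC := le_centralizer_of_sylow_normalizer D l Q hQ
  have hlC : (l : G) ∈ Subgroup.centralizer (D : Set G) := by
    rw [Subgroup.mem_centralizer_iff]
    intro d hd
    exact (Subgroup.mem_centralizer_iff.1 (hDC hd) (l : G) (Set.mem_singleton _)).symm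
  by_cases hx : IsConj l x
  · obtain ⟨n, rfl⟩ := isConj_iff.1 hx
    have h1 : ((n * l * n⁻¹ : Subgroup.normalizer (D : Set G)) : G) ∈
        Subgroup.centralizer (D : Set G) :=
      (conj_mem_centralizer_iff D _ le_rfl l n).2 hlC
    have h2 : IsConj (l : G) ((n * l * n⁻¹ : Subgroup.normalizer (D : Set G)) : G) :=
      isConj_iff.2 ⟨(n : G), by push_cast; rfl⟩
    rw [if_pos h1, if_pos h2, if_pos hx]
  · rw [if_neg hx]
    by_cases h1 : (x : G) ∈ Subgroup.centralizer (D : Set G)
    · rw [if_pos h1]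
      by_cases h2 : IsConj (l : G) (x : G)
      · exfalso
        apply hx
        obtain ⟨QG, hQG⟩ := sylow_centralizer_of_normalizer D l Q hQ
        obtain ⟨n, hn, hnl⟩ := isConj_normalizer_of_sylow_centralizer D (l : G) (x : G) QG hQG h1 h2
        exact isConj_iff.2 ⟨⟨n, hn⟩, Subtype.ext (by push_cast; exact hnl)⟩
      · rw [if_neg h2]
    · rw [if_neg h1]

end LocalValue

end Cfsg.Agent.Lib.Helper21
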