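import Mathlib
import Cfsg.Prelude.Def_Blocks
import Cfsg.Agent.Lib.Helper21.BrauerCorr
import Cfsg.Agent.Lib.Helper21.BlockSupport
import Cfsg.Agent.Lib.Helper22.DefectConj
import Cfsg.Agent.Lib.Helper81.BPBase
import Cfsg.Agent.S0912
import Cfsg.Agent.S0917
import Cfsg.Agent.S0920

/-!
# The Brauer correspondence through idempotents

For a `p`-subgroup `Q` of `X` with normalizer `N`: a block `b` of `N` with defect group `Q`
induces the block `B` of `X` with defect group `Q` iff the idempotents of `B` and `b` agree on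
`C_X(Q)` modulo the local ideal.
-/

set_option autoImplicit false
set_option linter.unusedSectionVars false

namespace Cfsg.Agent.Lib.Helper21

open Cfsg
open scoped ComplexConjugate
open Cfsg.Agent.Lib.Helper82 Cfsg.Agent.Lib.Helper83

universe u

/-- A nilpotent difference of two commuting idempotents vanishes. -/
theorem eq_of_idem_of_nilpotent_sub {R : Type*} [CommRing R] {a b : R}
    (ha : IsIdempotentElem a) (hb : IsIdempotentElem b) (hn : IsNilpotent (a - b)) : a = b := by
  have ha' : a * a = a := ha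
  have hb' : b * b = b := hb
  have h3 : (a - b) ^ 3 = a - b := by
    have : (a - b) ^ 3 = a * a * a - 3 * (a * a) * b + 3 * a * (b * b) - b * b * b := by ring
    rw [this, ha', ha', hb', hb']
    ring
  have hodd : ∀ k : ℕ, (a - b) ^ (2 * k + 1) = a - b := by
    intro k
    induction k with
    | zero => simp
    | succ k ih =>
      have : (a - b) ^ (2 * (k + 1) + 1) = (a - b) ^ (2 * k + 1) * (a - b) ^ 2 := by
        rw [← pow_add]
        congr 1
      rw [this, ih]
      have : (a - b) * (a - b) ^ 2 = (a - b) ^ 3 := by ring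
      rw [this, h3]
  obtain ⟨n, hn⟩ := hn
  have h0 : (a - b) ^ (2 * n + 1) = 0 := pow_eq_zero_of_le (by omega) hn
  rw [hodd n] at h0
  exact sub_eq_zero.1 h0

section
variable {X : Type u} [Group X] [Fintype X] [Fintype (IrrCharacter X)]
variable {M : Ideal AlgInt}

/-- Two blocks whose idempotents agree modulo the local ideal on the centralizer of a normal
`p`-subgroup are equal. -/
theorem block_eq_of_blockCoeff_congr {p : ℕ} [Fact p.Prime] (hMod : IsPModular p M)
    (Q : Subgroup X) [Q.Normal] (hQ : IsPGroup p Q) {b₁ b₂ : Set (IrrCharacter X)}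
    (hb₁ : IsPBlock M b₁) (hb₂ : IsPBlock M b₂)
    (h : ∀ x ∈ Subgroup.centralizer (Q : Set X),
      MemLocalIdeal M (blockCoeff b₁ x - blockCoeff b₂ x)) : b₁ = b₂ := by
  classical
  have hM : M.IsPrime := hMod.2.1.isPrime
  obtain ⟨ξ₁, rfl⟩ := hb₁
  obtain ⟨ξ₂, rfl⟩ := hb₂
  have hall : ∀ x : X, MemLocalIdeal M
      ((blockCoeff (blockOf M (ξ₁ : X → ℂ)) - blockCoeff (blockOf M (ξ₂ : X → ℂ))) x) := by
    intro x
    by_cases hx : x ∈ Subgroup.centralizer (Q : Set X)
    · exact h x hx
    · exact memLocalIdeal_sub hM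
        (blockCoeff_memLocalIdeal_of_not_mem_centralizer hMod Q hQ ξ₁ x hx)
        (blockCoeff_memLocalIdeal_of_not_mem_centralizer hMod Q hQ ξ₂ x hx)
  have hcf : IsClassFunction X
      (blockCoeff (blockOf M (ξ₁ : X → ℂ)) - blockCoeff (blockOf M (ξ₂ : X → ℂ))) :=
    ((blockCoeff_isRClass hM ξ₁).sub hM (blockCoeff_isRClass hM ξ₂)).1
  have h1 := Cfsg.Agent.Lib.Helper81.memLocalIdeal_omega' hM hcf hall ξ₁
  rw [omega_sub, omega_blockCoeff, omega_blockCoeff, if_pos (mem_blockOf_self hM ξ₁)] at h1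
  have hmem : ξ₁ ∈ blockOf M (ξ₂ : X → ℂ) := by
    by_contra hne
    rw [if_neg hne, sub_zero] at h1
    exact not_memLocalIdeal_one hM h1
  exact blockOf_eq_of_mem hM hmem

/-- A block of `N_X(Q)` inducing a block with defect group `Q` has defect group `Q`. -/
theorem isDefectGroup_of_induced {p : ℕ} [Fact p.Prime] (hMod : IsPModular p M)
    (Q : Subgroup X) (hQ : IsPGroup p Q)
    {b : Set (IrrCharacter (Subgroup.normalizer (Q : Set X)))} (hb : IsPBlock M b)
    {B : Set (IrrCharacter X)} (hB : IsPBlock M B) (hBD : IsDefectGroup p M B Q)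
    (hind : IsInducedBlock M (Subgroup.normalizer (Q : Set X)) b B) :
    IsDefectGroup p M b (Q.subgroupOf (Subgroup.normalizer (Q : Set X))) := by
  classical
  have hM : M.IsPrime := hMod.2.1.isPrime
  have := Fintype.ofFinite (IrrCharacter (Subgroup.normalizer (Q : Set X)))
  obtain ⟨ξ, rfl⟩ := hb
  obtain ⟨g₁, hg₁⟩ : ∃ g₁ : Subgroup.normalizer (Q : Set X),
      IsDefectClass M (blockOf M (ξ : Subgroup.normalizer (Q : Set X) → ℂ)) g₁ :=
    exists_isDefectClass hM ξ
  obtain D : Sylow p (Subgroup.centralizer ({g₁} : Set (Subgroup.normalizer (Q : Set X)))) :=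
    default
  have hD'' : IsDefectGroup p M (blockOf M (ξ : Subgroup.normalizer (Q : Set X) → ℂ))
      ((D : Subgroup (Subgroup.centralizer ({g₁} : Set (Subgroup.normalizer (Q : Set X))))).map
      (Subgroup.centralizer ({g₁} : Set (Subgroup.normalizer (Q : Set X)))).subtype) :=
    ⟨g₁, hg₁, D, rfl⟩
  generalize ((D : Subgroup (Subgroup.centralizer ({g₁} : Set (Subgroup.normalizer (Q : Set X))))).map
      (Subgroup.centralizer ({g₁} : Set (Subgroup.normalizer (Q : Set X)))).subtype) = D'' at hD''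
  have hnorm : (Q.subgroupOf (Subgroup.normalizer (Q : Set X))).Normal :=
    Subgroup.normal_in_normalizer
  have hQp : IsPGroup p (Q.subgroupOf (Subgroup.normalizer (Q : Set X))) := hQ.comap_subtype
  have hle1 : Q.subgroupOf (Subgroup.normalizer (Q : Set X))
      ≤ Cfsg.pCore p (Subgroup.normalizer (Q : Set X)) := le_sSup ⟨hnorm, hQp⟩
  have hQle : Q.subgroupOf (Subgroup.normalizer (Q : Set X)) ≤ D'' :=
    le_trans hle1 (Cfsg.Agent.S0912.result p M hMod _ ⟨ξ, rfl⟩ D'' hD'')
  obtain ⟨E, hE, hDE⟩ := Cfsg.Agent.S0917.result p M hMod _ _ ⟨ξ, rfl⟩ B hB hind D'' hD''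
  have hcE : Nat.card E = Nat.card Q := by
    rw [Cfsg.Agent.Lib.Helper22.IsDefectGroup.card_eq hMod hB hE,
      Cfsg.Agent.Lib.Helper22.IsDefectGroup.card_eq hMod hB hBD]
  have hc1 : Nat.card (D''.map (Subgroup.normalizer (Q : Set X)).subtype) = Nat.card D'' :=
    Subgroup.card_map_of_injective (Subgroup.subtype_injective _)
  have hc2 : Nat.card (Q.subgroupOf (Subgroup.normalizer (Q : Set X))) = Nat.card Q := by
    have := Subgroup.card_map_of_injective
      (K := Q.subgroupOf (Subgroup.normalizer (Q : Set X))) (Subgroup.subtype_injective _)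
    rw [← this, Subgroup.subgroupOf_map_subtype, inf_of_le_left Subgroup.le_normalizer]
  have hc3 : Nat.card D'' ≤ Nat.card (Q.subgroupOf (Subgroup.normalizer (Q : Set X))) := by
    rw [hc2, ← hcE, ← hc1]
    exact Subgroup.card_le_of_le hDE
  rw [Subgroup.eq_of_le_of_card_ge hQle hc3]
  exact hD''

/-- **The Brauer correspondence through idempotents**: if the block `b` of `N_X(Q)` with defect
group `Q` induces the block `B` of `X` with defect group `Q`, the idempotents of `B` and `b`
agree on `C_X(Q)` modulo the local ideal (and the idempotent of `b` vanishes off `C_X(Q)`). -/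
theorem resC_blockCoeff_sub_blockCoeff {p : ℕ} [Fact p.Prime] (hMod : IsPModular p M)
    (Q : Subgroup X) (hQ : IsPGroup p Q)
    [Fintype (Subgroup.normalizer (Q : Set X))]
    [Fintype (IrrCharacter (Subgroup.normalizer (Q : Set X)))]
    {b : Set (IrrCharacter (Subgroup.normalizer (Q : Set X)))} (hb : IsPBlock M b)
    (hbD : IsDefectGroup p M b (Q.subgroupOf (Subgroup.normalizer (Q : Set X))))
    {B : Set (IrrCharacter X)} (hB : IsPBlock M B) (hBD : IsDefectGroup p M B Q)
    (hind : IsInducedBlock M (Subgroup.normalizer (Q : Set X)) b B)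
    (z : Subgroup.normalizer (Q : Set X)) :
    MemLocalIdeal M (resC Q (Subgroup.normalizer (Q : Set X)) (blockCoeff B) z
      - blockCoeff b z) := by
  classical
  have hM : M.IsPrime := hMod.2.1.isPrime
  obtain ⟨χ₀, rfl⟩ := hB
  obtain ⟨ξ₀, rfl⟩ := hb
  have heR : IsRClass M (blockCoeff (blockOf M (χ₀ : X → ℂ))) := blockCoeff_isRClass hM χ₀
  have hyR : IsRClass M (resC Q (Subgroup.normalizer (Q : Set X))
      (blockCoeff (blockOf M (χ₀ : X → ℂ)))) :=
    ⟨resC_isClassFunction Q _ le_rfl heR.1, resC_memLocalRing Q _ hM heR.2⟩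
  have hfR : IsRClass M (blockCoeff (blockOf M (ξ₀ : Subgroup.normalizer (Q : Set X) → ℂ))) :=
    blockCoeff_isRClass hM ξ₀
  have hω : ∀ ξ : IrrCharacter (Subgroup.normalizer (Q : Set X)),
      MemLocalIdeal M (omega (resC Q (Subgroup.normalizer (Q : Set X))
        (blockCoeff (blockOf M (χ₀ : X → ℂ)))
        - blockCoeff (blockOf M (ξ₀ : Subgroup.normalizer (Q : Set X) → ℂ)))
        (ξ : Subgroup.normalizer (Q : Set X) → ℂ)) := by
    intro ξ
    obtain ⟨χ₁, h1, h2⟩ := exists_brauer_correspondent hMod Q (Subgroup.normalizer (Q : Set X)) hQ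
      Subgroup.le_normalizer (Subgroup.centralizer_le_normalizer _) le_rfl ξ
    have h3 := h1 _ heR
    rw [omega_blockCoeff] at h3
    rw [omega_sub, omega_blockCoeff]
    by_cases hξ : ξ ∈ blockOf M (ξ₀ : Subgroup.normalizer (Q : Set X) → ℂ)
    · rw [if_pos hξ]
      rw [blockOf_eq_of_mem hM hξ] at h2
      have heq := isInducedBlock_unique hM _ h2 hind
      have hχ₁ : χ₁ ∈ blockOf M (χ₀ : X → ℂ) := by
        rw [← heq]
        exact mem_blockOf_self hM χ₁
      rw [if_pos hχ₁] at h3
      exact h3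
    · rw [if_neg hξ]
      have hχ₁ : χ₁ ∉ blockOf M (χ₀ : X → ℂ) := by
        intro hmem
        apply hξ
        rw [blockOf_eq_of_mem hM hmem] at h2
        have hD'' := isDefectGroup_of_induced hMod Q hQ ⟨ξ, rfl⟩ ⟨χ₀, rfl⟩ hBD h2
        obtain ⟨b₀, _, huniq⟩ := (Cfsg.Agent.S0920.result p M hMod Q hQ).2
          (blockOf M (χ₀ : X → ℂ)) ⟨χ₀, rfl⟩ hBD
        have e1 := huniq _ ⟨⟨ξ, rfl⟩, hD'', h2⟩
        have e2 := huniq _ ⟨⟨ξ₀, rfl⟩, hbD, hind⟩
        rw [e2, ← e1]
        exact mem_blockOf_self hM ξ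
      rw [if_neg hχ₁] at h3
      exact h3
  have hnil := isNilpotent_cls hM (hyR.sub hM hfR) hω
  rw [cls_sub hM hyR hfR] at hnil
  have hidem1 : IsIdempotentElem (cls hM _ hyR) := by
    rw [IsIdempotentElem, ← cls_conv, cls_eq_iff]
    intro g
    have := resC_conv_sub Q (Subgroup.normalizer (Q : Set X)) hMod hQ
      (Subgroup.centralizer_le_normalizer _) heR.1 heR.1 heR.2 heR.2 g
    rw [conv_blockCoeff_self hM χ₀] at this
    have := memLocalIdeal_neg this
    rwa [neg_sub] at this
  have hidem2 : IsIdempotentElem (cls hM _ hfR) := by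
    rw [IsIdempotentElem, ← cls_conv, cls_eq_iff]
    intro g
    rw [conv_blockCoeff_self hM ξ₀, sub_self]
    exact memLocalIdeal_zero hM
  have heq := eq_of_idem_of_nilpotent_sub hidem1 hidem2 hnil
  rw [cls_eq_iff] at heq
  exact heq z

end

end Cfsg.Agent.Lib.Helper21
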