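import Mathlib
import Cfsg.Prelude.Def_Blocks
import Cfsg.Prelude.Def_BrauerPairs
import Cfsg.Agent.Lib.Helper21.BrauerCorrIdem
import Cfsg.Agent.Lib.Helper21.DefectTransport

/-!
# The Brauer correspondence over a subgroup containing `N_G(P)`
-/

set_option autoImplicit false
set_option linter.unusedSectionVars false

namespace Cfsg.Agent.Lib.Helper21

open Cfsg
open scoped ComplexConjugate
open Cfsg.Agent.Lib.Helper82 Cfsg.Agent.Lib.Helper83 Cfsg.Agent.Lib.Helper81

universe u
variable {G : Type u} [Group G]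

/-- Congruence of two functions on `C_G(P)` modulo the local ideal. -/
def CongrOnC (M : Ideal AlgInt) (P : Subgroup G) (f₁ f₂ : G → ℂ) : Prop :=
  ∀ x ∈ Subgroup.centralizer (P : Set G), MemLocalIdeal M (f₁ x - f₂ x)

theorem CongrOnC.symm {M : Ideal AlgInt} {P : Subgroup G} {f₁ f₂ : G → ℂ}
    (h : CongrOnC M P f₁ f₂) : CongrOnC M P f₂ f₁ := by
  intro x hx
  have := memLocalIdeal_neg (h x hx)
  rwa [neg_sub] at this

theorem CongrOnC.trans {M : Ideal AlgInt} (hM : M.IsPrime) {P : Subgroup G} {f₁ f₂ f₃ : G → ℂ}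
    (h : CongrOnC M P f₁ f₂) (h' : CongrOnC M P f₂ f₃) : CongrOnC M P f₁ f₃ := by
  intro x hx
  have := memLocalIdeal_add hM (h x hx) (h' x hx)
  convert this using 1
  ring

section iso
variable (P H : Subgroup G)

theorem coe_mem_normalizer_of_mem (hP : P ≤ H)
    (n' : Subgroup.normalizer ((P.subgroupOf H : Subgroup H) : Set H)) :
    ((n' : H) : G) ∈ Subgroup.normalizer (P : Set G) := by
  have h1 : (n' : H) ∈ Subgroup.normalizer ((P.subgroupOf H : Subgroup H) : Set H) := n'.2
  have h2 : (n' : H) ∈ (Subgroup.normalizer (P : Set G)).subgroupOf H := by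
    rw [Subgroup.subgroupOf_normalizer_eq hP]
    exact h1
  exact Subgroup.mem_subgroupOf.1 h2

theorem mk_mem_normalizer_of_mem (hP : P ≤ H) {n : G} (hn : n ∈ Subgroup.normalizer (P : Set G))
    (hnH : n ∈ H) :
    (⟨n, hnH⟩ : H) ∈ Subgroup.normalizer ((P.subgroupOf H : Subgroup H) : Set H) := by
  have h2 : (⟨n, hnH⟩ : H) ∈ (Subgroup.normalizer (P : Set G)).subgroupOf H :=
    Subgroup.mem_subgroupOf.2 hn
  rw [Subgroup.subgroupOf_normalizer_eq hP] at h2
  exact h2

/-- `N_H(P) ≃ N_G(P)` when `N_G(P) ≤ H`. -/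
def normIso (hH : Subgroup.normalizer (P : Set G) ≤ H) :
    ↥(Subgroup.normalizer ((P.subgroupOf H : Subgroup H) : Set H)) ≃*
      ↥(Subgroup.normalizer (P : Set G)) where
  toFun n' := ⟨((n' : H) : G), coe_mem_normalizer_of_mem P H (Subgroup.le_normalizer.trans hH) n'⟩
  invFun n := ⟨⟨(n : G), hH n.2⟩,
    mk_mem_normalizer_of_mem P H (Subgroup.le_normalizer.trans hH) n.2 (hH n.2)⟩
  left_inv _ := rfl
  right_inv _ := rfl
  map_mul' _ _ := rfl

@[simp] theorem normIso_coe (hH : Subgroup.normalizer (P : Set G) ≤ H)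
    (n' : Subgroup.normalizer ((P.subgroupOf H : Subgroup H) : Set H)) :
    ((normIso P H hH n' : Subgroup.normalizer (P : Set G)) : G) = ((n' : H) : G) := rfl

@[simp] theorem normIso_symm_coe (hH : Subgroup.normalizer (P : Set G) ≤ H)
    (n : Subgroup.normalizer (P : Set G)) :
    ((((normIso P H hH).symm n : Subgroup.normalizer ((P.subgroupOf H : Subgroup H) : Set H))
      : H) : G) = (n : G) := rfl

/-- The copies of `P` correspond. -/
theorem subgroupOf_comap_normIso (hH : Subgroup.normalizer (P : Set G) ≤ H) :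
    (P.subgroupOf (Subgroup.normalizer (P : Set G))).comap (normIso P H hH).toMonoidHom
      = (P.subgroupOf H).subgroupOf
        (Subgroup.normalizer ((P.subgroupOf H : Subgroup H) : Set H)) := by
  ext n'
  simp only [Subgroup.mem_comap, Subgroup.mem_subgroupOf, MulEquiv.coe_toMonoidHom, normIso_coe]

theorem subgroupOf_comap_normIso_symm (hH : Subgroup.normalizer (P : Set G) ≤ H) :
    ((P.subgroupOf H).subgroupOf
        (Subgroup.normalizer ((P.subgroupOf H : Subgroup H) : Set H))).comap
        (normIso P H hH).symm.toMonoidHom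
      = P.subgroupOf (Subgroup.normalizer (P : Set G)) := by
  ext n
  simp only [Subgroup.mem_comap, Subgroup.mem_subgroupOf, MulEquiv.coe_toMonoidHom,
    normIso_symm_coe]

end iso

/-- Extension by zero from a subgroup, via a dependent `if`. -/
noncomputable def liftH (H : Subgroup G) (f : H → ℂ) : G → ℂ :=
  fun g => by classical exact if h : g ∈ H then f ⟨g, h⟩ else 0

theorem liftH_of_mem (H : Subgroup G) (f : H → ℂ) {g : G} (hg : g ∈ H) :
    liftH H f g = f ⟨g, hg⟩ := by
  unfold liftH
  rw [dif_pos hg]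

theorem subgroupBlockCoeff_eq_liftH (H : Subgroup G) (e : Set (IrrCharacter H)) :
    subgroupBlockCoeff H e = liftH H (blockCoeff e) := rfl

/-- Congruence on `C_H(P)` for functions on `H` is congruence on `C_G(P)` of the extensions. -/
theorem congrOnC_liftH_iff {M : Ideal AlgInt} (P H : Subgroup G) (hP : P ≤ H)
    (hC : Subgroup.centralizer (P : Set G) ≤ H) (f₁ f₂ : H → ℂ) :
    CongrOnC M P (liftH H f₁) (liftH H f₂) ↔ CongrOnC M (P.subgroupOf H) f₁ f₂ := by
  constructor
  · intro h y hy
    have hyC : (y : G) ∈ Subgroup.centralizer (P : Set G) := by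
      rw [Subgroup.mem_centralizer_iff] at hy ⊢
      intro q hq
      have := hy ⟨q, hP hq⟩ (by
        show (⟨q, hP hq⟩ : H) ∈ P.subgroupOf H
        rw [Subgroup.mem_subgroupOf]
        exact hq)
      exact congrArg Subtype.val this
    have := h (y : G) hyC
    rw [liftH_of_mem H f₁ y.2, liftH_of_mem H f₂ y.2] at this
    exact this
  · intro h x hx
    have hxH : x ∈ H := hC hx
    rw [liftH_of_mem H f₁ hxH, liftH_of_mem H f₂ hxH]
    apply h
    rw [Subgroup.mem_centralizer_iff] at hx ⊢
    intro q hq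
    have hq' : (q : G) ∈ P := Subgroup.mem_subgroupOf.1 hq
    apply Subtype.ext
    exact hx q hq'

section main
variable [Finite G] {M : Ideal AlgInt} {p : ℕ} [Fact p.Prime]

/-- Brauer correspondents (in `N_G(P)`) have idempotents congruent on `C_G(P)`. -/
theorem congrOnC_of_induced (hMod : IsPModular p M) (P : Subgroup G) (hP : IsPGroup p P)
    {b : Set (IrrCharacter (Subgroup.normalizer (P : Set G)))} (hb : IsPBlock M b)
    (hbD : IsDefectGroup p M b (P.subgroupOf (Subgroup.normalizer (P : Set G))))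
    {B : Set (IrrCharacter G)} (hB : IsPBlock M B) (hBD : IsDefectGroup p M B P)
    (hind : IsInducedBlock M (Subgroup.normalizer (P : Set G)) b B) :
    CongrOnC M P (blockCoeff B) (subgroupBlockCoeff (Subgroup.normalizer (P : Set G)) b) := by
  classical
  have := Fintype.ofFinite G
  have := Fintype.ofFinite (IrrCharacter G)
  have := Fintype.ofFinite (Subgroup.normalizer (P : Set G))
  have := Fintype.ofFinite (IrrCharacter (Subgroup.normalizer (P : Set G)))
  intro x hx
  have hxN : x ∈ Subgroup.normalizer (P : Set G) := Subgroup.centralizer_le_normalizer _ hx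
  have h1 := resC_blockCoeff_sub_blockCoeff hMod P hP hb hbD hB hBD hind ⟨x, hxN⟩
  rw [resC_apply, if_pos hx] at h1
  rw [subgroupBlockCoeff_eq_liftH, liftH_of_mem _ _ hxN]
  exact h1

/-- Blocks of `N_G(P)` with idempotents congruent on `C_G(P)` are equal. -/
theorem block_eq_of_congrOnC (hMod : IsPModular p M) (P : Subgroup G) (hP : IsPGroup p P)
    {b₁ b₂ : Set (IrrCharacter (Subgroup.normalizer (P : Set G)))} (hb₁ : IsPBlock M b₁)
    (hb₂ : IsPBlock M b₂)
    (h : CongrOnC M P (subgroupBlockCoeff (Subgroup.normalizer (P : Set G)) b₁)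
      (subgroupBlockCoeff (Subgroup.normalizer (P : Set G)) b₂)) : b₁ = b₂ := by
  classical
  have := Fintype.ofFinite (Subgroup.normalizer (P : Set G))
  have := Fintype.ofFinite (IrrCharacter (Subgroup.normalizer (P : Set G)))
  have hnorm : (P.subgroupOf (Subgroup.normalizer (P : Set G))).Normal :=
    Subgroup.normal_in_normalizer
  apply block_eq_of_blockCoeff_congr hMod (P.subgroupOf (Subgroup.normalizer (P : Set G)))
    hP.comap_subtype hb₁ hb₂
  intro n hn
  have hnC : (n : G) ∈ Subgroup.centralizer (P : Set G) := by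
    rw [Subgroup.mem_centralizer_iff] at hn ⊢
    intro q hq
    have := hn ⟨q, Subgroup.le_normalizer hq⟩ (by
      show (⟨q, Subgroup.le_normalizer hq⟩ : Subgroup.normalizer (P : Set G)) ∈
        P.subgroupOf (Subgroup.normalizer (P : Set G))
      rw [Subgroup.mem_subgroupOf]
      exact hq)
    exact congrArg Subtype.val this
  have := h (n : G) hnC
  rw [subgroupBlockCoeff_eq_liftH, subgroupBlockCoeff_eq_liftH, liftH_of_mem _ _ n.2,
    liftH_of_mem _ _ n.2] at this
  exact this

/-- Transported blocks have the same idempotent coefficients. -/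
theorem congrOnC_of_transport (hM : M.IsPrime) (P H : Subgroup G)
    (hH : Subgroup.normalizer (P : Set G) ≤ H)
    (b : Set (IrrCharacter (Subgroup.normalizer (P : Set G))))
    (b' : Set (IrrCharacter (Subgroup.normalizer ((P.subgroupOf H : Subgroup H) : Set H))))
    (h : ∀ n', blockCoeff b' n' = blockCoeff b (normIso P H hH n')) :
    CongrOnC M P (liftH H (subgroupBlockCoeff
        (Subgroup.normalizer ((P.subgroupOf H : Subgroup H) : Set H)) b'))
      (subgroupBlockCoeff (Subgroup.normalizer (P : Set G)) b) := by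
  intro x hx
  have hxN : x ∈ Subgroup.normalizer (P : Set G) := Subgroup.centralizer_le_normalizer _ hx
  have hxH : x ∈ H := hH hxN
  have hxN' : (⟨x, hxH⟩ : H) ∈ Subgroup.normalizer ((P.subgroupOf H : Subgroup H) : Set H) :=
    mk_mem_normalizer_of_mem P H (Subgroup.le_normalizer.trans hH) hxN hxH
  rw [liftH_of_mem H _ hxH, subgroupBlockCoeff_eq_liftH, subgroupBlockCoeff_eq_liftH,
    liftH_of_mem _ _ hxN', liftH_of_mem _ _ hxN, h]
  have : normIso P H hH ⟨⟨x, hxH⟩, hxN'⟩ = ⟨x, hxN⟩ := rfl
  rw [this, sub_self]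
  exact memLocalIdeal_zero hM

/-- **The Brauer correspondence over a subgroup `H ⊇ N_G(P)`.** -/
theorem brauer_correspondence_over (hMod : IsPModular p M) (P H : Subgroup G)
    (hP : IsPGroup p P) (hH : Subgroup.normalizer (P : Set G) ≤ H) :
    (∀ B : Set (IrrCharacter G), IsPBlock M B → IsDefectGroup p M B P →
      ∃! c : Set (IrrCharacter H), IsPBlock M c ∧ IsDefectGroup p M c (P.subgroupOf H) ∧
        ∀ x : G, x ∈ Subgroup.centralizer (P : Set G) →
          MemLocalIdeal M (blockCoeff B x - subgroupBlockCoeff H c x)) ∧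
    (∀ c : Set (IrrCharacter H), IsPBlock M c → IsDefectGroup p M c (P.subgroupOf H) →
      ∃! B : Set (IrrCharacter G), IsPBlock M B ∧ IsDefectGroup p M B P ∧
        ∀ x : G, x ∈ Subgroup.centralizer (P : Set G) →
          MemLocalIdeal M (blockCoeff B x - subgroupBlockCoeff H c x)) := by
  classical
  have hM : M.IsPrime := hMod.2.1.isPrime
  have := Fintype.ofFinite G
  have := Fintype.ofFinite H
  have := Fintype.ofFinite (IrrCharacter G)
  have := Fintype.ofFinite (IrrCharacter H)
  have := Fintype.ofFinite (Subgroup.normalizer (P : Set G))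
  have := Fintype.ofFinite (Subgroup.normalizer ((P.subgroupOf H : Subgroup H) : Set H))
  have := Fintype.ofFinite (IrrCharacter (Subgroup.normalizer (P : Set G)))
  have := Fintype.ofFinite
    (IrrCharacter (Subgroup.normalizer ((P.subgroupOf H : Subgroup H) : Set H)))
  have hPH : P ≤ H := Subgroup.le_normalizer.trans hH
  have hCH : Subgroup.centralizer (P : Set G) ≤ H :=
    (Subgroup.centralizer_le_normalizer _).trans hH
  have hPHp : IsPGroup p (P.subgroupOf H) := hP.comap_subtype
  have fmtG := Cfsg.Agent.S0920.result p M hMod P hP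
  have fmtH := Cfsg.Agent.S0920.result p M hMod (P.subgroupOf H) hPHp
  -- the `H`-side congruence, read on `G`
  have sideH : ∀ {b' : Set (IrrCharacter
      (Subgroup.normalizer ((P.subgroupOf H : Subgroup H) : Set H)))} {c : Set (IrrCharacter H)},
      IsPBlock M b' → IsDefectGroup p M b' ((P.subgroupOf H).subgroupOf
        (Subgroup.normalizer ((P.subgroupOf H : Subgroup H) : Set H))) →
      IsPBlock M c → IsDefectGroup p M c (P.subgroupOf H) →
      IsInducedBlock M (Subgroup.normalizer ((P.subgroupOf H : Subgroup H) : Set H)) b' c →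
      CongrOnC M P (subgroupBlockCoeff H c) (liftH H (subgroupBlockCoeff
        (Subgroup.normalizer ((P.subgroupOf H : Subgroup H) : Set H)) b')) := by
    intro b' c hb' hb'D hc hcD hind
    rw [subgroupBlockCoeff_eq_liftH, congrOnC_liftH_iff P H hPH hCH]
    exact congrOnC_of_induced hMod (P.subgroupOf H) hPHp hb' hb'D hc hcD hind
  -- uniqueness on the `H`-side
  have uniqH : ∀ {b'₁ b'₂ : Set (IrrCharacter
      (Subgroup.normalizer ((P.subgroupOf H : Subgroup H) : Set H)))},
      IsPBlock M b'₁ → IsPBlock M b'₂ →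
      CongrOnC M P (liftH H (subgroupBlockCoeff
        (Subgroup.normalizer ((P.subgroupOf H : Subgroup H) : Set H)) b'₁))
        (liftH H (subgroupBlockCoeff
        (Subgroup.normalizer ((P.subgroupOf H : Subgroup H) : Set H)) b'₂)) → b'₁ = b'₂ := by
    intro b'₁ b'₂ h1 h2 hc
    rw [congrOnC_liftH_iff P H hPH hCH] at hc
    exact block_eq_of_congrOnC hMod (P.subgroupOf H) hPHp h1 h2 hc
  constructor
  · intro B hB hBD
    obtain ⟨b, ⟨hb, hbD, hind⟩, _⟩ := fmtG.2 B hB hBD
    obtain ⟨θ₀, rfl⟩ := hb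
    have hb'D : IsDefectGroup p M (blockOf M (irrComp (normIso P H hH) θ₀ :
        Subgroup.normalizer ((P.subgroupOf H : Subgroup H) : Set H) → ℂ))
        ((P.subgroupOf H).subgroupOf
          (Subgroup.normalizer ((P.subgroupOf H : Subgroup H) : Set H))) := by
      have := isDefectGroup_irrComp (normIso P H hH) θ₀ hbD
      rwa [subgroupOf_comap_normIso] at this
    obtain ⟨c, hc, hcD, hindc⟩ := fmtH.1 _ ⟨_, rfl⟩ hb'D
    have c1 := congrOnC_of_induced hMod P hP ⟨θ₀, rfl⟩ hbD hB hBD hind
    have ht : ∀ n' : Subgroup.normalizer ((P.subgroupOf H : Subgroup H) : Set H),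
        blockCoeff (blockOf M (irrComp (normIso P H hH) θ₀ :
          Subgroup.normalizer ((P.subgroupOf H : Subgroup H) : Set H) → ℂ)) n'
        = blockCoeff (blockOf M (θ₀ : Subgroup.normalizer (P : Set G) → ℂ))
          (normIso P H hH n') := by
      intro n'
      exact blockCoeff_blockOf_irrComp M (normIso P H hH) θ₀ n'
    have c2 := congrOnC_of_transport hM P H hH _ _ ht
    have c3 := sideH ⟨_, rfl⟩ hb'D hc hcD hindc
    have chain : CongrOnC M P (blockCoeff B) (subgroupBlockCoeff H c) :=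
      (c1.trans hM c2.symm).trans hM c3.symm
    refine ⟨c, ⟨hc, hcD, chain⟩, ?_⟩
    rintro c₂ ⟨hc₂, hc₂D, hcongr₂⟩
    obtain ⟨b'₂, ⟨hb'₂, hb'₂D, hind₂⟩, _⟩ := fmtH.2 c₂ hc₂ hc₂D
    have c4 := sideH hb'₂ hb'₂D hc₂ hc₂D hind₂
    have hcg : CongrOnC M P (blockCoeff B) (subgroupBlockCoeff H c₂) := hcongr₂
    have : blockOf M (irrComp (normIso P H hH) θ₀ : _ → ℂ) = b'₂ :=
      uniqH ⟨_, rfl⟩ hb'₂ (((c3.symm.trans hM chain.symm).trans hM hcg).trans hM c4)
    rw [← this] at hind₂
    exact isInducedBlock_unique hM _ hind₂ hindc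
  · intro c hc hcD
    obtain ⟨b', ⟨hb', hb'D, hindc⟩, _⟩ := fmtH.2 c hc hcD
    obtain ⟨θ', rfl⟩ := hb'
    have hbD : IsDefectGroup p M (blockOf M (irrComp (normIso P H hH).symm θ' :
        Subgroup.normalizer (P : Set G) → ℂ))
        (P.subgroupOf (Subgroup.normalizer (P : Set G))) := by
      have := isDefectGroup_irrComp (normIso P H hH).symm θ' hb'D
      rwa [subgroupOf_comap_normIso_symm] at this
    obtain ⟨B, hB, hBD, hind⟩ := fmtG.1 _ ⟨_, rfl⟩ hbD
    have c1 := congrOnC_of_induced hMod P hP ⟨_, rfl⟩ hbD hB hBD hind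
    have ht : ∀ n' : Subgroup.normalizer ((P.subgroupOf H : Subgroup H) : Set H),
        blockCoeff (blockOf M (θ' :
          Subgroup.normalizer ((P.subgroupOf H : Subgroup H) : Set H) → ℂ)) n'
        = blockCoeff (blockOf M (irrComp (normIso P H hH).symm θ' :
            Subgroup.normalizer (P : Set G) → ℂ)) (normIso P H hH n') := by
      intro n'
      rw [blockCoeff_blockOf_irrComp M (normIso P H hH).symm θ' (normIso P H hH n'),
        MulEquiv.symm_apply_apply]
    have c2 := congrOnC_of_transport hM P H hH _ _ ht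
    have c3 := sideH ⟨θ', rfl⟩ hb'D hc hcD hindc
    have chain : CongrOnC M P (blockCoeff B) (subgroupBlockCoeff H c) :=
      (c1.trans hM c2.symm).trans hM c3.symm
    refine ⟨B, ⟨hB, hBD, chain⟩, ?_⟩
    rintro B₂ ⟨hB₂, hB₂D, hcongr₂⟩
    obtain ⟨b₂, ⟨hb₂, hb₂D, hind₂⟩, _⟩ := fmtG.2 B₂ hB₂ hB₂D
    have c4 := congrOnC_of_induced hMod P hP hb₂ hb₂D hB₂ hB₂D hind₂
    have hcg : CongrOnC M P (blockCoeff B₂) (subgroupBlockCoeff H c) := hcongr₂
    have : b₂ = blockOf M (irrComp (normIso P H hH).symm θ' : _ → ℂ) :=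
      block_eq_of_congrOnC hMod P hP hb₂ ⟨_, rfl⟩
        (((c4.symm.trans hM hcg).trans hM chain.symm).trans hM c1)
    rw [this] at hind₂
    exact isInducedBlock_unique hM _ hind₂ hind

end main

end Cfsg.Agent.Lib.Helper21
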