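import Mathlib
import Cfsg.Prelude.Def_Blocks
import Cfsg.Agent.Lib.Helper21.ContribRow

set_option autoImplicit false
set_option linter.unusedSectionVars false

namespace Cfsg.Agent.Lib.Helper21

open Cfsg
open scoped ComplexConjugate
open Cfsg.Agent.Lib.Helper82 Cfsg.Agent.Lib.Helper83

universe u
variable {G : Type u} [Group G] [Fintype G] [Fintype (IrrCharacter G)]
variable {p : ℕ} [Fact p.Prime] {M : Ideal AlgInt}

/-- Brauer–Feit height bound: a character of positive height in a block has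
`ν_p(χ(1)) ≤ a - 2`. -/
theorem factorization_add_two_le_of_not_min (hMp : IsPModular p M) {B : Set (IrrCharacter G)}
    (hB : IsPBlock M B) (χ₁ χ₀ : IrrCharacter G) (hχ₁ : χ₁ ∈ B) (hχ₀ : χ₀ ∈ B)
    (hmin : ∀ χ' ∈ B, (charDegree (χ₀ : G → ℂ)).factorization p ≤
      (charDegree (χ' : G → ℂ)).factorization p)
    (hlt : (charDegree (χ₀ : G → ℂ)).factorization p <
      (charDegree (χ₁ : G → ℂ)).factorization p) :
    (charDegree (χ₁ : G → ℂ)).factorization p + 2 ≤ (Nat.card G).factorization p := by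
  classical
  have hp : p.Prime := Fact.out
  have hM : M.IsPrime := hMp.2.1.isPrime
  have hBχ₀ : B = blockOf M (χ₀ : G → ℂ) := IsPBlock.eq_blockOf hM hB hχ₀
  have hBχ₁ : B = blockOf M (χ₁ : G → ℂ) := IsPBlock.eq_blockOf hM hB hχ₁
  have hmin' : ∀ χ' : IrrCharacter G, SameBlock M (χ₀ : G → ℂ) (χ' : G → ℂ) →
      (charDegree (χ₀ : G → ℂ)).factorization p ≤ (charDegree (χ' : G → ℂ)).factorization p := by
    intro χ' hs
    apply hmin
    rw [hBχ₀, mem_blockOf_iff]; exact hs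
  have hs01 : SameBlock M (χ₀ : G → ℂ) (χ₁ : G → ℂ) := by
    rw [hBχ₀, mem_blockOf_iff] at hχ₁
    exact hχ₁
  -- χ₁ has positive height
  have hht : blockHeight p B (χ₁ : G → ℂ) ≠ 0 := by
    unfold blockHeight
    have hle : sInf ((fun ψ : IrrCharacter G => (charDegree (ψ : G → ℂ)).factorization p) '' B)
        ≤ (charDegree (χ₀ : G → ℂ)).factorization p := Nat.sInf_le ⟨χ₀, hχ₀, rfl⟩
    omega
  have hI : MemLocalIdeal M (omega (regConj p (χ₁ : G → ℂ)) (χ₁ : G → ℂ)) := by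
    by_contra hcon
    exact hht ((Cfsg.Agent.S4426.height_zero_iff hMp B hB χ₁ hχ₁).2 hcon)
  have hdvd : (p : ℤ) ∣ rowInt p χ₁ χ₁ := dvd_rowInt_self hMp χ₁ hI
  have hpos := rowInt_self_pos p χ₁
  -- the entry at χ₀ is nonzero
  have hα := omega_regConj_not_memLocalIdeal hMp χ₀ hmin'
  have hne : rowInt p χ₁ χ₀ ≠ 0 := by
    apply rowInt_ne_zero_of_omega hMp
    intro h0
    apply hα
    have h1 := omega_sub_memLocalIdeal hM (regConj_isClassFunction p (isClassFunction_irr χ₀))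
      (regConj_memLocalRing p hM χ₀) hs01
    rw [h0, sub_zero] at h1
    exact h1
  have hne01 : χ₀ ≠ χ₁ := by
    rintro rfl
    exact lt_irrefl _ hlt
  -- Parseval
  have hsum := sum_rowInt_sq p χ₁
  have hge : rowInt p χ₁ χ₀ ^ 2 + rowInt p χ₁ χ₁ ^ 2 ≤ ∑ ψ : IrrCharacter G, rowInt p χ₁ ψ ^ 2 := by
    have hsub : ({χ₀, χ₁} : Finset (IrrCharacter G)) ⊆ Finset.univ := Finset.subset_univ _
    have := Finset.sum_le_sum_of_subset_of_nonneg (f := fun ψ => rowInt p χ₁ ψ ^ 2) hsub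
      (fun i _ _ => sq_nonneg _)
    rw [Finset.sum_pair hne01] at this
    exact this
  have h1 : 1 ≤ rowInt p χ₁ χ₀ ^ 2 := by
    have : 0 < rowInt p χ₁ χ₀ ^ 2 := by positivity
    omega
  have hlt' : rowInt p χ₁ χ₁ < (p : ℤ) ^ rowExp p χ₁ := by
    by_contra hcon
    push Not at hcon
    have : (p : ℤ) ^ rowExp p χ₁ * rowInt p χ₁ χ₁ ≤ rowInt p χ₁ χ₁ ^ 2 := by
      rw [sq]
      exact mul_le_mul_of_nonneg_right hcon hpos.le
    linarith
  have hple : (p : ℤ) ≤ rowInt p χ₁ χ₁ := Int.le_of_dvd hpos hdvd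
  have hexp : 2 ≤ rowExp p χ₁ := by
    by_contra hcon
    push Not at hcon
    have hpp : (p : ℤ) ^ rowExp p χ₁ ≤ (p : ℤ) ^ 1 := by
      apply pow_le_pow_right₀
      · exact_mod_cast hp.one_lt.le
      · omega
    rw [pow_one] at hpp
    linarith
  unfold rowExp at hexp
  omega

end Cfsg.Agent.Lib.Helper21
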