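import Mathlib
import Cfsg.Prelude.Def_Blocks
import Cfsg.Agent.Lib.Helper21.HeightBound
import Cfsg.Agent.Lib.Helper21.BrauerFeit

set_option autoImplicit false
set_option linter.unusedSectionVars false

namespace Cfsg.Agent.Lib.Helper21

open Cfsg
open scoped ComplexConjugate
open Cfsg.Agent.Lib.Helper82 Cfsg.Agent.Lib.Helper83

universe u

/-- Second arithmetic lemma: entries outside the diagonal one whose squares are at least `c`. -/
theorem brauerFeit_arith2 {ι : Type*} [Fintype ι] [DecidableEq ι] (n : ι → ℤ)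
    (S : Finset ι) (i₀ : ι) (hi₀ : i₀ ∉ S) (P : ℕ)
    (hsum : ∑ i, n i ^ 2 = (P : ℤ) * n i₀) (c : ℕ) (hc : ∀ i ∈ S, (c : ℤ) ≤ n i ^ 2) :
    4 * c * S.card ≤ P ^ 2 := by
  have h1 : (c : ℤ) * S.card ≤ ∑ i ∈ S, n i ^ 2 := by
    have := Finset.card_nsmul_le_sum S (fun i => n i ^ 2) (c : ℤ) hc
    rw [nsmul_eq_mul] at this
    linarith
  have h3 : ∑ i ∈ S, n i ^ 2 ≤ ∑ i ∈ Finset.univ.erase i₀, n i ^ 2 := by
    apply Finset.sum_le_sum_of_subset_of_nonneg
    · intro i hi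
      rw [Finset.mem_erase]
      refine ⟨?_, Finset.mem_univ _⟩
      rintro rfl
      exact hi₀ hi
    · intro i _ _
      exact sq_nonneg _
  have h4 : ∑ i ∈ Finset.univ.erase i₀, n i ^ 2 = (P : ℤ) * n i₀ - n i₀ ^ 2 := by
    rw [← hsum, ← Finset.add_sum_erase Finset.univ _ (Finset.mem_univ i₀)]
    ring
  have h5 : 4 * ((P : ℤ) * n i₀ - n i₀ ^ 2) ≤ (P : ℤ) ^ 2 := by
    nlinarith [sq_nonneg ((P : ℤ) - 2 * n i₀)]
  have : ((4 * c * S.card : ℕ) : ℤ) ≤ ((P ^ 2 : ℕ) : ℤ) := by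
    push_cast
    linarith
  exact_mod_cast this

variable {G : Type u} [Group G] [Fintype G] [Fintype (IrrCharacter G)]
variable {p : ℕ} [Fact p.Prime] {M : Ideal AlgInt}

/-- Brauer–Feit: a block containing a character of positive height has `2 k(B) ≤ p^(2d-2)`. -/
theorem two_mul_card_block_le (hMp : IsPModular p M) {B : Set (IrrCharacter G)} (hB : IsPBlock M B)
    (χ₁ : IrrCharacter G) (hχ₁ : χ₁ ∈ B) (hpos : 0 < blockHeight p B (χ₁ : G → ℂ)) :
    2 * Nat.card B ≤ p ^ (2 * blockDefect p B - 2) := by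
  classical
  have hp : p.Prime := Fact.out
  have hM : M.IsPrime := hMp.2.1.isPrime
  obtain ⟨χ₀, hχ₀, hχ₀s⟩ := exists_min_degree (p := p) hM hB
  have hBχ₀ : B = blockOf M (χ₀ : G → ℂ) := IsPBlock.eq_blockOf hM hB hχ₀
  have hminB : ∀ χ' ∈ B, (charDegree (χ₀ : G → ℂ)).factorization p ≤
      (charDegree (χ' : G → ℂ)).factorization p := by
    intro χ' hχ'
    rw [hχ₀s]
    exact Nat.sInf_le ⟨χ', hχ', rfl⟩
  have hht : ∀ ψ : IrrCharacter G, blockHeight p B (ψ : G → ℂ) =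
      (charDegree (ψ : G → ℂ)).factorization p - (charDegree (χ₀ : G → ℂ)).factorization p := by
    intro ψ
    unfold blockHeight
    rw [hχ₀s]
  have hdef : blockDefect p B = (Nat.card G).factorization p -
      (charDegree (χ₀ : G → ℂ)).factorization p := by
    unfold blockDefect
    rw [hχ₀s]
  have hlt : (charDegree (χ₀ : G → ℂ)).factorization p <
      (charDegree (χ₁ : G → ℂ)).factorization p := by
    rw [hht] at hpos
    omega
  have hbound := factorization_add_two_le_of_not_min hMp hB χ₁ χ₀ hχ₁ hχ₀ hminB hlt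
  -- the two parts of `B`
  set S := (Set.toFinite B).toFinset with hS
  have hmemS : ∀ ψ, ψ ∈ S ↔ ψ ∈ B := by
    intro ψ; simp [hS]
  set S₀ := S.filter (fun ψ : IrrCharacter G => blockHeight p B (ψ : G → ℂ) = 0) with hS₀
  set S₁ := S.filter (fun ψ : IrrCharacter G => ¬ blockHeight p B (ψ : G → ℂ) = 0) with hS₁
  have hcard : S₀.card + S₁.card = Nat.card B := by
    rw [hS₀, hS₁, Finset.card_filter_add_card_filter_not,
      Nat.card_eq_card_finite_toFinset (Set.toFinite B)]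
  -- general facts about a height-zero character ψ
  have hunit : ∀ ψ ∈ B, blockHeight p B (ψ : G → ℂ) = 0 →
      ¬ MemLocalIdeal M (omega (regConj p (ψ : G → ℂ)) (ψ : G → ℂ)) := by
    intro ψ hψ h0
    exact (Cfsg.Agent.S4426.height_zero_iff hMp B hB ψ hψ).1 h0
  have hsame : ∀ ψ ∈ B, ∀ ψ' ∈ B, SameBlock M (ψ : G → ℂ) (ψ' : G → ℂ) := by
    intro ψ hψ ψ' hψ'
    have hBψ : B = blockOf M (ψ : G → ℂ) := IsPBlock.eq_blockOf hM hB hψ
    rw [hBψ, mem_blockOf_iff] at hψ'
    exact hψ'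
  -- (A) the row of χ₁
  have hA : 4 * 1 * S₀.card ≤ (p ^ rowExp p χ₁) ^ 2 := by
    apply brauerFeit_arith2 (rowInt p χ₁) S₀ χ₁
    · rw [hS₀, Finset.mem_filter]
      rintro ⟨_, h0⟩
      omega
    · rw [sum_rowInt_sq]
      push_cast
      rfl
    · intro ψ hψ
      rw [hS₀, Finset.mem_filter, hmemS] at hψ
      have hne : rowInt p χ₁ ψ ≠ 0 := by
        apply rowInt_ne_zero_of_omega hMp
        intro h0
        apply hunit ψ hψ.1 hψ.2
        have h1 := omega_sub_memLocalIdeal hM (regConj_isClassFunction p (isClassFunction_irr ψ))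
          (regConj_memLocalRing p hM ψ) (hsame ψ hψ.1 χ₁ hχ₁)
        rw [h0, sub_zero] at h1
        exact h1
      have : 0 < rowInt p χ₁ ψ ^ 2 := by positivity
      push_cast
      omega
  -- (B) the row of χ₀
  have hχ₀0 : blockHeight p B (χ₀ : G → ℂ) = 0 := by rw [hht, Nat.sub_self]
  have hB' : 4 * (p ^ 2) * S₁.card ≤ (p ^ rowExp p χ₀) ^ 2 := by
    apply brauerFeit_arith2 (rowInt p χ₀) S₁ χ₀
    · rw [hS₁, Finset.mem_filter]
      rintro ⟨_, h0⟩
      exact h0 hχ₀0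
    · rw [sum_rowInt_sq]
      push_cast
      rfl
    · intro ψ hψ
      rw [hS₁, Finset.mem_filter, hmemS] at hψ
      have hne : rowInt p χ₀ ψ ≠ 0 := by
        apply rowInt_ne_zero_of_omega_right hMp
        intro h0
        apply hunit χ₀ hχ₀ hχ₀0
        have h1 := omega_sub_memLocalIdeal hM (regConj_isClassFunction p (isClassFunction_irr χ₀))
          (regConj_memLocalRing p hM χ₀) (hsame χ₀ hχ₀ ψ hψ.1)
        rw [h0, sub_zero] at h1
        exact h1
      have hdvd : (p : ℤ) ^ 1 ∣ rowInt p χ₀ ψ := by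
        apply pow_dvd_rowInt hMp
        have h2 := hψ.2
        rw [hht] at h2
        omega
      obtain ⟨c, hc⟩ := hdvd
      have hc0 : c ≠ 0 := by
        rintro rfl
        exact hne (by rw [hc, mul_zero])
      rw [hc]
      push_cast
      have hc1 : 1 ≤ c ^ 2 := by
        have : 0 < c ^ 2 := by positivity
        omega
      nlinarith [sq_nonneg ((p : ℤ))]
  -- exponents
  have he₁ : rowExp p χ₁ + 1 ≤ blockDefect p B := by
    unfold rowExp
    rw [hdef]
    omega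
  have he₀ : rowExp p χ₀ = blockDefect p B := by
    unfold rowExp
    rw [hdef]
  have hd2 : 2 ≤ blockDefect p B := by
    rw [hdef]
    omega
  set d := blockDefect p B with hd
  have hQ1 : (p ^ rowExp p χ₁) ^ 2 ≤ p ^ (2 * d - 2) := by
    rw [← pow_mul]
    apply Nat.pow_le_pow_right hp.pos
    omega
  have hQ2 : (p ^ rowExp p χ₀) ^ 2 = p ^ 2 * p ^ (2 * d - 2) := by
    rw [he₀, ← pow_mul, ← pow_add]
    congr 1
    omega
  rw [hQ2] at hB'
  have hB'' : 4 * S₁.card ≤ p ^ (2 * d - 2) := by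
    have hp2 : 0 < p ^ 2 := pow_pos hp.pos 2
    have : p ^ 2 * (4 * S₁.card) ≤ p ^ 2 * p ^ (2 * d - 2) := by
      calc p ^ 2 * (4 * S₁.card) = 4 * p ^ 2 * S₁.card := by ring
        _ ≤ p ^ 2 * p ^ (2 * d - 2) := hB'
    exact Nat.le_of_mul_le_mul_left this hp2
  have hA' : 4 * S₀.card ≤ p ^ (2 * d - 2) := by
    calc 4 * S₀.card = 4 * 1 * S₀.card := by ring
      _ ≤ (p ^ rowExp p χ₁) ^ 2 := hA
      _ ≤ p ^ (2 * d - 2) := hQ1
  rw [← hcard]
  generalize p ^ (2 * d - 2) = Q at hA' hB'' ⊢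
  omega

end Cfsg.Agent.Lib.Helper21
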