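import Mathlib
import Cfsg.Agent.Lib.Helper38.CD3.Defs
import Cfsg.Agent.Lib.Helper42.CD3DIV
import Cfsg.Agent.Lib.Helper83.Quotient

/-!
# K-CD3-N1 (keystone 446001): the character degrees of a normal `p`-complement are the
`p'`-parts of the degrees of `G`.
-/

set_option autoImplicit false

namespace Cfsg.Agent.Lib.Helper21.CD3

open Cfsg Cfsg.Agent.Lib.Helper97 Cfsg.Agent.Lib.Helper38.CD3

universe u

variable {G : Type u} [Group G] [Finite G]

/-- `c = p^i * d` with `d` prime to `p`: the `p'`-part of `c` is `d`. -/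
theorem n1_ordCompl {p i d c : ℕ} (hp : p.Prime) (hd : d.Coprime p) (hc : c = p ^ i * d) :
    c / p ^ c.factorization p = d := by
  have hd0 : d ≠ 0 := by
    rintro rfl
    rw [Nat.coprime_zero_left] at hd
    exact hp.one_lt.ne' hd
  have hpd : ¬ p ∣ d := by
    intro h
    have := Nat.Coprime.eq_one_of_dvd hd.symm h
    exact hp.one_lt.ne' this
  have hpi : p ^ i ≠ 0 := pow_ne_zero _ hp.pos.ne'
  have hfac : c.factorization p = i := by
    rw [hc, Nat.factorization_mul hpi hd0, Finsupp.add_apply, hp.factorization_pow,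
      Nat.factorization_eq_zero_of_not_dvd hpd, add_zero, Finsupp.single_eq_same]
  rw [hfac, hc]
  exact Nat.mul_div_cancel_left d (pow_pos hp.pos i)

/-- 446001 N1 : degrees of a normal `p`-complement are the `p'`-parts. -/
theorem threeDeg_compl {m n : ℕ} (h : ThreeDeg G m n) (p : ℕ) (hp : p.Prime)
    (H : Subgroup G) [H.Normal] (hcop : (Nat.card H).Coprime p)
    (hidx : ∃ k : ℕ, H.index = p ^ k) :
    ThreeDeg H (m / p ^ m.factorization p) (n / p ^ n.factorization p) := by
  intro θ
  obtain ⟨k, hk⟩ := hidx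
  obtain ⟨χ, hχ, e, hce, he⟩ := Cfsg.Agent.Lib.Helper42.CD3.exists_over H θ.2
  rw [hk] at he
  obtain ⟨i, -, hi⟩ := (Nat.dvd_prime_pow hp).mp he
  have hd : (charDegree (θ : H → ℂ)).Coprime p :=
    Nat.Coprime.coprime_dvd_left (Cfsg.Agent.Lib.Helper83.irr_charDegree_dvd_card θ) hcop
  have hc : charDegree χ = p ^ i * charDegree (θ : H → ℂ) := by rw [hce, hi]
  have key := n1_ordCompl hp hd hc
  rcases h ⟨χ, hχ⟩ with h1 | h1 | h1
  · left
    have h2 : p ^ i * charDegree (θ : H → ℂ) = 1 := by rw [← hc]; exact h1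
    exact Nat.eq_one_of_mul_eq_one_left h2
  · right; left
    have h1' : charDegree χ = m := h1
    rw [h1'] at key
    exact key.symm
  · right; right
    have h1' : charDegree χ = n := h1
    rw [h1'] at key
    exact key.symm

end Cfsg.Agent.Lib.Helper21.CD3
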