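import Mathlib
import Cfsg.Agent.Lib.Helper38.CD3.Defs
import Cfsg.Agent.Lib.Helper83.Quotient

/-!
# K-CD3-N11 (keystone 446011): a normal subgroup of order prime to `p` is proper when `p`
divides an occurring character degree.
-/

set_option autoImplicit false

namespace Cfsg.Agent.Lib.Helper21.CD3

open Cfsg Cfsg.Agent.Lib.Helper97

universe u

variable {G : Type u} [Group G] [Finite G]

/-- 446011 N11 : a prime dividing an occurring degree divides `|G|`; so a normal subgroup of
order prime to `p` is proper. -/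
theorem card_lt_of_coprime {m : ℕ} (p : ℕ) (hp : p.Prime) (hpm : p ∣ m)
    (hm : ∃ χ : IrrCharacter G, charDegree (χ : G → ℂ) = m)
    (H : Subgroup G) (hcop : (Nat.card H).Coprime p) : Nat.card H < Nat.card G := by
  obtain ⟨χ, hχ⟩ := hm
  have h1 : m ∣ Nat.card G := hχ ▸ Cfsg.Agent.Lib.Helper83.irr_charDegree_dvd_card χ
  have h2 : p ∣ Nat.card G := hpm.trans h1
  have h3 : Nat.card H ∣ Nat.card G := Subgroup.card_subgroup_dvd_card H
  have hpos : 0 < Nat.card G := Nat.card_pos
  have hle := Nat.le_of_dvd hpos h3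
  rcases lt_or_eq_of_le hle with h | h
  · exact h
  · exfalso
    rw [h] at hcop
    have := Nat.Coprime.eq_one_of_dvd hcop.symm h2
    exact hp.one_lt.ne' this

end Cfsg.Agent.Lib.Helper21.CD3
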