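import Mathlib
import Cfsg.Agent.Lib.Helper38.CD3.Defs
import Cfsg.Agent.Lib.Helper83.Abelian

/-!
# K-CD3-N9 (keystone 446009): three character degrees (as a cardinality) give `ThreeDeg`.
-/

set_option autoImplicit false

namespace Cfsg.Agent.Lib.Helper21.CD3

open Cfsg Cfsg.Agent.Lib.Helper97 Cfsg.Agent.Lib.Helper38.CD3

universe u

variable {G : Type u} [Group G] [Finite G]

/-- 446009 N9 : from the cardinality hypothesis of the Lean row to `ThreeDeg`. -/
theorem exists_threeDeg_of_card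
    (hcd : Nat.card {n : ℕ // ∃ χ : IrrCharacter G, charDegree (χ : G → ℂ) = n} = 3) :
    ∃ m n : ℕ, ThreeDeg G m n := by
  have h3 : ({n : ℕ | ∃ χ : IrrCharacter G, charDegree (χ : G → ℂ) = n} : Set ℕ).ncard = 3 := by
    rw [← Nat.card_coe_set_eq]; exact hcd
  obtain ⟨x, y, z, -, -, -, hxyz⟩ := Set.ncard_eq_three.mp h3
  have hmem : ∀ χ : IrrCharacter G, charDegree (χ : G → ℂ) ∈ ({x, y, z} : Set ℕ) := by
    intro χ
    rw [← hxyz]
    exact ⟨χ, rfl⟩
  have h1 : (1 : ℕ) ∈ ({x, y, z} : Set ℕ) := by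
    rw [← hxyz]
    exact ⟨Cfsg.Agent.Lib.Helper83.trivChar G, Cfsg.Agent.Lib.Helper83.charDegree_trivChar⟩
  simp only [Set.mem_insert_iff, Set.mem_singleton_iff] at h1 hmem
  rcases h1 with h1 | h1 | h1
  · refine ⟨y, z, fun χ => ?_⟩
    rcases hmem χ with h | h | h
    · exact Or.inl (h.trans h1.symm)
    · exact Or.inr (Or.inl h)
    · exact Or.inr (Or.inr h)
  · refine ⟨x, z, fun χ => ?_⟩
    rcases hmem χ with h | h | h
    · exact Or.inr (Or.inl h)
    · exact Or.inl (h.trans h1.symm)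
    · exact Or.inr (Or.inr h)
  · refine ⟨x, y, fun χ => ?_⟩
    rcases hmem χ with h | h | h
    · exact Or.inr (Or.inl h)
    · exact Or.inr (Or.inr h)
    · exact Or.inl (h.trans h1.symm)

end Cfsg.Agent.Lib.Helper21.CD3
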