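import Mathlib
import Cfsg.Prelude.Def_Local
import Cfsg.Agent.S0631
import Cfsg.Agent.S0661
import Cfsg.Agent.Lib.Helper01.PPrimeCore

/-!
# The `p'`-core of the centralizer of a `p`-subgroup of a `p`-constrained group

`O_{p'}(C_G(R)) = O_{p'}(G) ∩ C_G(R)` for a `p`-subgroup `R` of a `p`-constrained group `G`.
-/

set_option autoImplicit false
set_option linter.unusedSectionVars false
set_option linter.style.haveILetI false

namespace Cfsg.Agent.Lib.Helper21

open Cfsg

universe u
variable {G : Type u} [Group G]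

/-- Conjugation by an element of `N_G(R)` as an automorphism of `C_G(R)`. -/
def conjCent (R : Subgroup G) (n : G) (hn : n ∈ Subgroup.normalizer (R : Set G)) :
    ↥(Subgroup.centralizer (R : Set G)) ≃* ↥(Subgroup.centralizer (R : Set G)) where
  toFun c := ⟨n * c * n⁻¹, by
    rw [Subgroup.mem_centralizer_iff]
    intro r hr
    have h1 : n⁻¹ * r * n ∈ R := by
      have := (Subgroup.mem_normalizer_iff'.1 hn (n⁻¹ * r)).2
      apply this
      simpa using hr
    have h2 := Subgroup.mem_centralizer_iff.1 c.2 _ h1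
    calc r * (n * c * n⁻¹) = n * ((n⁻¹ * r * n) * c) * n⁻¹ := by group
      _ = n * (c * (n⁻¹ * r * n)) * n⁻¹ := by rw [h2]
      _ = n * c * n⁻¹ * r := by group⟩
  invFun c := ⟨n⁻¹ * c * n, by
    rw [Subgroup.mem_centralizer_iff]
    intro r hr
    have h1 : n * r * n⁻¹ ∈ R := (Subgroup.mem_normalizer_iff.1 hn r).1 hr
    have h2 := Subgroup.mem_centralizer_iff.1 c.2 _ h1
    calc r * (n⁻¹ * c * n) = n⁻¹ * ((n * r * n⁻¹) * c) * n := by group
      _ = n⁻¹ * (c * (n * r * n⁻¹)) * n := by rw [h2]
      _ = n⁻¹ * c * n * r := by group⟩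
  left_inv c := by
    apply Subtype.ext
    simp only
    group
  right_inv c := by
    apply Subtype.ext
    simp only
    group
  map_mul' a b := by
    apply Subtype.ext
    simp only [Subgroup.coe_mul]
    group

theorem conjCent_apply (R : Subgroup G) (n : G) (hn : n ∈ Subgroup.normalizer (R : Set G))
    (c : ↥(Subgroup.centralizer (R : Set G))) : ((conjCent R n hn c : _) : G) = n * c * n⁻¹ := rfl

/-- `O_{p'}(C_G(R))` is normalized by `N_G(R)`. -/
theorem conj_mem_pPrimeCore_centralizer (p : ℕ) (R : Subgroup G) (n : G)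
    (hn : n ∈ Subgroup.normalizer (R : Set G)) (c : ↥(Subgroup.centralizer (R : Set G)))
    (hc : c ∈ pPrimeCore p ↥(Subgroup.centralizer (R : Set G))) :
    conjCent R n hn c ∈ pPrimeCore p ↥(Subgroup.centralizer (R : Set G)) := by
  have hchar := Cfsg.Agent.Lib.Helper01.pPrimeCore_characteristic
    (G := ↥(Subgroup.centralizer (R : Set G))) p
  have h := hchar.fixed (conjCent R n hn)
  rw [← h] at hc
  exact hc

/-- **`O_{p'}(C_G(R)) = O_{p'}(G) ∩ C_G(R)`** in a `p`-constrained group. -/
theorem pPrimeCore_centralizer_eq [Finite G] {p : ℕ} [Fact p.Prime] (hcon : IsPConstrained p G)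
    (R : Subgroup G) (hR : IsPGroup p R) :
    pPrimeCore p ↥(Subgroup.centralizer (R : Set G)) =
      (pPrimeCore p G).subgroupOf (Subgroup.centralizer (R : Set G)) := by
  classical
  haveI := Cfsg.Agent.Lib.Helper01.pPrimeCore_normal (G := G) p
  apply le_antisymm
  · -- `⊆`
    have hCN : Subgroup.centralizer (R : Set G) ≤ Subgroup.normalizer (R : Set G) :=
      Subgroup.centralizer_le_normalizer _
    set Y' : Subgroup ↥(Subgroup.normalizer (R : Set G)) :=
      (pPrimeCore p ↥(Subgroup.centralizer (R : Set G))).map (Subgroup.inclusion hCN) with hY'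
    have hnorm : Y'.Normal := by
      constructor
      rintro _ ⟨c, hc, rfl⟩ n
      refine ⟨conjCent R n n.2 c, conj_mem_pPrimeCore_centralizer p R n n.2 c hc, ?_⟩
      apply Subtype.ext
      simp [conjCent_apply]
    have hcard : (Nat.card Y').Coprime p := by
      rw [hY', Nat.card_congr
        ((pPrimeCore p ↥(Subgroup.centralizer (R : Set G))).equivMapOfInjective
          (Subgroup.inclusion hCN) (Subgroup.inclusion_injective hCN)).symm.toEquiv]
      exact Cfsg.Agent.Lib.Helper01.pPrimeCore_card_coprime p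
    have hle : Y' ≤ pPrimeCore p ↥(Subgroup.normalizer (R : Set G)) :=
      Cfsg.Agent.Lib.Helper01.le_pPrimeCore hnorm hcard
    have hc := (Cfsg.Agent.S0631.isPConstrained_iff p).mp hcon
    have hS := Cfsg.Agent.S0661.result hc R hR
    intro c hcmem
    rw [Subgroup.mem_subgroupOf]
    have h1 : Subgroup.inclusion hCN c ∈ Y' := ⟨c, hcmem, rfl⟩
    have h2 : ((Subgroup.inclusion hCN c : ↥(Subgroup.normalizer (R : Set G))) : G) ∈
        (pPrimeCore p ↥(Subgroup.normalizer (R : Set G))).map
          (Subgroup.normalizer (R : Set G)).subtype := ⟨_, hle h1, rfl⟩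
    rw [hS] at h2
    exact h2.1
  · -- `⊇`
    apply Cfsg.Agent.Lib.Helper01.le_pPrimeCore inferInstance
    have h1 : Nat.card ↥((pPrimeCore p G).subgroupOf (Subgroup.centralizer (R : Set G))) ∣
        Nat.card (pPrimeCore p G) := by
      have : Nat.card ↥((pPrimeCore p G).subgroupOf (Subgroup.centralizer (R : Set G))) =
          Nat.card ↥(pPrimeCore p G ⊓ Subgroup.centralizer (R : Set G)) := by
        rw [← Subgroup.inf_subgroupOf_right]
        exact Nat.card_congr (Subgroup.subgroupOfEquivOfLe inf_le_right).toEquiv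
      rw [this]
      exact Subgroup.card_dvd_of_le inf_le_left
    exact Nat.Coprime.coprime_dvd_left h1 (Cfsg.Agent.Lib.Helper01.pPrimeCore_card_coprime p)

end Cfsg.Agent.Lib.Helper21
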