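import Mathlib
import Cfsg.Prelude.Def_Blocks
import Cfsg.Agent.Lib.Helper21.BrauerCorr

/-!
# Induced blocks from the centralizer of a `p`-subgroup

For a `p`-subgroup `P` and `H = C_G(P)` (more generally `C_G(P) ≤ H ≤ C_G(P)`), every block of `H`
induces a block of `G`, and a block `B` of `G` is induced from `H` as soon as a conjugate of `P`
lies in a defect group of `B`.  (No hypothesis `P ≤ H`.)
-/

set_option autoImplicit false
set_option linter.unusedSectionVars false
set_option linter.style.haveILetI false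

namespace Cfsg.Agent.Lib.Helper21

open Cfsg
open scoped ComplexConjugate
open Cfsg.Agent.Lib.Helper82 Cfsg.Agent.Lib.Helper83

universe u
variable {G : Type u} [Group G] [Fintype G] [Fintype (IrrCharacter G)]
variable {M : Ideal AlgInt}

omit [Fintype G] [Fintype (IrrCharacter G)] in
/-- Inside the centralizer of `P`, the Brauer central character is the induced central
character. -/
theorem brauerCentralChar_eq_induced_of_le_centralizer (P H : Subgroup G)
    (hHC : H ≤ Subgroup.centralizer (P : Set G)) (ξ : H → ℂ) (g : G) :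
    brauerCentralChar P H ξ g = inducedCentralChar H ξ g := by
  unfold brauerCentralChar inducedCentralChar
  have : {h : H | IsConj g (h : G) ∧ (h : G) ∈ Subgroup.centralizer (P : Set G)} =
      {h : H | IsConj g (h : G)} := by
    ext h
    simp only [Set.mem_ofPred_eq, and_iff_left_iff_imp]
    intro _
    exact hHC h.2
  rw [this]

/-- Brauer correspondence for the centralizer of a `p`-subgroup. -/
theorem exists_brauer_correspondent_cent {p : ℕ} [Fact p.Prime] (hMod : IsPModular p M)
    (P H : Subgroup G) [Fintype H] [Fintype (IrrCharacter H)] (hP : IsPGroup p P)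
    (hCH : Subgroup.centralizer (P : Set G) ≤ H) (hHC : H ≤ Subgroup.centralizer (P : Set G))
    (ξ₀ : IrrCharacter H) :
    ∃ χ₁ : IrrCharacter G,
      (∀ f, IsRClass M f →
        MemLocalIdeal M (omega (resC P H f) (ξ₀ : H → ℂ) - omega f (χ₁ : G → ℂ))) ∧
      IsInducedBlock M H (blockOf M (ξ₀ : H → ℂ)) (blockOf M (χ₁ : G → ℂ)) := by
  classical
  have hprime : M.IsPrime := hMod.2.1.isPrime
  have hHN : H ≤ Subgroup.normalizer (P : Set G) :=
    le_trans hHC (Subgroup.centralizer_le_normalizer _)
  obtain ⟨χ₁, hχ₁⟩ := exists_irr_of_isModHom hprime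
    (Cfsg.Agent.S0919.isModHom_brauer hMod P H hP hCH hHN ξ₀)
  refine ⟨χ₁, hχ₁, ⟨ξ₀, rfl⟩, ⟨χ₁, rfl⟩, fun ξ hξ χ hχ g => ?_⟩
  have hind : IsRClass M (fun x : G => if IsConj g x then (1 : ℂ) else 0) := by
    refine ⟨isClassFunction_indicator g, fun x => ?_⟩
    by_cases hx : IsConj g x
    · simp only [hx, if_true]; exact memLocalRing_one hprime
    · simp only [hx, if_false]; exact memLocalRing_zero hprime
  have h3 := hχ₁ _ hind
  rw [← brauerCentralChar_eq_omega, omega_indicator (isClassFunction_irr χ₁)] at h3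
  rw [brauerCentralChar_eq_induced_of_le_centralizer P H hHC] at h3
  have h4 : MemLocalIdeal M (centralChar (χ₁ : G → ℂ) g - centralChar (χ : G → ℂ) g) := by
    rw [mem_blockOf_iff] at hχ
    exact hχ g
  have h1 : MemLocalIdeal M (inducedCentralChar H (ξ : H → ℂ) g -
      inducedCentralChar H (ξ₀ : H → ℂ) g) := by
    rw [inducedCentralChar_eq_omega, inducedCentralChar_eq_omega]
    rw [mem_blockOf_iff] at hξ
    have hR : ∀ h : H, MemLocalRing M (classInd H g h) := by
      intro h
      rw [classInd_apply]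
      split_ifs
      · exact memLocalRing_one hprime
      · exact memLocalRing_zero hprime
    have := omega_sub_memLocalIdeal hprime (classInd_isClassFunction H g) hR hξ
    have := memLocalIdeal_neg this
    rwa [neg_sub] at this
  have := memLocalIdeal_add hprime (memLocalIdeal_add hprime h1 h3) h4
  convert this using 1
  ring

/-- Every block of `C_G(P)` induces a block of `G`. -/
theorem inducedBlockDefined_cent {p : ℕ} [Fact p.Prime] (hMod : IsPModular p M)
    (P H : Subgroup G) (hP : IsPGroup p P)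
    (hCH : Subgroup.centralizer (P : Set G) ≤ H) (hHC : H ≤ Subgroup.centralizer (P : Set G))
    (b : Set (IrrCharacter H)) (hb : IsPBlock M b) : InducedBlockDefined M H b := by
  classical
  haveI : Fintype H := Fintype.ofFinite _
  haveI : Fintype (IrrCharacter H) := Fintype.ofFinite _
  obtain ⟨ξ₀, rfl⟩ := hb
  obtain ⟨χ₁, _, h⟩ := exists_brauer_correspondent_cent hMod P H hP hCH hHC ξ₀
  exact ⟨_, h⟩

/-- If no block of `H = C_G(P)` induces `B`, the Brauer image of the idempotent of `B` vanishes
modulo the local ideal. -/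
theorem resC_blockCoeff_memLocalIdeal_cent {p : ℕ} [Fact p.Prime] (hMod : IsPModular p M)
    (P H : Subgroup G) [Fintype H] [Fintype (IrrCharacter H)] (hP : IsPGroup p P)
    (hCH : Subgroup.centralizer (P : Set G) ≤ H) (hHC : H ≤ Subgroup.centralizer (P : Set G))
    (χ₀ : IrrCharacter G)
    (hno : ∀ b : Set (IrrCharacter H), ¬ IsInducedBlock M H b (blockOf M (χ₀ : G → ℂ)))
    (z : H) : MemLocalIdeal M (resC P H (blockCoeff (blockOf M (χ₀ : G → ℂ))) z) := by
  classical
  have hprime : M.IsPrime := hMod.2.1.isPrime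
  have hHN : H ≤ Subgroup.normalizer (P : Set G) :=
    le_trans hHC (Subgroup.centralizer_le_normalizer _)
  set e := blockCoeff (blockOf M (χ₀ : G → ℂ)) with he
  have heR : IsRClass M e := blockCoeff_isRClass hprime χ₀
  have hyR : IsRClass M (resC P H e) :=
    ⟨resC_isClassFunction P H hHN heR.1, resC_memLocalRing P H hprime heR.2⟩
  have hω : ∀ ξ : IrrCharacter H, MemLocalIdeal M (omega (resC P H e) (ξ : H → ℂ)) := by
    intro ξ
    obtain ⟨χ₁, h1, h2⟩ := exists_brauer_correspondent_cent hMod P H hP hCH hHC ξ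
    have h3 := h1 e heR
    rw [he, omega_blockCoeff] at h3
    have hχ₁ : χ₁ ∉ blockOf M (χ₀ : G → ℂ) := by
      intro hmem
      rw [mem_blockOf_iff] at hmem
      apply hno (blockOf M (ξ : H → ℂ))
      rw [blockOf_eq_of_sameBlock hprime hmem]
      exact h2
    rw [if_neg hχ₁, sub_zero] at h3
    exact h3
  have hnil := isNilpotent_cls hprime hyR hω
  have hidem : IsIdempotentElem (cls hprime (resC P H e) hyR) := by
    rw [IsIdempotentElem, ← cls_conv, cls_eq_iff]
    intro g
    have := resC_conv_sub P H hMod hP hCH heR.1 heR.1 heR.2 heR.2 g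
    rw [he, conv_blockCoeff_self hprime χ₀] at this
    have := memLocalIdeal_neg this
    rwa [neg_sub] at this
  have h0 := hidem.eq_zero_of_isNilpotent hnil
  rw [cls_eq_zero_iff] at h0
  exact h0 z

/-- If a conjugate of `P` lies in a defect group of `B`, some block of `H = C_G(P)` induces
`B`. -/
theorem exists_isInducedBlock_cent (p : ℕ) [Fact p.Prime]
    (hM : Cfsg.IsPModular p M) (P H : Subgroup G) (hP : IsPGroup p P)
    (hCH : Subgroup.centralizer (P : Set G) ≤ H) (hHC : H ≤ Subgroup.centralizer (P : Set G))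
    (B : Set (Cfsg.IrrCharacter G))
    (hB : Cfsg.IsPBlock M B) (D : Subgroup G) (hD : Cfsg.IsDefectGroup p M B D) (x : G)
    (hx : P.map (MulAut.conj x).toMonoidHom ≤ D) :
    ∃ b : Set (Cfsg.IrrCharacter H), Cfsg.IsInducedBlock M H b B := by
  classical
  haveI : Fintype H := Fintype.ofFinite _
  haveI : Fintype (IrrCharacter H) := Fintype.ofFinite _
  have hprime : M.IsPrime := hM.2.1.isPrime
  obtain ⟨χ₀, rfl⟩ := hB
  obtain ⟨g₀, hg₀, Q, rfl⟩ := hD
  by_contra hcon
  push Not at hcon
  -- `x⁻¹ g₀ x` centralizes `P`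
  have hc : x⁻¹ * g₀ * x ∈ Subgroup.centralizer (P : Set G) := by
    rw [Subgroup.mem_centralizer_iff]
    intro q hq
    have h1 : (MulAut.conj x).toMonoidHom q ∈
        (Q : Subgroup (Subgroup.centralizer ({g₀} : Set G))).map
          (Subgroup.centralizer ({g₀} : Set G)).subtype := hx ⟨q, hq, rfl⟩
    obtain ⟨d, _, hd⟩ := h1
    have h2 := Subgroup.mem_centralizer_iff.1 d.2 g₀ (Set.mem_singleton g₀)
    simp only [MulEquiv.toMonoidHom_eq_coe, MonoidHom.coe_coe, MulAut.conj_apply,
      Subgroup.coe_subtype] at hd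
    rw [hd] at h2
    calc q * (x⁻¹ * g₀ * x) = x⁻¹ * ((x * q * x⁻¹) * g₀) * x := by group
      _ = x⁻¹ * (g₀ * (x * q * x⁻¹)) * x := by rw [h2]
      _ = x⁻¹ * g₀ * x * q := by group
  have h0 := resC_blockCoeff_memLocalIdeal_cent hM P H hP hCH hHC χ₀ hcon
    ⟨x⁻¹ * g₀ * x, hCH hc⟩
  rw [resC_apply, if_pos hc] at h0
  have hconj : IsConj g₀ (x⁻¹ * g₀ * x) := isConj_iff.2 ⟨x⁻¹, by simp⟩
  rw [blockCoeff_of_isConj _ hconj] at h0
  exact hg₀.2.1 h0

end Cfsg.Agent.Lib.Helper21
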