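import Mathlib
import Cfsg.Agent.Lib.Helper21.CoverGen
import Cfsg.Prelude.Def_BlockLocal

/-!
# A covered block stable under a given defect group

`N ⊴ G`, `B` a block of `G` with defect group `P`: some block `c` of `N` covered by `B` is
`P`-stable and has defect group `P ∩ N`.
-/

set_option autoImplicit false
set_option linter.unusedSectionVars false
set_option linter.style.haveILetI false

namespace Cfsg.Agent.Lib.Helper21

open Cfsg
open Cfsg.Agent.Lib.Helper82 Cfsg.Agent.Lib.Helper83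
open Cfsg.Agent.Lib.Helper81 (irrComp irrComp_apply irrComp_symm_irrComp irrComp_irrComp_symm
  mem_blockOf_irrComp_iff)
open Cfsg.Agent.Lib.Helper22 (irrConj irrConj_irrConj irrConj_one)

universe u
variable {G : Type u} [Group G] [Fintype G]
variable {p : ℕ} [Fact p.Prime] {M : Ideal AlgInt}
variable {N : Subgroup G} [hN : N.Normal] [Fintype N]
variable {B : Set (IrrCharacter G)}

theorem irrComp_conjNormal_apply (g : G) (θ : IrrCharacter N) (n : N) :
    (irrComp (MulAut.conjNormal g : N ≃* N) θ : N → ℂ) n =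
      (θ : N → ℂ) ⟨g * n * g⁻¹, hN.conj_mem n n.2 g⟩ := by
  rw [irrComp_apply]
  refine congrArg _ (Subtype.ext ?_)
  simp

theorem exists_stable_covered_block (hM : IsPModular p M) (hB : IsPBlock M B) {P : Subgroup G}
    (hP : IsDefectGroup p M B P) :
    ∃ c : Set (IrrCharacter N), IsPBlock M c ∧ (∀ x ∈ P, StabilizesBlock N c x) ∧
      (∃ χ ∈ B, ∃ θ ∈ c, classInner (fun n : N => (χ : G → ℂ) n) (θ : N → ℂ) ≠ 0) ∧
      IsDefectGroup p M c ((P ⊓ N).subgroupOf N) := by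
  classical
  have hMp : M.IsPrime := hM.2.1.isPrime
  obtain ⟨χ, hχ⟩ := IsPBlock.nonempty hMp hB
  obtain ⟨θ, hθ⟩ := Cfsg.Agent.Lib.Helper82.exists_constituent N χ
  have hb : IsPBlock M (blockOf M (θ : N → ℂ)) := ⟨θ, rfl⟩
  have hcov : ∃ χ ∈ B, ∃ θ' ∈ blockOf M (θ : N → ℂ),
      classInner (fun n : N => (χ : G → ℂ) n) (θ' : N → ℂ) ≠ 0 :=
    ⟨χ, hχ, θ, mem_blockOf_self hMp θ, hθ⟩
  obtain ⟨P₀, hP₀, hD₀, hstab₀⟩ := knorr_stab hM hb hB hcov
  obtain ⟨g, hg⟩ := Cfsg.Agent.Lib.Helper22.IsDefectGroup.exists_conj hM hB hP₀ hP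
  set φ : N ≃* N := MulAut.conjNormal g⁻¹ with hφ
  have hφa : ∀ (ψ : IrrCharacter N) (n : N), (irrComp φ ψ : N → ℂ) n =
      (ψ : N → ℂ) ⟨g⁻¹ * n * g, by simpa using hN.conj_mem n n.2 g⁻¹⟩ := by
    intro ψ n
    rw [hφ, irrComp_conjNormal_apply]
    refine congrArg _ (Subtype.ext ?_)
    simp
  refine ⟨blockOf M (irrComp φ θ : N → ℂ), ⟨_, rfl⟩, ?_, ?_, ?_⟩
  · intro x hx
    rw [hg] at hx
    obtain ⟨y, hy, rfl⟩ := hx
    refine ⟨by rw [Subgroup.normalizer_eq_top]; exact Subgroup.mem_top _, ?_⟩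
    intro χ₁ hχ₁
    rw [mem_blockOf_irrComp_iff] at hχ₁
    set θ₁ := irrComp φ.symm χ₁ with hθ₁
    have hyinv : y⁻¹ ∈ blockStab hN (blockOf M (θ : N → ℂ)) :=
      Subgroup.inv_mem _ (hstab₀ hy)
    have hθ₂ : irrConj hN y⁻¹ θ₁ ∈ blockOf M (θ : N → ℂ) := (hyinv θ₁).1 hχ₁
    refine ⟨irrComp φ (irrConj hN y⁻¹ θ₁), ?_, ?_⟩
    · rw [mem_blockOf_irrComp_iff, irrComp_symm_irrComp]
      exact hθ₂
    · intro k k' hk
      have e1 : χ₁ = irrComp φ θ₁ := (irrComp_irrComp_symm φ χ₁).symm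
      rw [hφa, Cfsg.Agent.Lib.Helper22.irrConj_apply]
      conv_rhs => rw [e1, hφa]
      refine congrArg _ (Subtype.ext ?_)
      simp only [hk, MulEquiv.coe_toMonoidHom, MulAut.conj_apply]
      group
  · refine ⟨χ, hχ, irrComp φ θ, mem_blockOf_self hMp _, ?_⟩
    have : (irrComp φ θ : N → ℂ) = Cfsg.Agent.Lib.Helper85.conjFun hN (θ : N → ℂ) g⁻¹ := by
      funext n
      rw [hφ, irrComp_conjNormal_apply]
      rfl
    rw [this, Cfsg.Agent.Lib.Helper85.classInner_restrict_conjFun hN (isClassFunction_irr χ)]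
    exact hθ
  · have h := isDefectGroup_irrComp (p := p) (M := M) φ θ hD₀
    have heq : ((P₀ ⊓ N).subgroupOf N).comap φ.toMonoidHom = (P ⊓ N).subgroupOf N := by
      ext n
      rw [Subgroup.mem_comap, Subgroup.mem_subgroupOf, Subgroup.mem_subgroupOf, Subgroup.mem_inf,
        Subgroup.mem_inf, hg]
      constructor
      · rintro ⟨h1, _⟩
        refine ⟨⟨_, h1, ?_⟩, n.2⟩
        simp [hφ]
        group
      · rintro ⟨⟨y, hy, hyn⟩, _⟩
        have hn' : (n : G) = g * y * g⁻¹ := by simpa using hyn.symm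
        have : ((φ.toMonoidHom n : N) : G) = y := by
          simp [hφ, hn']
          group
        rw [this]
        exact ⟨hy, by rw [← this]; exact (φ.toMonoidHom n).2⟩
    rw [heq] at h
    exact h

end Cfsg.Agent.Lib.Helper21
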