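import Mathlib
import Cfsg.Agent.Lib.Helper21.CoverGen
import Cfsg.Agent.S0965

/-!
# Uniqueness of the covering block when `C_G(D) ≤ N`

`N ⊴ G`, `b` a block of `N` with defect group `D` such that `C_G(D) ≤ N`: at most one block of `G`
covers `b`.  (By Knörr's theorem a covering block `B` has a defect group `P` with `P ∩ N` a defect
group of `b`; the min–max theorem then shows that the central character of `B` vanishes on the
classes outside `N`, and on the classes inside `N` it is determined by `b`.)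
-/

set_option autoImplicit false
set_option linter.unusedSectionVars false
set_option linter.style.haveILetI false

namespace Cfsg.Agent.Lib.Helper21

open Cfsg
open Cfsg.Agent.Lib.Helper82 Cfsg.Agent.Lib.Helper83

universe u
variable {G : Type u} [Group G] [Fintype G]
variable {p : ℕ} [Fact p.Prime] {M : Ideal AlgInt}
variable {N : Subgroup G} [hN : N.Normal] [Fintype N]
variable {b : Set (IrrCharacter N)} {B : Set (IrrCharacter G)}

/-- If `C_G(D) ≤ N` for a defect group `D` of `b`, the central characters of a block covering `b`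
vanish modulo the local ideal outside `N`. -/
theorem centralChar_memLocalIdeal_of_cover (hM : IsPModular p M) (hb : IsPBlock M b)
    {D : Subgroup N} (hD : IsDefectGroup p M b D)
    (hC : Subgroup.centralizer ((D.map N.subtype : Subgroup G) : Set G) ≤ N)
    (hB : IsPBlock M B)
    (hcov : ∃ χ ∈ B, ∃ θ ∈ b, classInner (fun n : N => (χ : G → ℂ) n) (θ : N → ℂ) ≠ 0)
    {χ : IrrCharacter G} (hχ : χ ∈ B) {x : G} (hx : x ∉ N) :
    MemLocalIdeal M (centralChar (χ : G → ℂ) x) := by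
  classical
  by_contra hcon
  obtain ⟨P, hP, hPN⟩ := knorr hM hb hB hcov
  obtain ⟨t, ht⟩ := Cfsg.Agent.Lib.Helper22.IsDefectGroup.exists_conj hM hb hD hPN
  obtain ⟨g', hg', E, hPE⟩ := hP
  obtain ⟨y, Qx, hQx⟩ := (Cfsg.Agent.S0911.result p M hM B hB g' hg' E x).2 ⟨χ, hχ, hcon⟩
  rw [← hPE] at hQx
  -- `x` centralizes `(D)^{y t}`
  apply hx
  have hcent : ((y * (t : G))⁻¹ * x * (y * (t : G))) ∈
      Subgroup.centralizer ((D.map N.subtype : Subgroup G) : Set G) := by
    rw [Subgroup.mem_centralizer_iff]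
    rintro _ ⟨d, hd, rfl⟩
    -- `t d t⁻¹ ∈ P ⊓ N`
    have h1 : (MulAut.conj t).toMonoidHom d ∈ (P ⊓ N).subgroupOf N := by
      rw [ht]
      exact Subgroup.mem_map_of_mem _ hd
    rw [Subgroup.mem_subgroupOf] at h1
    have h2 : (t : G) * (d : G) * (t : G)⁻¹ ∈ P := by
      have := h1.1
      simpa using this
    have h3 : y * ((t : G) * (d : G) * (t : G)⁻¹) * y⁻¹ ∈
        (Qx : Subgroup (Subgroup.centralizer ({x} : Set G))).map
          (Subgroup.centralizer ({x} : Set G)).subtype := hQx ⟨_, h2, rfl⟩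
    obtain ⟨c, _, hc⟩ := h3
    have h4 := Subgroup.mem_centralizer_singleton_iff.1 c.2
    have h5 : y * ((t : G) * (d : G) * (t : G)⁻¹) * y⁻¹ * x
        = x * (y * ((t : G) * (d : G) * (t : G)⁻¹) * y⁻¹) := by
      rw [← hc]
      exact h4
    simp only [Subgroup.coe_subtype]
    calc (d : G) * ((y * (t : G))⁻¹ * x * (y * (t : G)))
        = (y * (t : G))⁻¹ * ((y * ((t : G) * (d : G) * (t : G)⁻¹) * y⁻¹) * x) * (y * (t : G)) := by
          group
      _ = (y * (t : G))⁻¹ * (x * (y * ((t : G) * (d : G) * (t : G)⁻¹) * y⁻¹)) * (y * (t : G)) := by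
          rw [h5]
      _ = (y * (t : G))⁻¹ * x * (y * (t : G)) * (d : G) := by group
  have h6 := hN.conj_mem _ (hC hcent) (y * (t : G))
  simpa [mul_assoc] using h6

/-- **At most one block covers `b` when `C_G(D) ≤ N`.** -/
theorem cover_unique_of_centralizer_le (hM : IsPModular p M) (hb : IsPBlock M b)
    {D : Subgroup N} (hD : IsDefectGroup p M b D)
    (hC : Subgroup.centralizer ((D.map N.subtype : Subgroup G) : Set G) ≤ N)
    {B₁ B₂ : Set (IrrCharacter G)} (hB₁ : IsPBlock M B₁) (hB₂ : IsPBlock M B₂)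
    (hcov₁ : ∃ χ ∈ B₁, ∃ θ ∈ b, classInner (fun n : N => (χ : G → ℂ) n) (θ : N → ℂ) ≠ 0)
    (hcov₂ : ∃ χ ∈ B₂, ∃ θ ∈ b, classInner (fun n : N => (χ : G → ℂ) n) (θ : N → ℂ) ≠ 0) :
    B₁ = B₂ := by
  classical
  have hMp : M.IsPrime := hM.2.1.isPrime
  obtain ⟨χ₁, hχ₁⟩ := IsPBlock.nonempty hMp hB₁
  obtain ⟨χ₂, hχ₂⟩ := IsPBlock.nonempty hMp hB₂
  obtain ⟨θ, hθ⟩ := IsPBlock.nonempty hMp hb
  have h1 := (Cfsg.Agent.S0965.result p M hM N B₁ hB₁ b hb).1 hcov₁
  have h2 := (Cfsg.Agent.S0965.result p M hM N B₂ hB₂ b hb).1 hcov₂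
  have hsame : SameBlock M (χ₁ : G → ℂ) (χ₂ : G → ℂ) := by
    intro g
    by_cases hg : g ∈ N
    · have e1 := h1 χ₁ hχ₁ θ hθ ⟨g, hg⟩
      have e2 := h2 χ₂ hχ₂ θ hθ ⟨g, hg⟩
      have := memLocalIdeal_sub hMp e1 e2
      simpa using this
    · exact memLocalIdeal_sub hMp
        (centralChar_memLocalIdeal_of_cover hM hb hD hC hB₁ hcov₁ hχ₁ hg)
        (centralChar_memLocalIdeal_of_cover hM hb hD hC hB₂ hcov₂ hχ₂ hg)
  rw [IsPBlock.eq_blockOf hMp hB₁ hχ₁, IsPBlock.eq_blockOf hMp hB₂ hχ₂]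
  exact blockOf_eq_of_sameBlock hMp hsame

end Cfsg.Agent.Lib.Helper21
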