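import Mathlib
import Cfsg.Agent.Lib.Helper21.CoverUnique
import Cfsg.Agent.Lib.Helper82.DefectZero
import Cfsg.Agent.Lib.Helper81.DefectBasic
import Cfsg.Agent.Lib.Helper22.BlockRegular
import Cfsg.Agent.S0966
import Cfsg.Agent.Lib.Helper81.PSolvable
import Cfsg.Agent.Lib.Helper15.Cores
import Cfsg.Agent.Lib.Helper01.PPrimeCore
import Cfsg.Agent.Lib.Helper01.PCore

/-!
# Fong's theorem on characters over an invariant character of a normal `p'`-subgroup

`N ⊴ G` a `p'`-group, `N ≤ K ⊴ G` with `K/N` a `p`-group such that `C_G(D) ≤ K` for every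
`p`-subgroup `D` of `K` with `DN = K`; `θ ∈ Irr(N)` `G`-invariant.  Then `Irr(G | θ)` is a single
block of `G` whose defect groups are the Sylow `p`-subgroups.
-/

set_option autoImplicit false
set_option linter.unusedSectionVars false
set_option linter.style.haveILetI false

namespace Cfsg.Agent.Lib.Helper21

open Cfsg
open Cfsg.Agent.Lib.Helper82 Cfsg.Agent.Lib.Helper83 Cfsg.Agent.Lib.Helper84
open Cfsg.Agent.Lib.Helper81 (irrComp irrComp_apply irrComp_symm_irrComp irrComp_irrComp_symm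
  mem_blockOf_irrComp_iff)

universe u
variable {G : Type u} [Group G] [Fintype G]
variable {p : ℕ} [Fact p.Prime] {M : Ideal AlgInt}

section Trans

variable {N K : Subgroup G} [hN : N.Normal] [Fintype N] [Fintype K] (hNK : N ≤ K)
  [Fintype (N.subgroupOf K)]

/-- transitivity of "lying over": a constituent of `χ_N` lies under a constituent of `χ_K`. -/
theorem exists_mid_constituent (χ : IrrCharacter G) (θ : IrrCharacter N)
    (h : classInner (fun n : N => (χ : G → ℂ) n) (θ : N → ℂ) ≠ 0) :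
    ∃ ψ : IrrCharacter K, classInner (fun k : K => (χ : G → ℂ) k) (ψ : K → ℂ) ≠ 0 ∧
      classInner (fun n' : N.subgroupOf K => (ψ : K → ℂ) (n' : K))
        (irrComp (Subgroup.subgroupOfEquivOfLe hNK) θ : N.subgroupOf K → ℂ) ≠ 0 := by
  classical
  haveI : Fintype (IrrCharacter K) := Fintype.ofFinite _
  have hχK : IsCharacter K (fun k : K => (χ : G → ℂ) k) :=
    isCharacter_restrict K (isCharacter_of_irr χ.2)
  have hdec := char_eq_sum_irrMult hχK
  set θ' := irrComp (Subgroup.subgroupOfEquivOfLe hNK) θ with hθ'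
  have h1 : classInner (fun n' : N.subgroupOf K => (χ : G → ℂ) ((n' : K) : G))
      (θ' : N.subgroupOf K → ℂ) = classInner (fun n : N => (χ : G → ℂ) n) (θ : N → ℂ) :=
    classInner_transport hNK (fun k : K => (χ : G → ℂ) k) θ
  have h2 : (fun n' : N.subgroupOf K => (χ : G → ℂ) ((n' : K) : G)) =
      ∑ ψ : IrrCharacter K, (irrMult (fun k : K => (χ : G → ℂ) k) ψ : ℂ) •
        (fun n' : N.subgroupOf K => (ψ : K → ℂ) (n' : K)) := by
    funext n'
    have := congrFun hdec (n' : K)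
    rw [this]
    simp [Finset.sum_apply]
  rw [← h1, h2, classInner_sum_left] at h
  obtain ⟨ψ, _, hψ⟩ := Finset.exists_ne_zero_of_sum_ne_zero h
  rw [classInner_smul_left] at hψ
  refine ⟨ψ, ?_, right_ne_zero_of_mul hψ⟩
  rw [← irrMult_cast hχK ψ]
  exact left_ne_zero_of_mul hψ

end Trans

section Core

variable {N K : Subgroup G} [hN : N.Normal] [hK : K.Normal] [Fintype N]

theorem blockOf_eq_singleton_of_coprime {H : Type u} [Group H] [Fintype H] (hM : IsPModular p M)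
    (hpH : ¬ p ∣ Nat.card H) (θ : IrrCharacter H) : blockOf M (θ : H → ℂ) = {θ} := by
  apply blockOf_eq_singleton_of_not_dvd hM θ
  intro h
  exact hpH (dvd_trans h (Nat.div_dvd_of_dvd (irr_charDegree_dvd_card θ)))

theorem blockDefect_eq_zero_of_coprime {H : Type u} [Group H] [Fintype H]
    (hpH : ¬ p ∣ Nat.card H) (b : Set (IrrCharacter H)) : blockDefect p b = 0 := by
  unfold blockDefect
  rw [Nat.factorization_eq_zero_of_not_dvd hpH, Nat.zero_sub]

/-- **Fong's theorem** (general form). -/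
theorem fong_over_invariant (hM : IsPModular p M) (hpN : ¬ p ∣ Nat.card N) (hNK : N ≤ K)
    (hidx : ∃ k : ℕ, N.relIndex K = p ^ k)
    (hCK : ∀ D : Subgroup G, IsPGroup p D → D ≤ K → D ⊔ N = K →
      Subgroup.centralizer (D : Set G) ≤ K)
    (θ : IrrCharacter N)
    (hinv : ∀ (g : G) (n : N),
      (θ : N → ℂ) ⟨g * n * g⁻¹, hN.conj_mem n n.2 g⟩ = (θ : N → ℂ) n) :
    ∃ B : Set (IrrCharacter G), IsPBlock M B ∧
      (∀ χ : IrrCharacter G, χ ∈ B ↔
        classInner (fun n : N => (χ : G → ℂ) n) (θ : N → ℂ) ≠ 0) ∧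
      (∀ P : Sylow p G, IsDefectGroup p M B (P : Subgroup G)) ∧
      ∀ D : Subgroup G, IsDefectGroup p M B D → ∃ P : Sylow p G, D = (P : Subgroup G) := by
  classical
  have hp : p.Prime := hM.1
  have hMp : M.IsPrime := hM.2.1.isPrime
  haveI : Fintype K := Fintype.ofFinite _
  haveI : Fintype (N.subgroupOf K) := Fintype.ofFinite _
  -- `{θ}` is an invariant block of `N`
  have hbθ : blockOf M (θ : N → ℂ) = {θ} := blockOf_eq_singleton_of_coprime hM hpN θ
  have hb : IsPBlock M (blockOf M (θ : N → ℂ)) := ⟨θ, rfl⟩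
  have hinvb : IsInvariantSet N (blockOf M (θ : N → ℂ)) := by
    intro g θ₁ hθ₁ θ₂ hθ₂
    rw [hbθ] at hθ₁ ⊢
    rw [Set.mem_singleton_iff] at hθ₁ ⊢
    subst hθ₁
    apply Subtype.ext
    funext n
    rw [hθ₂ n]
    exact hinv g n
  -- the world of `K`
  set e := Subgroup.subgroupOfEquivOfLe hNK with he
  set θ' := irrComp e θ with hθ'
  have hpN' : ¬ p ∣ Nat.card (N.subgroupOf K) := by
    rw [Nat.card_congr e.toEquiv]
    exact hpN
  have hbθ' : blockOf M (θ' : N.subgroupOf K → ℂ) = {θ'} :=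
    blockOf_eq_singleton_of_coprime hM hpN' θ'
  have hb' : IsPBlock M (blockOf M (θ' : N.subgroupOf K → ℂ)) := ⟨θ', rfl⟩
  have hinv' : IsInvariantSet (N.subgroupOf K) (blockOf M (θ' : N.subgroupOf K → ℂ)) := by
    intro k θ₁ hθ₁ θ₂ hθ₂
    rw [hbθ'] at hθ₁ ⊢
    rw [Set.mem_singleton_iff] at hθ₁ ⊢
    subst hθ₁
    apply Subtype.ext
    funext n
    rw [hθ₂ n, hθ', irrComp_apply, irrComp_apply]
    have := hinv (k : G) (e n)
    rw [← this]
    refine congrArg _ (Subtype.ext ?_)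
    simp [he]
  have hidx' : ∃ k : ℕ, (N.subgroupOf K).index = p ^ k := hidx
  obtain ⟨bK, ⟨hbK, hbKcov⟩, hbKuniq⟩ :=
    Cfsg.Agent.S0966.result p M hM (N.subgroupOf K) hidx' _ hb'
  obtain ⟨ψ₀, hψ₀, θ₁, hθ₁, c₀⟩ := hbKcov
  have hbKeq : bK = blockOf M (ψ₀ : K → ℂ) := IsPBlock.eq_blockOf hMp hbK hψ₀
  have hover₀ : ψ₀ ∈ overSet (N.subgroupOf K) (blockOf M (θ' : N.subgroupOf K → ℂ)) :=
    ⟨θ₁, hθ₁, c₀⟩
  have hall : ∀ ψ ∈ overSet (N.subgroupOf K) (blockOf M (θ' : N.subgroupOf K → ℂ)),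
      blockOf M (ψ : K → ℂ) = bK := fun ψ hψ =>
    hbKuniq (blockOf M (ψ : K → ℂ)) ⟨isPBlock_blockOf ψ, ψ, mem_blockOf_self hMp ψ, hψ⟩
  -- the defect group of `bK`
  obtain ⟨D, hD⟩ := Cfsg.Agent.Lib.Helper81.exists_isDefectGroup' hM hbK
  have hfong := fong (N.subgroupOf K) hM hb' hinv' hover₀
    (fun ψ hψ => by rw [hall ψ hψ, ← hbKeq]) (by rw [← hbKeq]; exact hD)
  have htop : D ⊔ N.subgroupOf K = ⊤ := by
    have h1 : (D ⊔ N.subgroupOf K).index ∣ (N.subgroupOf K).index :=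
      Subgroup.index_dvd_of_le le_sup_right
    obtain ⟨k, hk⟩ := hidx'
    rw [hk] at h1
    obtain ⟨j, _, hj'⟩ := (Nat.dvd_prime_pow hp).1 h1
    have hj0 : j = 0 := by
      by_contra hj0
      apply hfong.1
      rw [hj']
      exact dvd_pow_self p hj0
    rw [hj0, pow_zero] at hj'
    exact Subgroup.index_eq_one.1 hj'
  have hDGp : IsPGroup p (D.map K.subtype) :=
    (IsPGroup.of_card (Cfsg.Agent.Lib.Helper22.IsDefectGroup.card_eq hM hbK hD)).map _
  have hDGK : D.map K.subtype ≤ K := Subgroup.map_subtype_le D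
  have hDGN : D.map K.subtype ⊔ N = K := by
    have := congrArg (Subgroup.map K.subtype) htop
    rw [Subgroup.map_sup, ← MonoidHom.range_eq_map, Subgroup.range_subtype,
      Subgroup.subgroupOf_map_subtype, inf_of_le_left hNK] at this
    exact this
  have hC := hCK _ hDGp hDGK hDGN
  -- blocks of `G` over `θ` cover `bK`
  have hcovK : ∀ χ : IrrCharacter G,
      classInner (fun n : N => (χ : G → ℂ) n) (θ : N → ℂ) ≠ 0 →
      ∃ χ' ∈ blockOf M (χ : G → ℂ), ∃ ψ ∈ bK,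
        classInner (fun k : K => (χ' : G → ℂ) k) (ψ : K → ℂ) ≠ 0 := by
    intro χ hχ
    obtain ⟨ψ, h1, h2⟩ := exists_mid_constituent hNK χ θ hχ
    refine ⟨χ, mem_blockOf_self hMp χ, ψ, ?_, h1⟩
    rw [← hall ψ ⟨θ', mem_blockOf_self hMp θ', h2⟩]
    exact mem_blockOf_self hMp ψ
  have huniq : ∀ χ₁ χ₂ : IrrCharacter G,
      classInner (fun n : N => (χ₁ : G → ℂ) n) (θ : N → ℂ) ≠ 0 →
      classInner (fun n : N => (χ₂ : G → ℂ) n) (θ : N → ℂ) ≠ 0 →
      blockOf M (χ₁ : G → ℂ) = blockOf M (χ₂ : G → ℂ) := fun χ₁ χ₂ h₁ h₂ =>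
    cover_unique_of_centralizer_le (N := K) hM hbK hD hC (isPBlock_blockOf χ₁)
      (isPBlock_blockOf χ₂) (hcovK χ₁ h₁) (hcovK χ₂ h₂)
  -- existence
  obtain ⟨χ₀, hχ₀⟩ := Cfsg.Agent.Lib.Helper22.exists_irr_over N θ
  have hover : χ₀ ∈ overSet N (blockOf M (θ : N → ℂ)) := ⟨θ, mem_blockOf_self hMp θ, hχ₀⟩
  have hBchar : ∀ χ : IrrCharacter G, χ ∈ blockOf M (χ₀ : G → ℂ) ↔
      classInner (fun n : N => (χ : G → ℂ) n) (θ : N → ℂ) ≠ 0 := by
    intro χ
    constructor
    · intro hχ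
      obtain ⟨ψ, hψ⟩ := Cfsg.Agent.Lib.Helper82.exists_constituent N χ
      have hmem := mem_of_overSet N hM hb hinvb hover hχ hψ
      rw [hbθ, Set.mem_singleton_iff] at hmem
      rw [← hmem]
      exact hψ
    · intro hχ
      rw [← huniq χ χ₀ hχ hχ₀]
      exact mem_blockOf_self hMp χ
  -- the defect
  have hmax : ∀ χ ∈ overSet N (blockOf M (θ : N → ℂ)),
      blockDefect p (blockOf M (χ : G → ℂ)) ≤ blockDefect p (blockOf M (χ₀ : G → ℂ)) := by
    rintro χ ⟨θ₂, hθ₂, hχ⟩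
    rw [hbθ, Set.mem_singleton_iff] at hθ₂
    subst hθ₂
    rw [huniq χ χ₀ hχ hχ₀]
  have hdef : blockDefect p (blockOf M (χ₀ : G → ℂ)) = (Nat.card G).factorization p := by
    rw [blockDefect_eq_of_max N hM hb hinvb hover hmax, blockDefect_eq_zero_of_coprime hpN,
      zero_add, factorization_card_eq_add (p := p) N, Nat.factorization_eq_zero_of_not_dvd hpN,
      zero_add]
  have hsyl : ∀ D : Subgroup G, IsDefectGroup p M (blockOf M (χ₀ : G → ℂ)) D →
      Nat.card D = p ^ (Nat.card G).factorization p := by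
    intro D hD
    rw [Cfsg.Agent.Lib.Helper22.IsDefectGroup.card_eq hM (isPBlock_blockOf χ₀) hD, hdef]
  refine ⟨blockOf M (χ₀ : G → ℂ), isPBlock_blockOf χ₀, hBchar, ?_, ?_⟩
  · intro P
    obtain ⟨D₀, hD₀⟩ := Cfsg.Agent.Lib.Helper81.exists_isDefectGroup' hM (isPBlock_blockOf χ₀)
    set S₀ : Sylow p G := Sylow.ofCard D₀ (hsyl D₀ hD₀) with hS₀
    obtain ⟨g, hg⟩ := MulAction.exists_smul_eq G S₀ P
    have : (P : Subgroup G) = D₀.map (MulAut.conj g).toMonoidHom := by
      rw [← hg, Sylow.coe_subgroup_smul, hS₀, Sylow.coe_ofCard, Subgroup.pointwise_smul_def]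
      rfl
    rw [this]
    exact isDefectGroup_conj hD₀ g
  · intro D hD
    exact ⟨Sylow.ofCard D (hsyl D hD), (Sylow.coe_ofCard D _).symm⟩

end Core

section PSolv

/-- **Fong**: in a `p`-solvable group the characters over a `G`-invariant character of `O_{p'}(G)`
form a block of maximal defect. -/
theorem fong_psolvable (hM : IsPModular p M) (hsolv : IsPSolvable p G) (N : Subgroup G)
    [hN : N.Normal] [Fintype N] (hNdef : N = pPrimeCore p G) (θ : IrrCharacter N)
    (hinv : ∀ (g : G) (n : N),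
      (θ : N → ℂ) ⟨g * n * g⁻¹, hN.conj_mem n n.2 g⟩ = (θ : N → ℂ) n) :
    ∃ B : Set (IrrCharacter G), IsPBlock M B ∧
      (∀ χ : IrrCharacter G, χ ∈ B ↔
        classInner (fun n : N => (χ : G → ℂ) n) (θ : N → ℂ) ≠ 0) ∧
      (∀ P : Sylow p G, IsDefectGroup p M B (P : Subgroup G)) ∧
      ∀ D : Subgroup G, IsDefectGroup p M B D → ∃ P : Sylow p G, D = (P : Subgroup G) := by
  classical
  have hp : p.Prime := hM.1
  subst hNdef
  haveI hK : (pPrimePCore p G).Normal :=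
    (Cfsg.Agent.Lib.Helper01.pCore_normal (G := G ⧸ pPrimeCore p G) p).comap _
  have hpN : ¬ p ∣ Nat.card (pPrimeCore p G) :=
    (Nat.Prime.coprime_iff_not_dvd hp).1
      (Cfsg.Agent.Lib.Helper01.pPrimeCore_card_coprime (G := G) p).symm
  have hNK : pPrimeCore p G ≤ pPrimePCore p G :=
    Cfsg.Agent.Lib.Helper15.pPrimeCore_le_pPrimePCore p G
  have hmap : (pPrimePCore p G).map (QuotientGroup.mk' (pPrimeCore p G)) =
      pCore p (G ⧸ pPrimeCore p G) := Cfsg.Agent.Lib.Helper15.map_pPrimePCore p G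
  have hidx : ∃ k : ℕ, (pPrimeCore p G).relIndex (pPrimePCore p G) = p ^ k := by
    have hker : pPrimeCore p G =
        (⊥ : Subgroup (G ⧸ pPrimeCore p G)).comap (QuotientGroup.mk' (pPrimeCore p G)) := by
      rw [MonoidHom.comap_bot, QuotientGroup.ker_mk']
    have h1 : (pPrimeCore p G).relIndex (pPrimePCore p G) =
        Nat.card ((pPrimePCore p G).map (QuotientGroup.mk' (pPrimeCore p G))) := by
      conv_lhs => rw [hker]
      rw [Subgroup.relIndex_comap, Subgroup.relIndex_bot_left]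
    rw [h1, hmap]
    exact (Cfsg.Agent.Lib.Helper01.pCore_isPGroup (G := G ⧸ pPrimeCore p G) p).exists_card_eq
  apply fong_over_invariant (K := pPrimePCore p G) hM hpN hNK hidx _ θ hinv
  intro D _ _ hDN x hx
  show QuotientGroup.mk' (pPrimeCore p G) x ∈ pCore p (G ⧸ pPrimeCore p G)
  apply Cfsg.Agent.Lib.Helper81.centralizer_pCore_le
    (Cfsg.Agent.Lib.Helper81.IsPSolvable.quotient hp hsolv (pPrimeCore p G))
    (Cfsg.Agent.Lib.Helper01.pPrimeCore_quotient_eq_bot (G := G) p)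
  rw [← hmap, ← hDN, Subgroup.map_sup, QuotientGroup.map_mk'_self, sup_bot_eq,
    Subgroup.mem_centralizer_iff]
  rintro _ ⟨d, hd, rfl⟩
  rw [← map_mul, ← map_mul, Subgroup.mem_centralizer_iff.1 hx d hd]

end PSolv

end Cfsg.Agent.Lib.Helper21
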