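import Mathlib
import Cfsg.Agent.Lib.Helper21.CoverGen
import Cfsg.Agent.Lib.Helper21.FongPSolv
import Cfsg.Agent.Lib.Helper81.DefectBasic
import Cfsg.Agent.S0966

/-!
# The stabilizer of a covered block in an overgroup of `p`-power index

`N ⊴ G` of `p`-power index, `B` a block of `G` covering the block `c` of `N`, with a defect group of
`B` inside `N`: then the stabilizer of `c` is `N`.
-/

set_option autoImplicit false
set_option linter.unusedSectionVars false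
set_option linter.style.haveILetI false

namespace Cfsg.Agent.Lib.Helper21

open Cfsg
open Cfsg.Agent.Lib.Helper82 Cfsg.Agent.Lib.Helper83 Cfsg.Agent.Lib.Helper84
open Cfsg.Agent.Lib.Helper81 (irrComp irrComp_apply irrComp_symm_irrComp irrComp_irrComp_symm
  mem_blockOf_irrComp_iff)
open Cfsg.Agent.Lib.Helper22 (irrConj irrConj_irrConj irrConj_one)

universe u
variable {G : Type u} [Group G] [Fintype G]
variable {p : ℕ} [Fact p.Prime] {M : Ideal AlgInt}
variable {N : Subgroup G} [hN : N.Normal] [Fintype N]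

theorem blockStab_le_of_defect_le (hM : IsPModular p M) (hidx : ∃ k : ℕ, N.index = p ^ k)
    {c : Set (IrrCharacter N)} (hc : IsPBlock M c) {B : Set (IrrCharacter G)} (hB : IsPBlock M B)
    (hcov : ∃ χ ∈ B, ∃ θ ∈ c, classInner (fun n : N => (χ : G → ℂ) n) (θ : N → ℂ) ≠ 0)
    {P : Subgroup G} (hP : IsDefectGroup p M B P) (hPN : P ≤ N) :
    blockStab hN c ≤ N := by
  classical
  have hp : p.Prime := hM.1
  have hMp : M.IsPrime := hM.2.1.isPrime
  obtain ⟨θ₁, rfl⟩ := hc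
  have hb : IsPBlock M (blockOf M (θ₁ : N → ℂ)) := ⟨θ₁, rfl⟩
  set T := blockStab hN (blockOf M (θ₁ : N → ℂ)) with hT
  haveI : Fintype T := Fintype.ofFinite _
  haveI : Fintype (N.subgroupOf T) := Fintype.ofFinite _
  have hNT : N ≤ T := le_blockStab _
  have hstab : StabBlock N T (blockOf M (θ₁ : N → ℂ)) := stabBlock_blockStab _
  have hmeet : MeetBlock N T (blockOf M (θ₁ : N → ℂ)) := meetBlock_blockStab hMp hb
  obtain ⟨B', hB', hcov', hind⟩ := fong_reynolds_surjective hNT hMp hmeet B hB hcov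
  obtain ⟨ψ₀, hψ₀, θ₂, hθ₂, c₂⟩ := hcov'
  have hB'eq : B' = blockOf M (ψ₀ : T → ℂ) := IsPBlock.eq_blockOf hMp hB' hψ₀
  set e := Subgroup.subgroupOfEquivOfLe hNT with he
  have hb' : IsPBlock M (blockOf M (irrComp e θ₁ : N.subgroupOf T → ℂ)) := ⟨_, rfl⟩
  have hinv' := isInvariantSet_transport (M := M) hNT θ₁ hstab
  have hover : ψ₀ ∈ overSet (N.subgroupOf T) (blockOf M (irrComp e θ₁ : N.subgroupOf T → ℂ)) := by
    refine ⟨irrComp e θ₂, ?_, ?_⟩
    · rw [mem_blockOf_irrComp_iff, irrComp_symm_irrComp]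
      exact hθ₂
    · rw [classInner_transport hNT]
      exact c₂
  -- a defect group of `B'` lies in `N`
  obtain ⟨P', hP'⟩ := Cfsg.Agent.Lib.Helper81.exists_isDefectGroup' hM hB'
  have hP'G := fong_reynolds_defectGroup hNT p hM hb hstab hmeet B' hB'
    ⟨ψ₀, hψ₀, θ₂, hθ₂, c₂⟩ B hind P' hP'
  obtain ⟨t, ht⟩ := Cfsg.Agent.Lib.Helper22.IsDefectGroup.exists_conj hM hB hP hP'G
  have hP'N : P' ≤ N.subgroupOf T := by
    intro x hx
    rw [Subgroup.mem_subgroupOf]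
    have : (x : G) ∈ P'.map T.subtype := ⟨x, hx, rfl⟩
    rw [ht] at this
    obtain ⟨y, hy, hyx⟩ := this
    rw [← hyx]
    simp only [MulEquiv.coe_toMonoidHom, MulAut.conj_apply]
    exact hN.conj_mem y (hPN hy) t
  -- the index of `N` in `T` is a power of `p`
  obtain ⟨k, hk⟩ := hidx
  have hidx' : ∃ j : ℕ, (N.subgroupOf T).index = p ^ j := by
    have hdvd : (N.subgroupOf T).index ∣ N.index := Subgroup.relIndex_dvd_index_of_normal N T
    rw [hk] at hdvd
    obtain ⟨j, -, hj⟩ := (Nat.dvd_prime_pow hp).1 hdvd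
    exact ⟨j, hj⟩
  -- only one block of `T` covers the transported block
  obtain ⟨B₀, -, huniq⟩ := Cfsg.Agent.S0966.result p M hM (N.subgroupOf T) hidx'
    (blockOf M (irrComp e θ₁ : N.subgroupOf T → ℂ)) hb'
  have hmax : ∀ χ ∈ overSet (N.subgroupOf T) (blockOf M (irrComp e θ₁ : N.subgroupOf T → ℂ)),
      blockDefect p (blockOf M (χ : T → ℂ)) ≤ blockDefect p (blockOf M (ψ₀ : T → ℂ)) := by
    intro χ hχ
    obtain ⟨θ, hθ, hcon⟩ := hχ
    obtain ⟨θ', hθ', hcon'⟩ := hover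
    have h1 := huniq (blockOf M (χ : T → ℂ)) ⟨⟨χ, rfl⟩, χ, mem_blockOf_self hMp χ, θ, hθ, hcon⟩
    have h2 := huniq (blockOf M (ψ₀ : T → ℂ))
      ⟨⟨ψ₀, rfl⟩, ψ₀, mem_blockOf_self hMp ψ₀, θ', hθ', hcon'⟩
    rw [h1, h2]
  rw [hB'eq] at hP'
  obtain ⟨hnd, -, -⟩ := fong (N.subgroupOf T) hM hb' hinv' hover hmax hP'
  rw [sup_of_le_right hP'N] at hnd
  obtain ⟨j, hj⟩ := hidx'
  have hj0 : j = 0 := by
    by_contra h0
    apply hnd
    rw [hj]
    exact dvd_pow_self p h0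
  rw [hj0, pow_zero, Subgroup.index_eq_one] at hj
  intro x hx
  have : (⟨x, hx⟩ : T) ∈ N.subgroupOf T := by
    rw [hj]
    exact Subgroup.mem_top _
  rw [Subgroup.mem_subgroupOf] at this
  exact this

omit [Fintype N] in
/-- **The stabilizer of a covered block meets a `p`-power overgroup in `N`.** -/
theorem stab_inf_eq (hM : IsPModular p M) (N L : Subgroup G) [hN : N.Normal] [hL : L.Normal]
    [Fintype N] (hNL : N ≤ L) (hLN : ∃ k : ℕ, (N.subgroupOf L).index = p ^ k)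
    {B : Set (IrrCharacter G)} (hB : IsPBlock M B) {c : Set (IrrCharacter N)} (hc : IsPBlock M c)
    (hcov : ∃ χ ∈ B, ∃ θ ∈ c, classInner (fun n : N => (χ : G → ℂ) n) (θ : N → ℂ) ≠ 0)
    (hD : ∃ D : Subgroup G, IsDefectGroup p M B D ∧ D ≤ N) (T : Subgroup G)
    (hT : ∀ x : G, x ∈ T ↔ StabilizesBlock N c x) : T ⊓ L = N := by
  classical
  have hMp : M.IsPrime := hM.2.1.isPrime
  haveI : Fintype L := Fintype.ofFinite _
  haveI : Fintype (N.subgroupOf L) := Fintype.ofFinite _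
  obtain ⟨θ₁, rfl⟩ := hc
  obtain ⟨χ, hχ, θ, hθ, hcon⟩ := hcov
  obtain ⟨ψ, hψ₁, hψ₂⟩ := exists_mid_constituent hNL χ θ hcon
  -- Knörr for `L`
  obtain ⟨P, hP, hPL⟩ := knorr (N := L) hM ⟨ψ, rfl⟩ hB
    ⟨χ, hχ, ψ, mem_blockOf_self hMp ψ, hψ₁⟩
  obtain ⟨D, hD, hDN⟩ := hD
  obtain ⟨t, ht⟩ := Cfsg.Agent.Lib.Helper22.IsDefectGroup.exists_conj hM hB hD hP
  have hPN : P ≤ N := by
    rw [ht]
    rintro _ ⟨y, hy, rfl⟩
    simp only [MulEquiv.coe_toMonoidHom, MulAut.conj_apply]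
    exact hN.conj_mem y (hDN hy) t
  have hle : (P ⊓ L).subgroupOf L ≤ N.subgroupOf L := by
    intro x hx
    rw [Subgroup.mem_subgroupOf] at hx ⊢
    exact hPN hx.1
  have hcov₁ : ∃ χ' ∈ blockOf M (ψ : L → ℂ), ∃ θ' ∈ blockOf M
      (irrComp (Subgroup.subgroupOfEquivOfLe hNL) θ₁ : N.subgroupOf L → ℂ),
      classInner (fun n' : N.subgroupOf L => (χ' : L → ℂ) n') (θ' : N.subgroupOf L → ℂ) ≠ 0 := by
    refine ⟨ψ, mem_blockOf_self hMp ψ, irrComp (Subgroup.subgroupOfEquivOfLe hNL) θ, ?_, hψ₂⟩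
    rw [mem_blockOf_irrComp_iff, irrComp_symm_irrComp]
    exact hθ
  have hstabN := blockStab_le_of_defect_le (G := L) (N := N.subgroupOf L) hM hLN ⟨_, rfl⟩
    ⟨ψ, rfl⟩ hcov₁ hPL hle
  have hmeet := meetBlock_blockStab (G := L) (N := N.subgroupOf L) hMp
    (b := blockOf M (irrComp (Subgroup.subgroupOfEquivOfLe hNL) θ₁ : N.subgroupOf L → ℂ))
    ⟨_, rfl⟩
  ext x
  rw [Subgroup.mem_inf]
  constructor
  · rintro ⟨hxT, hxL⟩
    obtain ⟨-, hx⟩ := (hT x).1 hxT
    obtain ⟨χ', hχ', hconj⟩ := hx θ₁ (mem_blockOf_self hMp θ₁)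
    have hmem : (⟨x, hxL⟩ : L)⁻¹ ∈ blockStab (inferInstance : (N.subgroupOf L).Normal)
        (blockOf M (irrComp (Subgroup.subgroupOfEquivOfLe hNL) θ₁ : N.subgroupOf L → ℂ)) := by
      apply hmeet _ (irrComp (Subgroup.subgroupOfEquivOfLe hNL) θ₁) (mem_blockOf_self hMp _)
      have : irrConj (inferInstance : (N.subgroupOf L).Normal) (⟨x, hxL⟩ : L)⁻¹
          (irrComp (Subgroup.subgroupOfEquivOfLe hNL) θ₁) =
          irrComp (Subgroup.subgroupOfEquivOfLe hNL) χ' := by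
        apply Subtype.ext
        funext n'
        rw [Cfsg.Agent.Lib.Helper22.irrConj_apply, irrComp_apply, irrComp_apply]
        symm
        apply hconj
        simp only [Subgroup.subgroupOfEquivOfLe_apply_coe, Subgroup.coe_mul, Subgroup.coe_inv,
          inv_inv]
        group
      rw [this, mem_blockOf_irrComp_iff, irrComp_symm_irrComp]
      exact hχ'
    have := hstabN hmem
    rw [Subgroup.mem_subgroupOf] at this
    have h2 : x⁻¹ ∈ N := by simpa using this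
    simpa using N.inv_mem h2
  · intro hxN
    refine ⟨(hT x).2 ⟨?_, ?_⟩, hNL hxN⟩
    · rw [Subgroup.normalizer_eq_top]
      exact Subgroup.mem_top x
    · intro χ₁ hχ₁
      refine ⟨χ₁, hχ₁, ?_⟩
      intro k k' hk
      have := isClassFunction_irr χ₁ k ⟨x, hxN⟩
      rw [← this]
      refine congrArg _ (Subtype.ext ?_)
      simpa using hk

end Cfsg.Agent.Lib.Helper21
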