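import Mathlib
import Cfsg.Prelude.Def_Blocks
import Cfsg.Agent.Lib.Helper21.BrauerFeit
import Cfsg.Agent.Lib.Helper21.HeightBound
import Cfsg.Agent.Lib.Helper82.DefectZero
import Cfsg.Agent.Lib.Helper82.DefectRank

/-!
# `2`-blocks of defect one

A `2`-block of defect one consists of exactly two irreducible characters, which agree on the
elements of odd order and are opposite on the elements of even order.
-/

set_option autoImplicit false
set_option linter.unusedSectionVars false

namespace Cfsg.Agent.Lib.Helper21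

open Cfsg
open scoped ComplexConjugate
open Cfsg.Agent.Lib.Helper82 Cfsg.Agent.Lib.Helper83

universe u
variable {G : Type u} [Group G] [Fintype G] [Fintype (IrrCharacter G)]
variable {M : Ideal AlgInt}

/-- `rowInt` vanishes across blocks. -/
theorem rowInt_eq_zero_of_not_sameBlock {p : ℕ} [Fact p.Prime] (hMp : IsPModular p M)
    (χ ψ : IrrCharacter G) (h : ¬ SameBlock M (χ : G → ℂ) (ψ : G → ℂ)) : rowInt p χ ψ = 0 := by
  have e := rowInt_eq_left p χ ψ
  have h0 : omega (regConj p (ψ : G → ℂ)) (χ : G → ℂ) = 0 := by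
    unfold omega
    rw [omega_regConj_eq_zero hMp ψ χ h, zero_div]
  rw [h0, mul_zero, mul_zero] at e
  exact_mod_cast e

/-- A `2`-block of defect one. -/
theorem two_block_defect_one (hMp : IsPModular 2 M) {B : Set (IrrCharacter G)}
    (hB : IsPBlock M B) (hd : blockDefect 2 B = 1) :
    ∃ χ₁ χ₂ : IrrCharacter G, χ₁ ≠ χ₂ ∧ B = {χ₁, χ₂} ∧
      (∀ g : G, ¬ 2 ∣ orderOf g → (χ₁ : G → ℂ) g = (χ₂ : G → ℂ) g) ∧
      (∀ g : G, 2 ∣ orderOf g → (χ₂ : G → ℂ) g = - (χ₁ : G → ℂ) g) := by
  classical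
  have : Fact (Nat.Prime 2) := ⟨Nat.prime_two⟩
  have hM : M.IsPrime := hMp.2.1.isPrime
  -- at most two characters
  have h4 := four_mul_card_block_le hMp hB
  rw [hd] at h4
  have hcard : Nat.card B ≤ 2 := by
    have h5 : (2 : ℕ) ^ (2 * 1) = 4 := by norm_num
    rw [h5] at h4
    omega
  obtain ⟨χ₁, hχ₁⟩ := IsPBlock.nonempty hM hB
  have hBχ₁ : B = blockOf M (χ₁ : G → ℂ) := IsPBlock.eq_blockOf hM hB hχ₁
  -- a second character
  obtain ⟨χ₂, hχ₂, hne⟩ : ∃ χ₂ ∈ B, χ₂ ≠ χ₁ := by
    by_contra hcon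
    push Not at hcon
    have hsing : blockOf M (χ₁ : G → ℂ) = {χ₁} := by
      rw [← hBχ₁]
      ext χ
      constructor
      · intro hχ
        exact hcon χ hχ
      · intro hχ
        rw [Set.mem_singleton_iff] at hχ
        rw [hχ]
        exact hχ₁
    have h1 := not_dvd_of_blockOf_eq_singleton hMp χ₁ hsing
    have h2 := (factorization_le_iff_not_dvd Nat.prime_two χ₁).2 h1
    have h3 : blockDefect 2 B = 0 := by
      rw [blockDefect_eq_zero_iff ⟨χ₁, hχ₁⟩]
      intro χ hχ
      rw [hcon χ hχ]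
      exact h2
    omega
  have hBeq : B = {χ₁, χ₂} := by
    ext χ
    constructor
    · intro hχ
      by_contra hnot
      rw [Set.mem_insert_iff, Set.mem_singleton_iff] at hnot
      push Not at hnot
      have hsub : ({χ₁, χ₂, χ} : Finset (IrrCharacter G)) ⊆ (Set.toFinite B).toFinset := by
        intro ψ hψ
        rw [Set.Finite.mem_toFinset]
        simp only [Finset.mem_insert, Finset.mem_singleton] at hψ
        rcases hψ with rfl | rfl | rfl
        · exact hχ₁
        · exact hχ₂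
        · exact hχ
      have h3 : ({χ₁, χ₂, χ} : Finset (IrrCharacter G)).card = 3 := by
        rw [Finset.card_insert_of_notMem, Finset.card_insert_of_notMem, Finset.card_singleton]
        · simpa using hnot.2.symm
        · simp only [Finset.mem_insert, Finset.mem_singleton]
          push Not
          exact ⟨hne.symm, hnot.1.symm⟩
      have := Finset.card_le_card hsub
      rw [h3, ← Nat.card_eq_card_finite_toFinset (Set.toFinite B)] at this
      omega
    · intro hχ
      rw [Set.mem_insert_iff, Set.mem_singleton_iff] at hχ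
      rcases hχ with rfl | rfl
      · exact hχ₁
      · exact hχ₂
  refine ⟨χ₁, χ₂, hne.symm, hBeq, ?_⟩
  -- all heights are zero
  obtain ⟨χ₀, hχ₀, hχ₀s⟩ := exists_min_degree (p := 2) hM hB
  have hminB : ∀ χ' ∈ B, (charDegree (χ₀ : G → ℂ)).factorization 2 ≤
      (charDegree (χ' : G → ℂ)).factorization 2 := by
    intro χ' hχ'
    rw [hχ₀s]
    exact Nat.sInf_le ⟨χ', hχ', rfl⟩
  have hdef : (Nat.card G).factorization 2 - (charDegree (χ₀ : G → ℂ)).factorization 2 = 1 := by
    rw [hχ₀s]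
    exact hd
  have hval : ∀ χ ∈ B, rowExp 2 χ = 1 := by
    intro χ hχ
    unfold rowExp
    have h1 := hminB χ hχ
    have h2 := factorization_charDegree_le hMp χ
    by_cases hlt : (charDegree (χ₀ : G → ℂ)).factorization 2 <
        (charDegree (χ : G → ℂ)).factorization 2
    · have := factorization_add_two_le_of_not_min hMp hB χ χ₀ hχ hχ₀ hminB hlt
      omega
    · omega
  have hminS : ∀ χ ∈ B, ∀ χ' : IrrCharacter G, SameBlock M (χ : G → ℂ) (χ' : G → ℂ) →
      (charDegree (χ : G → ℂ)).factorization 2 ≤ (charDegree (χ' : G → ℂ)).factorization 2 := by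
    intro χ hχ χ' hs
    have hχ' : χ' ∈ B := IsPBlock.mem_of_sameBlock hM hB hχ hs
    have e1 := hval χ hχ
    have e2 := hval χ' hχ'
    unfold rowExp at e1 e2
    have h2 := factorization_charDegree_le hMp χ
    have h3 := factorization_charDegree_le hMp χ'
    omega
  -- the row of `χ₁`
  have hsum := sum_rowInt_sq 2 χ₁
  rw [hval χ₁ hχ₁] at hsum
  have hsum2 : ∑ ψ : IrrCharacter G, rowInt 2 χ₁ ψ ^ 2
      = rowInt 2 χ₁ χ₁ ^ 2 + rowInt 2 χ₁ χ₂ ^ 2 := by
    rw [← Finset.sum_subset (Finset.subset_univ ({χ₁, χ₂} : Finset (IrrCharacter G)))]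
    · rw [Finset.sum_insert (by simpa using hne.symm), Finset.sum_singleton]
    · intro ψ _ hψ
      have hψB : ψ ∉ B := by
        rw [hBeq]
        simpa using hψ
      have : ¬ SameBlock M (χ₁ : G → ℂ) (ψ : G → ℂ) := by
        intro hs
        exact hψB (IsPBlock.mem_of_sameBlock hM hB hχ₁ hs)
      rw [rowInt_eq_zero_of_not_sameBlock hMp χ₁ ψ this]
      ring
  rw [hsum2] at hsum
  have hsum' : rowInt 2 χ₁ χ₁ ^ 2 + rowInt 2 χ₁ χ₂ ^ 2 = 2 * rowInt 2 χ₁ χ₁ := by
    have h5 : ((2 : ℕ) : ℤ) ^ 1 = 2 := by norm_num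
    rw [h5] at hsum
    exact hsum
  have hpos := rowInt_self_pos 2 χ₁
  have hle : rowInt 2 χ₁ χ₁ ≤ 2 := by
    have := rowInt_self_le 2 χ₁
    rw [hval χ₁ hχ₁] at this
    have h5 : ((2 : ℕ) : ℤ) ^ 1 = 2 := by norm_num
    rw [h5] at this
    exact this
  have hne12 : rowInt 2 χ₁ χ₂ ≠ 0 := by
    apply rowInt_ne_zero_of_omega hMp
    intro h0
    have hα := omega_regConj_not_memLocalIdeal hMp χ₂ (hminS χ₂ hχ₂)
    apply hα
    have hs : SameBlock M (χ₂ : G → ℂ) (χ₁ : G → ℂ) :=
      IsPBlock.sameBlock hM hB hχ₂ hχ₁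
    have h1 := omega_sub_memLocalIdeal hM (regConj_isClassFunction 2 (isClassFunction_irr χ₂))
      (regConj_memLocalRing 2 hM χ₂) hs
    rw [h0, sub_zero] at h1
    exact h1
  have h11 : rowInt 2 χ₁ χ₁ = 1 := by
    have h2 : rowInt 2 χ₁ χ₁ = 1 ∨ rowInt 2 χ₁ χ₁ = 2 := by
      omega
    rcases h2 with h2 | h2
    · exact h2
    · exfalso
      rw [h2] at hsum'
      have : rowInt 2 χ₁ χ₂ ^ 2 = 0 := by
        linarith
      exact hne12 (pow_eq_zero_iff (two_ne_zero) |>.1 this)
  have h12sq : rowInt 2 χ₁ χ₂ ^ 2 = 1 := by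
    rw [h11] at hsum'
    linarith
  -- expansion of the row function
  have hrow := rowFun_eq_sum 2 χ₁
  have hrow2 : ∀ g : G, rowFun 2 χ₁ g
      = (χ₁ : G → ℂ) g + ((rowInt 2 χ₁ χ₂ : ℤ) : ℂ) * (χ₂ : G → ℂ) g := by
    intro g
    rw [hrow, Finset.sum_apply]
    rw [← Finset.sum_subset (Finset.subset_univ ({χ₁, χ₂} : Finset (IrrCharacter G)))]
    · rw [Finset.sum_insert (by simpa using hne.symm), Finset.sum_singleton, h11]
      simp
    · intro ψ _ hψ
      have hψB : ψ ∉ B := by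
        rw [hBeq]
        simpa using hψ
      have : ¬ SameBlock M (χ₁ : G → ℂ) (ψ : G → ℂ) := by
        intro hs
        exact hψB (IsPBlock.mem_of_sameBlock hM hB hχ₁ hs)
      rw [rowInt_eq_zero_of_not_sameBlock hMp χ₁ ψ this]
      simp
  have hdeg : ∀ χ : IrrCharacter G, (charDegree (χ : G → ℂ) : ℂ) = (χ : G → ℂ) 1 :=
    fun χ => charDegree_cast (IrrCharacter_isCharacter χ)
  have h12 : rowInt 2 χ₁ χ₂ = 1 := by
    have h2 : rowInt 2 χ₁ χ₂ = 1 ∨ rowInt 2 χ₁ χ₂ = -1 := by
      have : (rowInt 2 χ₁ χ₂ - 1) * (rowInt 2 χ₁ χ₂ + 1) = 0 := by ring_nf; linarith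
      rcases mul_eq_zero.1 this with h | h
      · left; linarith
      · right; linarith
    rcases h2 with h2 | h2
    · exact h2
    · exfalso
      have h1 := hrow2 1
      unfold rowFun at h1
      rw [if_neg (by rw [orderOf_one]; norm_num), hval χ₁ hχ₁, h2, ← hdeg χ₁, ← hdeg χ₂] at h1
      have h3 : (2 : ℤ) * (charDegree (χ₁ : G → ℂ) : ℤ)
          = (charDegree (χ₁ : G → ℂ) : ℤ) + (-1) * (charDegree (χ₂ : G → ℂ) : ℤ) := by
        have : ((2 * (charDegree (χ₁ : G → ℂ) : ℤ) : ℤ) : ℂ)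
            = (((charDegree (χ₁ : G → ℂ) : ℤ) + (-1) * (charDegree (χ₂ : G → ℂ) : ℤ) : ℤ) : ℂ) := by
          push_cast
          push_cast at h1
          exact h1
        exact_mod_cast this
      have hp1 : 0 < charDegree (χ₁ : G → ℂ) := Nat.pos_of_ne_zero (charDegree_ne_zero hMp χ₁)
      have hp2 : 0 < charDegree (χ₂ : G → ℂ) := Nat.pos_of_ne_zero (charDegree_ne_zero hMp χ₂)
      omega
  constructor
  · intro g hg
    have h1 := hrow2 g
    unfold rowFun at h1
    rw [if_neg hg, hval χ₁ hχ₁, h12] at h1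
    push_cast at h1
    linear_combination h1
  · intro g hg
    have h1 := hrow2 g
    unfold rowFun at h1
    rw [if_pos hg, h12] at h1
    push_cast at h1
    linear_combination -h1

end Cfsg.Agent.Lib.Helper21
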