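import Mathlib
import Cfsg.Prelude.Def_Blocks
import Cfsg.Agent.Lib.Helper21.DefectOneTwo
import Cfsg.Agent.Lib.Helper21.BrauerCorrIdem
import Cfsg.Agent.Lib.Helper82.SubsectionNorm

/-!
# `2`-blocks with a defect group of order two: the section of the involution
-/

set_option autoImplicit false
set_option linter.unusedSectionVars false

namespace Cfsg.Agent.Lib.Helper21

open Cfsg
open scoped ComplexConjugate
open Cfsg.Agent.Lib.Helper82 Cfsg.Agent.Lib.Helper83

universe u
variable {G : Type u} [Group G] [Fintype G] [Fintype (IrrCharacter G)]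
variable {M : Ideal AlgInt}

/-- `isDefectGroup_of_induced` for a subgroup equal to the normalizer. -/
theorem isDefectGroup_of_induced' {p : ℕ} [Fact p.Prime] (hMod : IsPModular p M)
    (K Q : Subgroup G) (hK : K = Subgroup.normalizer (Q : Set G)) (hQ : IsPGroup p Q)
    {b : Set (IrrCharacter K)} (hb : IsPBlock M b)
    {B : Set (IrrCharacter G)} (hB : IsPBlock M B) (hBD : IsDefectGroup p M B Q)
    (hind : IsInducedBlock M K b B) : IsDefectGroup p M b (Q.subgroupOf K) := by
  subst hK
  exact isDefectGroup_of_induced hMod Q hQ hb hB hBD hind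

/-- Uniqueness in the first main theorem, for a subgroup equal to the normalizer. -/
theorem induced_unique' {p : ℕ} [Fact p.Prime] (hMod : IsPModular p M)
    (K Q : Subgroup G) (hK : K = Subgroup.normalizer (Q : Set G)) (hQ : IsPGroup p Q)
    {b₁ b₂ : Set (IrrCharacter K)} (hb₁ : IsPBlock M b₁) (hb₂ : IsPBlock M b₂)
    {B : Set (IrrCharacter G)} (hB : IsPBlock M B) (hBD : IsDefectGroup p M B Q)
    (h₁ : IsInducedBlock M K b₁ B) (h₂ : IsInducedBlock M K b₂ B) : b₁ = b₂ := by
  subst hK
  have d₁ := isDefectGroup_of_induced hMod Q hQ hb₁ hB hBD h₁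
  have d₂ := isDefectGroup_of_induced hMod Q hQ hb₂ hB hBD h₂
  obtain ⟨b₀, _, huniq⟩ := (Cfsg.Agent.S0920.result p M hMod Q hQ).2 B hB hBD
  rw [huniq b₁ ⟨hb₁, d₁, h₁⟩, huniq b₂ ⟨hb₂, d₂, h₂⟩]

omit [Fintype G] [Fintype (IrrCharacter G)] in
/-- For an involution, the normalizer of the group it generates is its centralizer. -/
theorem centralizer_eq_normalizer_zpowers {x : G} (hx : orderOf x = 2) :
    Subgroup.centralizer ({x} : Set G) = Subgroup.normalizer ((Subgroup.zpowers x : Subgroup G) : Set G) := by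
  have hx2 : x ^ 2 = 1 := by rw [← hx]; exact pow_orderOf_eq_one x
  have hx1 : x ≠ 1 := by
    intro h
    rw [h, orderOf_one] at hx
    omega
  apply le_antisymm
  · intro n hn
    rw [Subgroup.mem_centralizer_singleton_iff] at hn
    rw [Subgroup.mem_normalizer_iff]
    intro h
    have hcomm : ∀ k : ℤ, n * x ^ k * n⁻¹ = x ^ k := by
      intro k
      have : Commute n (x ^ k) := (Commute.zpow_right hn k)
      rw [this.eq, mul_inv_cancel_right]
    constructor
    · intro hh
      obtain ⟨k, rfl⟩ := Subgroup.mem_zpowers_iff.1 hh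
      rw [hcomm]
      exact Subgroup.zpow_mem_zpowers x k
    · intro hh
      obtain ⟨k, hk⟩ := Subgroup.mem_zpowers_iff.1 hh
      have : h = n⁻¹ * x ^ k * n := by rw [hk]; group
      rw [this]
      have h2 : n⁻¹ * x ^ k * n = x ^ k := by
        have : Commute n (x ^ k) := (Commute.zpow_right hn k)
        rw [mul_assoc, ← this.eq, inv_mul_cancel_left]
      rw [h2]
      exact Subgroup.zpow_mem_zpowers x k
  · intro n hn
    rw [Subgroup.mem_normalizer_iff] at hn
    have h1 : n * x * n⁻¹ ∈ Subgroup.zpowers x := (hn x).1 (Subgroup.mem_zpowers x)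
    obtain ⟨k, hk⟩ := Subgroup.mem_zpowers_iff.1 h1
    rw [Subgroup.mem_centralizer_singleton_iff]
    have hk2 : x ^ k = x ^ (k % 2) := by
      have := zpow_mod_orderOf x k
      rw [hx] at this
      exact_mod_cast this.symm
    have hcases : k % 2 = 0 ∨ k % 2 = 1 := by omega
    rcases hcases with h0 | h0
    · exfalso
      rw [hk2, h0, zpow_zero] at hk
      apply hx1
      have : x = n⁻¹ * (n * x * n⁻¹) * n := by group
      rw [this, ← hk]
      group
    · rw [hk2, h0, zpow_one] at hk
      have : n * x = (n * x * n⁻¹) * n := by group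
      rw [this, ← hk]

/-- The section of the involution: the values of a member of `B` on `x · (odd elements)`. -/
theorem section_values_of_two_block (hMp : IsPModular 2 M) (x : G) (hx : orderOf x = 2)
    [Fintype (Subgroup.centralizer ({x} : Set G))]
    [Fintype (IrrCharacter (Subgroup.centralizer ({x} : Set G)))]
    {B : Set (IrrCharacter G)} (hB : IsPBlock M B)
    (hBD : IsDefectGroup 2 M B (Subgroup.zpowers x))
    {b : Set (IrrCharacter (Subgroup.centralizer ({x} : Set G)))}
    (hb : IsInducedBlock M (Subgroup.centralizer ({x} : Set G)) b B)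
    (θ θ' : IrrCharacter (Subgroup.centralizer ({x} : Set G)))
    (hbeq : b = {θ, θ'}) (hne : θ' ≠ θ)
    (hodd : ∀ y : Subgroup.centralizer ({x} : Set G), ¬ 2 ∣ orderOf y →
      (θ' : Subgroup.centralizer ({x} : Set G) → ℂ) y = (θ : Subgroup.centralizer ({x} : Set G) → ℂ) y)
    (heven : ∀ y : Subgroup.centralizer ({x} : Set G), 2 ∣ orderOf y →
      (θ' : Subgroup.centralizer ({x} : Set G) → ℂ) y = - (θ : Subgroup.centralizer ({x} : Set G) → ℂ) y)
    (hθx : ∀ z : Subgroup.centralizer ({x} : Set G), (z : G) = x →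
      (θ : Subgroup.centralizer ({x} : Set G) → ℂ) z = (θ : Subgroup.centralizer ({x} : Set G) → ℂ) 1)
    (χ : IrrCharacter G) (hχ : χ ∈ B) :
    ∀ y : Subgroup.centralizer ({x} : Set G), ¬ 2 ∣ orderOf y →
      (χ : G → ℂ) (x * (y : G)) =
        2 * classInner (secLin 2 x (χ : G → ℂ)) (θ : Subgroup.centralizer ({x} : Set G) → ℂ) *
          (θ : Subgroup.centralizer ({x} : Set G) → ℂ) y := by
  classical
  have : Fact (Nat.Prime 2) := ⟨Nat.prime_two⟩
  have hM : M.IsPrime := hMp.2.1.isPrime
  have hx' : ∃ k : ℕ, orderOf x = 2 ^ k := ⟨1, by rw [hx, pow_one]⟩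
  have hK := centralizer_eq_normalizer_zpowers hx
  have hQ : IsPGroup 2 (Subgroup.zpowers x) :=
    IsPGroup.of_card (n := 1) (by rw [Nat.card_zpowers, hx, pow_one])
  have hBχ : B = blockOf M (χ : G → ℂ) := IsPBlock.eq_blockOf hM hB hχ
  set F := secLin 2 x (χ : G → ℂ) with hF
  have hFc : IsClassFunction (Subgroup.centralizer ({x} : Set G)) F :=
    secLin_isClassFunction x (isClassFunction_irr χ)
  have hzero : ∀ ψ : IrrCharacter (Subgroup.centralizer ({x} : Set G)), ψ ∉ b →
      classInner F (ψ : Subgroup.centralizer ({x} : Set G) → ℂ) = 0 := by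
    intro ψ hψ
    rw [hF, secLin_apply]
    apply classInner_secFun_eq_zero hMp hx' χ ψ
    intro hind
    rw [← hBχ] at hind
    apply hψ
    have := induced_unique' hMp _ _ hK hQ ⟨ψ, rfl⟩ hb.1 hB hBD hind hb
    rw [← this]
    exact mem_blockOf_self hM ψ
  have hexp : ∀ y : Subgroup.centralizer ({x} : Set G), F y =
      classInner F (θ : Subgroup.centralizer ({x} : Set G) → ℂ) * (θ : Subgroup.centralizer ({x} : Set G) → ℂ) y +
      classInner F (θ' : Subgroup.centralizer ({x} : Set G) → ℂ) * (θ' : Subgroup.centralizer ({x} : Set G) → ℂ) y := by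
    intro y
    have h1 := classFunction_eq_sum_irr hFc
    have h2 : F y = ∑ ψ : IrrCharacter (Subgroup.centralizer ({x} : Set G)),
        classInner F (ψ : Subgroup.centralizer ({x} : Set G) → ℂ) * (ψ : Subgroup.centralizer ({x} : Set G) → ℂ) y := by
      conv_lhs => rw [h1]
      rw [Finset.sum_apply]
      rfl
    rw [h2, ← Finset.sum_subset (Finset.subset_univ
      ({θ, θ'} : Finset (IrrCharacter (Subgroup.centralizer ({x} : Set G)))))]
    · rw [Finset.sum_insert (by simpa using hne.symm), Finset.sum_singleton]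
    · intro ψ _ hψ
      have hψb : ψ ∉ b := by
        rw [hbeq]
        simpa using hψ
      rw [hzero ψ hψb, zero_mul]
  have hθ1 : (θ : Subgroup.centralizer ({x} : Set G) → ℂ) 1 ≠ 0 :=
    IsIrrCharacter.apply_one_ne_zero θ.2
  -- evaluate at `x`
  have hxord : orderOf (centElt x) = 2 := by
    rw [← hx, ← Subgroup.orderOf_coe, coe_centElt]
  have hFx : F (centElt x) = 0 := by
    rw [hF, secLin_apply]
    exact pRegularPart_of_singular _ (by rw [hxord])
  have hDD : classInner F (θ : Subgroup.centralizer ({x} : Set G) → ℂ)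
      = classInner F (θ' : Subgroup.centralizer ({x} : Set G) → ℂ) := by
    have h1 := hexp (centElt x)
    rw [hFx, heven (centElt x) (by rw [hxord]), hθx (centElt x) (coe_centElt x)] at h1
    have h2 : (classInner F (θ : Subgroup.centralizer ({x} : Set G) → ℂ)
        - classInner F (θ' : Subgroup.centralizer ({x} : Set G) → ℂ)) *
        (θ : Subgroup.centralizer ({x} : Set G) → ℂ) 1 = 0 := by
      linear_combination -h1
    rcases mul_eq_zero.1 h2 with h3 | h3
    · exact sub_eq_zero.1 h3
    · exact absurd h3 hθ1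
  intro y hy
  have h1 := hexp y
  rw [← hDD, hodd y hy] at h1
  have h2 : F y = (χ : G → ℂ) (x * (y : G)) := by
    rw [hF, secLin_apply, pRegularPart_of_regular _ hy]
    rfl
  rw [← h2, h1]
  ring

/-- **`2`-blocks with a defect group of order two.** -/
theorem two_block_involution (hMp : IsPModular 2 M) (x : G) (hx : orderOf x = 2)
    (B : Set (IrrCharacter G)) (hB : IsPBlock M B)
    (hBD : IsDefectGroup 2 M B (Subgroup.zpowers x))
    (b : Set (IrrCharacter (Subgroup.centralizer ({x} : Set G))))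
    (hb : IsInducedBlock M (Subgroup.centralizer ({x} : Set G)) b B)
    (θ : IrrCharacter (Subgroup.centralizer ({x} : Set G))) (hθ : θ ∈ b)
    (hθx : ∀ z : Subgroup.centralizer ({x} : Set G), (z : G) = x →
      (θ : Subgroup.centralizer ({x} : Set G) → ℂ) z
        = (θ : Subgroup.centralizer ({x} : Set G) → ℂ) 1) :
    Nat.card B = 2 ∧
      (∀ χ ∈ B, ∀ ψ ∈ B, ∀ g : G, ¬ 2 ∣ orderOf g → (χ : G → ℂ) g = (ψ : G → ℂ) g) ∧
      ∃ χ₁ ∈ B, ∃ χ₂ ∈ B, χ₁ ≠ χ₂ ∧ ∃ ε₁ ε₂ : ℤ, (ε₁ = 1 ∨ ε₁ = -1) ∧ (ε₂ = 1 ∨ ε₂ = -1) ∧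
        ε₁ * ε₂ = -1 ∧
        ∀ y : Subgroup.centralizer ({x} : Set G), ¬ 2 ∣ orderOf y →
          (χ₁ : G → ℂ) (x * y) = (ε₁ : ℂ) * (θ : Subgroup.centralizer ({x} : Set G) → ℂ) y ∧
          (χ₂ : G → ℂ) (x * y) = (ε₂ : ℂ) * (θ : Subgroup.centralizer ({x} : Set G) → ℂ) y := by
  classical
  have : Fact (Nat.Prime 2) := ⟨Nat.prime_two⟩
  have := Fintype.ofFinite (Subgroup.centralizer ({x} : Set G))
  have := Fintype.ofFinite (IrrCharacter (Subgroup.centralizer ({x} : Set G)))
  have hM : M.IsPrime := hMp.2.1.isPrime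
  have hx' : ∃ k : ℕ, orderOf x = 2 ^ k := ⟨1, by rw [hx, pow_one]⟩
  have hK := centralizer_eq_normalizer_zpowers hx
  have hcz : Nat.card (Subgroup.zpowers x) = 2 := by rw [Nat.card_zpowers, hx]
  have hQ : IsPGroup 2 (Subgroup.zpowers x) :=
    IsPGroup.of_card (n := 1) (by rw [hcz, pow_one])
  -- the defects
  have hdB : blockDefect 2 B = 1 := by
    have h1 := Cfsg.Agent.Lib.Helper22.IsDefectGroup.card_eq hMp hB hBD
    rw [hcz] at h1
    have h2 : (2 : ℕ) ^ 1 = 2 ^ blockDefect 2 B := by rw [pow_one]; exact h1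
    exact (Nat.pow_right_injective (le_refl 2) h2).symm
  have hbD := isDefectGroup_of_induced' hMp _ _ hK hQ hb.1 hB hBD hb
  have hdb : blockDefect 2 b = 1 := by
    have h1 := Cfsg.Agent.Lib.Helper22.IsDefectGroup.card_eq hMp hb.1 hbD
    have hle : Subgroup.zpowers x ≤ Subgroup.centralizer ({x} : Set G) := by
      rw [Subgroup.zpowers_le]
      exact Subgroup.mem_centralizer_singleton_iff.2 rfl
    have h3 : Nat.card ((Subgroup.zpowers x).subgroupOf (Subgroup.centralizer ({x} : Set G)))
        = 2 := by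
      have := Subgroup.card_map_of_injective
        (K := (Subgroup.zpowers x).subgroupOf (Subgroup.centralizer ({x} : Set G)))
        (Subgroup.subtype_injective _)
      rw [← this, Subgroup.subgroupOf_map_subtype, inf_of_le_left hle, hcz]
    rw [h3] at h1
    have h2 : (2 : ℕ) ^ 1 = 2 ^ blockDefect 2 b := by rw [pow_one]; exact h1
    exact (Nat.pow_right_injective (le_refl 2) h2).symm
  obtain ⟨χ₁, χ₂, hne, hBeq, hodd, heven⟩ := two_block_defect_one hMp hB hdB
  obtain ⟨θ₁, θ₂, hneθ, hbeq, hoddθ, hevenθ⟩ := two_block_defect_one hMp hb.1 hdb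
  -- the partner of `θ`
  obtain ⟨θ', hθ'ne, hbeq', hodd', heven'⟩ :
      ∃ θ' : IrrCharacter (Subgroup.centralizer ({x} : Set G)), θ' ≠ θ ∧ b = {θ, θ'} ∧
      (∀ y : Subgroup.centralizer ({x} : Set G), ¬ 2 ∣ orderOf y →
        (θ' : Subgroup.centralizer ({x} : Set G) → ℂ) y
          = (θ : Subgroup.centralizer ({x} : Set G) → ℂ) y) ∧
      (∀ y : Subgroup.centralizer ({x} : Set G), 2 ∣ orderOf y →
        (θ' : Subgroup.centralizer ({x} : Set G) → ℂ) y
          = - (θ : Subgroup.centralizer ({x} : Set G) → ℂ) y) := by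
    rw [hbeq, Set.mem_insert_iff, Set.mem_singleton_iff] at hθ
    rcases hθ with rfl | rfl
    · exact ⟨θ₂, hneθ.symm, hbeq, fun y hy => (hoddθ y hy).symm, hevenθ⟩
    · refine ⟨θ₁, hneθ, ?_, hoddθ, ?_⟩
      · rw [hbeq, Set.pair_comm]
      · intro y hy
        rw [hevenθ y hy, neg_neg]
  have hχ₁B : χ₁ ∈ B := by rw [hBeq]; simp
  have hχ₂B : χ₂ ∈ B := by rw [hBeq]; simp
  refine ⟨?_, ?_, ?_⟩
  · rw [hBeq, Nat.card_coe_set_eq, Set.ncard_pair hne]
  · intro χ hχ ψ hψ g hg
    rw [hBeq, Set.mem_insert_iff, Set.mem_singleton_iff] at hχ hψ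
    rcases hχ with rfl | rfl <;> rcases hψ with rfl | rfl
    · rfl
    · exact hodd g hg
    · exact (hodd g hg).symm
    · rfl
  · refine ⟨χ₁, hχ₁B, χ₂, hχ₂B, hne, ?_⟩
    have hs1 := section_values_of_two_block hMp x hx hB hBD hb θ θ' hbeq' hθ'ne hodd' heven' hθx
      χ₁ hχ₁B
    have hs2 := section_values_of_two_block hMp x hx hB hBD hb θ θ' hbeq' hθ'ne hodd' heven' hθx
      χ₂ hχ₂B
    set D₁ := classInner (secLin 2 x (χ₁ : G → ℂ))
      (θ : Subgroup.centralizer ({x} : Set G) → ℂ) with hD₁
    set D₂ := classInner (secLin 2 x (χ₂ : G → ℂ))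
      (θ : Subgroup.centralizer ({x} : Set G) → ℂ) with hD₂
    have hθ1 : (θ : Subgroup.centralizer ({x} : Set G) → ℂ) 1 ≠ 0 :=
      IsIrrCharacter.apply_one_ne_zero θ.2
    have hone : ¬ 2 ∣ orderOf (1 : Subgroup.centralizer ({x} : Set G)) := by
      rw [orderOf_one]; norm_num
    -- `D₂ = - D₁`
    have hx2 : 2 ∣ orderOf x := by rw [hx]
    have hDneg : D₂ = - D₁ := by
      have e1 := hs1 1 hone
      have e2 := hs2 1 hone
      simp only [OneMemClass.coe_one, mul_one] at e1 e2
      rw [heven x hx2, e1] at e2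
      have : (2 * D₂ + 2 * D₁) * (θ : Subgroup.centralizer ({x} : Set G) → ℂ) 1 = 0 := by
        linear_combination -e2
      rcases mul_eq_zero.1 this with h3 | h3
      · linear_combination h3 / 2
      · exact absurd h3 hθ1
    -- `D₁` is real
    have hDreal : conj D₁ = D₁ := by
      have e1 := hs1 1 hone
      simp only [OneMemClass.coe_one, mul_one] at e1
      have hχreal : conj ((χ₁ : G → ℂ) x) = (χ₁ : G → ℂ) x := by
        have hinv : x⁻¹ = x := by
          have hx2 : x ^ 2 = 1 := by rw [← hx]; exact pow_orderOf_eq_one x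
          rw [inv_eq_iff_mul_eq_one, ← sq, hx2]
        have := char_inv (IrrCharacter_isCharacter χ₁) x
        rw [hinv] at this
        exact this.symm
      have hθreal : conj ((θ : Subgroup.centralizer ({x} : Set G) → ℂ) 1)
          = (θ : Subgroup.centralizer ({x} : Set G) → ℂ) 1 := by
        rw [← charDegree_cast (IrrCharacter_isCharacter θ), Complex.conj_natCast]
      have e2 : D₁ = (χ₁ : G → ℂ) x / (2 * (θ : Subgroup.centralizer ({x} : Set G) → ℂ) 1) := by
        rw [e1]
        field_simp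
      rw [e2, map_div₀, map_mul, hχreal, hθreal]
      have h2c : (starRingEnd ℂ) (2 : ℂ) = 2 := by
        have := Complex.conj_natCast 2
        exact_mod_cast this
      rw [h2c]
    -- the norm identity
    have hBχ₁ : B = blockOf M (χ₁ : G → ℂ) := IsPBlock.eq_blockOf hM hB hχ₁B
    have hbθ : b = blockOf M (θ : Subgroup.centralizer ({x} : Set G) → ℂ) :=
      IsPBlock.eq_blockOf hM hb.1 hθ
    have hind' : IsInducedBlock M (Subgroup.centralizer ({x} : Set G))
        (blockOf M (θ : Subgroup.centralizer ({x} : Set G) → ℂ)) (blockOf M (χ₁ : G → ℂ)) := by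
      rw [← hBχ₁, ← hbθ]
      exact hb
    have hnorm := classInner_pReg_self_eq_sum_sq hMp hx' χ₁ θ hind'
    rw [← hBχ₁] at hnorm
    have hsum2 : (∑ χ : IrrCharacter G, if χ ∈ B then
        conj (classInner (secLin 2 x (χ : G → ℂ)) (θ : Subgroup.centralizer ({x} : Set G) → ℂ)) *
          classInner (secLin 2 x (χ : G → ℂ)) (θ : Subgroup.centralizer ({x} : Set G) → ℂ)
        else 0) = conj D₁ * D₁ + conj D₂ * D₂ := by
      rw [← Finset.sum_subset (Finset.subset_univ ({χ₁, χ₂} : Finset (IrrCharacter G)))]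
      · rw [Finset.sum_insert (by simpa using hne), Finset.sum_singleton, if_pos hχ₁B,
          if_pos hχ₂B]
      · intro ψ _ hψ
        have hψB : ψ ∉ B := by
          rw [hBeq]
          simpa using hψ
        rw [if_neg hψB]
    rw [hsum2, hDneg, hDreal] at hnorm
    -- `[θ°, θ] = 1/2`
    have hhalf : classInner (pRegularPart 2 (θ : Subgroup.centralizer ({x} : Set G) → ℂ))
        (θ : Subgroup.centralizer ({x} : Set G) → ℂ) = 1 / 2 := by
      have e : pRegularPart 2 (θ : Subgroup.centralizer ({x} : Set G) → ℂ)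
          = (1 / 2 : ℂ) • ((θ : Subgroup.centralizer ({x} : Set G) → ℂ)
            + (θ' : Subgroup.centralizer ({x} : Set G) → ℂ)) := by
        funext y
        by_cases hy : 2 ∣ orderOf y
        · rw [pRegularPart_of_singular _ hy]
          simp only [Pi.smul_apply, Pi.add_apply, smul_eq_mul]
          rw [heven' y hy]
          ring
        · rw [pRegularPart_of_regular _ hy]
          simp only [Pi.smul_apply, Pi.add_apply, smul_eq_mul]
          rw [hodd' y hy]
          ring
      rw [e, classInner_smul_left, classInner_add_left, irr_inner_self, irr_inner_ne hθ'ne]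
      ring
    rw [hhalf] at hnorm
    have hsq : (2 * D₁) ^ 2 = 1 := by
      have : conj (-D₁) = -D₁ := by rw [map_neg, hDreal]
      rw [this] at hnorm
      linear_combination -2 * hnorm
    have hcases : 2 * D₁ = 1 ∨ 2 * D₁ = -1 := by
      have : (2 * D₁ - 1) * (2 * D₁ + 1) = 0 := by linear_combination hsq
      rcases mul_eq_zero.1 this with h | h
      · left; linear_combination h
      · right; linear_combination h
    rcases hcases with h1 | h1
    · refine ⟨1, -1, Or.inl rfl, Or.inr rfl, by norm_num, fun y hy => ⟨?_, ?_⟩⟩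
      · rw [hs1 y hy, h1]
        push_cast
        ring
      · rw [hs2 y hy, hDneg]
        have : 2 * -D₁ = -1 := by linear_combination -h1
        rw [this]
        push_cast
        ring
    · refine ⟨-1, 1, Or.inr rfl, Or.inl rfl, by norm_num, fun y hy => ⟨?_, ?_⟩⟩
      · rw [hs1 y hy, h1]
        push_cast
        ring
      · rw [hs2 y hy, hDneg]
        have : 2 * -D₁ = 1 := by linear_combination -h1
        rw [this]
        push_cast
        ring

end Cfsg.Agent.Lib.Helper21
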