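import Mathlib
import Cfsg.Agent.Lib.Helper21.InducedSum
import Cfsg.Agent.Lib.Helper21.OsimaApps
import Cfsg.Agent.Lib.Helper81.BPTransport

/-!
# Transitivity of block induction through an intermediate subgroup

`H ≤ K ≤ G`.  A block of `H` is transported to `H.subgroupOf K`; if the transported block induces
the block `β` of `K` (inside the group `K`) and the original block induces `B` (inside `G`), then
`β` induces `B`.
-/

set_option autoImplicit false
set_option linter.unusedSectionVars false

namespace Cfsg.Agent.Lib.Helper21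

open Cfsg
open scoped ComplexConjugate
open Cfsg.Agent.Lib.Helper82 Cfsg.Agent.Lib.Helper83 Cfsg.Agent.Lib.Helper81

universe u
variable {G : Type u} [Group G] [Fintype G] {H K : Subgroup G} [Fintype H] [Fintype K]
  (hHK : H ≤ K)

/-- The induced central character through the intermediate subgroup. -/
theorem omega_classInd_subgroupOf [Fintype (H.subgroupOf K)] (θ : H → ℂ) (g : G) :
    omega (fun h' : H.subgroupOf K => classInd K g (h' : K))
      (fun h' : H.subgroupOf K => θ (Subgroup.subgroupOfEquivOfLe hHK h')) =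
      inducedCentralChar H θ g := by
  classical
  rw [inducedCentralChar_eq_omega, omega, omega]
  congr 1
  · apply Fintype.sum_equiv (Subgroup.subgroupOfEquivOfLe hHK).toEquiv
    intro h'
    simp only [MulEquiv.toEquiv_eq_coe, MulEquiv.coe_toEquiv]
    congr 1

theorem isInducedBlock_trans {M : Ideal AlgInt} (hM : M.IsPrime) [Fintype (H.subgroupOf K)]
    (θ₀ : IrrCharacter H) {β : Set (IrrCharacter K)} {B : Set (IrrCharacter G)}
    (h₁ : IsInducedBlock M (H.subgroupOf K)
      (blockOf M (irrComp (Subgroup.subgroupOfEquivOfLe hHK) θ₀ : H.subgroupOf K → ℂ)) β)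
    (h₂ : IsInducedBlock M H (blockOf M (θ₀ : H → ℂ)) B) :
    IsInducedBlock M K β B := by
  classical
  have : Fintype (ConjClasses K) := Fintype.ofFinite _
  refine ⟨h₁.2.1, h₂.2.1, ?_⟩
  intro ξ hξ χ hχ g
  set θ₀' : IrrCharacter (H.subgroupOf K) := irrComp (Subgroup.subgroupOfEquivOfLe hHK) θ₀
    with hθ₀'
  have hθ₀'mem : θ₀' ∈ blockOf M (θ₀' : H.subgroupOf K → ℂ) := mem_blockOf_self hM θ₀'
  have hθ₀mem : θ₀ ∈ blockOf M (θ₀ : H → ℂ) := mem_blockOf_self hM θ₀
  have e1 : inducedCentralChar H (θ₀ : H → ℂ) g =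
      ∑ L : ConjClasses K, classInd K g (Quotient.out L) *
        inducedCentralChar (H.subgroupOf K) (θ₀' : H.subgroupOf K → ℂ) (Quotient.out L) := by
    rw [sum_classes_mul_induced (H.subgroupOf K) (classInd_isClassFunction K g)]
    exact (omega_classInd_subgroupOf hHK (θ₀ : H → ℂ) g).symm
  have e2 := inducedCentralChar_eq_sum_classes K ξ g
  have h3 : MemLocalIdeal M (inducedCentralChar K (ξ : K → ℂ) g -
      inducedCentralChar H (θ₀ : H → ℂ) g) := by
    rw [e1, e2, ← Finset.sum_sub_distrib]
    apply memLocalIdeal_sum hM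
    intro L _
    rw [← mul_sub]
    apply memLocalIdeal_mul_left hM
    · rw [classInd_apply]
      split_ifs
      · exact memLocalRing_one hM
      · exact memLocalRing_zero hM
    · have := h₁.2.2 θ₀' hθ₀'mem ξ hξ (Quotient.out L)
      have h2 := memLocalIdeal_neg this
      convert h2 using 1
      ring
  have h4 := h₂.2.2 θ₀ hθ₀mem χ hχ g
  have := memLocalIdeal_add hM h3 h4
  convert this using 1
  ring

end Cfsg.Agent.Lib.Helper21
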