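import Mathlib
import Cfsg.Agent.Lib.Helper21.FongReynoldsDefect
import Cfsg.Agent.Lib.Helper21.BlockDegreeSum
import Cfsg.Agent.Lib.Helper81.BlockNilp
import Cfsg.Agent.Lib.Helper81.DefectBasic
import Cfsg.Agent.Lib.Helper01.PCore
import Cfsg.Agent.Lib.Helper83.Quotient
import Cfsg.Agent.S0912
import Cfsg.Agent.S0965

/-!
# Blocks covering a block of a normal subgroup containing the centralizer of a normal `p`-subgroup

`N ⊴ G`, `Q ⊴ G` a `p`-subgroup with `C_G(Q) ≤ N`, `b` a block of `N`, `T ≥ N` the stabilizer of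
`b`.  Then all characters of `T` over `b` lie in one block of `T`, whose defect is
`d(b) + ν_p [T : N]`.
-/

set_option autoImplicit false
set_option linter.unusedSectionVars false

namespace Cfsg.Agent.Lib.Helper21

open Cfsg
open scoped ComplexConjugate
open Cfsg.Agent.Lib.Helper82 Cfsg.Agent.Lib.Helper83 Cfsg.Agent.Lib.Helper84

universe u
variable {G : Type u} [Group G] [Fintype G] {N T : Subgroup G} [hN : N.Normal]
  [Fintype N] [Fintype T] (hNT : N ≤ T) {b : Set (IrrCharacter N)}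

variable (N T) in
/-- Extension by zero to `T` of a function on `N`. -/
noncomputable def extFun (f₀ : N → ℂ) : T → ℂ :=
  fun t => by classical exact if h : (t : G) ∈ N then f₀ ⟨(t : G), h⟩ else 0

theorem extFun_of_mem (f₀ : N → ℂ) {t : T} (h : (t : G) ∈ N) :
    extFun N T f₀ t = f₀ ⟨(t : G), h⟩ := by
  unfold extFun
  rw [dif_pos h]

theorem extFun_of_not_mem (f₀ : N → ℂ) {t : T} (h : (t : G) ∉ N) : extFun N T f₀ t = 0 := by
  unfold extFun
  rw [dif_neg h]

theorem sum_extFun_mul (f₀ : N → ℂ) (ξ : T → ℂ) :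
    ∑ t : T, extFun N T f₀ t * ξ t = ∑ n : N, f₀ n * resFun N T hNT ξ n := by
  classical
  symm
  apply Finset.sum_bij_ne_zero (fun (n : N) _ _ => (⟨(n : G), hNT n.2⟩ : T))
  · intro a _ _
    exact Finset.mem_univ _
  · intro a₁ _ _ a₂ _ _ h
    apply Subtype.ext
    exact congrArg (fun t : T => (t : G)) h
  · intro t _ ht
    have htN : (t : G) ∈ N := by
      by_contra h
      apply ht
      rw [extFun_of_not_mem f₀ h, zero_mul]
    refine ⟨⟨(t : G), htN⟩, Finset.mem_univ _, ?_, rfl⟩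
    rw [extFun_of_mem f₀ htN] at ht
    exact ht
  · intro n _ _
    have hn : ((⟨(n : G), hNT n.2⟩ : T) : G) ∈ N := n.2
    rw [extFun_of_mem f₀ hn]
    rfl

/-- `omega` of a `T`-invariant function against a `T`-conjugate. -/
theorem omega_conjFun_of_invariant (f₀ : N → ℂ) (t : G)
    (hinv : ∀ n : N, f₀ ⟨t⁻¹ * n * t⁻¹⁻¹, hN.conj_mem n n.2 t⁻¹⟩ = f₀ n) (θ : N → ℂ) :
    omega f₀ (conjFun N t θ) = omega f₀ θ := by
  have h1 : conjFun N t θ 1 = θ 1 := by
    rw [conjFun_apply]
    congr 1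
    apply Subtype.ext
    simp
  rw [omega, omega, h1]
  congr 1
  rw [conjFun_eq_comp]
  rw [← Equiv.sum_comp (MulAut.conjNormal t : MulAut N).symm.toEquiv]
  apply Finset.sum_congr rfl
  intro n _
  simp only [MulEquiv.toEquiv_eq_coe, MulEquiv.coe_toEquiv, MulEquiv.apply_symm_apply]
  congr 1
  have h2 : ((MulAut.conjNormal t : MulAut N).symm n) =
      ⟨t⁻¹ * n * t⁻¹⁻¹, hN.conj_mem n n.2 t⁻¹⟩ := by
    apply Subtype.ext
    rw [MulAut.conjNormal_symm_apply]
    simp
  rw [h2, hinv n]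

/-- **Clifford form of the central character on `N`-supported class functions**: for `ξ ∈ Irr(T)`
over `θ ∈ Irr(N)` and a `T`-invariant function `f₀` on `N`, `ω_ξ(f₀) = ω_θ(f₀)`. -/
theorem omega_extFun_eq {ξ : T → ℂ} (hξ : IsIrrCharacter T ξ) {θ : N → ℂ}
    (hθ : IsIrrCharacter N θ) (hc : classInner (resFun N T hNT ξ) θ ≠ 0) (f₀ : N → ℂ)
    (hinv : ∀ t ∈ T, ∀ n : N, f₀ ⟨t * n * t⁻¹, hN.conj_mem n n.2 t⟩ = f₀ n) :
    omega (extFun N T f₀) ξ = omega f₀ θ := by
  classical
  have : Fintype (IrrCharacter N) := Fintype.ofFinite _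
  have hA : IsCharacter N (resFun N T hNT ξ) := isCharacter_resFun N T hNT (isCharacter_of_irr hξ)
  have h1 : ξ 1 ≠ 0 := IsIrrCharacter.apply_one_ne_zero hξ
  rw [omega, div_eq_iff h1, sum_extFun_mul hNT]
  have hdec := char_eq_sum_irrMult hA
  have e0 : ∃ m : IrrCharacter N → ℂ,
      (∀ φ, m φ = classInner (resFun N T hNT ξ) (φ : N → ℂ)) ∧
      ∀ n : N, resFun N T hNT ξ n = ∑ φ : IrrCharacter N, m φ * (φ : N → ℂ) n := by
    refine ⟨fun φ => (irrMult (resFun N T hNT ξ) φ : ℂ), fun φ => irrMult_cast hA φ, ?_⟩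
    intro n
    have h := congrFun hdec n
    rw [Finset.sum_apply] at h
    exact h
  obtain ⟨m, hm, e1⟩ := e0
  have hL : ∑ n : N, f₀ n * resFun N T hNT ξ n =
      ∑ n : N, ∑ φ : IrrCharacter N, f₀ n * (m φ * (φ : N → ℂ) n) :=
    Finset.sum_congr rfl (fun n _ => by rw [e1 n, Finset.mul_sum])
  rw [hL, Finset.sum_comm]
  have hterm : ∀ φ : IrrCharacter N, ∑ n : N, f₀ n * (m φ * (φ : N → ℂ) n) =
      omega f₀ θ * (m φ * (φ : N → ℂ) 1) := by
    intro φ
    by_cases h0 : m φ = 0
    · simp [h0]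
    · have hφc : classInner (resFun N T hNT ξ) (φ : N → ℂ) ≠ 0 := by rw [← hm]; exact h0
      obtain ⟨t, ht, htθ⟩ := exists_conj_mem_of_constituents N T hNT hξ hθ φ.2 hc hφc
      have h1φ : (φ : N → ℂ) 1 ≠ 0 := IsIrrCharacter.apply_one_ne_zero φ.2
      have hω : omega f₀ (φ : N → ℂ) = omega f₀ θ := by
        rw [← htθ]
        apply omega_conjFun_of_invariant
        intro n
        exact hinv t⁻¹ (T.inv_mem ht) n
      have : ∑ n : N, f₀ n * (m φ * (φ : N → ℂ) n) =
          m φ * ∑ n : N, f₀ n * (φ : N → ℂ) n := by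
        rw [Finset.mul_sum]
        exact Finset.sum_congr rfl fun n _ => by ring
      rw [this, ← hω, omega, div_mul_eq_mul_div, mul_div_assoc]
      field_simp
  simp_rw [hterm]
  rw [← Finset.mul_sum]
  congr 1
  have h2 : ξ 1 = resFun N T hNT ξ 1 := rfl
  rw [h2, e1 1]


/-- The class indicator of an element of `N`, as an extension by zero. -/
theorem clsInd_eq_extFun (t : T) (ht : (t : G) ∈ N) :
    clsInd t = extFun N T (fun n : N => clsInd t ⟨(n : G), hNT n.2⟩) := by
  classical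
  funext s
  by_cases hs : (s : G) ∈ N
  · rw [extFun_of_mem _ hs]
  · rw [extFun_of_not_mem _ hs, clsInd_eq t]
    have : ¬ IsConj t s := by
      intro h
      obtain ⟨c, hc⟩ := isConj_iff.1 h
      apply hs
      rw [← hc]
      have := hN.conj_mem (t : G) ht (c : G)
      simpa using this
    simp only [this, if_false]

theorem clsInd_isClassFunction {K : Type*} [Group K] (k₀ : K) : IsClassFunction K (clsInd k₀) := by
  classical
  rw [clsInd_eq k₀]
  intro x h
  have : IsConj k₀ (h * x * h⁻¹) ↔ IsConj k₀ x := by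
    constructor
    · intro e
      exact e.trans (isConj_iff.2 ⟨h⁻¹, by group⟩)
    · intro e
      exact e.trans (isConj_iff.2 ⟨h, rfl⟩)
  simp only [this]

theorem clsInd_memLocalRing {K : Type*} [Group K] {M : Ideal AlgInt} (hM : M.IsPrime) (k₀ k : K) :
    MemLocalRing M (clsInd k₀ k) := by
  classical
  rw [clsInd_eq k₀]
  simp only
  split_ifs
  · exact memLocalRing_one hM
  · exact memLocalRing_zero hM

/-- Characters of `T` over the same block of `N` have congruent central characters on `N`. -/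
theorem centralChar_sub_of_over_of_mem {M : Ideal AlgInt} (hM : M.IsPrime) (hb : IsPBlock M b)
    {ξ₁ ξ₂ : T → ℂ} (h₁ : IsIrrCharacter T ξ₁) (h₂ : IsIrrCharacter T ξ₂)
    (o₁ : OverBlock N T hNT b ξ₁) (o₂ : OverBlock N T hNT b ξ₂) (t : T) (ht : (t : G) ∈ N) :
    MemLocalIdeal M (centralChar ξ₁ t - centralChar ξ₂ t) := by
  classical
  have : Fintype (IrrCharacter N) := Fintype.ofFinite _
  obtain ⟨θ₁, hθ₁, c₁⟩ := o₁
  obtain ⟨θ₂, hθ₂, c₂⟩ := o₂
  set f₀ : N → ℂ := fun n : N => clsInd t ⟨(n : G), hNT n.2⟩ with hf₀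
  have hinv : ∀ u ∈ T, ∀ n : N, f₀ ⟨u * n * u⁻¹, hN.conj_mem n n.2 u⟩ = f₀ n := by
    intro u hu n
    have := clsInd_isClassFunction t (⟨(n : G), hNT n.2⟩ : T) ⟨u, hu⟩
    rw [hf₀]
    simp only
    rw [← this]
    congr 1
  have hcl : IsClassFunction N f₀ := by
    intro n u
    have := hinv (u : G) (hNT u.2) n
    rw [← this]
    congr 1
  have hR : ∀ n, MemLocalRing M (f₀ n) := fun n => clsInd_memLocalRing hM _ _
  have e₁ : centralChar ξ₁ t = omega f₀ (θ₁ : N → ℂ) := by
    rw [← omega_indicator (char_isClassFunction (isCharacter_of_irr h₁)) t, ← clsInd_eq t,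
      clsInd_eq_extFun hNT t ht]
    exact omega_extFun_eq hNT h₁ θ₁.2 c₁ f₀ hinv
  have e₂ : centralChar ξ₂ t = omega f₀ (θ₂ : N → ℂ) := by
    rw [← omega_indicator (char_isClassFunction (isCharacter_of_irr h₂)) t, ← clsInd_eq t,
      clsInd_eq_extFun hNT t ht]
    exact omega_extFun_eq hNT h₂ θ₂.2 c₂ f₀ hinv
  rw [e₁, e₂]
  exact omega_sub_memLocalIdeal hM hcl hR (IsPBlock.sameBlock hM hb hθ₁ hθ₂)

/-- Off `N`, central characters of `T` vanish modulo the local ideal, when `N` contains the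
centralizer of a normal `p`-subgroup `Q ≤ N`. -/
theorem centralChar_memLocalIdeal_of_not_mem {p : ℕ} [Fact p.Prime] {M : Ideal AlgInt}
    (hMod : IsPModular p M) (Q : Subgroup G) [hQn : Q.Normal] (hQ : IsPGroup p Q) (hQT : Q ≤ T)
    (hCQ : Subgroup.centralizer (Q : Set G) ⊓ T ≤ N) (ξ : IrrCharacter T) (t : T)
    (ht : (t : G) ∉ N) : MemLocalIdeal M (centralChar (ξ : T → ℂ) t) := by
  classical
  have : Fintype (IrrCharacter T) := Fintype.ofFinite _
  have hQ' : IsPGroup p (Q.subgroupOf T) := hQ.comap_subtype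
  apply Cfsg.Agent.Lib.Helper81.memLocalIdeal_centralChar_of_not_mem_centralizer hMod
    (Q.subgroupOf T) hQ' t _ ξ
  intro h
  apply ht
  apply hCQ
  refine ⟨?_, t.2⟩
  change (t : G) ∈ Subgroup.centralizer (Q : Set G)
  rw [Subgroup.mem_centralizer_iff]
  intro q hq
  have := Subgroup.mem_centralizer_iff.1 h ⟨q, hQT hq⟩ (by
    change (⟨q, hQT hq⟩ : T) ∈ Q.subgroupOf T
    rw [Subgroup.mem_subgroupOf]
    exact hq)
  exact congrArg Subtype.val this

/-- **Uniqueness of the covering block** in `T`. -/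
theorem sameBlock_of_over {p : ℕ} [Fact p.Prime] {M : Ideal AlgInt}
    (hMod : IsPModular p M) (hb : IsPBlock M b) (Q : Subgroup G) [hQn : Q.Normal]
    (hQ : IsPGroup p Q) (hQT : Q ≤ T) (hCQ : Subgroup.centralizer (Q : Set G) ⊓ T ≤ N)
    {ξ₁ ξ₂ : IrrCharacter T} (o₁ : OverBlock N T hNT b (ξ₁ : T → ℂ))
    (o₂ : OverBlock N T hNT b (ξ₂ : T → ℂ)) : SameBlock M (ξ₁ : T → ℂ) (ξ₂ : T → ℂ) := by
  have hM : M.IsPrime := hMod.2.1.isPrime
  intro t
  by_cases ht : (t : G) ∈ N
  · exact centralChar_sub_of_over_of_mem hNT hM hb ξ₁.2 ξ₂.2 o₁ o₂ t ht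
  · exact memLocalIdeal_sub hM
      (centralChar_memLocalIdeal_of_not_mem hMod Q hQ hQT hCQ ξ₁ t ht)
      (centralChar_memLocalIdeal_of_not_mem hMod Q hQ hQT hCQ ξ₂ t ht)


/-! ### Dimensions -/

/-- The squared-degree sum of a set of irreducible characters. -/
noncomputable def sqSum {K : Type u} [Group K] [Fintype (IrrCharacter K)]
    (A : Set (IrrCharacter K)) : ℕ :=
  haveI := Classical.decPred (· ∈ A)
  ∑ ξ : IrrCharacter K, if ξ ∈ A then charDegree (ξ : K → ℂ) ^ 2 else 0

theorem sqSum_eq {K : Type u} [Group K] [Fintype (IrrCharacter K)]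
    (A : Set (IrrCharacter K)) [DecidablePred (· ∈ A)] :
    sqSum A = ∑ ξ : IrrCharacter K, if ξ ∈ A then charDegree (ξ : K → ℂ) ^ 2 else 0 := by
  unfold sqSum
  apply Finset.sum_congr rfl
  intro ξ _
  split_ifs <;> rfl

theorem blockCoeff_one_eq {K : Type u} [Group K] [Fintype K] [Fintype (IrrCharacter K)]
    (A : Set (IrrCharacter K)) :
    blockCoeff A 1 = (Nat.card K : ℂ)⁻¹ * (sqSum A : ℂ) := by
  classical
  rw [blockCoeff_eq_sum A 1, sqSum_eq A]
  congr 1
  push_cast
  apply Finset.sum_congr rfl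
  intro ξ _
  split_ifs
  · rw [charDegree_cast (IrrCharacter_isCharacter ξ), ← charDegree_cast (IrrCharacter_isCharacter ξ),
      Complex.conj_natCast]
    ring
  · rfl

/-- For a block `B`: `ν_p(dim B) + d(B) = 2 ν_p |K|`. -/
theorem factorization_sqSum_add_blockDefect {K : Type u} [Group K] [Fintype K]
    [Fintype (IrrCharacter K)] {p : ℕ} [Fact p.Prime] {M : Ideal AlgInt} (hMod : IsPModular p M)
    {B : Set (IrrCharacter K)} (hB : IsPBlock M B) :
    (sqSum B).factorization p + blockDefect p B = 2 * (Nat.card K).factorization p := by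
  classical
  have hM : M.IsPrime := hMod.2.1.isPrime
  have hne : ((fun χ : IrrCharacter K => (charDegree (χ : K → ℂ)).factorization p) '' B).Nonempty := by
    obtain ⟨χ, hχ⟩ := IsPBlock.nonempty hM hB
    exact ⟨_, χ, hχ, rfl⟩
  obtain ⟨χ, hχB, hχmin⟩ := Nat.sInf_mem hne
  have hBeq : B = blockOf M (χ : K → ℂ) := IsPBlock.eq_blockOf hM hB hχB
  have hmin : ∀ χ' : IrrCharacter K, SameBlock M (χ : K → ℂ) (χ' : K → ℂ) →
      (charDegree (χ : K → ℂ)).factorization p ≤ (charDegree (χ' : K → ℂ)).factorization p := by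
    intro χ' hs
    have : χ' ∈ B := by rw [hBeq]; exact mem_blockOf_iff.2 hs
    change (fun χ : IrrCharacter K => (charDegree (χ : K → ℂ)).factorization p) χ ≤ _
    rw [hχmin]
    exact Nat.sInf_le ⟨χ', this, rfl⟩
  have h1 := factorization_sum_degree_sq hMod χ hmin
  have h2 : sqSum B = ∑ ψ : IrrCharacter K, if ψ ∈ blockOf M (χ : K → ℂ) then
      charDegree (ψ : K → ℂ) ^ 2 else 0 := by
    rw [sqSum_eq B]
    apply Finset.sum_congr rfl
    intro ψ _
    exact if_congr (by rw [hBeq]) rfl rfl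
  rw [h2, h1]
  unfold blockDefect
  rw [← hχmin]
  have hdvd : charDegree (χ : K → ℂ) ∣ Nat.card K := irr_charDegree_dvd_card χ
  have hle : (charDegree (χ : K → ℂ)).factorization p ≤ (Nat.card K).factorization p := by
    have h0 : charDegree (χ : K → ℂ) ≠ 0 := charDegree_ne_zero' χ
    have h0' : Nat.card K ≠ 0 := Nat.card_pos.ne'
    exact (Nat.factorization_le_iff_dvd h0 h0').2 hdvd p
  simp only
  omega

variable (b) in
/-- The irreducible characters of `T` over `b`. -/
def overSetT : Set (IrrCharacter T) := {ξ | OverBlock N T hNT b (ξ : T → ℂ)}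

theorem blockCoeff_overSetT (hstab : StabBlock N T b) (t : T) :
    blockCoeff (overSetT hNT b) t = ebFun N T b t := by
  classical
  have : Fintype (IrrCharacter T) := Fintype.ofFinite _
  apply blockCoeff_eq_of_omega _ (ebFun_isClassFunction hstab)
  intro ξ
  by_cases h : ξ ∈ overSetT hNT b
  · rw [if_pos h]
    exact omega_ebFun_of_over hNT hstab ξ.2 h
  · rw [if_neg h]
    exact omega_ebFun_of_not_over hNT ξ.2 h

/-- The dimension identity: `dim(Irr(T | b)) · |N| = |T| · dim b`. -/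
theorem sqSum_overSetT [Fintype (IrrCharacter T)] [Fintype (IrrCharacter N)]
    (hstab : StabBlock N T b) :
    sqSum (overSetT hNT b) * Nat.card N = Nat.card T * sqSum b := by
  have h := blockCoeff_overSetT hNT hstab 1
  have h1 : ((1 : T) : G) ∈ N := by
    rw [Subgroup.coe_one]
    exact N.one_mem
  rw [ebFun_of_mem h1, blockCoeff_one_eq, show (⟨((1 : T) : G), h1⟩ : N) = 1 from rfl,
    blockCoeff_one_eq] at h
  have hT : (Nat.card T : ℂ) ≠ 0 := by
    have : Nat.card T ≠ 0 := Nat.card_pos.ne'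
    exact_mod_cast this
  have hNc : (Nat.card N : ℂ) ≠ 0 := by
    have : Nat.card N ≠ 0 := Nat.card_pos.ne'
    exact_mod_cast this
  have h2 : (sqSum (overSetT hNT b) : ℂ) * (Nat.card N : ℂ) = (Nat.card T : ℂ) * (sqSum b : ℂ) := by
    field_simp at h
    rw [h]
  exact_mod_cast h2


theorem sqSum_ne_zero {K : Type u} [Group K] [Fintype (IrrCharacter K)]
    {A : Set (IrrCharacter K)} (hA : A.Nonempty) : sqSum A ≠ 0 := by
  classical
  obtain ⟨χ, hχ⟩ := hA
  rw [sqSum_eq A]
  intro h0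
  have := Finset.sum_eq_zero_iff.1 h0 χ (Finset.mem_univ _)
  rw [if_pos hχ] at this
  exact charDegree_ne_zero' χ (by simpa using this)

include hNT in
theorem card_mul_relIndex_eq : Nat.card N * N.relIndex T = Nat.card T := by
  have := Subgroup.relIndex_mul_relIndex ⊥ N T bot_le hNT
  rwa [Subgroup.relIndex_bot_left, Subgroup.relIndex_bot_left] at this

include hNT in
/-- **Defect of a covering block**: if `N` contains the centralizer of a normal `p`-subgroup `Q ≤ N`
and `T` is the stabilizer of the block `b` of `N`, every block `B₁` of `G` covering `b` has defect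
`d(b) + ν_p [T : N]`. -/
theorem blockDefect_of_cover (p : ℕ) [Fact p.Prime] {M : Ideal AlgInt} (hMod : IsPModular p M)
    (hb : IsPBlock M b) (hstab : StabBlock N T b) (hmeet : MeetBlock N T b)
    (Q : Subgroup G) [hQn : Q.Normal] (hQ : IsPGroup p Q) (hQN : Q ≤ N)
    (hCQ : Subgroup.centralizer (Q : Set G) ≤ N)
    (B₁ : Set (IrrCharacter G)) (hB₁ : IsPBlock M B₁)
    (hcov : ∃ χ ∈ B₁, ∃ θ ∈ b, classInner (fun n : N => (χ : G → ℂ) n) (θ : N → ℂ) ≠ 0) :
    blockDefect p B₁ = blockDefect p b + (N.relIndex T).factorization p := by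
  classical
  have : Fintype (IrrCharacter T) := Fintype.ofFinite _
  have : Fintype (IrrCharacter N) := Fintype.ofFinite _
  have hMp : M.IsPrime := hMod.2.1.isPrime
  obtain ⟨B', hB', hcov', hind⟩ := fong_reynolds_surjective hNT hMp hmeet B₁ hB₁ hcov
  have hdef := (fong_reynolds_height hNT p hMod hb hstab hmeet B' hB' hcov' B₁ hind).2
  obtain ⟨ψ₀, hψ₀, hov₀⟩ := hcov'
  have hB'eq : B' = overSetT hNT b := by
    ext ξ
    constructor
    · intro hξ
      exact over_of_sameBlock hNT hMp hb hstab (IsPBlock.sameBlock hMp hB' hψ₀ hξ) hov₀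
    · intro hξ
      apply IsPBlock.mem_of_sameBlock hMp hB' hψ₀
      exact sameBlock_of_over hNT hMod hb Q hQ (hQN.trans hNT)
        (inf_le_left.trans hCQ) hov₀ hξ
  have hsq := sqSum_overSetT hNT (b := b) hstab
  rw [← hB'eq] at hsq
  have h1 := factorization_sqSum_add_blockDefect hMod hB'
  have h2 := factorization_sqSum_add_blockDefect hMod hb
  have hne' : sqSum B' ≠ 0 := sqSum_ne_zero ⟨ψ₀, hψ₀⟩
  have hneb : sqSum b ≠ 0 := sqSum_ne_zero (IsPBlock.nonempty hMp hb)
  have hN0 : Nat.card N ≠ 0 := Nat.card_pos.ne'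
  have hT0 : Nat.card T ≠ 0 := Nat.card_pos.ne'
  have h3 : (sqSum B' * Nat.card N).factorization p = (Nat.card T * sqSum b).factorization p := by
    rw [hsq]
  rw [Nat.factorization_mul hne' hN0, Nat.factorization_mul hT0 hneb, Finsupp.add_apply,
    Finsupp.add_apply] at h3
  have hrel := card_mul_relIndex_eq hNT
  have hr0 : N.relIndex T ≠ 0 := by
    intro h
    rw [h, mul_zero] at hrel
    exact hT0 hrel.symm
  have h4 : (Nat.card N * N.relIndex T).factorization p = (Nat.card T).factorization p := by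
    rw [hrel]
  rw [Nat.factorization_mul hN0 hr0, Finsupp.add_apply] at h4
  rw [hdef]
  omega


include hNT in
/-- **Extended first main theorem, normal form**: with `Q ⊴ G` a `p`-subgroup, `C_G(Q) ≤ N ⊴ G`,
`b` a block of `N` with defect group `Q` and stabilizer `T`: a block of `G` covering `b` has defect
group `Q` iff `p ∤ [T : N]`. -/
theorem isDefectGroup_iff_of_cover (p : ℕ) [Fact p.Prime] {M : Ideal AlgInt} (hMod : IsPModular p M)
    (hb : IsPBlock M b) (hstab : StabBlock N T b) (hmeet : MeetBlock N T b)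
    (Q : Subgroup G) [hQn : Q.Normal] (hQ : IsPGroup p Q) (hQN : Q ≤ N)
    (hCQ : Subgroup.centralizer (Q : Set G) ≤ N)
    (hbQ : IsDefectGroup p M b (Q.subgroupOf N))
    (B₁ : Set (IrrCharacter G)) (hB₁ : IsPBlock M B₁)
    (hcov : ∃ χ ∈ B₁, ∃ θ ∈ b, classInner (fun n : N => (χ : G → ℂ) n) (θ : N → ℂ) ≠ 0) :
    IsDefectGroup p M B₁ Q ↔ ¬ p ∣ N.relIndex T := by
  have hp : p.Prime := Fact.out
  have hd := blockDefect_of_cover hNT p hMod hb hstab hmeet Q hQ hQN hCQ B₁ hB₁ hcov
  have hcardQ : Nat.card Q = p ^ blockDefect p b := by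
    rw [← Cfsg.Agent.Lib.Helper22.IsDefectGroup.card_eq hMod hb hbQ]
    exact (Nat.card_congr (Subgroup.subgroupOfEquivOfLe hQN).toEquiv).symm
  have hrel := card_mul_relIndex_eq hNT
  have hr0 : N.relIndex T ≠ 0 := by
    intro h
    rw [h, mul_zero] at hrel
    exact (Nat.card_pos (α := T)).ne' hrel.symm
  constructor
  · intro hD
    have h1 := Cfsg.Agent.Lib.Helper22.IsDefectGroup.card_eq hMod hB₁ hD
    rw [hcardQ, hd] at h1
    have h2 := Nat.pow_right_injective hp.two_le h1
    have h3 : (N.relIndex T).factorization p = 0 := by omega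
    rcases (Nat.factorization_eq_zero_iff _ _).1 h3 with h | h | h
    · exact absurd hp h
    · exact h
    · exact absurd h hr0
  · intro hnd
    have h3 : (N.relIndex T).factorization p = 0 := Nat.factorization_eq_zero_of_not_dvd hnd
    rw [h3, add_zero] at hd
    obtain ⟨D, hD⟩ := Cfsg.Agent.Lib.Helper81.exists_isDefectGroup' hMod hB₁
    have hQD : Q ≤ D := (Cfsg.Agent.Lib.Helper01.le_pCore hQn hQ).trans
      (Cfsg.Agent.S0912.result p M hMod B₁ hB₁ D hD)
    have h1 := Cfsg.Agent.Lib.Helper22.IsDefectGroup.card_eq hMod hB₁ hD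
    have heq : Q = D := by
      apply Subgroup.eq_of_le_of_card_ge hQD
      rw [h1, hd, hcardQ]
    rw [heq]
    exact hD

/-- Every block of `G` covering `b` is induced from `b`, when `N` contains the centralizer of a
normal `p`-subgroup. -/
theorem isInducedBlock_of_cover (p : ℕ) [Fact p.Prime] {M : Ideal AlgInt} (hMod : IsPModular p M)
    (hb : IsPBlock M b) (Q : Subgroup G) [hQn : Q.Normal] (hQ : IsPGroup p Q)
    (hCQ : Subgroup.centralizer (Q : Set G) ≤ N)
    (B₁ : Set (IrrCharacter G)) (hB₁ : IsPBlock M B₁)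
    (hcov : ∃ χ ∈ B₁, ∃ θ ∈ b, classInner (fun n : N => (χ : G → ℂ) n) (θ : N → ℂ) ≠ 0) :
    IsInducedBlock M N b B₁ := by
  classical
  have : Fintype (IrrCharacter G) := Fintype.ofFinite _
  have hMp : M.IsPrime := hMod.2.1.isPrime
  refine ⟨hb, hB₁, ?_⟩
  intro θ hθ χ hχ g
  by_cases hg : g ∈ N
  · have := (Cfsg.Agent.S0965.result p M hMod N B₁ hB₁ b hb).1 hcov χ hχ θ hθ ⟨g, hg⟩
    have h2 := memLocalIdeal_neg this
    convert h2 using 1
    ring
  · have h0 : inducedCentralChar N (θ : N → ℂ) g = 0 := by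
      unfold inducedCentralChar
      have : {h : N | IsConj g (h : G)} = ∅ := by
        rw [Set.eq_empty_iff_forall_notMem]
        intro h hh
        obtain ⟨c, hc⟩ := isConj_iff.1 hh
        apply hg
        have : g = c⁻¹ * (h : G) * c⁻¹⁻¹ := by rw [← hc]; group
        rw [this]
        exact hN.conj_mem _ h.2 _
      rw [this, finsum_mem_empty]
    rw [h0, zero_sub]
    apply memLocalIdeal_neg
    apply Cfsg.Agent.Lib.Helper81.memLocalIdeal_centralChar_of_not_mem_centralizer hMod Q hQ g _ χ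
    intro h
    exact hg (hCQ h)

end Cfsg.Agent.Lib.Helper21
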