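import Mathlib
import Cfsg.Agent.Lib.Helper21.NormalPCover
import Cfsg.Agent.Lib.Helper21.InducedTrans
import Cfsg.Agent.Lib.Helper21.DefectTransport
import Cfsg.Agent.Lib.Helper21.BrauerCorr
import Cfsg.Agent.Lib.Helper22.BlockRegular
import Cfsg.Agent.S0920
import Cfsg.Agent.S0973

/-!
# The extended first main theorem: the numerical criterion

`b` a block of `H = P C_G(P)` with defect group `P`, `T` its stabilizer in `N_G(P)`: `b^G` has
defect group `P` iff `p ∤ [T : H]`.
-/

set_option autoImplicit false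
set_option linter.unusedSectionVars false

namespace Cfsg.Agent.Lib.Helper21

open Cfsg
open scoped ComplexConjugate
open Cfsg.Agent.Lib.Helper82 Cfsg.Agent.Lib.Helper83 Cfsg.Agent.Lib.Helper84
open Cfsg.Agent.Lib.Helper81 (irrComp irrComp_apply irrComp_symm_irrComp irrComp_irrComp_symm
  mem_blockOf_irrComp_iff)
open Cfsg.Agent.Lib.Helper22 (irrConj)

universe u
variable {G : Type u} [Group G] [Fintype G]

theorem sup_centralizer_normal (P : Subgroup G) :
    ((P ⊔ Subgroup.centralizer (P : Set G)).subgroupOf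
      (Subgroup.normalizer (P : Set G))).Normal := by
  have hLN : P ⊔ Subgroup.centralizer (P : Set G) ≤ Subgroup.normalizer (P : Set G) :=
    sup_le Subgroup.le_normalizer (Subgroup.centralizer_le_normalizer _)
  rw [Subgroup.normal_subgroupOf_iff hLN]
  intro h k hh hk
  have hmap : (P ⊔ Subgroup.centralizer (P : Set G)).map (MulAut.conj k).toMonoidHom ≤
      P ⊔ Subgroup.centralizer (P : Set G) := by
    rw [Subgroup.map_sup]
    apply sup_le_sup
    · rintro _ ⟨q, hq, rfl⟩
      exact (Subgroup.mem_normalizer_iff.1 hk q).1 hq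
    · rintro _ ⟨c, hc, rfl⟩
      rw [Subgroup.mem_centralizer_iff]
      intro q hq
      have hq' : k⁻¹ * q * k ∈ P := by
        have := (Subgroup.mem_normalizer_iff.1 (Subgroup.inv_mem _ hk) q).1 hq
        simpa using this
      have hcq := Subgroup.mem_centralizer_iff.1 hc _ hq'
      simp only [MulEquiv.coe_toMonoidHom, MulAut.conj_apply]
      calc q * (k * c * k⁻¹) = k * ((k⁻¹ * q * k) * c) * k⁻¹ := by group
        _ = k * (c * (k⁻¹ * q * k)) * k⁻¹ := by rw [hcq]
        _ = k * c * k⁻¹ * q := by group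
  exact hmap ⟨h, hh, rfl⟩

section Transport

variable {H K T : Subgroup G} [Fintype H] [Fintype K] (hHK : H ≤ K)
  [hnorm : (H.subgroupOf K).Normal] {M : Ideal AlgInt}

/-- Stability transported to `K`. -/
theorem stabBlock_transport (_hM : M.IsPrime) [Fintype (H.subgroupOf K)] [Fintype (T.subgroupOf K)]
    (θ₀ : IrrCharacter H)
    (hT : ∀ g ∈ T, ∀ θ ∈ blockOf M (θ₀ : H → ℂ), ∀ θ' : IrrCharacter H,
      (∀ h h' : H, (h' : G) = g * h * g⁻¹ → (θ' : H → ℂ) h' = (θ : H → ℂ) h) →
        θ' ∈ blockOf M (θ₀ : H → ℂ)) :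
    StabBlock (H.subgroupOf K) (T.subgroupOf K)
      (blockOf M (irrComp (Subgroup.subgroupOfEquivOfLe hHK) θ₀ : H.subgroupOf K → ℂ)) := by
  intro x hx ψ hψ
  rw [mem_blockOf_irrComp_iff] at hψ ⊢
  have hxT : (x : G) ∈ T := Subgroup.mem_subgroupOf.1 hx
  apply hT (x : G)⁻¹ (T.inv_mem hxT) _ hψ
  intro h h' hh'
  rw [irrComp_apply, irrComp_apply, Cfsg.Agent.Lib.Helper22.irrConj_apply]
  refine congrArg _ (Subtype.ext (Subtype.ext ?_))
  simp only [Subgroup.coe_mul, Subgroup.coe_inv, Subgroup.subgroupOfEquivOfLe_symm_apply_coe_coe]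
  rw [hh']
  group

/-- The stabilizer condition transported to `K`. -/
theorem meetBlock_transport (hM : M.IsPrime) [Fintype (H.subgroupOf K)] [Fintype (T.subgroupOf K)]
    (θ₀ : IrrCharacter H)
    (hT : ∀ g ∈ K, (∀ θ ∈ blockOf M (θ₀ : H → ℂ), ∀ θ' : IrrCharacter H,
      (∀ h h' : H, (h' : G) = g * h * g⁻¹ → (θ' : H → ℂ) h' = (θ : H → ℂ) h) →
        θ' ∈ blockOf M (θ₀ : H → ℂ)) → g ∈ T) :
    MeetBlock (H.subgroupOf K) (T.subgroupOf K)
      (blockOf M (irrComp (Subgroup.subgroupOfEquivOfLe hHK) θ₀ : H.subgroupOf K → ℂ)) := by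
  intro x ψ hψ hxψ
  rw [Subgroup.mem_subgroupOf]
  apply hT (x : G) x.2
  intro θ₁ hθ₁ θ₁' hθ₁'
  -- `ψ₁ := θ₁ ∘ e ∈ b'`, `ψ₁' := θ₁' ∘ e`, and `ψ₁ = (ψ₁')^x`
  set e := Subgroup.subgroupOfEquivOfLe hHK with he
  have hb' : IsPBlock M (blockOf M (irrComp e θ₀ : H.subgroupOf K → ℂ)) := isPBlock_blockOf _
  have hψ₁ : irrComp e θ₁ ∈ blockOf M (irrComp e θ₀ : H.subgroupOf K → ℂ) := by
    rw [mem_blockOf_irrComp_iff, irrComp_symm_irrComp]
    exact hθ₁
  have hconj : irrConj hnorm x (irrComp e θ₁') = irrComp e θ₁ := by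
    apply Subtype.ext
    funext n
    rw [Cfsg.Agent.Lib.Helper22.irrConj_apply, irrComp_apply, irrComp_apply]
    apply hθ₁'
    simp [he]
  -- same block after conjugating back
  have hs : SameBlock M (irrConj hnorm x ψ : H.subgroupOf K → ℂ)
      (irrConj hnorm x (irrComp e θ₁') : H.subgroupOf K → ℂ) := by
    rw [hconj]
    exact IsPBlock.sameBlock hM hb' hxψ hψ₁
  have hs' := Cfsg.Agent.Lib.Helper22.sameBlock_conjFun hnorm hs x⁻¹
  have e1 : Cfsg.Agent.Lib.Helper85.conjFun hnorm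
      (irrConj hnorm x ψ : H.subgroupOf K → ℂ) x⁻¹ = (ψ : H.subgroupOf K → ℂ) := by
    have := Cfsg.Agent.Lib.Helper22.irrConj_irrConj hnorm x⁻¹ x ψ
    rw [mul_inv_cancel, Cfsg.Agent.Lib.Helper22.irrConj_one] at this
    exact congrArg Subtype.val this
  have e2 : Cfsg.Agent.Lib.Helper85.conjFun hnorm
      (irrConj hnorm x (irrComp e θ₁') : H.subgroupOf K → ℂ) x⁻¹ =
      (irrComp e θ₁' : H.subgroupOf K → ℂ) := by
    have := Cfsg.Agent.Lib.Helper22.irrConj_irrConj hnorm x⁻¹ x (irrComp e θ₁')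
    rw [mul_inv_cancel, Cfsg.Agent.Lib.Helper22.irrConj_one] at this
    exact congrArg Subtype.val this
  rw [e1, e2] at hs'
  have hmem : irrComp e θ₁' ∈ blockOf M (irrComp e θ₀ : H.subgroupOf K → ℂ) :=
    IsPBlock.mem_of_sameBlock hM hb' hψ hs'
  rw [mem_blockOf_irrComp_iff, irrComp_symm_irrComp] at hmem
  exact hmem

end Transport


/-- **The extended first main theorem, numerical criterion.** -/
theorem ext_first_main_iff (p : ℕ) [Fact p.Prime] (M : Ideal AlgInt) (hM : IsPModular p M)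
    (P : Subgroup G) (hP : IsPGroup p P) (H : Subgroup G) [Fintype H]
    (hH : H = P ⊔ Subgroup.centralizer (P : Set G)) (b : Set (IrrCharacter H))
    (hb : IsPBlock M b) (hbP : IsDefectGroup p M b (P.subgroupOf H))
    (B : Set (IrrCharacter G)) (hind : IsInducedBlock M H b B) (T : Subgroup G)
    (hT : ∀ g : G, g ∈ T ↔ (g ∈ Subgroup.normalizer (P : Set G) ∧ ∀ θ ∈ b,
      ∀ θ' : IrrCharacter H, (∀ h h' : H, (h' : G) = g * h * g⁻¹ →
        (θ' : H → ℂ) h' = (θ : H → ℂ) h) → θ' ∈ b)) :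
    IsDefectGroup p M B P ↔ ¬ p ∣ H.relIndex T := by
  classical
  have hMp : M.IsPrime := hM.2.1.isPrime
  obtain ⟨θ₀, hθ₀⟩ := IsPBlock.nonempty hMp hb
  have hbeq : b = blockOf M (θ₀ : H → ℂ) := IsPBlock.eq_blockOf hMp hb hθ₀
  subst hbeq
  have hHN : H ≤ Subgroup.normalizer (P : Set G) := by
    rw [hH]
    exact sup_le Subgroup.le_normalizer (Subgroup.centralizer_le_normalizer _)
  have hPH : P ≤ H := by rw [hH]; exact le_sup_left
  have hCH : Subgroup.centralizer (P : Set G) ≤ H := by rw [hH]; exact le_sup_right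
  have hnorm : (H.subgroupOf (Subgroup.normalizer (P : Set G))).Normal := by
    have := sup_centralizer_normal P
    rwa [← hH] at this
  have hTN : T ≤ Subgroup.normalizer (P : Set G) := fun g hg => ((hT g).1 hg).1
  have hHT : H ≤ T := by
    intro h₀ hh₀
    rw [hT]
    refine ⟨hHN hh₀, ?_⟩
    intro θ hθ θ' hθ'
    have : θ' = θ := by
      apply Subtype.ext
      funext k
      have h1 := hθ' (⟨h₀, hh₀⟩⁻¹ * k * ⟨h₀, hh₀⟩) k (by
        push_cast
        group)
      rw [h1]
      have := isClassFunction_irr θ k (⟨h₀, hh₀⟩ : H)⁻¹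
      rw [← this]
      group
    rw [this]
    exact hθ
  have : Fintype (IrrCharacter G) := Fintype.ofFinite _
  have : Fintype (Subgroup.normalizer (P : Set G)) := Fintype.ofFinite _
  have : Fintype (IrrCharacter (Subgroup.normalizer (P : Set G))) := Fintype.ofFinite _
  have : Fintype (H.subgroupOf (Subgroup.normalizer (P : Set G))) := Fintype.ofFinite _
  have : Fintype (T.subgroupOf (Subgroup.normalizer (P : Set G))) := Fintype.ofFinite _
  have hstab := stabBlock_transport (T := T) hHN hMp θ₀ (fun g hg => ((hT g).1 hg).2)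
  have hmeet := meetBlock_transport (T := T) hHN hMp θ₀
    (fun g hgK hcond => (hT g).2 ⟨hgK, hcond⟩)
  have hQn : (P.subgroupOf (Subgroup.normalizer (P : Set G))).Normal :=
    Subgroup.normal_in_normalizer
  have hQ : IsPGroup p (P.subgroupOf (Subgroup.normalizer (P : Set G))) := hP.comap_subtype
  have hQH' : P.subgroupOf (Subgroup.normalizer (P : Set G)) ≤
      H.subgroupOf (Subgroup.normalizer (P : Set G)) := by
    intro x hx
    rw [Subgroup.mem_subgroupOf] at hx ⊢
    exact hPH hx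
  have hCQ : Subgroup.centralizer
      ((P.subgroupOf (Subgroup.normalizer (P : Set G)) :
        Subgroup (Subgroup.normalizer (P : Set G))) : Set (Subgroup.normalizer (P : Set G))) ≤
      H.subgroupOf (Subgroup.normalizer (P : Set G)) := by
    intro x hx
    rw [Subgroup.mem_subgroupOf]
    apply hCH
    rw [Subgroup.mem_centralizer_iff]
    intro q hq
    have := Subgroup.mem_centralizer_iff.1 hx ⟨q, Subgroup.le_normalizer hq⟩ (by
      rw [SetLike.mem_coe, Subgroup.mem_subgroupOf]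
      exact hq)
    exact congrArg Subtype.val this
  have hNT' : H.subgroupOf (Subgroup.normalizer (P : Set G)) ≤
      T.subgroupOf (Subgroup.normalizer (P : Set G)) := by
    intro x hx
    rw [Subgroup.mem_subgroupOf] at hx ⊢
    exact hHT hx
  have hbQ' : IsDefectGroup p M
      (blockOf M (irrComp (Subgroup.subgroupOfEquivOfLe hHN) θ₀ :
        H.subgroupOf (Subgroup.normalizer (P : Set G)) → ℂ))
      ((P.subgroupOf (Subgroup.normalizer (P : Set G))).subgroupOf
        (H.subgroupOf (Subgroup.normalizer (P : Set G)))) := by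
    have := isDefectGroup_irrComp (Subgroup.subgroupOfEquivOfLe hHN) θ₀ hbP
    convert this using 1
    ext x
    simp [Subgroup.mem_subgroupOf]
  obtain ⟨χ₁, hχ₁⟩ := Cfsg.Agent.Lib.Helper22.exists_irr_over
    (H.subgroupOf (Subgroup.normalizer (P : Set G)))
    (irrComp (Subgroup.subgroupOfEquivOfLe hHN) θ₀)
  have hb' := isPBlock_blockOf (M := M) (irrComp (Subgroup.subgroupOfEquivOfLe hHN) θ₀)
  have hcov : ∃ χ ∈ blockOf M (χ₁ : Subgroup.normalizer (P : Set G) → ℂ),
      ∃ θ ∈ blockOf M (irrComp (Subgroup.subgroupOfEquivOfLe hHN) θ₀ :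
        H.subgroupOf (Subgroup.normalizer (P : Set G)) → ℂ),
      classInner (fun n : H.subgroupOf (Subgroup.normalizer (P : Set G)) =>
        (χ : Subgroup.normalizer (P : Set G) → ℂ) n)
        (θ : H.subgroupOf (Subgroup.normalizer (P : Set G)) → ℂ) ≠ 0 :=
    ⟨χ₁, mem_blockOf_self hMp χ₁, _, mem_blockOf_self hMp _, hχ₁⟩
  have hiff := isDefectGroup_iff_of_cover hNT' p hM hb' hstab hmeet
    (P.subgroupOf (Subgroup.normalizer (P : Set G))) hQ hQH' hCQ hbQ' _ (isPBlock_blockOf χ₁) hcov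
  rw [Subgroup.relIndex_subgroupOf hTN] at hiff
  have hind₁ := isInducedBlock_of_cover p hM hb'
    (P.subgroupOf (Subgroup.normalizer (P : Set G))) hQ hCQ _ (isPBlock_blockOf χ₁) hcov
  have hind₂ := isInducedBlock_trans hHN hMp θ₀ hind₁ hind
  rw [← hiff]
  constructor
  · intro hBP
    exact Cfsg.Agent.S0973.isDefectGroup_of_induced p M hM P _ hP Subgroup.le_normalizer le_rfl _ B
      hind₂ hBP
  · intro hB₁Q
    obtain ⟨B₂, hB₂, hB₂P, hind₃⟩ := Cfsg.Agent.S0920.part_one p M hM P hP _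
      (isPBlock_blockOf χ₁) hB₁Q
    have := isInducedBlock_unique hMp _ hind₂ hind₃
    rw [this]
    exact hB₂P

end Cfsg.Agent.Lib.Helper21
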