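import Mathlib
import Cfsg.Agent.Lib.Helper21.FongPSolv

/-!
# Fong's theorem for `p`-constrained groups

If `G` is `p`-constrained and `θ ∈ Irr(O_{p'}(G))` is `G`-invariant, then `Irr(G | θ)` is a single
block whose defect groups are the Sylow `p`-subgroups.
-/

set_option autoImplicit false
set_option linter.unusedSectionVars false
set_option linter.style.haveILetI false

namespace Cfsg.Agent.Lib.Helper21

open Cfsg

universe u
variable {G : Type u} [Group G] [Fintype G]
variable {p : ℕ} [Fact p.Prime] {M : Ideal AlgInt}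

omit [Fintype G] in
/-- Conjugating: if one Sylow `p`-subgroup `Q` of the normal subgroup `K` has `C_G(Q) ≤ K`, then
every Sylow `p`-subgroup of `K` has. -/
theorem sylow_centralizer_le_of_one [Finite G] {K : Subgroup G} [hK : K.Normal]
    (Q : Subgroup G) (hQK : Q ≤ K)
    (hQp : IsPGroup p Q) (hQS : ¬ p ∣ Q.relIndex K)
    (hCQ : Subgroup.centralizer (Q : Set G) ≤ K) (P : Sylow p ↥K) :
    Subgroup.centralizer (((P : Subgroup ↥K).map K.subtype : Subgroup G) : Set G) ≤ K := by
  classical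
  have hQ'p : IsPGroup p (Q.subgroupOf K) := hQp.comap_subtype
  have hQS' : ¬ p ∣ (Q.subgroupOf K).index := hQS
  set S : Sylow p ↥K := hQ'p.toSylow hQS' with hS
  obtain ⟨x, hx⟩ := MulAction.exists_smul_eq ↥K S P
  intro c hc
  -- `x⁻¹ c x` centralizes `Q`
  have h1 : (x : G)⁻¹ * c * (x : G) ∈ Subgroup.centralizer (Q : Set G) := by
    rw [Subgroup.mem_centralizer_iff]
    intro q hq
    have hq' : (⟨q, hQK hq⟩ : ↥K) ∈ (S : Subgroup ↥K) := by
      show (⟨q, hQK hq⟩ : ↥K) ∈ Q.subgroupOf K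
      rw [Subgroup.mem_subgroupOf]
      exact hq
    have h2 : x * ⟨q, hQK hq⟩ * x⁻¹ ∈ (P : Subgroup ↥K) := by
      rw [← hx, Sylow.coe_subgroup_smul, Subgroup.pointwise_smul_def]
      exact ⟨_, hq', rfl⟩
    have h3 : (x : G) * q * (x : G)⁻¹ ∈ (P : Subgroup ↥K).map K.subtype := ⟨_, h2, rfl⟩
    have h4 := Subgroup.mem_centralizer_iff.1 hc _ h3
    calc q * ((x : G)⁻¹ * c * (x : G)) = (x : G)⁻¹ * (((x : G) * q * (x : G)⁻¹) * c) * (x : G) := by
          group
      _ = (x : G)⁻¹ * (c * ((x : G) * q * (x : G)⁻¹)) * (x : G) := by rw [h4]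
      _ = (x : G)⁻¹ * c * (x : G) * q := by group
  have h5 := hK.conj_mem _ (hCQ h1) (x : G)
  have : (x : G) * ((x : G)⁻¹ * c * (x : G)) * (x : G)⁻¹ = c := by group
  rwa [this] at h5

omit [Fintype G] in
theorem card_mul_relIndex' {H K : Subgroup G} (h : H ≤ K) :
    Nat.card H * H.relIndex K = Nat.card K := by
  rw [Subgroup.relIndex, ← Subgroup.card_mul_index (H.subgroupOf K),
    Nat.card_congr (Subgroup.subgroupOfEquivOfLe h).toEquiv]

omit [Fintype G] in
/-- A `p`-subgroup `D` of `K` with `D N = K` (`N` a normal `p'`-subgroup) has `p'`-index in `K`. -/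
theorem not_dvd_relIndex_of_sup_eq [Finite G] {N K : Subgroup G} [hN : N.Normal]
    (hpN : ¬ p ∣ Nat.card N) (D : Subgroup G) (hDp : IsPGroup p D)
    (hDN : D ⊔ N = K) : ¬ p ∣ D.relIndex K := by
  have hp : p.Prime := Fact.out
  have hDK : D ≤ K := hDN ▸ le_sup_left
  have hNK : N ≤ K := hDN ▸ le_sup_right
  have hdisj : N ⊓ D = ⊥ := by
    rw [← disjoint_iff]
    apply Subgroup.disjoint_of_coprime_natCard
    obtain ⟨m, hm⟩ := hDp.exists_card_eq
    rw [hm]
    exact Nat.Coprime.pow_right m ((Nat.Prime.coprime_iff_not_dvd hp).2 hpN).symm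
  have h1 : N.relIndex K = Nat.card D := by
    rw [← hDN, Subgroup.relIndex_sup_right, Subgroup.relIndex,
      (Subgroup.subgroupOf_eq_bot).2 (disjoint_iff.2 hdisj), Subgroup.index_bot]
  have h2 : Nat.card N * N.relIndex K = Nat.card K := card_mul_relIndex' hNK
  have h3 : Nat.card D * D.relIndex K = Nat.card K := card_mul_relIndex' hDK
  have h4 : D.relIndex K = Nat.card N := by
    have hpos : 0 < Nat.card D := Nat.card_pos
    rw [h1, mul_comm, ← h3] at h2
    exact (Nat.eq_of_mul_eq_mul_left hpos h2).symm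
  rw [h4]
  exact hpN

omit [Fintype G] in
/-- From Sylow subgroups to complements of `N` in `K`. -/
theorem centralizer_le_of_sup_eq [Finite G] {N K : Subgroup G} [hN : N.Normal]
    (hpN : ¬ p ∣ Nat.card N)
    (hS : ∀ P : Sylow p ↥K,
      Subgroup.centralizer (((P : Subgroup ↥K).map K.subtype : Subgroup G) : Set G) ≤ K)
    (D : Subgroup G) (hDp : IsPGroup p D) (hDK : D ≤ K) (hDN : D ⊔ N = K) :
    Subgroup.centralizer (D : Set G) ≤ K := by
  have h : ¬ p ∣ (D.subgroupOf K).index := not_dvd_relIndex_of_sup_eq hpN D hDp hDN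
  have hD'p : IsPGroup p (D.subgroupOf K) := hDp.comap_subtype
  have := hS (hD'p.toSylow h)
  have h2 : ((hD'p.toSylow h : Sylow p ↥K) : Subgroup ↥K) = D.subgroupOf K := rfl
  rwa [h2, Subgroup.subgroupOf_map_subtype, inf_of_le_left hDK] at this

/-- **Fong's theorem for a `p`-constrained group**, hypotheses in the form "one Sylow
`p`-subgroup `Q` of `O_{p',p}(G)` has `C_G(Q) ≤ O_{p',p}(G)`". -/
theorem fong_constrained_of_one (hM : IsPModular p M) (N : Subgroup G) [hN : N.Normal]
    [Fintype N] (hNdef : N = pPrimeCore p G) (L : Subgroup G) (hL : L = pPrimePCore p G)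
    (Q : Subgroup G) (hQL : Q ≤ L) (hQp : IsPGroup p Q) (hQS : ¬ p ∣ Q.relIndex L)
    (hCQ : Subgroup.centralizer (Q : Set G) ≤ L) (θ : IrrCharacter N)
    (hinv : ∀ (g : G) (n : N),
      (θ : N → ℂ) ⟨g * n * g⁻¹, hN.conj_mem n n.2 g⟩ = (θ : N → ℂ) n) :
    ∃ B : Set (IrrCharacter G), IsPBlock M B ∧
      (∀ χ : IrrCharacter G, χ ∈ B ↔
        classInner (fun n : N => (χ : G → ℂ) n) (θ : N → ℂ) ≠ 0) ∧
      (∀ P : Sylow p G, IsDefectGroup p M B (P : Subgroup G)) ∧
      ∀ D : Subgroup G, IsDefectGroup p M B D → ∃ P : Sylow p G, D = (P : Subgroup G) := by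
  classical
  have hp : p.Prime := hM.1
  subst hNdef
  subst hL
  haveI hK : (pPrimePCore p G).Normal :=
    (Cfsg.Agent.Lib.Helper01.pCore_normal (G := G ⧸ pPrimeCore p G) p).comap _
  have hpN : ¬ p ∣ Nat.card (pPrimeCore p G) :=
    (Nat.Prime.coprime_iff_not_dvd hp).1
      (Cfsg.Agent.Lib.Helper01.pPrimeCore_card_coprime (G := G) p).symm
  have hNK : pPrimeCore p G ≤ pPrimePCore p G :=
    Cfsg.Agent.Lib.Helper15.pPrimeCore_le_pPrimePCore p G
  have hmap : (pPrimePCore p G).map (QuotientGroup.mk' (pPrimeCore p G)) =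
      pCore p (G ⧸ pPrimeCore p G) := Cfsg.Agent.Lib.Helper15.map_pPrimePCore p G
  have hidx : ∃ k : ℕ, (pPrimeCore p G).relIndex (pPrimePCore p G) = p ^ k := by
    have hker : pPrimeCore p G =
        (⊥ : Subgroup (G ⧸ pPrimeCore p G)).comap (QuotientGroup.mk' (pPrimeCore p G)) := by
      rw [MonoidHom.comap_bot, QuotientGroup.ker_mk']
    have h1 : (pPrimeCore p G).relIndex (pPrimePCore p G) =
        Nat.card ((pPrimePCore p G).map (QuotientGroup.mk' (pPrimeCore p G))) := by
      conv_lhs => rw [hker]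
      rw [Subgroup.relIndex_comap, Subgroup.relIndex_bot_left]
    rw [h1, hmap]
    exact (Cfsg.Agent.Lib.Helper01.pCore_isPGroup (G := G ⧸ pPrimeCore p G) p).exists_card_eq
  apply fong_over_invariant (K := pPrimePCore p G) hM hpN hNK hidx _ θ hinv
  intro D hDp hDK hDN
  exact centralizer_le_of_sup_eq hpN
    (fun P => sylow_centralizer_le_of_one Q hQL hQp hQS hCQ P) D hDp hDK hDN

/-- **Fong's theorem for a `p`-constrained group.** -/
theorem fong_constrained (hM : IsPModular p M) (hcon : IsPConstrained p G) (N : Subgroup G)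
    [hN : N.Normal] [Fintype N] (hNdef : N = pPrimeCore p G) (θ : IrrCharacter N)
    (hinv : ∀ (g : G) (n : N),
      (θ : N → ℂ) ⟨g * n * g⁻¹, hN.conj_mem n n.2 g⟩ = (θ : N → ℂ) n) :
    ∃ B : Set (IrrCharacter G), IsPBlock M B ∧
      (∀ χ : IrrCharacter G, χ ∈ B ↔
        classInner (fun n : N => (χ : G → ℂ) n) (θ : N → ℂ) ≠ 0) ∧
      (∀ P : Sylow p G, IsDefectGroup p M B (P : Subgroup G)) ∧
      ∀ D : Subgroup G, IsDefectGroup p M B D → ∃ P : Sylow p G, D = (P : Subgroup G) := by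
  classical
  obtain ⟨P⟩ : Nonempty (Sylow p ↥(pPrimePCore p G)) := inferInstance
  have hQL : (P : Subgroup ↥(pPrimePCore p G)).map (pPrimePCore p G).subtype ≤ pPrimePCore p G :=
    Subgroup.map_subtype_le _
  have hQp : IsPGroup p ((P : Subgroup ↥(pPrimePCore p G)).map (pPrimePCore p G).subtype) :=
    P.2.map _
  have hQS : ¬ p ∣
      ((P : Subgroup ↥(pPrimePCore p G)).map (pPrimePCore p G).subtype).relIndex
        (pPrimePCore p G) := by
    rw [Subgroup.relIndex, Subgroup.subgroupOf,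
      Subgroup.comap_map_eq_self_of_injective (Subgroup.subtype_injective _)]
    exact P.not_dvd_index
  exact fong_constrained_of_one hM N hNdef _ rfl _ hQL hQp hQS (hcon P) θ hinv

omit [Fintype G] in
/-- The hypotheses "one Sylow subgroup of `O_{p',p}(G)` contains its centralizer modulo
`O_{p',p}(G)`" give `p`-constraint. -/
theorem isPConstrained_of_one [Finite G] (Q : Subgroup G) (hQL : Q ≤ pPrimePCore p G)
    (hQp : IsPGroup p Q) (hQS : ¬ p ∣ Q.relIndex (pPrimePCore p G))
    (hCQ : Subgroup.centralizer (Q : Set G) ≤ pPrimePCore p G) : IsPConstrained p G := by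
  haveI hK : (pPrimePCore p G).Normal :=
    (Cfsg.Agent.Lib.Helper01.pCore_normal (G := G ⧸ pPrimeCore p G) p).comap _
  intro P
  exact sylow_centralizer_le_of_one Q hQL hQp hQS hCQ P

end Cfsg.Agent.Lib.Helper21
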