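import Mathlib
import Cfsg.Prelude.Def_Solvable
import Cfsg.Agent.Lib.Helper72.G42Defs
import Cfsg.Agent.S0495
import Cfsg.Agent.S0249

/-!
# K-G42-L9 (keystone 255313): a simple group of order 168 is `GL_3(2)`
-/

set_option autoImplicit false

namespace Cfsg.Agent.Lib.Helper21.G42

open Cfsg.Agent.Lib.Helper72.G42

/-- over `ZMod 2`, `SL_n → GL_n` is bijective -/
theorem l9_toGL_bijective (n : ℕ) :
    Function.Bijective (Matrix.SpecialLinearGroup.toGL :
      Matrix.SpecialLinearGroup (Fin n) (ZMod 2) →* GL (Fin n) (ZMod 2)) := by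
  constructor
  · intro A B h
    apply Subtype.ext
    have := congrArg (fun u : GL (Fin n) (ZMod 2) => (u : Matrix (Fin n) (Fin n) (ZMod 2))) h
    simpa using this
  · intro g
    have hdet : (g : Matrix (Fin n) (Fin n) (ZMod 2)).det = 1 := by
      have hu : IsUnit (g : Matrix (Fin n) (Fin n) (ZMod 2)).det :=
        (Matrix.isUnit_iff_isUnit_det _).mp ⟨g, rfl⟩
      have h0 : (g : Matrix (Fin n) (Fin n) (ZMod 2)).det ≠ 0 := hu.ne_zero
      revert h0
      generalize (g : Matrix (Fin n) (Fin n) (ZMod 2)).det = d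
      revert d
      decide
    refine ⟨⟨(g : Matrix (Fin n) (Fin n) (ZMod 2)), hdet⟩, ?_⟩
    apply Units.ext
    rfl

/-- the centre of `SL_3(2)` is trivial -/
theorem l9_center_bot :
    Subgroup.center (Matrix.SpecialLinearGroup (Fin 3) (ZMod 2)) = ⊥ := by
  rw [eq_bot_iff]
  intro A hA
  rw [Matrix.SpecialLinearGroup.mem_center_iff] at hA
  obtain ⟨r, hr, hA⟩ := hA
  rw [Subgroup.mem_bot]
  apply Subtype.ext
  rw [← hA]
  have hr1 : r = 1 := by
    have h3 : Fintype.card (Fin 3) = 3 := Fintype.card_fin 3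
    rw [h3] at hr
    clear hA
    revert hr
    revert r
    decide
  rw [hr1]
  simp

theorem l9_mk_bijective :
    Function.Bijective (QuotientGroup.mk' (Subgroup.center (Matrix.SpecialLinearGroup (Fin 3) (ZMod 2)))) := by
  constructor
  · rw [← MonoidHom.ker_eq_bot_iff, QuotientGroup.ker_mk', l9_center_bot]
  · exact QuotientGroup.mk'_surjective _

/-- `GL_3(2) ≃* PSL_3(2)` -/
theorem l9_equiv : Nonempty (Matrix.ProjectiveSpecialLinearGroup (Fin 3) (ZMod 2) ≃* GL (Fin 3) (ZMod 2)) := by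
  let e1 := MulEquiv.ofBijective _ l9_mk_bijective
  let e2 := MulEquiv.ofBijective _ (l9_toGL_bijective 3)
  exact ⟨e1.symm.trans e2⟩

theorem l9_simple : IsSimpleGroup (GL (Fin 3) (ZMod 2)) := by
  obtain ⟨e⟩ := l9_equiv
  have hs : IsSimpleGroup (Matrix.ProjectiveSpecialLinearGroup (Fin 3) (ZMod 2)) :=
    Cfsg.Agent.S0249.result 3 le_rfl
  exact e.symm.isSimpleGroup

theorem l9_card : Nat.card (GL (Fin 3) (ZMod 2)) = 168 := by
  rw [Matrix.card_GL_field]
  simp [Fin.prod_univ_three, ZMod.card]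

/-- 255313 L9 -/
theorem simple168_iso {K : Type*} [Group K] [Finite K] (hs : IsSimpleGroup K) (hc : Nat.card K = 168) :
    Nonempty (K ≃* GL (Fin 3) (ZMod 2)) := by
  have : Fact (Nat.Prime 7) := ⟨by norm_num⟩
  have hF : Fintype.card (ZMod 7) = 7 := ZMod.card 7
  obtain ⟨e1⟩ := Cfsg.Agent.S0495.result (G := K) hc (F := ZMod 7) hF
  have := l9_simple
  obtain ⟨e2⟩ := Cfsg.Agent.S0495.result (G := GL (Fin 3) (ZMod 2)) l9_card (F := ZMod 7) hF
  exact ⟨e1.trans e2.symm⟩

end Cfsg.Agent.Lib.Helper21.G42
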