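import Mathlib
import Cfsg.Agent.Lib.Helper83.GSDefs
import Cfsg.Agent.Lib.Helper26.S4151B

/-!
# K-GS-B3 (S4840): `r`-subgroups (`r ≠ p`) of `Γ` are cyclic or generalized quaternion.
-/

set_option autoImplicit false

namespace Cfsg.Agent.Lib.Helper21.GS

open Cfsg.Agent.Lib.Helper83.GS (Good)

universe u

variable {Γ V : Type u} [Group Γ] [Finite Γ] [CommGroup V] [Finite V]

/-- B3: every `r`-subgroup (`r ≠ p`) of `Γ` acts fixed-point-freely on `V`, so it is cyclic or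
generalized quaternion. -/
theorem rgroup_cyclic_or_quaternion (p : ℕ) [Fact p.Prime] [Nontrivial V]
    (ρ : Γ →* MulAut V)
    (hstab : ∀ (g : Γ) (v : V), v ≠ 1 → ρ g v = v → ∃ k : ℕ, g ^ (p ^ k) = 1)
    (r : ℕ) [Fact r.Prime] (hr : r ≠ p) (R : Subgroup Γ) (hR : IsPGroup r R) :
    IsCyclic R ∨ ∃ n : ℕ, Nonempty (R ≃* QuaternionGroup (2 ^ n)) := by
  refine Cfsg.Agent.Lib.Helper26.S4151K.cyclic_or_quaternion_of_fpf_action (P := ↥R) (K := V) r hR
    (ρ.comp R.subtype) ?_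
  intro a ha v hv
  by_contra hv1
  obtain ⟨j, hj⟩ := hstab (a : Γ) v hv1 hv
  obtain ⟨i, hi⟩ := hR a
  have hi' : (a : Γ) ^ (r ^ i) = 1 := by
    have := congrArg Subtype.val hi
    simpa using this
  have h1 : orderOf (a : Γ) ∣ p ^ j := orderOf_dvd_of_pow_eq_one hj
  have h2 : orderOf (a : Γ) ∣ r ^ i := orderOf_dvd_of_pow_eq_one hi'
  have hcop : Nat.Coprime (p ^ j) (r ^ i) := by
    apply Nat.Coprime.pow
    exact (Nat.coprime_primes (Fact.out : p.Prime) (Fact.out : r.Prime)).2 (Ne.symm hr)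
  have h3 : orderOf (a : Γ) = 1 := Nat.eq_one_of_dvd_coprimes hcop h1 h2
  apply ha
  apply Subtype.ext
  simpa using orderOf_eq_one_iff.1 h3

end Cfsg.Agent.Lib.Helper21.GS
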