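import Mathlib
import Cfsg.Prelude.Def_Solvable

/-!
# K-GAG-G05 (keystone 483906, pack K-GAG / S4839): `centralizer_le`
-/

set_option autoImplicit false

namespace Cfsg.Agent.Lib.Helper21.Gag

variable {G : Type*} [Group G] [Finite G]

/-- G05 (EASY): if `N = O_p(G)` then `C_G(N) ≤ N`. -/
theorem centralizer_le {p : ℕ} [Fact p.Prime] (N : Subgroup G) [N.Normal] (hN1 : N ≠ ⊥)
    (hcp : ∀ x ∈ N, x ≠ 1 → IsPGroup p (Subgroup.centralizer ({x} : Set G)))
    (hO : N = Cfsg.pCore p G) :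
    Subgroup.centralizer (N : Set G) ≤ N := by
  obtain ⟨x, hx, hx1⟩ : ∃ x ∈ N, x ≠ 1 := by
    by_contra hcon
    push Not at hcon
    exact hN1 ((Subgroup.eq_bot_iff_forall N).mpr hcon)
  have hle : Subgroup.centralizer (N : Set G) ≤ Subgroup.centralizer ({x} : Set G) :=
    Subgroup.centralizer_le (Set.singleton_subset_iff.mpr hx)
  have hp : IsPGroup p (Subgroup.centralizer (N : Set G)) := (hcp x hx hx1).to_le hle
  have hn : (Subgroup.centralizer (N : Set G)).Normal := inferInstance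
  have h1 : Subgroup.centralizer (N : Set G) ≤ Cfsg.pCore p G := le_sSup ⟨hn, hp⟩
  exact h1.trans (le_of_eq hO.symm)

end Cfsg.Agent.Lib.Helper21.Gag
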