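import Mathlib
import Cfsg.Agent.Lib.Helper21.InducedTrans
import Cfsg.Agent.Lib.Helper21.InducedBlock
import Cfsg.Agent.Lib.Helper85.CliffordCorr
import Cfsg.Agent.S0963
import Cfsg.Agent.S0965
import Cfsg.Prelude.Def_BlockLocal

/-!
# Covering and block induction (towards Harris–Knörr)

`N ⊴ G`, `H ≤ G`, `L = H ⊓ N`.  If the block `c` of `H` covers the block `e` of `L`, `c` induces
the block `B` of `G` and `e` induces the block `d` of `N` (inside `N`), then `B` covers `d`.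
-/

set_option autoImplicit false
set_option linter.unusedSectionVars false
set_option linter.style.haveILetI false

namespace Cfsg.Agent.Lib.Helper21

open Cfsg
open scoped ComplexConjugate
open Cfsg.Agent.Lib.Helper82 Cfsg.Agent.Lib.Helper83
open Cfsg.Agent.Lib.Helper81 (irrComp irrComp_apply irrComp_symm_irrComp irrComp_irrComp_symm
  mem_blockOf_irrComp_iff)

universe u
variable {G : Type u} [Group G] [Fintype G]
variable {p : ℕ} [Fact p.Prime] {M : Ideal AlgInt}

section Trans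

variable {H K : Subgroup G} [Fintype H] [Fintype K] (hHK : H ≤ K)

/-- The congruence behind the transitivity of block induction. -/
theorem iCC_sub_of_induced (hM : M.IsPrime) [Fintype (H.subgroupOf K)]
    (θ₀ : IrrCharacter H) {β : Set (IrrCharacter K)}
    (h₁ : IsInducedBlock M (H.subgroupOf K)
      (blockOf M (irrComp (Subgroup.subgroupOfEquivOfLe hHK) θ₀ : H.subgroupOf K → ℂ)) β)
    {ξ : IrrCharacter K} (hξ : ξ ∈ β) (g : G) :
    MemLocalIdeal M (inducedCentralChar K (ξ : K → ℂ) g -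
      inducedCentralChar H (θ₀ : H → ℂ) g) := by
  classical
  have : Fintype (ConjClasses K) := Fintype.ofFinite _
  set θ₀' : IrrCharacter (H.subgroupOf K) := irrComp (Subgroup.subgroupOfEquivOfLe hHK) θ₀
    with hθ₀'
  have hθ₀'mem : θ₀' ∈ blockOf M (θ₀' : H.subgroupOf K → ℂ) := mem_blockOf_self hM θ₀'
  have e1 : inducedCentralChar H (θ₀ : H → ℂ) g =
      ∑ L : ConjClasses K, classInd K g (Quotient.out L) *
        inducedCentralChar (H.subgroupOf K) (θ₀' : H.subgroupOf K → ℂ) (Quotient.out L) := by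
    rw [sum_classes_mul_induced (H.subgroupOf K) (classInd_isClassFunction K g)]
    exact (omega_classInd_subgroupOf hHK (θ₀ : H → ℂ) g).symm
  have e2 := inducedCentralChar_eq_sum_classes K ξ g
  rw [e1, e2, ← Finset.sum_sub_distrib]
  apply memLocalIdeal_sum hM
  intro L _
  rw [← mul_sub]
  apply memLocalIdeal_mul_left hM
  · rw [classInd_apply]
    split_ifs
    · exact memLocalRing_one hM
    · exact memLocalRing_zero hM
  · have := h₁.2.2 θ₀' hθ₀'mem ξ hξ (Quotient.out L)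
    have h2 := memLocalIdeal_neg this
    convert h2 using 1
    ring

end Trans

section InForm

variable {N K : Subgroup G}

/-- Block induction computed inside `N`, read in the group `N`. -/
theorem iCCIn_eq (hKN : K ≤ N) (ξ : K → ℂ) (m : N) :
    inducedCentralCharIn N K ξ (m : G) =
      inducedCentralChar (K.subgroupOf N)
        (fun k' : K.subgroupOf N => ξ (Subgroup.subgroupOfEquivOfLe hKN k')) m := by
  classical
  unfold inducedCentralCharIn inducedCentralChar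
  refine finsum_mem_eq_of_bijOn (Subgroup.subgroupOfEquivOfLe hKN).symm ?_ ?_
  · refine Equiv.bijOn (Subgroup.subgroupOfEquivOfLe hKN).symm.toEquiv ?_
    intro k
    simp only [Set.mem_setOf_eq, MulEquiv.toEquiv_eq_coe, MulEquiv.coe_toEquiv]
    rw [isConj_iff]
    constructor
    · rintro ⟨c, hc⟩
      refine ⟨c⁻¹, ?_⟩
      have := congrArg (fun z : N => (z : G)) hc
      simp only [Subgroup.coe_mul, Subgroup.coe_inv,
        Subgroup.subgroupOfEquivOfLe_symm_apply_coe_coe] at this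
      rw [← this]
      simp only [Subgroup.coe_inv, inv_inv]
      group
    · rintro ⟨x, hx⟩
      refine ⟨x⁻¹, Subtype.ext ?_⟩
      simp only [Subgroup.coe_mul, Subgroup.coe_inv,
        Subgroup.subgroupOfEquivOfLe_symm_apply_coe_coe, inv_inv]
      rw [← hx]
      group
  · intro k _
    simp

/-- The two forms of block induction from a subgroup of `N` to `N`. -/
theorem isInducedBlockIn_iff (hKN : K ≤ N) (e : Set (IrrCharacter K))
    (e' : Set (IrrCharacter (K.subgroupOf N))) (d : Set (IrrCharacter N))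
    (he : IsPBlock M e ↔ IsPBlock M e')
    (hmem : ∀ ξ : IrrCharacter K, ξ ∈ e ↔ irrComp (Subgroup.subgroupOfEquivOfLe hKN) ξ ∈ e') :
    IsInducedBlockIn M N K e d ↔ IsInducedBlock M (K.subgroupOf N) e' d := by
  constructor
  · rintro ⟨h1, h2, h3⟩
    refine ⟨he.1 h1, h2, ?_⟩
    intro ξ' hξ' χ hχ m
    have hmem' : irrComp (Subgroup.subgroupOfEquivOfLe hKN).symm ξ' ∈ e := by
      rw [hmem, irrComp_irrComp_symm]
      exact hξ'
    have := h3 _ hmem' χ hχ m
    rw [iCCIn_eq hKN] at this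
    convert this using 3
    funext k'
    simp
  · rintro ⟨h1, h2, h3⟩
    refine ⟨he.2 h1, h2, ?_⟩
    intro ξ hξ χ hχ m
    have := h3 _ ((hmem ξ).1 hξ) χ hχ m
    rw [iCCIn_eq hKN]
    exact this

end InForm

section Cover

variable {N : Subgroup G} [hN : N.Normal] [Fintype N]

/-- If `ξ₀ ∈ Irr(H ⊓ N)` lies under `ψ₀ ∈ Irr(H)`, both have the same induced central character on
`N`. -/
theorem iCC_eq_of_constituent (H : Subgroup G) [Fintype ↥(H ⊓ N)] (ψ₀ : IrrCharacter H)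
    (ξ₀ : IrrCharacter ↥(H ⊓ N))
    (hcon : classInner (fun l : ↥(H ⊓ N) => (ψ₀ : H → ℂ) (Subgroup.inclusion inf_le_left l))
      (ξ₀ : ↥(H ⊓ N) → ℂ) ≠ 0) (n : N) :
    inducedCentralChar H (ψ₀ : H → ℂ) (n : G) =
      inducedCentralChar (H ⊓ N) (ξ₀ : ↥(H ⊓ N) → ℂ) (n : G) := by
  classical
  haveI : Fintype H := Fintype.ofFinite _
  haveI : Fintype (ConjClasses H) := Fintype.ofFinite _
  have hLH : H ⊓ N ≤ H := inf_le_left
  haveI hL'n : ((H ⊓ N).subgroupOf H).Normal := by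
    rw [Subgroup.inf_subgroupOf_left]
    infer_instance
  haveI : Fintype ((H ⊓ N).subgroupOf H) := Fintype.ofFinite _
  set ξ₀' : IrrCharacter ((H ⊓ N).subgroupOf H) :=
    irrComp (Subgroup.subgroupOfEquivOfLe hLH) ξ₀ with hξ₀'
  have h2 : (ξ₀' : (H ⊓ N).subgroupOf H → ℂ) =
      fun l' => (ξ₀ : ↥(H ⊓ N) → ℂ) (Subgroup.subgroupOfEquivOfLe hLH l') := by
    funext l'
    rw [hξ₀', irrComp_apply]
  have hcon' : classInner (fun l' : (H ⊓ N).subgroupOf H => (ψ₀ : H → ℂ) (l' : H))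
      (ξ₀' : (H ⊓ N).subgroupOf H → ℂ) ≠ 0 := by
    have h1 : (fun l' : (H ⊓ N).subgroupOf H => (ψ₀ : H → ℂ) (l' : H)) =
        fun l' => (fun l : ↥(H ⊓ N) => (ψ₀ : H → ℂ) (Subgroup.inclusion inf_le_left l))
          (Subgroup.subgroupOfEquivOfLe hLH l') := by
      funext l'
      refine congrArg _ (Subtype.ext ?_)
      simp
    rw [h1, h2]
    have := Cfsg.Agent.Lib.Helper85.classInner_comp_mulEquiv (Subgroup.subgroupOfEquivOfLe hLH)
      (fun l : ↥(H ⊓ N) => (ψ₀ : H → ℂ) (Subgroup.inclusion inf_le_left l))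
      (ξ₀ : ↥(H ⊓ N) → ℂ)
    rw [this]
    exact hcon
  have hS := (Cfsg.Agent.S0963.result ((H ⊓ N).subgroupOf H) ψ₀ ξ₀').1 hcon'
  rw [inducedCentralChar_eq_sum_classes H ψ₀ (n : G),
    ← omega_classInd_subgroupOf hLH (ξ₀ : ↥(H ⊓ N) → ℂ) (n : G), ← h2,
    ← sum_classes_mul_induced ((H ⊓ N).subgroupOf H) (classInd_isClassFunction H (n : G))]
  apply Finset.sum_congr rfl
  intro K _
  by_cases hK : IsConj (n : G) ((Quotient.out K : H) : G)
  · have hmemN : ((Quotient.out K : H) : G) ∈ N := by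
      obtain ⟨c, hc⟩ := isConj_iff.1 hK
      rw [← hc]
      exact hN.conj_mem _ n.2 c
    have hmem : (Quotient.out K : H) ∈ (H ⊓ N).subgroupOf H := by
      rw [Subgroup.mem_subgroupOf]
      exact ⟨(Quotient.out K : H).2, hmemN⟩
    have := hS ⟨Quotient.out K, hmem⟩
    rw [this]
  · rw [classInd_apply, if_neg hK, zero_mul, zero_mul]

/-- The In-form of block induction from `H ⊓ N` to `N`, read in the group `N`. -/
theorem isInducedBlock_of_in (hMp : M.IsPrime) (H : Subgroup G) [Fintype ↥(H ⊓ N)]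
    {e : Set (IrrCharacter ↥(H ⊓ N))} {d : Set (IrrCharacter N)} {ξ₀ : IrrCharacter ↥(H ⊓ N)}
    (hξ₀ : ξ₀ ∈ e) (hed : IsInducedBlockIn M N (H ⊓ N) e d) :
    IsInducedBlock M ((H ⊓ N).subgroupOf N)
      (blockOf M (irrComp (Subgroup.subgroupOfEquivOfLe (inf_le_right : H ⊓ N ≤ N)) ξ₀ :
        (H ⊓ N).subgroupOf N → ℂ)) d := by
  have heq : e = blockOf M (ξ₀ : ↥(H ⊓ N) → ℂ) := IsPBlock.eq_blockOf hMp hed.1 hξ₀
  refine (isInducedBlockIn_iff inf_le_right e _ d ⟨fun _ => ⟨_, rfl⟩, fun _ => hed.1⟩ ?_).1 hed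
  intro ξ
  rw [heq, mem_blockOf_irrComp_iff, irrComp_symm_irrComp]

/-- The converse transport. -/
theorem isInducedBlockIn_of_intrinsic (hMp : M.IsPrime) (H : Subgroup G) [Fintype ↥(H ⊓ N)]
    {d : Set (IrrCharacter N)} (ξ₀ : IrrCharacter ↥(H ⊓ N))
    (hed : IsInducedBlock M ((H ⊓ N).subgroupOf N)
      (blockOf M (irrComp (Subgroup.subgroupOfEquivOfLe (inf_le_right : H ⊓ N ≤ N)) ξ₀ :
        (H ⊓ N).subgroupOf N → ℂ)) d) :
    IsInducedBlockIn M N (H ⊓ N) (blockOf M (ξ₀ : ↥(H ⊓ N) → ℂ)) d := by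
  refine (isInducedBlockIn_iff inf_le_right (blockOf M (ξ₀ : ↥(H ⊓ N) → ℂ)) _ d
    ⟨fun _ => ⟨_, rfl⟩, fun _ => ⟨_, rfl⟩⟩ ?_).2 hed
  intro ξ
  rw [mem_blockOf_irrComp_iff, irrComp_symm_irrComp]

/-- **Covering is compatible with block induction.** -/
theorem covers_of_induced (hM : IsPModular p M) (H : Subgroup G) [Fintype ↥(H ⊓ N)]
    {c : Set (IrrCharacter H)} {e : Set (IrrCharacter ↥(H ⊓ N))} {d : Set (IrrCharacter N)}
    {B : Set (IrrCharacter G)}
    (hcov : ∃ ψ ∈ c, ∃ ξ ∈ e, classInner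
      (fun l : ↥(H ⊓ N) => (ψ : H → ℂ) (Subgroup.inclusion inf_le_left l))
      (ξ : ↥(H ⊓ N) → ℂ) ≠ 0)
    (hcB : IsInducedBlock M H c B) (hed : IsInducedBlockIn M N (H ⊓ N) e d) :
    ∃ χ ∈ B, ∃ θ ∈ d, classInner (fun n : N => (χ : G → ℂ) n) (θ : N → ℂ) ≠ 0 := by
  classical
  have hMp : M.IsPrime := hM.2.1.isPrime
  obtain ⟨ψ₀, hψ₀, ξ₀, hξ₀, hcon⟩ := hcov
  rw [Cfsg.Agent.S0965.result p M hM N B hcB.2.1 d hed.2.1]
  intro χ hχ θ hθ n
  haveI : Fintype ((H ⊓ N).subgroupOf N) := Fintype.ofFinite _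
  have s1 := iCC_eq_of_constituent H ψ₀ ξ₀ hcon n
  have s3 := hcB.2.2 ψ₀ hψ₀ χ hχ (n : G)
  have hed' := isInducedBlock_of_in hMp H hξ₀ hed
  have s2 := iCC_sub_of_induced (inf_le_right : H ⊓ N ≤ N) hMp ξ₀ hed' hθ (n : G)
  have := memLocalIdeal_add hMp (memLocalIdeal_neg s3) (memLocalIdeal_neg s2)
  convert this using 1
  rw [s1]
  ring

end Cover

end Cfsg.Agent.Lib.Helper21
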