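import Mathlib
import Cfsg.Agent.Lib.Helper21.HKCover
import Cfsg.Agent.Lib.Helper21.CoverConj
import Cfsg.Agent.Lib.Helper21.DefectTransport

/-!
# Knörr's theorem inside a subgroup `H`, for the normal subgroup `H ⊓ N` of `H`
-/

set_option autoImplicit false
set_option linter.unusedSectionVars false
set_option linter.style.haveILetI false

namespace Cfsg.Agent.Lib.Helper21

open Cfsg
open scoped ComplexConjugate
open Cfsg.Agent.Lib.Helper82 Cfsg.Agent.Lib.Helper83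
open Cfsg.Agent.Lib.Helper81 (irrComp irrComp_apply irrComp_symm_irrComp irrComp_irrComp_symm
  mem_blockOf_irrComp_iff)

universe u
variable {G : Type u} [Group G] [Fintype G]
variable {p : ℕ} [Fact p.Prime] {M : Ideal AlgInt}
variable {N : Subgroup G} [hN : N.Normal] [Fintype N]

omit [Fintype G] hN [Fintype N] in
theorem inf_subgroupOf_normal (H : Subgroup G) [hN : N.Normal] : ((H ⊓ N).subgroupOf H).Normal := by
  rw [Subgroup.inf_subgroupOf_left]
  infer_instance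

/-- restriction to `H ⊓ N` seen inside `H` -/
theorem classInner_incl_transport (H : Subgroup G) [Fintype ↥(H ⊓ N)]
    [Fintype ((H ⊓ N).subgroupOf H)] (ψ : H → ℂ) (ξ : IrrCharacter ↥(H ⊓ N)) :
    classInner (fun l' : (H ⊓ N).subgroupOf H => ψ (l' : H))
      (irrComp (Subgroup.subgroupOfEquivOfLe (inf_le_left : H ⊓ N ≤ H)) ξ :
        (H ⊓ N).subgroupOf H → ℂ) =
    classInner (fun l : ↥(H ⊓ N) => ψ (Subgroup.inclusion inf_le_left l))
      (ξ : ↥(H ⊓ N) → ℂ) := by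
  have hLH : H ⊓ N ≤ H := inf_le_left
  have h1 : (fun l' : (H ⊓ N).subgroupOf H => ψ (l' : H)) =
      fun l' => (fun l : ↥(H ⊓ N) => ψ (Subgroup.inclusion inf_le_left l))
        (Subgroup.subgroupOfEquivOfLe hLH l') := by
    funext l'
    refine congrArg _ (Subtype.ext ?_)
    simp
  have h2 : (irrComp (Subgroup.subgroupOfEquivOfLe hLH) ξ : (H ⊓ N).subgroupOf H → ℂ) =
      fun l' => (ξ : ↥(H ⊓ N) → ℂ) (Subgroup.subgroupOfEquivOfLe hLH l') := by
    funext l'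
    rw [irrComp_apply]
  rw [h1, h2]
  exact Cfsg.Agent.Lib.Helper85.classInner_comp_mulEquiv (Subgroup.subgroupOfEquivOfLe hLH)
    (fun l : ↥(H ⊓ N) => ψ (Subgroup.inclusion inf_le_left l)) (ξ : ↥(H ⊓ N) → ℂ)

/-- **Knörr's theorem inside `H`**, for a block of `H ⊓ N` with prescribed defect group `Q`. -/
theorem knorr_in (hM : IsPModular p M) (H : Subgroup G) [Fintype ↥(H ⊓ N)] (Q : Subgroup G)
    (hQ : Q ≤ H ⊓ N) {e : Set (IrrCharacter ↥(H ⊓ N))} (he : IsPBlock M e)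
    (heQ : IsDefectGroup p M e (Q.subgroupOf (H ⊓ N)))
    {c : Set (IrrCharacter H)} (hc : IsPBlock M c)
    (hcov : ∃ ψ ∈ c, ∃ ξ ∈ e, classInner
      (fun l : ↥(H ⊓ N) => (ψ : H → ℂ) (Subgroup.inclusion inf_le_left l))
      (ξ : ↥(H ⊓ N) → ℂ) ≠ 0) :
    ∃ P' : Subgroup H, IsDefectGroup p M c P' ∧ P'.map H.subtype ⊓ N = Q := by
  classical
  have hMp : M.IsPrime := hM.2.1.isPrime
  haveI : Fintype H := Fintype.ofFinite _
  have hLH : H ⊓ N ≤ H := inf_le_left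
  haveI hL'n : ((H ⊓ N).subgroupOf H).Normal := inf_subgroupOf_normal H
  haveI : Fintype ((H ⊓ N).subgroupOf H) := Fintype.ofFinite _
  obtain ⟨ψ₀, hψ₀, ξ₀, hξ₀, hcon⟩ := hcov
  have heq : e = blockOf M (ξ₀ : ↥(H ⊓ N) → ℂ) := IsPBlock.eq_blockOf hMp he hξ₀
  rw [heq] at heQ
  have hD' := isDefectGroup_irrComp (p := p) (M := M) (Subgroup.subgroupOfEquivOfLe hLH) ξ₀ heQ
  have hcomap : (Q.subgroupOf (H ⊓ N)).comap (Subgroup.subgroupOfEquivOfLe hLH).toMonoidHom =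
      (Q.subgroupOf H).subgroupOf ((H ⊓ N).subgroupOf H) := by
    ext x
    simp [Subgroup.mem_subgroupOf]
  rw [hcomap] at hD'
  have hQL' : Q.subgroupOf H ≤ (H ⊓ N).subgroupOf H := by
    intro x hx
    rw [Subgroup.mem_subgroupOf] at hx ⊢
    exact hQ hx
  have hcon' : classInner (fun l' : (H ⊓ N).subgroupOf H => (ψ₀ : H → ℂ) (l' : H))
      (irrComp (Subgroup.subgroupOfEquivOfLe hLH) ξ₀ : (H ⊓ N).subgroupOf H → ℂ) ≠ 0 := by
    rw [classInner_incl_transport]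
    exact hcon
  obtain ⟨P', hP', hP'L⟩ := knorr_given (G := H) (N := (H ⊓ N).subgroupOf H) hM
    ⟨irrComp (Subgroup.subgroupOfEquivOfLe hLH) ξ₀, rfl⟩ hc
    ⟨ψ₀, hψ₀, irrComp (Subgroup.subgroupOfEquivOfLe hLH) ξ₀, mem_blockOf_self hMp _, hcon'⟩
    (Q.subgroupOf H) hQL' hD'
  refine ⟨P', hP', ?_⟩
  ext x
  constructor
  · rintro ⟨⟨y, hy, rfl⟩, hxN⟩
    have : y ∈ P' ⊓ (H ⊓ N).subgroupOf H :=
      Subgroup.mem_inf.2 ⟨hy, Subgroup.mem_subgroupOf.2 ⟨y.2, hxN⟩⟩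
    rw [hP'L, Subgroup.mem_subgroupOf] at this
    exact this
  · intro hx
    have hxH : x ∈ H := (hQ hx).1
    have : (⟨x, hxH⟩ : H) ∈ P' ⊓ (H ⊓ N).subgroupOf H := by
      rw [hP'L, Subgroup.mem_subgroupOf]
      exact hx
    exact ⟨⟨⟨x, hxH⟩, this.1, rfl⟩, (hQ hx).2⟩

/-- A block of `H ⊓ N` covered by `c`, with defect group the intersection with a given defect
group of `c`. -/
theorem stable_covered_in (hM : IsPModular p M) (H : Subgroup G) [Fintype ↥(H ⊓ N)]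
    {c : Set (IrrCharacter H)} (hc : IsPBlock M c) {P' : Subgroup H}
    (hP' : IsDefectGroup p M c P') :
    ∃ ξ₂ : IrrCharacter ↥(H ⊓ N),
      (∃ ψ ∈ c, classInner
        (fun l : ↥(H ⊓ N) => (ψ : H → ℂ) (Subgroup.inclusion inf_le_left l))
        (ξ₂ : ↥(H ⊓ N) → ℂ) ≠ 0) ∧
      IsDefectGroup p M (blockOf M (ξ₂ : ↥(H ⊓ N) → ℂ))
        ((P'.map H.subtype ⊓ N).subgroupOf (H ⊓ N)) := by
  classical
  have hMp : M.IsPrime := hM.2.1.isPrime
  haveI : Fintype H := Fintype.ofFinite _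
  have hLH : H ⊓ N ≤ H := inf_le_left
  haveI hL'n : ((H ⊓ N).subgroupOf H).Normal := inf_subgroupOf_normal H
  haveI : Fintype ((H ⊓ N).subgroupOf H) := Fintype.ofFinite _
  obtain ⟨c', hc', -, ⟨ψ, hψ, θ, hθ, hcon⟩, hD⟩ :=
    exists_stable_covered_block (G := H) (N := (H ⊓ N).subgroupOf H) hM hc hP'
  have heq : c' = blockOf M (θ : (H ⊓ N).subgroupOf H → ℂ) := IsPBlock.eq_blockOf hMp hc' hθ
  rw [heq] at hD
  refine ⟨irrComp (Subgroup.subgroupOfEquivOfLe hLH).symm θ, ⟨ψ, hψ, ?_⟩, ?_⟩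
  · rw [← classInner_incl_transport, irrComp_irrComp_symm]
    exact hcon
  · have h := isDefectGroup_irrComp (p := p) (M := M) (Subgroup.subgroupOfEquivOfLe hLH).symm θ hD
    have hcomap : ((P' ⊓ (H ⊓ N).subgroupOf H).subgroupOf ((H ⊓ N).subgroupOf H)).comap
        (Subgroup.subgroupOfEquivOfLe hLH).symm.toMonoidHom =
        (P'.map H.subtype ⊓ N).subgroupOf (H ⊓ N) := by
      ext l
      simp only [Subgroup.mem_comap, MulEquiv.coe_toMonoidHom, Subgroup.mem_subgroupOf,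
        Subgroup.mem_inf, Subgroup.mem_map, Subgroup.coe_subtype]
      constructor
      · rintro ⟨h1, -⟩
        refine ⟨⟨_, h1, ?_⟩, l.2.2⟩
        simp
      · rintro ⟨⟨y, hy, hyl⟩, -⟩
        have hy' : ((Subgroup.subgroupOfEquivOfLe hLH).symm l : (H ⊓ N).subgroupOf H).1 = y := by
          apply Subtype.ext
          rw [hyl]
          simp
        rw [hy']
        refine ⟨hy, ?_⟩
        rw [hyl]
        exact l.2
    rw [hcomap] at h
    exact h

end Cfsg.Agent.Lib.Helper21
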