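import Mathlib
import Cfsg.Agent.Lib.Helper21.HKLocal
import Cfsg.Agent.Lib.Helper22.DefectConj
import Cfsg.Agent.Lib.Helper21.BrauerCorrOver

/-!
# Conjugation by elements of `H` and block induction from `H ⊓ N` to `N`
-/

set_option autoImplicit false
set_option linter.unusedSectionVars false
set_option linter.style.haveILetI false

namespace Cfsg.Agent.Lib.Helper21

open Cfsg
open scoped ComplexConjugate
open Cfsg.Agent.Lib.Helper82 Cfsg.Agent.Lib.Helper83
open Cfsg.Agent.Lib.Helper81 (irrComp irrComp_apply irrComp_symm_irrComp irrComp_irrComp_symm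
  mem_blockOf_irrComp_iff)
open Cfsg.Agent.Lib.Helper22 (irrConj irrConj_irrConj irrConj_one irrConj_apply conjSet)

universe u
variable {G : Type u} [Group G] [Fintype G]
variable {p : ℕ} [Fact p.Prime] {M : Ideal AlgInt}
variable {N : Subgroup G} [hN : N.Normal] [Fintype N]

/-- conjugation by `h ∈ H` on `H ⊓ N` -/
def conjInf (H : Subgroup G) (h : G) (hh : h ∈ H) : ↥(H ⊓ N) ≃* ↥(H ⊓ N) where
  toFun k := ⟨h * k * h⁻¹, Subgroup.mem_inf.2
    ⟨H.mul_mem (H.mul_mem hh (Subgroup.mem_inf.1 k.2).1) (H.inv_mem hh),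
      hN.conj_mem k (Subgroup.mem_inf.1 k.2).2 h⟩⟩
  invFun k := ⟨h⁻¹ * k * h, Subgroup.mem_inf.2
    ⟨H.mul_mem (H.mul_mem (H.inv_mem hh) (Subgroup.mem_inf.1 k.2).1) hh,
      by simpa using hN.conj_mem k (Subgroup.mem_inf.1 k.2).2 h⁻¹⟩⟩
  left_inv k := by
    apply Subtype.ext
    simp only
    group
  right_inv k := by
    apply Subtype.ext
    simp only
    group
  map_mul' a b := by
    apply Subtype.ext
    simp only [Subgroup.coe_mul]
    group

omit [Fintype G] [Fintype N] in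
@[simp] theorem conjInf_coe (H : Subgroup G) (h : G) (hh : h ∈ H) (k : ↥(H ⊓ N)) :
    ((conjInf (N := N) H h hh k : ↥(H ⊓ N)) : G) = h * k * h⁻¹ := rfl

omit [Fintype G] [Fintype N] in
@[simp] theorem conjInf_symm_coe (H : Subgroup G) (h : G) (hh : h ∈ H) (k : ↥(H ⊓ N)) :
    (((conjInf (N := N) H h hh).symm k : ↥(H ⊓ N)) : G) = h⁻¹ * k * h := rfl

omit [Fintype G] [Fintype N] in
/-- the induced central character (inside `N`) of a conjugate -/
theorem iCCIn_conjInf (H : Subgroup G) (h : G) (hh : h ∈ H) (ξ : ↥(H ⊓ N) → ℂ) (g : G) :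
    inducedCentralCharIn N (H ⊓ N) (fun k => ξ (conjInf (N := N) H h hh k)) g =
      inducedCentralCharIn N (H ⊓ N) ξ (h * g * h⁻¹) := by
  classical
  unfold inducedCentralCharIn
  refine finsum_mem_eq_of_bijOn (conjInf (N := N) H h hh) ?_ ?_
  · refine Equiv.bijOn (conjInf (N := N) H h hh).toEquiv ?_
    intro k
    simp only [Set.mem_setOf_eq, MulEquiv.toEquiv_eq_coe, MulEquiv.coe_toEquiv, conjInf_coe]
    constructor
    · rintro ⟨x, hx⟩
      refine ⟨⟨h⁻¹ * x * h, by simpa using hN.conj_mem x x.2 h⁻¹⟩, ?_⟩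
      simp only
      have : (g : G) = h⁻¹ * (h * g * h⁻¹) * h := by group
      rw [this, ← hx]
      group
    · rintro ⟨x, hx⟩
      refine ⟨⟨h * x * h⁻¹, hN.conj_mem x x.2 h⟩, ?_⟩
      simp only
      rw [← hx]
      group
  · intro k _
    simp

theorem irrConj_eq_irrComp (g : G) (θ : IrrCharacter N) :
    irrConj hN g θ = irrComp (MulAut.conjNormal g : N ≃* N) θ := by
  apply Subtype.ext
  funext n
  rw [irrConj_apply, irrComp_conjNormal_apply]

/-- **Block induction inside `N` commutes with conjugation by `H`.** -/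
theorem isInducedBlockIn_conj (H : Subgroup G) (h : G) (hh : h ∈ H)
    (ξ₀ : IrrCharacter ↥(H ⊓ N)) (θ₀ : IrrCharacter N)
    (hind : IsInducedBlockIn M N (H ⊓ N) (blockOf M (ξ₀ : ↥(H ⊓ N) → ℂ))
      (blockOf M (θ₀ : N → ℂ))) :
    IsInducedBlockIn M N (H ⊓ N)
      (blockOf M (irrComp (conjInf (N := N) H h hh) ξ₀ : ↥(H ⊓ N) → ℂ))
      (blockOf M (irrConj hN h θ₀ : N → ℂ)) := by
  refine ⟨⟨_, rfl⟩, ⟨_, rfl⟩, ?_⟩
  intro ξ hξ θ hθ n
  rw [mem_blockOf_irrComp_iff] at hξ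
  rw [irrConj_eq_irrComp, mem_blockOf_irrComp_iff] at hθ
  have key := hind.2.2 _ hξ _ hθ ((MulAut.conjNormal h : N ≃* N) n)
  have e1 : inducedCentralCharIn N (H ⊓ N) (ξ : ↥(H ⊓ N) → ℂ) (n : G) =
      inducedCentralCharIn N (H ⊓ N)
        (irrComp (conjInf (N := N) H h hh).symm ξ : ↥(H ⊓ N) → ℂ)
        (((MulAut.conjNormal h : N ≃* N) n : N) : G) := by
    have := iCCIn_conjInf (N := N) H h hh
      (irrComp (conjInf (N := N) H h hh).symm ξ : ↥(H ⊓ N) → ℂ) (n : G)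
    rw [MulAut.conjNormal_apply]
    rw [← this]
    congr 1
    funext k
    rw [irrComp_apply]
    simp
  have e2 : centralChar (θ : N → ℂ) n =
      centralChar (irrComp (MulAut.conjNormal h : N ≃* N).symm θ : N → ℂ)
        ((MulAut.conjNormal h : N ≃* N) n) := by
    have := Cfsg.Agent.Lib.Helper81.centralChar_comp (MulAut.conjNormal h : N ≃* N)
      (irrComp (MulAut.conjNormal h : N ≃* N).symm θ : N → ℂ) n
    rw [← this]
    congr 1
    funext k
    rw [irrComp_apply]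
    simp
  rw [e1, e2]
  exact key

/-- multiplicities over `H ⊓ N` of a class function of `H` are invariant under conjugation by
`H` -/
theorem classInner_conjInf (H : Subgroup G) [Fintype ↥(H ⊓ N)] (h : G) (hh : h ∈ H)
    {ψ : H → ℂ} (hψ : IsClassFunction H ψ) (ξ : IrrCharacter ↥(H ⊓ N)) :
    classInner (fun l : ↥(H ⊓ N) => ψ (Subgroup.inclusion inf_le_left l))
      (irrComp (conjInf (N := N) H h hh) ξ : ↥(H ⊓ N) → ℂ) =
    classInner (fun l : ↥(H ⊓ N) => ψ (Subgroup.inclusion inf_le_left l))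
      (ξ : ↥(H ⊓ N) → ℂ) := by
  have h1 : (fun l : ↥(H ⊓ N) => ψ (Subgroup.inclusion inf_le_left l)) =
      fun l => (fun l : ↥(H ⊓ N) => ψ (Subgroup.inclusion inf_le_left l))
        (conjInf (N := N) H h hh l) := by
    funext l
    have := hψ (Subgroup.inclusion inf_le_left l) ⟨h, hh⟩
    rw [← this]
    refine congrArg _ (Subtype.ext ?_)
    simp
  have h2 : (irrComp (conjInf (N := N) H h hh) ξ : ↥(H ⊓ N) → ℂ) =
      fun l => (ξ : ↥(H ⊓ N) → ℂ) (conjInf (N := N) H h hh l) := by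
    funext l
    rw [irrComp_apply]
  rw [h2]
  conv_lhs => rw [h1]
  exact Cfsg.Agent.Lib.Helper85.classInner_comp_mulEquiv (conjInf (N := N) H h hh)
    (fun l : ↥(H ⊓ N) => ψ (Subgroup.inclusion inf_le_left l)) (ξ : ↥(H ⊓ N) → ℂ)

omit [Fintype G] hN [Fintype N] in
/-- `N_N(Q)` as the normalizer of `Q` in the group `N`. -/
theorem inf_subgroupOf_eq_normalizer (Q : Subgroup G) (hQN : Q ≤ N) :
    (Subgroup.normalizer (Q : Set G) ⊓ N).subgroupOf N =
      Subgroup.normalizer ((Q.subgroupOf N : Subgroup N) : Set N) := by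
  ext x
  rw [Subgroup.mem_subgroupOf, Subgroup.mem_inf]
  constructor
  · rintro ⟨hx, -⟩
    exact mk_mem_normalizer_of_mem Q N hQN (n := (x : G)) hx x.2
  · intro hx
    exact ⟨coe_mem_normalizer_of_mem Q N hQN ⟨x, hx⟩, x.2⟩

/-- Two blocks of `N` covered by the same block of `G` are conjugate. -/
theorem exists_conj_of_cover (hM : IsPModular p M) {B : Set (IrrCharacter G)} (hB : IsPBlock M B)
    {d d₂ : Set (IrrCharacter N)} (hd : IsPBlock M d) (hd₂ : IsPBlock M d₂)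
    (hcov : ∃ χ ∈ B, ∃ θ ∈ d, classInner (fun n : N => (χ : G → ℂ) n) (θ : N → ℂ) ≠ 0)
    (hcov₂ : ∃ χ ∈ B, ∃ θ ∈ d₂, classInner (fun n : N => (χ : G → ℂ) n) (θ : N → ℂ) ≠ 0) :
    ∃ g : G, ∃ θ' ∈ d, irrConj hN g θ' ∈ d₂ := by
  have hMp : M.IsPrime := hM.2.1.isPrime
  obtain ⟨χ, hχ⟩ := IsPBlock.nonempty hMp hB
  obtain ⟨θ, hθ⟩ := IsPBlock.nonempty hMp hd
  obtain ⟨θ₂, hθ₂⟩ := IsPBlock.nonempty hMp hd₂
  have h1 := (Cfsg.Agent.S0965.result p M hM N B hB d hd).1 hcov χ hχ θ hθ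
  have h2 := (Cfsg.Agent.S0965.result p M hM N B hB d₂ hd₂).1 hcov₂ χ hχ θ₂ hθ₂
  have hmem : θ₂ ∈ conjSet hN d := by
    apply Cfsg.Agent.Lib.Helper22.mem_conjSet_of_iCC hN hM.2.1 hd hθ θ₂
    intro n
    have := memLocalIdeal_add hMp (h1 n) (memLocalIdeal_neg (h2 n))
    convert this using 1
    ring
  obtain ⟨g, θ', hθ', rfl⟩ := hmem
  exact ⟨g, θ', hθ', hθ₂⟩

end Cfsg.Agent.Lib.Helper21
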