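import Mathlib
import Cfsg.Agent.Lib.Helper21.InducedTrans
import Cfsg.Agent.Lib.Helper21.DefectOneTwoSection
import Cfsg.Agent.Lib.Helper21.DefectTransport
import Cfsg.Agent.Lib.Helper21.BrauerCorr
import Cfsg.Agent.Lib.Helper21.BrauerCorrOver
import Cfsg.Agent.S0920

/-!
# The extended first main theorem with induced blocks

`P` a `p`-subgroup of `G`, `H` a subgroup containing `N_G(P)`.  Block induction is a bijection from
the blocks of `H` with defect group `P` onto the blocks of `G` with defect group `P`.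
-/

set_option autoImplicit false
set_option linter.unusedSectionVars false
set_option linter.style.haveILetI false

namespace Cfsg.Agent.Lib.Helper21

open Cfsg
open Cfsg.Agent.Lib.Helper82 Cfsg.Agent.Lib.Helper83
open Cfsg.Agent.Lib.Helper81 (irrComp irrComp_apply irrComp_symm_irrComp irrComp_irrComp_symm
  mem_blockOf_irrComp_iff)

universe u
variable {G : Type u} [Group G] [Fintype G]
variable {p : ℕ} [Fact p.Prime] {M : Ideal AlgInt}

/-- First main theorem, part (i), for a subgroup equal to the normalizer. -/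
theorem fmt_one' (hMod : IsPModular p M) (K Q : Subgroup G)
    (hK : K = Subgroup.normalizer (Q : Set G)) (hQ : IsPGroup p Q)
    {b : Set (IrrCharacter K)} (hb : IsPBlock M b) (hbD : IsDefectGroup p M b (Q.subgroupOf K)) :
    ∃ B : Set (IrrCharacter G), IsPBlock M B ∧ IsDefectGroup p M B Q ∧ IsInducedBlock M K b B := by
  subst hK
  exact (Cfsg.Agent.S0920.result p M hMod Q hQ).1 b hb hbD

/-- First main theorem, part (ii) existence, for a subgroup equal to the normalizer. -/
theorem fmt_two' (hMod : IsPModular p M) (K Q : Subgroup G)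
    (hK : K = Subgroup.normalizer (Q : Set G)) (hQ : IsPGroup p Q)
    {B : Set (IrrCharacter G)} (hB : IsPBlock M B) (hBD : IsDefectGroup p M B Q) :
    ∃ b : Set (IrrCharacter K), IsPBlock M b ∧ IsDefectGroup p M b (Q.subgroupOf K) ∧
      IsInducedBlock M K b B := by
  subst hK
  obtain ⟨b, hb, _⟩ := (Cfsg.Agent.S0920.result p M hMod Q hQ).2 B hB hBD
  exact ⟨b, hb⟩

/-- The normalizer of `P` computed inside `H ⊇ N_G(P)`. -/
theorem normalizer_subgroupOf_eq (P H : Subgroup G)
    (hH : Subgroup.normalizer (P : Set G) ≤ H) :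
    (Subgroup.normalizer (P : Set G)).subgroupOf H =
      Subgroup.normalizer ((P.subgroupOf H : Subgroup H) : Set H) := by
  have hPH : P ≤ H := Subgroup.le_normalizer.trans hH
  ext x
  constructor
  · intro hx
    exact mk_mem_normalizer_of_mem P H hPH (n := (x : G)) hx x.2
  · intro hx
    exact coe_mem_normalizer_of_mem P H hPH ⟨x, hx⟩

/-- The copies of `P` in `N_G(P)` and in `N_G(P).subgroupOf H` correspond. -/
theorem comap_symm_subgroupOf_subgroupOf (P H : Subgroup G)
    (hH : Subgroup.normalizer (P : Set G) ≤ H) :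
    ((P.subgroupOf H).subgroupOf ((Subgroup.normalizer (P : Set G)).subgroupOf H)).comap
      (Subgroup.subgroupOfEquivOfLe hH).symm.toMonoidHom =
      P.subgroupOf (Subgroup.normalizer (P : Set G)) := by
  ext x
  simp [Subgroup.mem_subgroupOf]

theorem comap_subgroupOf_normalizer (P H : Subgroup G)
    (hH : Subgroup.normalizer (P : Set G) ≤ H) :
    (P.subgroupOf (Subgroup.normalizer (P : Set G))).comap
      (Subgroup.subgroupOfEquivOfLe hH).toMonoidHom =
      (P.subgroupOf H).subgroupOf ((Subgroup.normalizer (P : Set G)).subgroupOf H) := by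
  ext x
  simp [Subgroup.mem_subgroupOf]

/-- The first main correspondent of a block of `H ⊇ N_G(P)` with defect group `P`, read in
`N_G(P)`. -/
theorem efm_core (hMod : IsPModular p M) (P H : Subgroup G) (hP : IsPGroup p P)
    (hH : Subgroup.normalizer (P : Set G) ≤ H) {c : Set (IrrCharacter H)} (hc : IsPBlock M c)
    (hcD : IsDefectGroup p M c (P.subgroupOf H)) :
    ∃ θ₀ : IrrCharacter (Subgroup.normalizer (P : Set G)),
      IsDefectGroup p M (blockOf M (θ₀ : Subgroup.normalizer (P : Set G) → ℂ))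
        (P.subgroupOf (Subgroup.normalizer (P : Set G))) ∧
      IsInducedBlock M ((Subgroup.normalizer (P : Set G)).subgroupOf H)
        (blockOf M (irrComp (Subgroup.subgroupOfEquivOfLe hH) θ₀ :
          (Subgroup.normalizer (P : Set G)).subgroupOf H → ℂ)) c := by
  classical
  have hMp : M.IsPrime := hMod.2.1.isPrime
  haveI : Fintype H := Fintype.ofFinite _
  have hK := normalizer_subgroupOf_eq P H hH
  obtain ⟨b', hb', hb'D, hind⟩ := fmt_two' (G := H) hMod
    ((Subgroup.normalizer (P : Set G)).subgroupOf H) (P.subgroupOf H) hK hP.comap_subtype hc hcD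
  obtain ⟨θ', hθ'⟩ := IsPBlock.nonempty hMp hb'
  have hb'eq : b' = blockOf M (θ' : _ → ℂ) := IsPBlock.eq_blockOf hMp hb' hθ'
  refine ⟨irrComp (Subgroup.subgroupOfEquivOfLe hH).symm θ', ?_, ?_⟩
  · rw [hb'eq] at hb'D
    have := isDefectGroup_irrComp (p := p) (M := M) (Subgroup.subgroupOfEquivOfLe hH).symm θ' hb'D
    rwa [comap_symm_subgroupOf_subgroupOf] at this
  · rw [irrComp_irrComp_symm, ← hb'eq]
    exact hind

/-- **Extended first main theorem, defect groups.** A block of `H ⊇ N_G(P)` with defect group `P`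
induces a block with defect group `P`. -/
theorem efm_defect (hMod : IsPModular p M) (P H : Subgroup G) (hP : IsPGroup p P)
    (hH : Subgroup.normalizer (P : Set G) ≤ H) {c : Set (IrrCharacter H)} (hc : IsPBlock M c)
    (hcD : IsDefectGroup p M c (P.subgroupOf H)) {B : Set (IrrCharacter G)}
    (hind : IsInducedBlock M H c B) : IsDefectGroup p M B P := by
  classical
  have hMp : M.IsPrime := hMod.2.1.isPrime
  haveI : Fintype H := Fintype.ofFinite _
  haveI : Fintype (IrrCharacter G) := Fintype.ofFinite _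
  haveI : Fintype (Subgroup.normalizer (P : Set G)) := Fintype.ofFinite _
  haveI : Fintype ((Subgroup.normalizer (P : Set G)).subgroupOf H) := Fintype.ofFinite _
  obtain ⟨θ₀, hθD, hθind⟩ := efm_core hMod P H hP hH hc hcD
  obtain ⟨B', hB', hB'D, hind'⟩ := (Cfsg.Agent.S0920.result p M hMod P hP).1
    (blockOf M (θ₀ : Subgroup.normalizer (P : Set G) → ℂ)) ⟨θ₀, rfl⟩ hθD
  have htrans : IsInducedBlock M H c B' := isInducedBlock_trans hH hMp θ₀ hθind hind'
  have := isInducedBlock_unique hMp H hind htrans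
  rw [this]
  exact hB'D

/-- **Extended first main theorem, injectivity.** -/
theorem efm_unique (hMod : IsPModular p M) (P H : Subgroup G) (hP : IsPGroup p P)
    (hH : Subgroup.normalizer (P : Set G) ≤ H) {c₁ c₂ : Set (IrrCharacter H)}
    (hc₁ : IsPBlock M c₁) (hc₂ : IsPBlock M c₂)
    (hD₁ : IsDefectGroup p M c₁ (P.subgroupOf H)) (hD₂ : IsDefectGroup p M c₂ (P.subgroupOf H))
    {B : Set (IrrCharacter G)} (h₁ : IsInducedBlock M H c₁ B) (h₂ : IsInducedBlock M H c₂ B) :
    c₁ = c₂ := by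
  classical
  have hMp : M.IsPrime := hMod.2.1.isPrime
  haveI : Fintype H := Fintype.ofFinite _
  haveI : Fintype (IrrCharacter G) := Fintype.ofFinite _
  haveI : Fintype (IrrCharacter H) := Fintype.ofFinite _
  haveI : Fintype (Subgroup.normalizer (P : Set G)) := Fintype.ofFinite _
  haveI : Fintype ((Subgroup.normalizer (P : Set G)).subgroupOf H) := Fintype.ofFinite _
  obtain ⟨θ₁, hθ₁D, hθ₁ind⟩ := efm_core hMod P H hP hH hc₁ hD₁
  obtain ⟨θ₂, hθ₂D, hθ₂ind⟩ := efm_core hMod P H hP hH hc₂ hD₂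
  obtain ⟨B₁, hB₁, hB₁D, hind₁⟩ := (Cfsg.Agent.S0920.result p M hMod P hP).1
    (blockOf M (θ₁ : Subgroup.normalizer (P : Set G) → ℂ)) ⟨θ₁, rfl⟩ hθ₁D
  obtain ⟨B₂, hB₂, hB₂D, hind₂⟩ := (Cfsg.Agent.S0920.result p M hMod P hP).1
    (blockOf M (θ₂ : Subgroup.normalizer (P : Set G) → ℂ)) ⟨θ₂, rfl⟩ hθ₂D
  have t₁ : IsInducedBlock M H c₁ B₁ := isInducedBlock_trans hH hMp θ₁ hθ₁ind hind₁
  have t₂ : IsInducedBlock M H c₂ B₂ := isInducedBlock_trans hH hMp θ₂ hθ₂ind hind₂
  have e₁ : B = B₁ := isInducedBlock_unique hMp H h₁ t₁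
  have e₂ : B = B₂ := isInducedBlock_unique hMp H h₂ t₂
  rw [← e₁] at hind₁ hB₁D hB₁
  rw [← e₂] at hind₂
  obtain ⟨b₀, _, huniq⟩ := (Cfsg.Agent.S0920.result p M hMod P hP).2 B hB₁ hB₁D
  have u₁ := huniq (blockOf M (θ₁ : Subgroup.normalizer (P : Set G) → ℂ))
    ⟨⟨θ₁, rfl⟩, hθ₁D, hind₁⟩
  have u₂ := huniq (blockOf M (θ₂ : Subgroup.normalizer (P : Set G) → ℂ))
    ⟨⟨θ₂, rfl⟩, hθ₂D, hind₂⟩
  have hmem : θ₂ ∈ blockOf M (θ₁ : Subgroup.normalizer (P : Set G) → ℂ) := by
    rw [u₁, ← u₂]
    exact mem_blockOf_self hMp θ₂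
  have hmem' : irrComp (Subgroup.subgroupOfEquivOfLe hH) θ₂ ∈
      blockOf M (irrComp (Subgroup.subgroupOfEquivOfLe hH) θ₁ :
        (Subgroup.normalizer (P : Set G)).subgroupOf H → ℂ) := by
    rw [mem_blockOf_irrComp_iff, irrComp_symm_irrComp]
    exact hmem
  have hbeq : blockOf M (irrComp (Subgroup.subgroupOfEquivOfLe hH) θ₁ :
        (Subgroup.normalizer (P : Set G)).subgroupOf H → ℂ) =
      blockOf M (irrComp (Subgroup.subgroupOfEquivOfLe hH) θ₂ :
        (Subgroup.normalizer (P : Set G)).subgroupOf H → ℂ) :=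
    IsPBlock.eq_blockOf hMp ⟨_, rfl⟩ hmem'
  rw [hbeq] at hθ₁ind
  exact isInducedBlock_unique (G := H) hMp _ hθ₁ind hθ₂ind

/-- **Extended first main theorem, surjectivity.** -/
theorem efm_exists (hMod : IsPModular p M) (P H : Subgroup G) (hP : IsPGroup p P)
    (hH : Subgroup.normalizer (P : Set G) ≤ H) {B : Set (IrrCharacter G)} (hB : IsPBlock M B)
    (hBD : IsDefectGroup p M B P) :
    ∃ c : Set (IrrCharacter H), IsPBlock M c ∧ IsDefectGroup p M c (P.subgroupOf H) ∧
      IsInducedBlock M H c B := by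
  classical
  have hMp : M.IsPrime := hMod.2.1.isPrime
  haveI : Fintype H := Fintype.ofFinite _
  haveI : Fintype (Subgroup.normalizer (P : Set G)) := Fintype.ofFinite _
  haveI : Fintype ((Subgroup.normalizer (P : Set G)).subgroupOf H) := Fintype.ofFinite _
  obtain ⟨b, hb, hbD, hind⟩ := ((Cfsg.Agent.S0920.result p M hMod P hP).2 B hB hBD).exists
  obtain ⟨θ₀, hθ₀⟩ := IsPBlock.nonempty hMp hb
  have hbeq : b = blockOf M (θ₀ : Subgroup.normalizer (P : Set G) → ℂ) :=
    IsPBlock.eq_blockOf hMp hb hθ₀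
  rw [hbeq] at hbD hind
  have hD' := isDefectGroup_irrComp (p := p) (M := M) (Subgroup.subgroupOfEquivOfLe hH) θ₀ hbD
  rw [comap_subgroupOf_normalizer] at hD'
  have hK := normalizer_subgroupOf_eq P H hH
  obtain ⟨c, hc, hcD, hcind⟩ := fmt_one' (G := H) hMod
    ((Subgroup.normalizer (P : Set G)).subgroupOf H) (P.subgroupOf H) hK hP.comap_subtype
    ⟨_, rfl⟩ hD'
  exact ⟨c, hc, hcD, isInducedBlock_trans hH hMp θ₀ hcind hind⟩

end Cfsg.Agent.Lib.Helper21
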