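import Mathlib
import Cfsg.Agent.Lib.Helper21.HKConj
import Cfsg.Agent.Lib.Helper21.HKExtFMT
import Cfsg.Agent.Lib.Helper81.DefectBasic
import Cfsg.Agent.Lib.Helper82.VanishOffDefect
import Cfsg.Agent.S0919

/-!
# The Harris–Knörr correspondence

`N ⊴ G`, `Q ≤ N` a `p`-subgroup, `d` a block of `N` with defect group `Q` and `e` its Brauer
correspondent in `N_N(Q)`.  Block induction is a bijection from the blocks of `N_G(Q)` covering
`e` onto the blocks of `G` covering `d`.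
-/

set_option autoImplicit false
set_option linter.unusedSectionVars false
set_option linter.style.haveILetI false

namespace Cfsg.Agent.Lib.Helper21

open Cfsg
open scoped ComplexConjugate
open Cfsg.Agent.Lib.Helper82 Cfsg.Agent.Lib.Helper83
open Cfsg.Agent.Lib.Helper81 (irrComp irrComp_apply irrComp_symm_irrComp irrComp_irrComp_symm
  mem_blockOf_irrComp_iff)
open Cfsg.Agent.Lib.Helper22 (irrConj irrConj_irrConj irrConj_one irrConj_apply conjSet)

universe u
variable {G : Type u} [Group G] [Fintype G]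
variable {p : ℕ} [Fact p.Prime] {M : Ideal AlgInt}
variable {N : Subgroup G} [hN : N.Normal] [Fintype N]

omit [Fintype G] [Fintype N] in
/-- For `N` normal, conjugation commutes with intersecting with `N`. -/
theorem map_conj_inf_normal (P : Subgroup G) (g : G) :
    P.map (MulAut.conj g).toMonoidHom ⊓ N = (P ⊓ N).map (MulAut.conj g).toMonoidHom := by
  ext x
  simp only [Subgroup.mem_inf, Subgroup.mem_map_equiv, MulAut.conj_symm_apply]
  constructor
  · rintro ⟨h1, h2⟩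
    exact ⟨h1, by simpa using hN.conj_mem x h2 g⁻¹⟩
  · rintro ⟨h1, h2⟩
    refine ⟨h1, ?_⟩
    have := hN.conj_mem _ h2 g
    simpa [mul_assoc] using this

omit [Fintype G] [Fintype N] in
/-- `N_G(P) ≤ N_G(P ∩ N)` for `N` normal. -/
theorem normalizer_le_normalizer_inf (P : Subgroup G) :
    Subgroup.normalizer (P : Set G) ≤ Subgroup.normalizer ((P ⊓ N : Subgroup G) : Set G) := by
  intro g hg
  rw [Subgroup.mem_normalizer_iff_map_conj_eq] at hg ⊢
  have hg' : P.map (MulAut.conj g).toMonoidHom = P := hg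
  show (P ⊓ N).map (MulAut.conj g).toMonoidHom = P ⊓ N
  rw [← map_conj_inf_normal, hg']

/-- adjusting the conjugating element into `N_G(Q)` -/
theorem exists_normalizer_conj (hM : IsPModular p M) (Q : Subgroup G) (hQN : Q ≤ N)
    {d d₂ : Set (IrrCharacter N)} (hd : IsPBlock M d) (hd₂ : IsPBlock M d₂)
    (hdQ : IsDefectGroup p M d (Q.subgroupOf N)) (hd₂Q : IsDefectGroup p M d₂ (Q.subgroupOf N))
    (g : G) (θ' : IrrCharacter N) (hθ' : θ' ∈ d) (hθ₂ : irrConj hN g θ' ∈ d₂) :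
    ∃ h ∈ Subgroup.normalizer (Q : Set G), irrConj hN h θ' = irrConj hN g θ' := by
  classical
  have hMp : M.IsPrime := hM.2.1.isPrime
  have hdeq : d = blockOf M (θ' : N → ℂ) := IsPBlock.eq_blockOf hMp hd hθ'
  have hd₂eq : d₂ = blockOf M (irrConj hN g θ' : N → ℂ) := IsPBlock.eq_blockOf hMp hd₂ hθ₂
  rw [hdeq] at hdQ
  have h1 := isDefectGroup_irrComp (p := p) (M := M) (MulAut.conjNormal g : N ≃* N) θ' hdQ
  rw [← irrConj_eq_irrComp, ← hd₂eq] at h1
  obtain ⟨t, ht⟩ := Cfsg.Agent.Lib.Helper22.IsDefectGroup.exists_conj (G := N) hM hd₂ hd₂Q h1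
  have key : ∀ m : N, g * m * g⁻¹ ∈ Q ↔ (t : G)⁻¹ * m * t ∈ Q := by
    intro m
    have := SetLike.ext_iff.1 ht m
    rw [Subgroup.mem_comap, Subgroup.mem_map_equiv, Subgroup.mem_subgroupOf,
      Subgroup.mem_subgroupOf] at this
    simpa using this
  refine ⟨g * t, ?_, ?_⟩
  · rw [Subgroup.mem_set_normalizer_iff]
    intro x
    constructor
    · intro hx
      have hxN : x ∈ N := hQN hx
      have hm : (t : G) * x * (t : G)⁻¹ ∈ N := hN.conj_mem x hxN t
      have := (key ⟨_, hm⟩).2 (by simpa [mul_assoc] using hx)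
      simpa [mul_assoc] using this
    · intro hx
      have hyN : g * t * x * (g * t)⁻¹ ∈ N := hQN hx
      have hxN : x ∈ N := by
        have := hN.conj_mem _ hyN (g * t)⁻¹
        simpa [mul_assoc] using this
      have hm : (t : G) * x * (t : G)⁻¹ ∈ N := hN.conj_mem x hxN t
      have := (key ⟨_, hm⟩).1 (by simpa [mul_assoc] using hx)
      simpa [mul_assoc] using this
  · rw [← irrConj_irrConj]
    apply Subtype.ext
    funext m
    rw [irrConj_apply]
    have := isClassFunction_irr (irrConj hN g θ') m t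
    rw [← this]
    rfl

/-- **Harris–Knörr, injectivity.** -/
theorem harris_knorr_unique (hM : IsPModular p M) (Q : Subgroup G) (hQN : Q ≤ N)
    [Fintype ↥(Subgroup.normalizer (Q : Set G) ⊓ N)]
    {e : Set (IrrCharacter ↥(Subgroup.normalizer (Q : Set G) ⊓ N))} (he : IsPBlock M e)
    (heQ : IsDefectGroup p M e (Q.subgroupOf (Subgroup.normalizer (Q : Set G) ⊓ N)))
    {c₁ c₂ : Set (IrrCharacter ↥(Subgroup.normalizer (Q : Set G)))}
    (hc₁ : IsPBlock M c₁) (hc₂ : IsPBlock M c₂)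
    (hcov₁ : ∃ ψ ∈ c₁, ∃ ξ ∈ e, classInner
      (fun l : ↥(Subgroup.normalizer (Q : Set G) ⊓ N) =>
        (ψ : ↥(Subgroup.normalizer (Q : Set G)) → ℂ) (Subgroup.inclusion inf_le_left l))
      (ξ : ↥(Subgroup.normalizer (Q : Set G) ⊓ N) → ℂ) ≠ 0)
    (hcov₂ : ∃ ψ ∈ c₂, ∃ ξ ∈ e, classInner
      (fun l : ↥(Subgroup.normalizer (Q : Set G) ⊓ N) =>
        (ψ : ↥(Subgroup.normalizer (Q : Set G)) → ℂ) (Subgroup.inclusion inf_le_left l))
      (ξ : ↥(Subgroup.normalizer (Q : Set G) ⊓ N) → ℂ) ≠ 0)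
    {B : Set (IrrCharacter G)}
    (h₁ : IsInducedBlock M (Subgroup.normalizer (Q : Set G)) c₁ B)
    (h₂ : IsInducedBlock M (Subgroup.normalizer (Q : Set G)) c₂ B) : c₁ = c₂ := by
  classical
  have hMp : M.IsPrime := hM.2.1.isPrime
  have hB : IsPBlock M B := h₁.2.1
  have hQL : Q ≤ Subgroup.normalizer (Q : Set G) ⊓ N := le_inf Subgroup.le_normalizer hQN
  obtain ⟨P₁, hP₁, hP₁Q⟩ := knorr_in hM (Subgroup.normalizer (Q : Set G)) Q hQL he heQ hc₁ hcov₁
  obtain ⟨P₂, hP₂, hP₂Q⟩ := knorr_in hM (Subgroup.normalizer (Q : Set G)) Q hQL he heQ hc₂ hcov₂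
  have hnorm : ∀ P' : Subgroup ↥(Subgroup.normalizer (Q : Set G)),
      P'.map (Subgroup.normalizer (Q : Set G)).subtype ⊓ N = Q →
      Subgroup.normalizer ((P'.map (Subgroup.normalizer (Q : Set G)).subtype : Subgroup G) : Set G)
        ≤ Subgroup.normalizer (Q : Set G) := by
    intro P' hP'
    have := normalizer_le_normalizer_inf (N := N)
      (P'.map (Subgroup.normalizer (Q : Set G)).subtype)
    rwa [hP'] at this
  have hsub : ∀ P' : Subgroup ↥(Subgroup.normalizer (Q : Set G)),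
      (P'.map (Subgroup.normalizer (Q : Set G)).subtype).subgroupOf
        (Subgroup.normalizer (Q : Set G)) = P' := fun P' =>
    Subgroup.comap_map_eq_self_of_injective (Subgroup.subtype_injective _) P'
  have hpP₁ : IsPGroup p (P₁.map (Subgroup.normalizer (Q : Set G)).subtype) :=
    (Cfsg.Agent.Lib.Helper81.isPGroup_of_isDefectGroup' hP₁).map _
  have hpP₂ : IsPGroup p (P₂.map (Subgroup.normalizer (Q : Set G)).subtype) :=
    (Cfsg.Agent.Lib.Helper81.isPGroup_of_isDefectGroup' hP₂).map _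
  have hBD₁ : IsDefectGroup p M B (P₁.map (Subgroup.normalizer (Q : Set G)).subtype) :=
    efm_defect hM _ _ hpP₁ (hnorm P₁ hP₁Q) hc₁ (by rw [hsub]; exact hP₁) h₁
  have hBD₂ : IsDefectGroup p M B (P₂.map (Subgroup.normalizer (Q : Set G)).subtype) :=
    efm_defect hM _ _ hpP₂ (hnorm P₂ hP₂Q) hc₂ (by rw [hsub]; exact hP₂) h₂
  obtain ⟨g, hg⟩ := Cfsg.Agent.Lib.Helper22.IsDefectGroup.exists_conj hM hB hBD₁ hBD₂
  have hgH : g ∈ Subgroup.normalizer (Q : Set G) := by
    rw [Subgroup.mem_normalizer_iff_map_conj_eq]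
    show Q.map (MulAut.conj g).toMonoidHom = Q
    conv_lhs => rw [← hP₁Q]
    rw [← map_conj_inf_normal, ← hg, hP₂Q]
  have hP₁' : IsDefectGroup p M c₂ P₁ := by
    have := Cfsg.Agent.Lib.Helper82.isDefectGroup_conj hP₂
      (⟨g, hgH⟩ : ↥(Subgroup.normalizer (Q : Set G)))⁻¹
    convert this using 1
    ext y
    rw [Subgroup.mem_map_equiv]
    have h3 : y ∈ P₁ ↔ (y : G) ∈ P₁.map (Subgroup.normalizer (Q : Set G)).subtype := by
      constructor
      · intro hy
        exact ⟨y, hy, rfl⟩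
      · rintro ⟨z, hz, hzy⟩
        have : z = y := Subtype.ext hzy
        rwa [← this]
    have h4 : ∀ z : ↥(Subgroup.normalizer (Q : Set G)),
        z ∈ P₂ ↔ (z : G) ∈ P₂.map (Subgroup.normalizer (Q : Set G)).subtype := by
      intro z
      constructor
      · intro hy
        exact ⟨z, hy, rfl⟩
      · rintro ⟨w, hw, hwz⟩
        have : w = z := Subtype.ext hwz
        rwa [← this]
    rw [h3, h4, hg, Subgroup.mem_map_equiv]
    simp only [MulAut.conj_symm_apply, inv_inv, Subgroup.coe_mul, Subgroup.coe_inv]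
    have hy : g⁻¹ * (g * (y : G) * g⁻¹) * g = (y : G) := by group
    rw [hy]
  exact efm_unique hM _ _ hpP₁ (hnorm P₁ hP₁Q) hc₁ hc₂ (by rw [hsub]; exact hP₁)
    (by rw [hsub]; exact hP₁') h₁ h₂

/-- **Harris–Knörr, surjectivity.** -/
theorem harris_knorr_exists (hM : IsPModular p M) (Q : Subgroup G) (hQ : IsPGroup p Q)
    (hQN : Q ≤ N) [Fintype ↥(Subgroup.normalizer (Q : Set G) ⊓ N)]
    {d : Set (IrrCharacter N)} (hd : IsPBlock M d)
    (hdQ : IsDefectGroup p M d (Q.subgroupOf N))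
    {e : Set (IrrCharacter ↥(Subgroup.normalizer (Q : Set G) ⊓ N))}
    (hed : IsInducedBlockIn M N (Subgroup.normalizer (Q : Set G) ⊓ N) e d)
    {B : Set (IrrCharacter G)} (hB : IsPBlock M B)
    (hcov : ∃ χ ∈ B, ∃ θ ∈ d, classInner (fun n : N => (χ : G → ℂ) n) (θ : N → ℂ) ≠ 0) :
    ∃ c : Set (IrrCharacter ↥(Subgroup.normalizer (Q : Set G))),
      (IsPBlock M c ∧ ∃ ψ ∈ c, ∃ ξ ∈ e, classInner
        (fun l : ↥(Subgroup.normalizer (Q : Set G) ⊓ N) =>
          (ψ : ↥(Subgroup.normalizer (Q : Set G)) → ℂ) (Subgroup.inclusion inf_le_left l))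
        (ξ : ↥(Subgroup.normalizer (Q : Set G) ⊓ N) → ℂ) ≠ 0) ∧
      IsInducedBlock M (Subgroup.normalizer (Q : Set G)) c B := by
  classical
  have hMp : M.IsPrime := hM.2.1.isPrime
  haveI : Fintype (IrrCharacter N) := Fintype.ofFinite _
  haveI : Fintype ((Subgroup.normalizer (Q : Set G) ⊓ N).subgroupOf N) := Fintype.ofFinite _
  have he : IsPBlock M e := hed.1
  -- a defect group `P` of `B` with `P ∩ N = Q`
  obtain ⟨P, hP, hPQ⟩ := knorr_given hM hd hB hcov Q hQN hdQ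
  have hPn : Subgroup.normalizer (P : Set G) ≤ Subgroup.normalizer (Q : Set G) := by
    have := normalizer_le_normalizer_inf (N := N) P
    rwa [hPQ] at this
  have hPH : P ≤ Subgroup.normalizer (Q : Set G) := Subgroup.le_normalizer.trans hPn
  have hpP : IsPGroup p P := Cfsg.Agent.Lib.Helper81.isPGroup_of_isDefectGroup' hP
  -- the block `c` of `H` with defect group `P` inducing `B`
  obtain ⟨c, hc, hcD, hcB⟩ := efm_exists hM P (Subgroup.normalizer (Q : Set G)) hpP hPn hB hP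
  -- a block of `L` covered by `c` with defect group `Q`
  obtain ⟨ξ₂, ⟨ψ, hψ, hcon⟩, hD₂⟩ := stable_covered_in (N := N) hM
    (Subgroup.normalizer (Q : Set G)) hc hcD
  have hmapP : (P.subgroupOf (Subgroup.normalizer (Q : Set G))).map
      (Subgroup.normalizer (Q : Set G)).subtype ⊓ N = Q := by
    rw [Subgroup.subgroupOf_map_subtype, inf_of_le_left hPH, hPQ]
  rw [hmapP] at hD₂
  -- induce to `N`
  have hK := inf_subgroupOf_eq_normalizer (N := N) Q hQN
  have hD₂' := isDefectGroup_irrComp (p := p) (M := M)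
    (Subgroup.subgroupOfEquivOfLe (inf_le_right : Subgroup.normalizer (Q : Set G) ⊓ N ≤ N)) ξ₂ hD₂
  have hcomap : (Q.subgroupOf (Subgroup.normalizer (Q : Set G) ⊓ N)).comap
      (Subgroup.subgroupOfEquivOfLe
        (inf_le_right : Subgroup.normalizer (Q : Set G) ⊓ N ≤ N)).toMonoidHom =
      (Q.subgroupOf N).subgroupOf ((Subgroup.normalizer (Q : Set G) ⊓ N).subgroupOf N) := by
    ext x
    simp [Subgroup.mem_subgroupOf]
  rw [hcomap] at hD₂'
  obtain ⟨d₂, hd₂, hd₂Q, hind₂⟩ := fmt_one' (G := N) hM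
    ((Subgroup.normalizer (Q : Set G) ⊓ N).subgroupOf N) (Q.subgroupOf N) hK hQ.comap_subtype
    ⟨_, rfl⟩ hD₂'
  have hin₂ := isInducedBlockIn_of_intrinsic hMp (Subgroup.normalizer (Q : Set G)) ξ₂ hind₂
  -- `B` covers `d₂`
  have hcov₂ := covers_of_induced hM (Subgroup.normalizer (Q : Set G))
    ⟨ψ, hψ, ξ₂, mem_blockOf_self hMp ξ₂, hcon⟩ hcB hin₂
  -- `d₂` is an `H`-conjugate of `d`
  obtain ⟨g, θ', hθ', hθ₂⟩ := exists_conj_of_cover hM hB hd hd₂ hcov hcov₂
  obtain ⟨h, hh, hhθ⟩ := exists_normalizer_conj hM Q hQN hd hd₂ hdQ hd₂Q g θ' hθ' hθ₂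
  rw [← hhθ] at hθ₂
  have hd₂eq : d₂ = blockOf M (irrConj hN h θ' : N → ℂ) := IsPBlock.eq_blockOf hMp hd₂ hθ₂
  have hdeq : d = blockOf M (θ' : N → ℂ) := IsPBlock.eq_blockOf hMp hd hθ'
  rw [hd₂eq] at hin₂
  have hhi : h⁻¹ ∈ Subgroup.normalizer (Q : Set G) := Subgroup.inv_mem _ hh
  have hin₃ := isInducedBlockIn_conj (Subgroup.normalizer (Q : Set G)) h⁻¹ hhi ξ₂
    (irrConj hN h θ') hin₂
  rw [irrConj_irrConj, mul_inv_cancel, irrConj_one, ← hdeq] at hin₃
  -- uniqueness of the Brauer correspondent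
  obtain ⟨ξ₀, hξ₀⟩ := IsPBlock.nonempty hMp he
  have heeq : e = blockOf M (ξ₀ : ↥(Subgroup.normalizer (Q : Set G) ⊓ N) → ℂ) :=
    IsPBlock.eq_blockOf hMp he hξ₀
  have i₁ := isInducedBlock_of_in hMp (Subgroup.normalizer (Q : Set G)) hξ₀ hed
  have i₃ := isInducedBlock_of_in hMp (Subgroup.normalizer (Q : Set G))
    (mem_blockOf_self hMp (irrComp (conjInf (N := N) (Subgroup.normalizer (Q : Set G)) h⁻¹ hhi) ξ₂))
    hin₃
  have huniq := induced_unique' (G := N) hM
    ((Subgroup.normalizer (Q : Set G) ⊓ N).subgroupOf N) (Q.subgroupOf N) hK hQ.comap_subtype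
    ⟨_, rfl⟩ ⟨_, rfl⟩ hd hdQ i₁ i₃
  have hmem : irrComp (conjInf (N := N) (Subgroup.normalizer (Q : Set G)) h⁻¹ hhi) ξ₂ ∈ e := by
    have h1 := mem_blockOf_self hMp (irrComp (Subgroup.subgroupOfEquivOfLe
      (inf_le_right : Subgroup.normalizer (Q : Set G) ⊓ N ≤ N))
      (irrComp (conjInf (N := N) (Subgroup.normalizer (Q : Set G)) h⁻¹ hhi) ξ₂))
    rw [← huniq, mem_blockOf_irrComp_iff, irrComp_symm_irrComp, ← heeq] at h1
    exact h1
  refine ⟨c, ⟨hc, ψ, hψ, _, hmem, ?_⟩, hcB⟩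
  rw [classInner_conjInf (N := N) (Subgroup.normalizer (Q : Set G)) h⁻¹ hhi
    (isClassFunction_irr ψ)]
  exact hcon

/-- **The Harris–Knörr correspondence.** -/
theorem harris_knorr (hM : IsPModular p M) (Q : Subgroup G) (hQ : IsPGroup p Q)
    (hQN : Q ≤ N) [Fintype ↥(Subgroup.normalizer (Q : Set G) ⊓ N)]
    (d : Set (IrrCharacter N)) (hd : IsPBlock M d)
    (hdQ : IsDefectGroup p M d (Q.subgroupOf N))
    (e : Set (IrrCharacter ↥(Subgroup.normalizer (Q : Set G) ⊓ N))) (he : IsPBlock M e)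
    (heQ : IsDefectGroup p M e (Q.subgroupOf (Subgroup.normalizer (Q : Set G) ⊓ N)))
    (hed : IsInducedBlockIn M N (Subgroup.normalizer (Q : Set G) ⊓ N) e d) :
    (∀ c : Set (IrrCharacter ↥(Subgroup.normalizer (Q : Set G))), IsPBlock M c →
      (∃ ψ ∈ c, ∃ ξ ∈ e, classInner
        (fun l : ↥(Subgroup.normalizer (Q : Set G) ⊓ N) =>
          (ψ : ↥(Subgroup.normalizer (Q : Set G)) → ℂ) (Subgroup.inclusion inf_le_left l))
        (ξ : ↥(Subgroup.normalizer (Q : Set G) ⊓ N) → ℂ) ≠ 0) →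
      ∃! B : Set (IrrCharacter G), IsInducedBlock M (Subgroup.normalizer (Q : Set G)) c B ∧
        (∃ χ ∈ B, ∃ θ ∈ d, classInner (fun n : N => (χ : G → ℂ) n) (θ : N → ℂ) ≠ 0)) ∧
    (∀ B : Set (IrrCharacter G), IsPBlock M B →
      (∃ χ ∈ B, ∃ θ ∈ d, classInner (fun n : N => (χ : G → ℂ) n) (θ : N → ℂ) ≠ 0) →
      ∃! c : Set (IrrCharacter ↥(Subgroup.normalizer (Q : Set G))),
        (IsPBlock M c ∧ ∃ ψ ∈ c, ∃ ξ ∈ e, classInner
          (fun l : ↥(Subgroup.normalizer (Q : Set G) ⊓ N) =>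
            (ψ : ↥(Subgroup.normalizer (Q : Set G)) → ℂ) (Subgroup.inclusion inf_le_left l))
          (ξ : ↥(Subgroup.normalizer (Q : Set G) ⊓ N) → ℂ) ≠ 0) ∧
        IsInducedBlock M (Subgroup.normalizer (Q : Set G)) c B) := by
  classical
  have hMp : M.IsPrime := hM.2.1.isPrime
  haveI : Fintype (IrrCharacter G) := Fintype.ofFinite _
  constructor
  · intro c hc hcov
    obtain ⟨B, hcB⟩ := Cfsg.Agent.S0919.result p M hM Q (Subgroup.normalizer (Q : Set G)) hQ
      Subgroup.le_normalizer (Subgroup.centralizer_le_normalizer _) le_rfl c hc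
    refine ⟨B, ⟨hcB, covers_of_induced hM (Subgroup.normalizer (Q : Set G)) hcov hcB hed⟩, ?_⟩
    rintro B' ⟨hB', -⟩
    exact isInducedBlock_unique hMp _ hB' hcB
  · intro B hB hcov
    obtain ⟨c, ⟨hc, hce⟩, hcB⟩ := harris_knorr_exists hM Q hQ hQN hd hdQ hed hB hcov
    refine ⟨c, ⟨⟨hc, hce⟩, hcB⟩, ?_⟩
    rintro c' ⟨⟨hc', hce'⟩, hc'B⟩
    exact harris_knorr_unique hM Q hQN he heQ hc' hc hce' hce hc'B hcB

end Cfsg.Agent.Lib.Helper21
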