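import Mathlib
import Cfsg.Agent.Lib.Helper21.HKExtFMT
import Cfsg.Agent.Lib.Helper21.CoverGen
import Cfsg.Agent.Lib.Helper21.NormalPCover
import Cfsg.Agent.Lib.Helper21.ExtFirstMain
import Cfsg.Agent.Lib.Helper22.BlockRegular
import Cfsg.Agent.Lib.Helper81.DefectBasic
import Cfsg.Agent.S0919
import Cfsg.Agent.S0958
import Cfsg.Agent.S0973

/-!
# Blocks induced from subgroups containing the centralizer of a defect group

`b` a block of `H ≤ G` with defect group `D₀` and `C_G(D₀) ≤ H`: `b^G` is defined and has a defect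
group `D` with `Z(D) ≤ Z(D₀) ≤ D₀ ≤ D`.
-/

set_option autoImplicit false
set_option linter.unusedSectionVars false
set_option linter.style.haveILetI false

namespace Cfsg.Agent.Lib.Helper21

open Cfsg
open Cfsg.Agent.Lib.Helper82 Cfsg.Agent.Lib.Helper83
open Cfsg.Agent.Lib.Helper81 (irrComp irrComp_apply irrComp_symm_irrComp irrComp_irrComp_symm
  mem_blockOf_irrComp_iff)

universe u
variable {G : Type u} [Group G] [Fintype G]
variable {p : ℕ} [Fact p.Prime] {M : Ideal AlgInt}

omit [Fintype G] in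
theorem comap_symm_subgroupOf_subgroupOf' (P K H : Subgroup G) (hKH : K ≤ H) :
    ((P.subgroupOf H).subgroupOf (K.subgroupOf H)).comap
      (Subgroup.subgroupOfEquivOfLe hKH).symm.toMonoidHom = P.subgroupOf K := by
  ext x
  simp [Subgroup.mem_subgroupOf]

omit [Fintype G] in
theorem comap_subgroupOf_subgroupOf' (P K H : Subgroup G) (hKH : K ≤ H) :
    (P.subgroupOf K).comap (Subgroup.subgroupOfEquivOfLe hKH).toMonoidHom =
      (P.subgroupOf H).subgroupOf (K.subgroupOf H) := by
  ext x
  simp [Subgroup.mem_subgroupOf]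

/-- `Z(D)` as a subgroup of `G`. -/
def zG (D : Subgroup G) : Subgroup G := (Subgroup.center ↥D).map D.subtype

omit [Fintype G] in
theorem mem_zG {D : Subgroup G} {x : G} : x ∈ zG D ↔ x ∈ D ∧ ∀ y ∈ D, y * x = x * y := by
  unfold zG
  constructor
  · rintro ⟨z, hz, rfl⟩
    refine ⟨z.2, ?_⟩
    intro y hy
    have := Subgroup.mem_center_iff.1 hz ⟨y, hy⟩
    exact congrArg Subtype.val this
  · rintro ⟨hx, hc⟩
    refine ⟨⟨x, hx⟩, ?_, rfl⟩
    rw [SetLike.mem_coe, Subgroup.mem_center_iff]
    intro y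
    exact Subtype.ext (hc y y.2)

/-- **The root of a block** in `D₀ C_G(D₀)`. -/
theorem exists_root (hM : IsPModular p M) (H : Subgroup G) {b : Set (IrrCharacter H)}
    (hb : IsPBlock M b) (E : Subgroup G) (hEH : E ≤ H)
    (hD₀ : IsDefectGroup p M b (E.subgroupOf H))
    (hKH : E ⊔ Subgroup.centralizer (E : Set G) ≤ H) :
    ∃ θ₀ : IrrCharacter ↥(E ⊔ Subgroup.centralizer (E : Set G)),
      IsDefectGroup p M (blockOf M (θ₀ : ↥(E ⊔ Subgroup.centralizer (E : Set G)) → ℂ))
        (E.subgroupOf (E ⊔ Subgroup.centralizer (E : Set G))) ∧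
      IsInducedBlock M ((E ⊔ Subgroup.centralizer (E : Set G)).subgroupOf H)
        (blockOf M (irrComp (Subgroup.subgroupOfEquivOfLe hKH) θ₀ :
          (E ⊔ Subgroup.centralizer (E : Set G)).subgroupOf H → ℂ)) b := by
  classical
  have hMp : M.IsPrime := hM.2.1.isPrime
  haveI : Fintype H := Fintype.ofFinite _
  have hEp : IsPGroup p (E.subgroupOf H) :=
    Cfsg.Agent.Lib.Helper81.isPGroup_of_isDefectGroup' hD₀
  have hPH' : E.subgroupOf H ≤ (E ⊔ Subgroup.centralizer (E : Set G)).subgroupOf H := by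
    intro x hx
    rw [Subgroup.mem_subgroupOf] at hx ⊢
    exact (le_sup_left : E ≤ _) hx
  have hCH' : Subgroup.centralizer ((E.subgroupOf H : Subgroup H) : Set H) ≤
      (E ⊔ Subgroup.centralizer (E : Set G)).subgroupOf H := by
    intro x hx
    rw [Subgroup.mem_subgroupOf]
    apply (le_sup_right : Subgroup.centralizer (E : Set G) ≤ _)
    rw [Subgroup.mem_centralizer_iff]
    intro y hy
    have := Subgroup.mem_centralizer_iff.1 hx ⟨y, hEH hy⟩
      (by rw [SetLike.mem_coe, Subgroup.mem_subgroupOf]; exact hy)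
    exact congrArg Subtype.val this
  have hKN : E ⊔ Subgroup.centralizer (E : Set G) ≤ Subgroup.normalizer (E : Set G) :=
    sup_le Subgroup.le_normalizer (Subgroup.centralizer_le_normalizer _)
  have hH'N : (E ⊔ Subgroup.centralizer (E : Set G)).subgroupOf H ≤
      Subgroup.normalizer ((E.subgroupOf H : Subgroup H) : Set H) := by
    intro x hx
    rw [Subgroup.mem_subgroupOf] at hx
    exact mk_mem_normalizer_of_mem E H hEH (n := (x : G)) (hKN hx) x.2
  obtain ⟨β, hind⟩ := Cfsg.Agent.S0958.exists_isInducedBlock p M hM (E.subgroupOf H)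
    ((E ⊔ Subgroup.centralizer (E : Set G)).subgroupOf H) hEp hPH' hCH' hH'N b hb
    (E.subgroupOf H) hD₀ 1 (by
      rintro _ ⟨z, hz, rfl⟩
      simpa using hz)
  have hβD := Cfsg.Agent.S0973.isDefectGroup_of_induced p M hM (E.subgroupOf H)
    ((E ⊔ Subgroup.centralizer (E : Set G)).subgroupOf H) hEp hPH' hH'N β b hind hD₀
  obtain ⟨θ', hθ'⟩ := IsPBlock.nonempty hMp hind.1
  have hβeq : β = blockOf M (θ' : (E ⊔ Subgroup.centralizer (E : Set G)).subgroupOf H → ℂ) :=
    IsPBlock.eq_blockOf hMp hind.1 hθ'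
  refine ⟨irrComp (Subgroup.subgroupOfEquivOfLe hKH).symm θ', ?_, ?_⟩
  · rw [hβeq] at hβD
    have := isDefectGroup_irrComp (p := p) (M := M) (Subgroup.subgroupOfEquivOfLe hKH).symm θ' hβD
    rwa [comap_symm_subgroupOf_subgroupOf'] at this
  · rw [irrComp_irrComp_symm, ← hβeq]
    exact hind

/-- The block induced by the root. -/
theorem induced_of_root (hM : IsPModular p M) (H : Subgroup G) {b : Set (IrrCharacter H)}
    (E : Subgroup G) (hEp : IsPGroup p E)
    (hKH : E ⊔ Subgroup.centralizer (E : Set G) ≤ H)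
    (θ₀ : IrrCharacter ↥(E ⊔ Subgroup.centralizer (E : Set G)))
    (hind : IsInducedBlock M ((E ⊔ Subgroup.centralizer (E : Set G)).subgroupOf H)
        (blockOf M (irrComp (Subgroup.subgroupOfEquivOfLe hKH) θ₀ :
          (E ⊔ Subgroup.centralizer (E : Set G)).subgroupOf H → ℂ)) b) :
    ∃ B' : Set (IrrCharacter G),
      IsInducedBlock M (E ⊔ Subgroup.centralizer (E : Set G))
        (blockOf M (θ₀ : ↥(E ⊔ Subgroup.centralizer (E : Set G)) → ℂ)) B' ∧
      IsInducedBlock M H b B' := by
  classical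
  have hMp : M.IsPrime := hM.2.1.isPrime
  haveI : Fintype H := Fintype.ofFinite _
  haveI : Fintype ↥(E ⊔ Subgroup.centralizer (E : Set G)) := Fintype.ofFinite _
  haveI : Fintype ((E ⊔ Subgroup.centralizer (E : Set G)).subgroupOf H) := Fintype.ofFinite _
  have hKN : E ⊔ Subgroup.centralizer (E : Set G) ≤ Subgroup.normalizer (E : Set G) :=
    sup_le Subgroup.le_normalizer (Subgroup.centralizer_le_normalizer _)
  obtain ⟨B', hB'⟩ := Cfsg.Agent.S0919.result p M hM E
    (E ⊔ Subgroup.centralizer (E : Set G)) hEp le_sup_left le_sup_right hKN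
    (blockOf M (θ₀ : ↥(E ⊔ Subgroup.centralizer (E : Set G)) → ℂ)) ⟨θ₀, rfl⟩
  exact ⟨B', hB', isInducedBlock_trans hKH hMp θ₀ hind hB'⟩

/-- **Going up to the normalizer.** -/
theorem step_up (hM : IsPModular p M) (E : Subgroup G) (hEp : IsPGroup p E)
    (θ₀ : IrrCharacter ↥(E ⊔ Subgroup.centralizer (E : Set G)))
    (hθD : IsDefectGroup p M (blockOf M (θ₀ : ↥(E ⊔ Subgroup.centralizer (E : Set G)) → ℂ))
        (E.subgroupOf (E ⊔ Subgroup.centralizer (E : Set G))))
    {B' : Set (IrrCharacter G)}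
    (hB' : IsInducedBlock M (E ⊔ Subgroup.centralizer (E : Set G))
        (blockOf M (θ₀ : ↥(E ⊔ Subgroup.centralizer (E : Set G)) → ℂ)) B') :
    ∃ (b'' : Set (IrrCharacter ↥(Subgroup.normalizer (E : Set G))))
      (P₁ : Subgroup ↥(Subgroup.normalizer (E : Set G))),
      IsPBlock M b'' ∧ IsDefectGroup p M b'' P₁ ∧
      IsInducedBlock M (Subgroup.normalizer (E : Set G)) b'' B' ∧
      P₁ ⊓ (E ⊔ Subgroup.centralizer (E : Set G)).subgroupOf (Subgroup.normalizer (E : Set G)) =
        E.subgroupOf (Subgroup.normalizer (E : Set G)) := by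
  classical
  have hMp : M.IsPrime := hM.2.1.isPrime
  have hKT : E ⊔ Subgroup.centralizer (E : Set G) ≤ Subgroup.normalizer (E : Set G) :=
    sup_le Subgroup.le_normalizer (Subgroup.centralizer_le_normalizer _)
  haveI : Fintype ↥(Subgroup.normalizer (E : Set G)) := Fintype.ofFinite _
  haveI : Fintype ↥(E ⊔ Subgroup.centralizer (E : Set G)) := Fintype.ofFinite _
  haveI : Fintype ((E ⊔ Subgroup.centralizer (E : Set G)).subgroupOf
    (Subgroup.normalizer (E : Set G))) := Fintype.ofFinite _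
  haveI hK'n : ((E ⊔ Subgroup.centralizer (E : Set G)).subgroupOf
    (Subgroup.normalizer (E : Set G))).Normal := sup_centralizer_normal E
  haveI hE'n : (E.subgroupOf (Subgroup.normalizer (E : Set G))).Normal :=
    Subgroup.normal_subgroupOf_of_le_normalizer le_rfl
  -- a block of `T` covering the transported root
  obtain ⟨ψ, hψ⟩ := Cfsg.Agent.Lib.Helper22.exists_irr_over
    ((E ⊔ Subgroup.centralizer (E : Set G)).subgroupOf (Subgroup.normalizer (E : Set G)))
    (irrComp (Subgroup.subgroupOfEquivOfLe hKT) θ₀)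
  have hcov : ∃ χ ∈ blockOf M (ψ : ↥(Subgroup.normalizer (E : Set G)) → ℂ),
      ∃ θ ∈ blockOf M (irrComp (Subgroup.subgroupOfEquivOfLe hKT) θ₀ :
        (E ⊔ Subgroup.centralizer (E : Set G)).subgroupOf (Subgroup.normalizer (E : Set G)) → ℂ),
      classInner (fun n : (E ⊔ Subgroup.centralizer (E : Set G)).subgroupOf
          (Subgroup.normalizer (E : Set G)) =>
        (χ : ↥(Subgroup.normalizer (E : Set G)) → ℂ) n)
        (θ : (E ⊔ Subgroup.centralizer (E : Set G)).subgroupOf
          (Subgroup.normalizer (E : Set G)) → ℂ) ≠ 0 :=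
    ⟨ψ, mem_blockOf_self hMp ψ, _, mem_blockOf_self hMp _, hψ⟩
  have hCQ : Subgroup.centralizer
      ((E.subgroupOf (Subgroup.normalizer (E : Set G)) :
        Subgroup ↥(Subgroup.normalizer (E : Set G))) : Set ↥(Subgroup.normalizer (E : Set G))) ≤
      (E ⊔ Subgroup.centralizer (E : Set G)).subgroupOf (Subgroup.normalizer (E : Set G)) := by
    intro x hx
    rw [Subgroup.mem_subgroupOf]
    apply (le_sup_right : Subgroup.centralizer (E : Set G) ≤ _)
    rw [Subgroup.mem_centralizer_iff]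
    intro y hy
    have := Subgroup.mem_centralizer_iff.1 hx ⟨y, Subgroup.le_normalizer hy⟩
      (by rw [SetLike.mem_coe, Subgroup.mem_subgroupOf]; exact hy)
    exact congrArg Subtype.val this
  have hindT := isInducedBlock_of_cover (G := ↥(Subgroup.normalizer (E : Set G)))
    (N := (E ⊔ Subgroup.centralizer (E : Set G)).subgroupOf (Subgroup.normalizer (E : Set G)))
    p hM ⟨_, rfl⟩ (E.subgroupOf (Subgroup.normalizer (E : Set G))) hEp.comap_subtype hCQ
    (blockOf M (ψ : ↥(Subgroup.normalizer (E : Set G)) → ℂ)) ⟨ψ, rfl⟩ hcov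
  have htrans := isInducedBlock_trans hKT hMp θ₀ hindT hB'
  -- Knörr in `T`
  have hD' := isDefectGroup_irrComp (p := p) (M := M) (Subgroup.subgroupOfEquivOfLe hKT) θ₀ hθD
  rw [comap_subgroupOf_subgroupOf'] at hD'
  have hle : E.subgroupOf (Subgroup.normalizer (E : Set G)) ≤
      (E ⊔ Subgroup.centralizer (E : Set G)).subgroupOf (Subgroup.normalizer (E : Set G)) := by
    intro x hx
    rw [Subgroup.mem_subgroupOf] at hx ⊢
    exact (le_sup_left : E ≤ _) hx
  obtain ⟨P₁, hP₁, hP₁K⟩ := knorr_given (G := ↥(Subgroup.normalizer (E : Set G)))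
    (N := (E ⊔ Subgroup.centralizer (E : Set G)).subgroupOf (Subgroup.normalizer (E : Set G)))
    hM ⟨_, rfl⟩ ⟨ψ, rfl⟩ hcov (E.subgroupOf (Subgroup.normalizer (E : Set G))) hle hD'
  exact ⟨_, P₁, ⟨ψ, rfl⟩, hP₁, htrans, hP₁K⟩

/-- **Defect groups of induced blocks**: the main induction. -/
theorem exists_defectGroup_center_le (hM : IsPModular p M) {B : Set (IrrCharacter G)} :
    ∀ (n : ℕ) (H : Subgroup G) (b : Set (IrrCharacter H)) (E : Subgroup G) (hEH : E ≤ H),
      Nat.card G - Nat.card E = n → IsPBlock M b → IsDefectGroup p M b (E.subgroupOf H) →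
      Subgroup.centralizer (E : Set G) ≤ H → IsInducedBlock M H b B →
      ∃ D : Subgroup G, IsDefectGroup p M B D ∧ zG D ≤ zG E ∧ E ≤ D := by
  classical
  have hMp : M.IsPrime := hM.2.1.isPrime
  haveI : Fintype (IrrCharacter G) := Fintype.ofFinite _
  intro n
  induction n using Nat.strong_induction_on with
  | _ n ih =>
    intro H b E hEH hn hb hD₀ hC hind
    have hEp : IsPGroup p E :=
      (Cfsg.Agent.Lib.Helper81.isPGroup_of_isDefectGroup' hD₀).of_equiv
        (Subgroup.subgroupOfEquivOfLe hEH)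
    have hKH : E ⊔ Subgroup.centralizer (E : Set G) ≤ H := sup_le hEH hC
    obtain ⟨θ₀, hθD, hroot⟩ := exists_root hM H hb E hEH hD₀ hKH
    obtain ⟨B', hB'K, hB'H⟩ := induced_of_root hM H E hEp hKH θ₀ hroot
    have hBB' : B = B' := isInducedBlock_unique hMp H hind hB'H
    subst hBB'
    obtain ⟨b'', P₁, hb'', hP₁, hb''B, hP₁K⟩ := step_up hM E hEp θ₀ hθD hB'K
    have hKT : E ⊔ Subgroup.centralizer (E : Set G) ≤ Subgroup.normalizer (E : Set G) :=
      sup_le Subgroup.le_normalizer (Subgroup.centralizer_le_normalizer _)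
    have hEE₁ : E ≤ P₁.map (Subgroup.normalizer (E : Set G)).subtype := by
      intro x hx
      have : (⟨x, Subgroup.le_normalizer hx⟩ : ↥(Subgroup.normalizer (E : Set G))) ∈
          E.subgroupOf (Subgroup.normalizer (E : Set G)) := by
        rw [Subgroup.mem_subgroupOf]
        exact hx
      rw [← hP₁K] at this
      exact ⟨_, this.1, rfl⟩
    have hinf : ∀ x, x ∈ P₁.map (Subgroup.normalizer (E : Set G)).subtype →
        x ∈ E ⊔ Subgroup.centralizer (E : Set G) → x ∈ E := by
      rintro _ ⟨y, hy, rfl⟩ hxK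
      have : y ∈ P₁ ⊓ (E ⊔ Subgroup.centralizer (E : Set G)).subgroupOf
          (Subgroup.normalizer (E : Set G)) :=
        Subgroup.mem_inf.2 ⟨hy, Subgroup.mem_subgroupOf.2 hxK⟩
      rw [hP₁K, Subgroup.mem_subgroupOf] at this
      exact this
    have hzz : zG (P₁.map (Subgroup.normalizer (E : Set G)).subtype) ≤ zG E := by
      intro x hx
      rw [mem_zG] at hx ⊢
      obtain ⟨hx1, hx2⟩ := hx
      have hxC : x ∈ Subgroup.centralizer (E : Set G) := by
        rw [Subgroup.mem_centralizer_iff]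
        intro y hy
        exact hx2 y (hEE₁ hy)
      exact ⟨hinf x hx1 ((le_sup_right : Subgroup.centralizer (E : Set G) ≤ _) hxC),
        fun y hy => hx2 y (hEE₁ hy)⟩
    have hsub : (P₁.map (Subgroup.normalizer (E : Set G)).subtype).subgroupOf
        (Subgroup.normalizer (E : Set G)) = P₁ :=
      Subgroup.comap_map_eq_self_of_injective (Subgroup.subtype_injective _) P₁
    by_cases hcase : P₁.map (Subgroup.normalizer (E : Set G)).subtype = E
    · have hP₁eq : P₁ = E.subgroupOf (Subgroup.normalizer (E : Set G)) := by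
        rw [← hsub, hcase]
      rw [hP₁eq] at hP₁
      obtain ⟨B'', -, hB''D, hB''ind⟩ := (Cfsg.Agent.S0920.result p M hM E hEp).1 b'' hb'' hP₁
      have : B = B'' := isInducedBlock_unique hMp _ hb''B hB''ind
      rw [← this] at hB''D
      exact ⟨E, hB''D, le_rfl, le_rfl⟩
    · have hlt : Nat.card E < Nat.card (P₁.map (Subgroup.normalizer (E : Set G)).subtype) := by
        by_contra hge
        push Not at hge
        exact hcase (Subgroup.eq_of_le_of_card_ge hEE₁ hge).symm
      have hle := Subgroup.card_le_card_group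
        (P₁.map (Subgroup.normalizer (E : Set G)).subtype)
      have hC₁ : Subgroup.centralizer
          ((P₁.map (Subgroup.normalizer (E : Set G)).subtype : Subgroup G) : Set G) ≤
          Subgroup.normalizer (E : Set G) := by
        refine le_trans ?_ (le_trans (le_sup_right : Subgroup.centralizer (E : Set G) ≤ _) hKT)
        exact Subgroup.centralizer_le hEE₁
      rw [← hsub] at hP₁
      obtain ⟨D, hD, hz, hED⟩ := ih (Nat.card G - Nat.card
        (P₁.map (Subgroup.normalizer (E : Set G)).subtype)) (by omega)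
        (Subgroup.normalizer (E : Set G)) b'' (P₁.map (Subgroup.normalizer (E : Set G)).subtype)
        (Subgroup.map_subtype_le P₁) rfl hb'' hP₁ hC₁ hb''B
      exact ⟨D, hD, hz.trans hzz, hEE₁.trans hED⟩

omit [Fintype G] in
theorem map_center_eq_zG (H : Subgroup G) (D₀ : Subgroup ↥H) :
    ((Subgroup.center ↥D₀).map D₀.subtype).map H.subtype = zG (D₀.map H.subtype) := by
  ext x
  rw [mem_zG]
  constructor
  · rintro ⟨y, ⟨z, hz, rfl⟩, rfl⟩
    refine ⟨⟨(z : H), z.2, rfl⟩, ?_⟩
    rintro _ ⟨w, hw, rfl⟩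
    have := Subgroup.mem_center_iff.1 hz ⟨w, hw⟩
    have h2 := congrArg (fun v : ↥D₀ => ((v : H) : G)) this
    simpa using h2
  · rintro ⟨⟨w, hw, rfl⟩, hc⟩
    refine ⟨w, ⟨⟨w, hw⟩, ?_, rfl⟩, rfl⟩
    rw [SetLike.mem_coe, Subgroup.mem_center_iff]
    intro v
    apply Subtype.ext
    apply Subtype.ext
    have := hc ((v : H) : G) ⟨(v : H), v.2, rfl⟩
    simpa using this

/-- **Blocks induced from a subgroup containing the centralizer of a defect group.** -/
theorem induced_defect_center (hM : IsPModular p M) (H : Subgroup G) (b : Set (IrrCharacter ↥H))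
    (hb : IsPBlock M b) (D₀ : Subgroup ↥H) (hD₀ : IsDefectGroup p M b D₀)
    (hC : Subgroup.centralizer ((D₀.map H.subtype : Subgroup G) : Set G) ≤ H) :
    InducedBlockDefined M H b ∧ ∀ B : Set (IrrCharacter G), IsInducedBlock M H b B →
      (∃ D : Subgroup G, IsDefectGroup p M B D ∧
        (Subgroup.center ↥D).map D.subtype ≤
          ((Subgroup.center ↥D₀).map D₀.subtype).map H.subtype ∧
        ((Subgroup.center ↥D₀).map D₀.subtype).map H.subtype ≤ D₀.map H.subtype ∧
        D₀.map H.subtype ≤ D) ∧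
      (∀ D : Subgroup G, IsDefectGroup p M B D → IsMulCommutative ↥D →
        IsDefectGroup p M B (D₀.map H.subtype)) := by
  classical
  have hMp : M.IsPrime := hM.2.1.isPrime
  have hEH : D₀.map H.subtype ≤ H := Subgroup.map_subtype_le D₀
  have hsub : (D₀.map H.subtype).subgroupOf H = D₀ :=
    Subgroup.comap_map_eq_self_of_injective (Subgroup.subtype_injective _) D₀
  have hD₀' : IsDefectGroup p M b ((D₀.map H.subtype).subgroupOf H) := by rw [hsub]; exact hD₀
  have hEp : IsPGroup p (D₀.map H.subtype) :=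
    (Cfsg.Agent.Lib.Helper81.isPGroup_of_isDefectGroup' hD₀).map _
  have hKH : D₀.map H.subtype ⊔ Subgroup.centralizer ((D₀.map H.subtype : Subgroup G) : Set G) ≤ H :=
    sup_le hEH hC
  have main : ∀ B : Set (IrrCharacter G), IsInducedBlock M H b B →
      ∃ D : Subgroup G, IsDefectGroup p M B D ∧ zG D ≤ zG (D₀.map H.subtype) ∧
        D₀.map H.subtype ≤ D := fun B hB =>
    exists_defectGroup_center_le hM _ H b (D₀.map H.subtype) hEH rfl hb hD₀' hC hB
  refine ⟨?_, ?_⟩
  · obtain ⟨θ₀, -, hroot⟩ := exists_root hM H hb (D₀.map H.subtype) hEH hD₀' hKH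
    obtain ⟨B', -, hB'H⟩ := induced_of_root hM H (D₀.map H.subtype) hEp hKH θ₀ hroot
    exact ⟨B', hB'H⟩
  · intro B hB
    obtain ⟨D, hD, hz, hle⟩ := main B hB
    refine ⟨⟨D, hD, ?_, ?_, hle⟩, ?_⟩
    · rw [map_center_eq_zG]
      exact hz
    · exact Subgroup.map_mono (Subgroup.map_subtype_le _)
    · intro D' hD' hcomm
      obtain ⟨t, ht⟩ := Cfsg.Agent.Lib.Helper22.IsDefectGroup.exists_conj hM hB.2.1 hD' hD
      have hDab : ∀ x ∈ D, ∀ y ∈ D, y * x = x * y := by
        intro x hx y hy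
        rw [ht] at hx hy
        obtain ⟨x', hx', rfl⟩ := hx
        obtain ⟨y', hy', rfl⟩ := hy
        have := hcomm.is_comm.comm (⟨y', hy'⟩ : ↥D') ⟨x', hx'⟩
        have h2 := congrArg Subtype.val this
        simp only [Subgroup.coe_mul] at h2
        simp only [MulEquiv.coe_toMonoidHom, MulAut.conj_apply]
        calc t * y' * t⁻¹ * (t * x' * t⁻¹) = t * (y' * x') * t⁻¹ := by group
          _ = t * (x' * y') * t⁻¹ := by rw [h2]
          _ = t * x' * t⁻¹ * (t * y' * t⁻¹) := by group
      have hDE : D ≤ D₀.map H.subtype := by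
        intro x hx
        have : x ∈ zG D := mem_zG.2 ⟨hx, fun y hy => hDab x hx y hy⟩
        exact (mem_zG.1 (hz this)).1
      have : D = D₀.map H.subtype := le_antisymm hDE hle
      rw [← this]
      exact hD

end Cfsg.Agent.Lib.Helper21
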