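import Mathlib
import Cfsg.Prelude.Def_Blocks
import Cfsg.Prelude.Def_BlockRank

/-!
# Definitions for the Knörr–Robinson alternating sum (S4651)

Shared vocabulary: the union of the blocks of a subgroup inducing a given block, its weight
`|C| · l(b_C)`, normal chains of `p`-subgroups, chain stabilizers, and the pivot subgroup used in
the sign-reversing involution on chains.
-/

set_option autoImplicit false

namespace Cfsg.Agent.Lib.Helper21.KR

open Cfsg

universe u
variable {G : Type u} [Group G]

/-- The union of the blocks of the subgroup `C` inducing the block `b` of `G`. -/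
def indUnion (M : Ideal AlgInt) (C : Subgroup G) (b : Set (IrrCharacter G)) :
    Set (IrrCharacter ↥C) :=
  {ψ | ∃ β : Set (IrrCharacter ↥C), ψ ∈ β ∧ IsInducedBlock M C β b}

/-- The weight `|C| · l(b_C)` of a subgroup. -/
noncomputable def wt (p : ℕ) (M : Ideal AlgInt) (b : Set (IrrCharacter G)) (C : Subgroup G) : ℤ :=
  (Nat.card ↥C : ℤ) * (blockRank p (indUnion M C b) : ℤ)

/-- Nonempty chains of nontrivial `p`-subgroups, all normal in the largest member. -/
def IsNChain (p : ℕ) (s : Finset (Subgroup G)) : Prop :=
  s.Nonempty ∧ (∀ Q ∈ s, ∀ R ∈ s, Q ≤ R ∨ R ≤ Q) ∧ (∀ Q ∈ s, Q ≠ ⊥ ∧ IsPGroup p Q) ∧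
    ∃ T ∈ s, ∀ Q ∈ s, Q ≤ T ∧ T ≤ Subgroup.normalizer ((Q : Subgroup G) : Set G)

/-- The stabilizer of a chain: the intersection of the normalizers of its members. -/
def chainStab (s : Finset (Subgroup G)) : Subgroup G :=
  ⨅ Q ∈ s, Subgroup.normalizer ((Q : Subgroup G) : Set G)

/-- The largest member of a chain (the join of its members). -/
def topOf (s : Finset (Subgroup G)) : Subgroup G := s.sup id

open Classical in
/-- The join of the members of a chain not containing `x`. -/
noncomputable def lowOf (x : G) (s : Finset (Subgroup G)) : Subgroup G :=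
  (s.filter (fun Q => x ∉ Q)).sup id

/-- The smallest `T`-invariant subgroup containing `L` and `x`. -/
def pivot (T L : Subgroup G) (x : G) : Subgroup G :=
  sInf {R : Subgroup G | L ≤ R ∧ x ∈ R ∧ T ≤ Subgroup.normalizer (R : Set G)}

/-- The pivot of a chain relative to `x`. -/
noncomputable def piv (x : G) (s : Finset (Subgroup G)) : Subgroup G :=
  pivot (topOf s) (lowOf x s) x

open Classical in
/-- Toggle the pivot in the chain. -/
noncomputable def flip (x : G) (s : Finset (Subgroup G)) : Finset (Subgroup G) :=
  if piv x s ∈ s then s.erase (piv x s) else insert (piv x s) s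

end Cfsg.Agent.Lib.Helper21.KR
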