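import Mathlib
import Cfsg.Agent.Lib.Helper21.KRDefs
import Cfsg.Agent.Lib.Helper21.HKCover
import Cfsg.Agent.Lib.Helper21.CentInduced
import Cfsg.Agent.Lib.Helper22.BlockRankTransport

/-!
# Transitivity of block induction through the centralizer of a `p`-element of a subgroup

For `K ≤ G`, `y ∈ K` a `p`-element and `C = K ⊓ C_G(y)`: the blocks `e` of `C_K(y)` (a subgroup of the
group `↥K`) that induce a block of `K` inducing `b` correspond, under the canonical isomorphism, to
the blocks of `C` (a subgroup of `G`) inducing `b`.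
-/

set_option autoImplicit false
set_option linter.unusedSectionVars false
set_option linter.style.haveILetI false

namespace Cfsg.Agent.Lib.Helper21.KR

open Cfsg
open Cfsg.Agent.Lib.Helper21 Cfsg.Agent.Lib.Helper22
open Cfsg.Agent.Lib.Helper82 Cfsg.Agent.Lib.Helper83
open Cfsg.Agent.Lib.Helper81 (irrComp irrComp_apply irrComp_symm_irrComp irrComp_irrComp_symm
  mem_blockOf_irrComp_iff)

universe u
variable {G : Type u} [Group G] [Finite G] {p : ℕ} [Fact p.Prime] {M : Ideal AlgInt}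

section Transport

variable {C K : Subgroup G} (hCK : C ≤ K)

/-- transport of a set of irreducible characters of `C.subgroupOf K` to `C` -/
def toSub (e : Set (IrrCharacter ↥(C.subgroupOf K))) : Set (IrrCharacter ↥C) :=
  {θ | irrComp (Subgroup.subgroupOfEquivOfLe hCK) θ ∈ e}

/-- transport of a set of irreducible characters of `C` to `C.subgroupOf K` -/
def ofSub (e₀ : Set (IrrCharacter ↥C)) : Set (IrrCharacter ↥(C.subgroupOf K)) :=
  {ψ | irrComp (Subgroup.subgroupOfEquivOfLe hCK).symm ψ ∈ e₀}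

theorem ofSub_toSub (e : Set (IrrCharacter ↥(C.subgroupOf K))) : ofSub hCK (toSub hCK e) = e := by
  ext ψ
  show irrComp (Subgroup.subgroupOfEquivOfLe hCK)
    (irrComp (Subgroup.subgroupOfEquivOfLe hCK).symm ψ) ∈ e ↔ ψ ∈ e
  rw [irrComp_irrComp_symm]

theorem toSub_ofSub (e₀ : Set (IrrCharacter ↥C)) : toSub hCK (ofSub hCK e₀) = e₀ := by
  ext θ
  show irrComp (Subgroup.subgroupOfEquivOfLe hCK).symm
    (irrComp (Subgroup.subgroupOfEquivOfLe hCK) θ) ∈ e₀ ↔ θ ∈ e₀
  rw [irrComp_symm_irrComp]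

theorem toSub_blockOf (θ₀ : IrrCharacter ↥C) :
    toSub hCK (blockOf M (irrComp (Subgroup.subgroupOfEquivOfLe hCK) θ₀ : ↥(C.subgroupOf K) → ℂ)) =
      blockOf M (θ₀ : ↥C → ℂ) := by
  ext θ
  show irrComp (Subgroup.subgroupOfEquivOfLe hCK) θ ∈
    blockOf M (irrComp (Subgroup.subgroupOfEquivOfLe hCK) θ₀ : ↥(C.subgroupOf K) → ℂ) ↔ _
  rw [mem_blockOf_irrComp_iff, irrComp_symm_irrComp]

theorem blockRank_toSub (e : Set (IrrCharacter ↥(C.subgroupOf K))) :
    blockRank p (toSub hCK e) = blockRank p e := by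
  have h : toSub hCK e = blockComap (Subgroup.subgroupOfEquivOfLe hCK).symm e := by
    ext θ
    show irrComp (Subgroup.subgroupOfEquivOfLe hCK) θ ∈ e ↔
      irrComap (Subgroup.subgroupOfEquivOfLe hCK).symm.symm θ ∈ e
    have : irrComp (Subgroup.subgroupOfEquivOfLe hCK) θ =
        irrComap (Subgroup.subgroupOfEquivOfLe hCK).symm.symm θ := by
      apply Subtype.ext
      funext x
      rfl
    rw [this]
  rw [h, blockRank_blockComap]

end Transport

section Trans

variable {C K : Subgroup G} (hCK : C ≤ K)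

/-- **Transitivity, forward**: if `e` induces `β` (in `↥K`) and `β` induces `b`, the transported
block induces `b`. -/
theorem isInducedBlock_toSub (hM : M.IsPrime) {e : Set (IrrCharacter ↥(C.subgroupOf K))}
    {β : Set (IrrCharacter ↥K)} {b : Set (IrrCharacter G)}
    (h₁ : IsInducedBlock M (C.subgroupOf K) e β) (h₂ : IsInducedBlock M K β b) :
    IsInducedBlock M C (toSub hCK e) b := by
  classical
  haveI : Fintype G := Fintype.ofFinite G
  haveI : Fintype ↥C := Fintype.ofFinite _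
  haveI : Fintype ↥K := Fintype.ofFinite _
  haveI : Fintype ↥(C.subgroupOf K) := Fintype.ofFinite _
  obtain ⟨ψ₀, hψ₀⟩ := h₁.1
  set φ := Subgroup.subgroupOfEquivOfLe hCK with hφ
  set θ₀ : IrrCharacter ↥C := irrComp φ.symm ψ₀ with hθ₀
  have hψθ : irrComp φ θ₀ = ψ₀ := irrComp_irrComp_symm φ ψ₀
  have he : e = blockOf M (irrComp φ θ₀ : ↥(C.subgroupOf K) → ℂ) := by rw [hψθ]; exact hψ₀
  have hto : toSub hCK e = blockOf M (θ₀ : ↥C → ℂ) := by rw [he]; exact toSub_blockOf hCK θ₀
  obtain ⟨ξ, hξ⟩ := IsPBlock.nonempty hM h₁.2.1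
  refine ⟨?_, h₂.2.1, ?_⟩
  · rw [hto]; exact ⟨θ₀, rfl⟩
  · intro θ hθ χ hχ g
    -- the block of the transport of `θ` is `e`
    have hθe : irrComp φ θ ∈ e := hθ
    have he' : e = blockOf M (irrComp φ θ : ↥(C.subgroupOf K) → ℂ) :=
      IsPBlock.eq_blockOf hM h₁.1 hθe
    have h₁' : IsInducedBlock M (C.subgroupOf K)
        (blockOf M (irrComp φ θ : ↥(C.subgroupOf K) → ℂ)) β := he' ▸ h₁
    have c1 := iCC_sub_of_induced hCK hM θ h₁' hξ g
    have c2 := h₂.2.2 ξ hξ χ hχ g
    have := memLocalIdeal_sub hM c2 c1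
    convert this using 1
    ring

/-- **Transitivity, backward**: if `e` induces `β` (in `↥K`) and the transported block induces `b`,
then `β` induces `b`. -/
theorem isInducedBlock_of_toSub (hM : M.IsPrime) {e : Set (IrrCharacter ↥(C.subgroupOf K))}
    {β : Set (IrrCharacter ↥K)} {b : Set (IrrCharacter G)}
    (h₁ : IsInducedBlock M (C.subgroupOf K) e β) (h₂ : IsInducedBlock M C (toSub hCK e) b) :
    IsInducedBlock M K β b := by
  classical
  haveI : Fintype G := Fintype.ofFinite G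
  haveI : Fintype ↥C := Fintype.ofFinite _
  haveI : Fintype ↥K := Fintype.ofFinite _
  haveI : Fintype ↥(C.subgroupOf K) := Fintype.ofFinite _
  set φ := Subgroup.subgroupOfEquivOfLe hCK with hφ
  obtain ⟨θ, hθ⟩ := IsPBlock.nonempty hM h₂.1
  have hθe : irrComp φ θ ∈ e := hθ
  have he' : e = blockOf M (irrComp φ θ : ↥(C.subgroupOf K) → ℂ) :=
    IsPBlock.eq_blockOf hM h₁.1 hθe
  have h₁' : IsInducedBlock M (C.subgroupOf K)
      (blockOf M (irrComp φ θ : ↥(C.subgroupOf K) → ℂ)) β := he' ▸ h₁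
  refine ⟨h₁.2.1, h₂.2.1, ?_⟩
  intro ξ hξ χ hχ g
  have c1 := iCC_sub_of_induced hCK hM θ h₁' hξ g
  have c2 := h₂.2.2 θ hθ χ hχ g
  have := memLocalIdeal_add hM c1 c2
  convert this using 1
  ring

end Trans

end Cfsg.Agent.Lib.Helper21.KR
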