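import Mathlib
import Cfsg.Agent.Lib.Helper21.KRDefs
import Cfsg.Agent.Lib.Helper21.KRTrans
import Cfsg.Agent.Lib.Helper14.KRBFinal
import Cfsg.Agent.Lib.Helper41.KRC

/-!
# Brauer's `k - l` formula relative to a subgroup (towards S4651)
-/

set_option autoImplicit false
set_option linter.unusedSectionVars false
set_option linter.style.haveILetI false

namespace Cfsg.Agent.Lib.Helper21.KR

open Cfsg
open Cfsg.Agent.Lib.Helper21 Cfsg.Agent.Lib.Helper22
open Cfsg.Agent.Lib.Helper82 Cfsg.Agent.Lib.Helper83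
open Cfsg.Agent.Lib.Helper81 (irrComp irrComp_apply irrComp_symm_irrComp irrComp_irrComp_symm
  mem_blockOf_irrComp_iff)
open Cfsg.Agent.Lib.Helper14.KR (brauer_kl)
open Cfsg.Agent.Lib.Helper41.KR (card_union_blocks blockRank_union_blocks)

universe u
variable {G : Type u} [Group G] [Finite G] {p : ℕ} [Fact p.Prime] {M : Ideal AlgInt}

section Defined

variable {K : Subgroup G}

/-- the centralizer of a `p`-element in a subgroup, as a `subgroupOf` -/
theorem subgroupOf_inf_centralizer (y : ↥K) :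
    (K ⊓ Subgroup.centralizer ({(y : G)} : Set G)).subgroupOf K =
      Subgroup.centralizer ({y} : Set ↥K) := by
  ext c
  rw [Subgroup.mem_subgroupOf, Subgroup.mem_inf, Subgroup.mem_centralizer_singleton_iff,
    Subgroup.mem_centralizer_singleton_iff]
  constructor
  · rintro ⟨_, h⟩
    exact Subtype.ext h
  · intro h
    exact ⟨c.2, congrArg Subtype.val h⟩

theorem isPGroup_zpowers_of_orderOf {H : Type u} [Group H] {y : H}
    (hy : ∃ k : ℕ, orderOf y = p ^ k) : IsPGroup p (Subgroup.zpowers y) := by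
  obtain ⟨k, hk⟩ := hy
  apply IsPGroup.of_card (n := k)
  rw [Nat.card_zpowers, hk]

theorem centralizer_zpowers_eq {H : Type u} [Group H] (y : H) :
    Subgroup.centralizer ((Subgroup.zpowers y : Subgroup H) : Set H) =
      Subgroup.centralizer ({y} : Set H) := by
  ext c
  rw [Subgroup.mem_centralizer_iff, Subgroup.mem_centralizer_singleton_iff]
  constructor
  · intro h
    exact (h y (Subgroup.mem_zpowers y)).symm
  · intro h z hz
    obtain ⟨n, rfl⟩ := Subgroup.mem_zpowers_iff.1 hz
    have hc : Commute c y := h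
    exact (hc.zpow_right n).eq.symm

/-- every block of `C_K(y)` induces a block of `K` -/
theorem inducedBlockDefined_sub (hM : IsPModular p M) (y : ↥K)
    (hy : ∃ k : ℕ, orderOf y = p ^ k)
    (e : Set (IrrCharacter ↥((K ⊓ Subgroup.centralizer ({(y : G)} : Set G)).subgroupOf K)))
    (he : IsPBlock M e) :
    InducedBlockDefined M ((K ⊓ Subgroup.centralizer ({(y : G)} : Set G)).subgroupOf K) e := by
  classical
  haveI : Fintype ↥K := Fintype.ofFinite _
  haveI : Fintype (IrrCharacter ↥K) := Fintype.ofFinite _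
  have h1 := subgroupOf_inf_centralizer y
  have h2 := centralizer_zpowers_eq y
  exact inducedBlockDefined_cent hM (Subgroup.zpowers y) _ (isPGroup_zpowers_of_orderOf hy)
    (by rw [h2, h1]) (by rw [h2, h1]) e he

end Defined

section KRD

variable {C K : Subgroup G} (hCK : C ≤ K)

theorem ofSub_blockOf (θ₀ : IrrCharacter ↥C) :
    ofSub hCK (blockOf M (θ₀ : ↥C → ℂ)) =
      blockOf M (irrComp (Subgroup.subgroupOfEquivOfLe hCK) θ₀ : ↥(C.subgroupOf K) → ℂ) := by
  rw [← toSub_blockOf hCK θ₀, ofSub_toSub]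

/-- the key equivalence -/
theorem exists_induced_iff (hM : M.IsPrime) (b : Set (IrrCharacter G))
    (hdef : ∀ e : Set (IrrCharacter ↥(C.subgroupOf K)), IsPBlock M e →
      InducedBlockDefined M (C.subgroupOf K) e)
    (e : Set (IrrCharacter ↥(C.subgroupOf K))) :
    (∃ β : Set (IrrCharacter ↥K), IsInducedBlock M (C.subgroupOf K) e β ∧ IsInducedBlock M K β b) ↔
      IsInducedBlock M C (toSub hCK e) b := by
  constructor
  · rintro ⟨β, h₁, h₂⟩
    exact isInducedBlock_toSub hCK hM h₁ h₂
  · intro h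
    obtain ⟨θ₀, hθ₀⟩ := h.1
    have he : IsPBlock M e := by
      have : e = ofSub hCK (toSub hCK e) := (ofSub_toSub hCK e).symm
      rw [this, hθ₀, ofSub_blockOf]
      exact ⟨_, rfl⟩
    obtain ⟨β, hβ⟩ := hdef e he
    exact ⟨β, hβ, isInducedBlock_of_toSub hCK hM hβ h⟩

include hCK in
/-- the double sum over `(β, e)` as a sum over the blocks of `C` inducing `b` -/
theorem finsum_finsum_eq_aux (hM : M.IsPrime) (b : Set (IrrCharacter G))
    (hdef : ∀ e : Set (IrrCharacter ↥(C.subgroupOf K)), IsPBlock M e →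
      InducedBlockDefined M (C.subgroupOf K) e) :
    ∑ᶠ β ∈ {β : Set (IrrCharacter ↥K) | IsInducedBlock M K β b},
      ∑ᶠ e ∈ {e : Set (IrrCharacter ↥(C.subgroupOf K)) |
        IsInducedBlock M (C.subgroupOf K) e β}, blockRank p e =
      ∑ᶠ e₀ ∈ {e₀ : Set (IrrCharacter ↥C) | IsInducedBlock M C e₀ b}, blockRank p e₀ := by
  classical
  haveI : Fintype G := Fintype.ofFinite G
  haveI : Fintype ↥K := Fintype.ofFinite _
  haveI : Fintype (IrrCharacter ↥K) := Fintype.ofFinite _
  have hS : ({β : Set (IrrCharacter ↥K) | IsInducedBlock M K β b}).Finite := Set.toFinite _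
  have hT : ∀ β : Set (IrrCharacter ↥K), ({e : Set (IrrCharacter ↥(C.subgroupOf K)) |
      IsInducedBlock M (C.subgroupOf K) e β}).Finite := fun β => Set.toFinite _
  have hQ : ({e : Set (IrrCharacter ↥(C.subgroupOf K)) |
      ∃ β : Set (IrrCharacter ↥K), IsInducedBlock M (C.subgroupOf K) e β ∧
        IsInducedBlock M K β b}).Finite := Set.toFinite _
  have hR : ({e₀ : Set (IrrCharacter ↥C) | IsInducedBlock M C e₀ b}).Finite := Set.toFinite _
  rw [finsum_mem_eq_finite_toFinset_sum _ hS, finsum_mem_eq_finite_toFinset_sum _ hR]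
  rw [Finset.sum_congr rfl fun β _ => finsum_mem_eq_finite_toFinset_sum _ (hT β)]
  -- swap
  rw [Finset.sum_comm' (s' := fun e => hS.toFinset.filter
      (fun β => IsInducedBlock M (C.subgroupOf K) e β)) (t' := hQ.toFinset)]
  · -- inner sums are single terms
    have hinner : ∀ e ∈ hQ.toFinset,
        ∑ β ∈ hS.toFinset.filter (fun β => IsInducedBlock M (C.subgroupOf K) e β),
          blockRank p e = blockRank p e := by
      intro e he
      obtain ⟨β₀, h₁, h₂⟩ : ∃ β : Set (IrrCharacter ↥K),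
          IsInducedBlock M (C.subgroupOf K) e β ∧ IsInducedBlock M K β b := by simpa using he
      have : hS.toFinset.filter (fun β => IsInducedBlock M (C.subgroupOf K) e β) = {β₀} := by
        ext β
        simp only [Finset.mem_filter, Set.Finite.mem_toFinset, Set.mem_ofPred_eq,
          Finset.mem_singleton]
        constructor
        · rintro ⟨_, h⟩
          exact isInducedBlock_unique hM _ h h₁
        · rintro rfl
          exact ⟨h₂, h₁⟩
      rw [this, Finset.sum_singleton]
    rw [Finset.sum_congr rfl hinner]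
    -- bijection
    refine Finset.sum_nbij' (toSub hCK) (ofSub hCK) ?_ ?_ ?_ ?_ ?_
    · intro e he
      have he' : ∃ β : Set (IrrCharacter ↥K),
          IsInducedBlock M (C.subgroupOf K) e β ∧ IsInducedBlock M K β b := by simpa using he
      have := (exists_induced_iff hCK hM b hdef e).1 he'
      simpa using this
    · intro e₀ he₀
      have he₀' : IsInducedBlock M C e₀ b := by simpa using he₀
      have h : IsInducedBlock M C (toSub hCK (ofSub hCK e₀)) b := by
        rw [toSub_ofSub]; exact he₀'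
      have := (exists_induced_iff hCK hM b hdef (ofSub hCK e₀)).2 h
      simpa using this
    · intro e _
      exact ofSub_toSub hCK e
    · intro e₀ _
      exact toSub_ofSub hCK e₀
    · intro e _
      exact (blockRank_toSub hCK e).symm
  · intro β e
    simp only [Finset.mem_filter, Set.Finite.mem_toFinset, Set.mem_ofPred_eq]
    constructor
    · rintro ⟨h₂, h₁⟩
      exact ⟨⟨h₂, h₁⟩, β, h₁, h₂⟩
    · rintro ⟨⟨h₂, h₁⟩, _⟩
      exact ⟨h₂, h₁⟩

end KRD

/-- **KR-D.** -/
theorem finsum_finsum_blockRank_eq (hM : IsPModular p M) (b : Set (IrrCharacter G))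
    (hb : IsPBlock M b) (K : Subgroup G) (y : ↥K) (hy : ∃ k : ℕ, orderOf y = p ^ k) :
    ∑ᶠ β ∈ {β : Set (IrrCharacter ↥K) | IsInducedBlock M K β b},
      ∑ᶠ e ∈ {e : Set (IrrCharacter ↥(Subgroup.centralizer ({y} : Set ↥K))) |
        IsInducedBlock M (Subgroup.centralizer ({y} : Set ↥K)) e β}, blockRank p e =
      blockRank p (indUnion M (K ⊓ Subgroup.centralizer ({(y : G)} : Set G)) b) := by
  have hMp : M.IsPrime := hM.2.1.isPrime
  have key : ∀ (C' : Subgroup ↥K), C' = Subgroup.centralizer ({y} : Set ↥K) →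
      ∑ᶠ β ∈ {β : Set (IrrCharacter ↥K) | IsInducedBlock M K β b},
        ∑ᶠ e ∈ {e : Set (IrrCharacter ↥C') | IsInducedBlock M C' e β}, blockRank p e =
      ∑ᶠ β ∈ {β : Set (IrrCharacter ↥K) | IsInducedBlock M K β b},
        ∑ᶠ e ∈ {e : Set (IrrCharacter ↥(Subgroup.centralizer ({y} : Set ↥K))) |
          IsInducedBlock M (Subgroup.centralizer ({y} : Set ↥K)) e β}, blockRank p e := by
    intro C' h
    subst h
    rfl
  rw [← key _ (subgroupOf_inf_centralizer y)]
  rw [finsum_finsum_eq_aux (inf_le_left : K ⊓ Subgroup.centralizer ({(y : G)} : Set G) ≤ K) hMp b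
    (fun e he => inducedBlockDefined_sub hM y hy e he)]
  unfold indUnion
  rw [blockRank_union_blocks hM
    (fun e => IsInducedBlock M (K ⊓ Subgroup.centralizer ({(y : G)} : Set G)) e b)
    (fun e he => he.1)]

/-- **Brauer's `k - l` formula**, for the group itself. -/
theorem absolute_brauer (hM : IsPModular p M) (b : Set (IrrCharacter G)) (hb : IsPBlock M b) :
    (Nat.card G : ℤ) * ((Nat.card b : ℤ) - (blockRank p b : ℤ)) =
      ∑ᶠ y ∈ {y : G | y ≠ 1 ∧ ∃ k : ℕ, orderOf y = p ^ k},
        wt p M b (Subgroup.centralizer ({y} : Set G)) := by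
  rw [brauer_kl hM b hb]
  refine finsum_mem_congr rfl fun y _ => ?_
  unfold wt indUnion
  rw [blockRank_union_blocks hM (fun e => IsInducedBlock M (Subgroup.centralizer ({y} : Set G)) e b)
    (fun e he => he.1)]

/-- the order of the centralizer of an element of a subgroup -/
theorem card_centralizer_subtype (K : Subgroup G) (y : ↥K) :
    Nat.card ↥(Subgroup.centralizer ({y} : Set ↥K)) =
      Nat.card ↥(K ⊓ Subgroup.centralizer ({(y : G)} : Set G)) := by
  refine Nat.card_congr
    { toFun := fun c => ⟨((c : ↥K) : G), (c : ↥K).2, ?_⟩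
      invFun := fun c => ⟨⟨(c : G), c.2.1⟩, ?_⟩
      left_inv := fun c => rfl
      right_inv := fun c => rfl }
  · have := Subgroup.mem_centralizer_singleton_iff.1 c.2
    show ((c : ↥K) : G) ∈ Subgroup.centralizer ({(y : G)} : Set G)
    rw [Subgroup.mem_centralizer_singleton_iff]
    exact congrArg Subtype.val this
  · rw [Subgroup.mem_centralizer_singleton_iff]
    apply Subtype.ext
    exact Subgroup.mem_centralizer_singleton_iff.1 c.2.2

/-- **Brauer's `k - l` formula relative to a subgroup.** -/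
theorem relative_brauer (hM : IsPModular p M) (b : Set (IrrCharacter G)) (hb : IsPBlock M b)
    (K : Subgroup G) :
    (Nat.card ↥K : ℤ) * ((Nat.card (indUnion M K b) : ℤ) - (blockRank p (indUnion M K b) : ℤ)) =
      ∑ᶠ y ∈ {y : G | y ∈ K ∧ y ≠ 1 ∧ ∃ k : ℕ, orderOf y = p ^ k},
        wt p M b (K ⊓ Subgroup.centralizer ({y} : Set G)) := by
  classical
  have hMp : M.IsPrime := hM.2.1.isPrime
  set PP : Set (IrrCharacter ↥K) → Prop := fun β => IsInducedBlock M K β b with hPP
  have hPPb : ∀ β, PP β → IsPBlock M β := fun β hβ => hβ.1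
  have hfinβ : ({β : Set (IrrCharacter ↥K) | PP β}).Finite := Set.toFinite _
  have hfinY : ({y : ↥K | y ≠ 1 ∧ ∃ k : ℕ, orderOf y = p ^ k}).Finite := Set.toFinite _
  have h1 : Nat.card (indUnion M K b) = ∑ᶠ β ∈ {β : Set (IrrCharacter ↥K) | PP β}, Nat.card β :=
    card_union_blocks hMp PP hPPb
  have h2 : blockRank p (indUnion M K b) =
      ∑ᶠ β ∈ {β : Set (IrrCharacter ↥K) | PP β}, blockRank p β :=
    blockRank_union_blocks hM PP hPPb
  rw [h1, h2, finsum_mem_eq_finite_toFinset_sum _ hfinβ,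
    finsum_mem_eq_finite_toFinset_sum _ hfinβ, Nat.cast_sum, Nat.cast_sum,
    ← Finset.sum_sub_distrib, Finset.mul_sum]
  have h3 : ∀ β ∈ hfinβ.toFinset,
      (Nat.card ↥K : ℤ) * ((Nat.card β : ℤ) - (blockRank p β : ℤ)) =
      ∑ y ∈ hfinY.toFinset, (Nat.card (Subgroup.centralizer ({y} : Set ↥K)) : ℤ) *
          ((∑ᶠ e ∈ {e : Set (IrrCharacter ↥(Subgroup.centralizer ({y} : Set ↥K))) |
              IsInducedBlock M (Subgroup.centralizer ({y} : Set ↥K)) e β}, blockRank p e : ℕ) : ℤ) := by
    intro β hβ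
    have hβ' : PP β := by simpa using hβ
    rw [brauer_kl hM β (hPPb β hβ'), finsum_mem_eq_finite_toFinset_sum _ hfinY]
  rw [Finset.sum_congr rfl h3, Finset.sum_comm]
  -- now a sum over `y : ↥K`
  have h4 : ∀ y ∈ hfinY.toFinset,
      ∑ β ∈ hfinβ.toFinset, (Nat.card (Subgroup.centralizer ({y} : Set ↥K)) : ℤ) *
          ((∑ᶠ e ∈ {e : Set (IrrCharacter ↥(Subgroup.centralizer ({y} : Set ↥K))) |
              IsInducedBlock M (Subgroup.centralizer ({y} : Set ↥K)) e β}, blockRank p e : ℕ) : ℤ) =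
      wt p M b (K ⊓ Subgroup.centralizer ({(y : G)} : Set G)) := by
    intro y hy
    have hy' : y ≠ 1 ∧ ∃ k : ℕ, orderOf y = p ^ k := by simpa using hy
    rw [← Finset.mul_sum, ← Nat.cast_sum, ← finsum_mem_eq_finite_toFinset_sum _ hfinβ,
      finsum_finsum_blockRank_eq hM b hb K y hy'.2, card_centralizer_subtype]
    rfl
  rw [Finset.sum_congr rfl h4]
  -- reindex
  have hfinG : ({y : G | y ∈ K ∧ y ≠ 1 ∧ ∃ k : ℕ, orderOf y = p ^ k}).Finite := Set.toFinite _
  rw [finsum_mem_eq_finite_toFinset_sum _ hfinG]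
  refine Finset.sum_bij (fun y _ => (y : G)) ?_ ?_ ?_ ?_
  · intro y hy
    have hy' : y ≠ 1 ∧ ∃ k : ℕ, orderOf y = p ^ k := by simpa using hy
    simp only [Set.Finite.mem_toFinset, Set.mem_ofPred_eq]
    refine ⟨y.2, ?_, ?_⟩
    · intro h
      exact hy'.1 (Subtype.ext h)
    · rw [Subgroup.orderOf_coe]
      exact hy'.2
  · intro y₁ _ y₂ _ h
    exact Subtype.ext h
  · intro y hy
    have hy' : y ∈ K ∧ y ≠ 1 ∧ ∃ k : ℕ, orderOf y = p ^ k := by simpa using hy
    refine ⟨⟨y, hy'.1⟩, ?_, rfl⟩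
    simp only [Set.Finite.mem_toFinset, Set.mem_ofPred_eq]
    refine ⟨?_, ?_⟩
    · intro h
      exact hy'.2.1 (congrArg Subtype.val h)
    · rw [← Subgroup.orderOf_coe]
      exact hy'.2.2
  · intro y _
    rfl

end Cfsg.Agent.Lib.Helper21.KR
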