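import Mathlib
import Cfsg.Agent.Lib.Helper21.KRDefs
import Cfsg.Agent.Lib.Helper21.KRRel
import Cfsg.Agent.Lib.Helper36.KRF3

/-!
# The Knörr–Robinson alternating sum (S4651): assembly
-/

set_option autoImplicit false
set_option linter.unusedSectionVars false
set_option linter.style.haveILetI false

namespace Cfsg.Agent.Lib.Helper21.KR

open Cfsg
open Cfsg.Agent.Lib.Helper36.KR (chain_cancel)

universe u
variable {G : Type u} [Group G] [Finite G] {p : ℕ} [Fact p.Prime] {M : Ideal AlgInt}

/-- **Knörr–Robinson.** -/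
theorem main (hM : IsPModular p M) (b : Set (IrrCharacter G)) (hb : IsPBlock M b) :
    (Nat.card G : ℤ) * ((Nat.card b : ℤ) - (blockRank p b : ℤ)) =
      ∑ᶠ s ∈ {s : Finset (Subgroup G) | IsNChain p s},
        (-1 : ℤ) ^ (s.card - 1) * (Nat.card ↥(chainStab s) : ℤ) *
          ((Nat.card (indUnion M (chainStab s) b) : ℤ) -
            (blockRank p (indUnion M (chainStab s) b) : ℤ)) := by
  classical
  haveI : Fintype G := Fintype.ofFinite G
  rw [absolute_brauer hM b hb]
  have hS : ({s : Finset (Subgroup G) | IsNChain p s}).Finite := Set.toFinite _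
  have hP : ({y : G | y ≠ 1 ∧ ∃ k : ℕ, orderOf y = p ^ k}).Finite := Set.toFinite _
  -- rewrite each term of the right side
  have hterm : ∀ s : Finset (Subgroup G),
      (-1 : ℤ) ^ (s.card - 1) * (Nat.card ↥(chainStab s) : ℤ) *
          ((Nat.card (indUnion M (chainStab s) b) : ℤ) -
            (blockRank p (indUnion M (chainStab s) b) : ℤ)) =
      ∑ y ∈ hP.toFinset, if y ∈ chainStab s then
        (-1 : ℤ) ^ (s.card - 1) *
          wt p M b (chainStab s ⊓ Subgroup.centralizer ({y} : Set G)) else 0 := by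
    intro s
    rw [mul_assoc, relative_brauer hM b hb (chainStab s)]
    have hfin : ({y : G | y ∈ chainStab s ∧ y ≠ 1 ∧ ∃ k : ℕ, orderOf y = p ^ k}).Finite :=
      Set.toFinite _
    rw [finsum_mem_eq_finite_toFinset_sum _ hfin, Finset.mul_sum, ← Finset.sum_filter]
    refine Finset.sum_congr ?_ fun y _ => rfl
    ext y
    simp only [Set.Finite.mem_toFinset, Set.mem_ofPred_eq, Finset.mem_filter]
    tauto
  rw [finsum_mem_congr rfl fun s _ => hterm s]
  rw [finsum_mem_eq_finite_toFinset_sum _ hS, Finset.sum_comm,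
    finsum_mem_eq_finite_toFinset_sum _ hP]
  refine Finset.sum_congr rfl fun y hy => ?_
  have hy' : y ≠ 1 ∧ ∃ k : ℕ, orderOf y = p ^ k := by simpa using hy
  rw [← chain_cancel (p := p) y hy'.1 hy'.2 (wt p M b)]
  have hfin : ({s : Finset (Subgroup G) | IsNChain p s ∧ y ∈ chainStab s}).Finite :=
    Set.toFinite _
  rw [finsum_mem_eq_finite_toFinset_sum _ hfin, ← Finset.sum_filter]
  refine Finset.sum_congr ?_ fun s _ => rfl
  ext s
  simp only [Set.Finite.mem_toFinset, Set.mem_ofPred_eq, Finset.mem_filter]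

end Cfsg.Agent.Lib.Helper21.KR
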