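import Mathlib
import Cfsg.Agent.Lib.Helper05.N3Defs

/-!
# K-N3-B (keystone 400403, pack K-N3 / S4004): `prime_val`
-/

set_option autoImplicit false

namespace Cfsg.Agent.Lib.Helper21.N3

open Cfsg.Agent.Lib.Helper05.N3 Cfsg.Agent.Lib.Helper22.Nse

/-- LEAF B (EASY). -/
theorem prime_val {N : ℕ} {S : ℕ → ℕ} {m n : ℕ} (C : Ctx N S m n) {p : ℕ} (hp : p.Prime) (hpN : p ∣ N) :
    (S p = m ∨ S p = n) ∧ p ∣ 1 + S p ∧ 3 ≤ p := by
  have hp3 : 3 ≤ p := by
    have h2 := hp.two_le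
    rcases Nat.lt_or_ge 2 p with h | h
    · exact h
    · exfalso
      have hp2 : p = 2 := le_antisymm h h2
      rw [hp2] at hpN
      obtain ⟨k, hk⟩ := C.odd
      omega
  have h0 : S p ≠ 0 := C.H.cauchy p hp hpN
  have hmem := C.H.mem p h0
  have hphi := C.H.phi p
  rw [Nat.totient_prime hp] at hphi
  have hne1 : S p ≠ 1 := by
    intro h1
    rw [h1] at hphi
    have := Nat.le_of_dvd one_pos hphi
    omega
  have hfrob := C.H.frob p hpN
  rw [Nat.Prime.sum_divisors hp, C.H.one, add_comm] at hfrob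
  refine ⟨?_, hfrob, hp3⟩
  simp only [Finset.mem_insert, Finset.mem_singleton] at hmem
  rcases hmem with h | h | h
  · exact absurd h hne1
  · exact Or.inl h
  · exact Or.inr h

end Cfsg.Agent.Lib.Helper21.N3
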