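import Mathlib
import Cfsg.Agent.Lib.Helper05.N3Defs
import Cfsg.Agent.Lib.Helper65.Hall

/-!
# K-N3-C4a (keystone 400411, pack K-N3 / S4004): `exists_normal_abelian`
-/

set_option autoImplicit false

namespace Cfsg.Agent.Lib.Helper21.N3

/-- LEAF C4a. -/
theorem exists_normal_abelian {G : Type*} [Group G] [Finite G] [Nontrivial G] (hs : Group.IsSolvable G) :
    ∃ (r : ℕ) (V : Subgroup G), r.Prime ∧ V.Normal ∧ V ≠ ⊥ ∧ IsPGroup r V ∧ ∀ a ∈ V, ∀ b ∈ V, a * b = b * a := by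
  haveI := hs
  exact Cfsg.Agent.Lib.Helper65.exists_normal_abelian_pgroup G

end Cfsg.Agent.Lib.Helper21.N3
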