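import Mathlib
import Cfsg.Agent.Lib.Helper05.N3Defs

/-!
# K-N3-L0 (keystone 400401, pack K-N3 / S4004): `exists_values`
-/

set_option autoImplicit false

namespace Cfsg.Agent.Lib.Helper21.N3

/-- LEAF L0 (EASY). -/
theorem exists_values {G : Type*} [Group G] [Finite G]
    (h : (((fun m : ℕ => Nat.card {g : G // orderOf g = m}) '' Set.range (orderOf : G → ℕ))).ncard = 3) :
    ∃ m n : ℕ, m ≠ 1 ∧ n ≠ 1 ∧ m ≠ n ∧
      ((fun m : ℕ => Nat.card {g : G // orderOf g = m}) '' Set.range (orderOf : G → ℕ)) =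
        (↑({1, m, n} : Finset ℕ) : Set ℕ) := by
  have h1 : (1 : ℕ) ∈ ((fun m : ℕ => Nat.card {g : G // orderOf g = m}) '' Set.range (orderOf : G → ℕ)) := by
    refine ⟨1, ⟨1, orderOf_one⟩, ?_⟩
    exact Cfsg.Agent.S3995.s_one (G := G)
  obtain ⟨x, y, z, hxy, hxz, hyz, hs⟩ := Set.ncard_eq_three.mp h
  rw [hs] at h1 ⊢
  simp only [Set.mem_insert_iff, Set.mem_singleton_iff] at h1
  rcases h1 with h1 | h1 | h1
  · subst h1
    refine ⟨y, z, Ne.symm hxy, Ne.symm hxz, hyz, ?_⟩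
    ext k; simp
  · subst h1
    refine ⟨x, z, hxy, Ne.symm hyz, hxz, ?_⟩
    ext k; simp only [Set.mem_insert_iff, Set.mem_singleton_iff, Finset.coe_insert, Finset.coe_singleton]
    tauto
  · subst h1
    refine ⟨x, y, hxz, hyz, hxy, ?_⟩
    ext k; simp only [Set.mem_insert_iff, Set.mem_singleton_iff, Finset.coe_insert, Finset.coe_singleton]
    tauto

end Cfsg.Agent.Lib.Helper21.N3
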