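import Mathlib
import Cfsg.Agent.S3993

set_option autoImplicit false

namespace Cfsg.Agent.Lib.Helper21.NSE3

theorem card_pow_eq_one_eq_sum {G : Type*} [Group G] [Finite G] (d : ℕ) (hd : d ≠ 0) :
    Nat.card {g : G // g ^ d = 1} = ∑ k ∈ d.divisors, Nat.card {g : G // orderOf g = k} := by
  classical
  have : Fintype G := Fintype.ofFinite G
  have h := sum_card_orderOf_eq_card_pow_eq_one (G := G) hd
  rw [Nat.card_eq_fintype_card, Fintype.card_subtype, ← h]
  apply Finset.sum_congr rfl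
  intro k _
  rw [Nat.card_eq_fintype_card, Fintype.card_subtype]

/-- T1: Frobenius in the form of a sum over divisors. -/
theorem frob_sum {G : Type*} [Group G] [Finite G] (d : ℕ) (hd : d ∣ Nat.card G) :
    d ∣ ∑ k ∈ d.divisors, Nat.card {g : G // orderOf g = k} := by
  have hd0 : d ≠ 0 := by
    rintro rfl
    have := Nat.eq_zero_of_zero_dvd hd
    exact (Nat.card_pos (α := G)).ne' this
  rw [← card_pow_eq_one_eq_sum d hd0]
  exact Cfsg.Agent.S3993.result d hd

/-- divisors of `p * k` for a prime `p ∤ k`. -/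
theorem sum_divisors_prime_mul (p k : ℕ) (hp : p.Prime) (hpk : ¬ p ∣ k) (hk : k ≠ 0) (f : ℕ → ℕ) :
    ∑ j ∈ (p * k).divisors, f j = ∑ j ∈ k.divisors, (f j + f (p * j)) := by
  classical
  have hdisj : Disjoint k.divisors (k.divisors.image (fun i => p * i)) := by
    rw [Finset.disjoint_left]
    intro j hj hj'
    rw [Finset.mem_image] at hj'
    obtain ⟨i, _, rfl⟩ := hj'
    exact hpk (dvd_trans (dvd_mul_right p i) (Nat.dvd_of_mem_divisors hj))
  have hunion : (p * k).divisors = k.divisors ∪ (k.divisors.image (fun i => p * i)) := by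
    ext j
    simp only [Nat.mem_divisors, Finset.mem_union, Finset.mem_image]
    constructor
    · rintro ⟨hj, _⟩
      by_cases hpj : p ∣ j
      · obtain ⟨i, rfl⟩ := hpj
        right
        exact ⟨i, ⟨(Nat.mul_dvd_mul_iff_left hp.pos).mp hj, hk⟩, rfl⟩
      · left
        exact ⟨(Nat.Coprime.dvd_mul_left ((Nat.Prime.coprime_iff_not_dvd hp).mpr hpj).symm).mp hj, hk⟩
    · rintro (⟨hj, _⟩ | ⟨i, ⟨hi, _⟩, rfl⟩)
      · exact ⟨dvd_mul_of_dvd_right hj p, mul_ne_zero hp.ne_zero hk⟩
      · exact ⟨Nat.mul_dvd_mul_left p hi, mul_ne_zero hp.ne_zero hk⟩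
  rw [hunion, Finset.sum_union hdisj, Finset.sum_image, ← Finset.sum_add_distrib]
  intro a _ b _ hab
  exact Nat.eq_of_mul_eq_mul_left hp.pos hab

/-- PAIR: `p ∣ s_k + s_{pk}` for a prime `p ∤ k` with `p k ∣ |G|`. -/
theorem pair {G : Type*} [Group G] [Finite G] (p : ℕ) (hp : p.Prime) :
    ∀ k : ℕ, ¬ p ∣ k → p * k ∣ Nat.card G →
      p ∣ Nat.card {g : G // orderOf g = k} + Nat.card {g : G // orderOf g = p * k} := by
  intro k
  induction k using Nat.strong_induction_on with
  | _ k ih =>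
    intro hpk hd
    have hk0 : k ≠ 0 := by rintro rfl; exact hpk (dvd_zero p)
    have h1 := frob_sum (G := G) (p * k) hd
    rw [sum_divisors_prime_mul p k hp hpk hk0] at h1
    have h2 : p ∣ ∑ j ∈ k.divisors, (Nat.card {g : G // orderOf g = j} +
        Nat.card {g : G // orderOf g = p * j}) := dvd_trans (dvd_mul_right p k) h1
    rw [← Finset.sum_erase_add _ _ (Nat.mem_divisors_self k hk0)] at h2
    have h3 : p ∣ ∑ j ∈ k.divisors.erase k, (Nat.card {g : G // orderOf g = j} +
        Nat.card {g : G // orderOf g = p * j}) := by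
      apply Finset.dvd_sum
      intro j hj
      rw [Finset.mem_erase, Nat.mem_divisors] at hj
      obtain ⟨hjk, hjd, _⟩ := hj
      have hlt : j < k := lt_of_le_of_ne (Nat.le_of_dvd (Nat.pos_of_ne_zero hk0) hjd) hjk
      exact ih j hlt (fun h => hpk (dvd_trans h hjd))
        (dvd_trans (Nat.mul_dvd_mul_left p hjd) hd)
    exact (Nat.dvd_add_right h3).mp h2

end Cfsg.Agent.Lib.Helper21.NSE3
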