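import Mathlib
import Cfsg.Agent.Lib.Helper56.NSE3Defs
import Cfsg.Agent.Lib.Helper21.NSE3Pair

/-!
# K-NSE3-L01 (keystone 399601, pack K-NSE3 / S3996): `pair`

NOTE: the namespace is `Cfsg.Agent.Lib.Helper21.NSE3L` (not `...NSE3`), because
`Cfsg.Agent.Lib.Helper21.NSE3.pair` is the general tool of `NSE3Pair.lean`.
-/

set_option autoImplicit false

namespace Cfsg.Agent.Lib.Helper21.NSE3L

open Cfsg.Agent.S3995 (s)
open Cfsg.Agent.Lib.Helper56.NSE3 (Hyp)

variable {G : Type*} [Group G] [Finite G]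

/-- L01 PAIR (any finite group). -/
theorem pair {p k : ℕ} (hp : p.Prime) (hpk : ¬ p ∣ k) (hdvd : p * k ∣ Nat.card G) :
    p ∣ s G k + s G (p * k) :=
  Cfsg.Agent.Lib.Helper21.NSE3.pair (G := G) p hp k hpk hdvd

end Cfsg.Agent.Lib.Helper21.NSE3L
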