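import Mathlib

set_option autoImplicit false

namespace Cfsg.Agent.Lib.Helper21.NSE3

/-- `φ(k)` divides the number of elements of order `k`. -/
theorem totient_dvd_card_orderOf {G : Type*} [Group G] [Finite G] (k : ℕ) :
    Nat.totient k ∣ Nat.card {g : G // orderOf g = k} := by
  classical
  have : Fintype G := Fintype.ofFinite G
  rw [Nat.card_eq_fintype_card, Fintype.card_subtype]
  set S := Finset.univ.filter (fun g : G => orderOf g = k) with hS
  rw [Finset.card_eq_sum_card_image (fun g : G => Subgroup.zpowers g) S]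
  apply Finset.dvd_sum
  intro C hC
  obtain ⟨g, hg, rfl⟩ := Finset.mem_image.mp hC
  have hgk : orderOf g = k := (Finset.mem_filter.mp hg).2
  -- the fibre is the set of generators of `zpowers g`
  have hcyc : IsCyclic (Subgroup.zpowers g) := inferInstance
  have hcard : Fintype.card (Subgroup.zpowers g) = k := by
    rw [← Nat.card_eq_fintype_card, Nat.card_zpowers, hgk]
  have h1 := IsCyclic.card_orderOf_eq_totient (α := Subgroup.zpowers g) (d := k)
    (by rw [← Nat.card_eq_fintype_card, Nat.card_zpowers, hgk])
  rw [← h1]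
  apply dvd_of_eq
  symm
  refine Finset.card_bij (fun h hh => ⟨h, ?_⟩) ?_ ?_ ?_
  · have := (Finset.mem_filter.mp hh).2
    rw [← this]
    exact Subgroup.mem_zpowers h
  · intro h hh
    rw [Finset.mem_filter] at hh ⊢
    refine ⟨Finset.mem_univ _, ?_⟩
    have h2 : orderOf h = k := (Finset.mem_filter.mp hh.1).2
    rw [← h2]
    exact Subgroup.orderOf_mk h _
  · intro a ha b hb hab
    exact congrArg Subtype.val hab
  · intro x hx
    have hxk : orderOf x = k := (Finset.mem_filter.mp hx).2
    have hxk' : orderOf (x : G) = k := by rw [Subgroup.orderOf_coe]; exact hxk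
    refine ⟨(x : G), ?_, Subtype.ext rfl⟩
    rw [Finset.mem_filter]
    refine ⟨Finset.mem_filter.mpr ⟨Finset.mem_univ _, hxk'⟩, ?_⟩
    -- zpowers x = zpowers g: inclusion plus equal cardinality
    have hle : Subgroup.zpowers (x : G) ≤ Subgroup.zpowers g :=
      Subgroup.zpowers_le.mpr x.2
    apply Subgroup.eq_of_le_of_card_ge hle
    rw [Nat.card_zpowers, Nat.card_zpowers, hxk', hgk]

/-- the number of elements of order `k > 2` is even. -/
theorem even_card_orderOf {G : Type*} [Group G] [Finite G] (k : ℕ) (hk : 2 < k) :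
    Even (Nat.card {g : G // orderOf g = k}) :=
  (Nat.totient_even hk).trans_dvd (totient_dvd_card_orderOf k)

end Cfsg.Agent.Lib.Helper21.NSE3
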