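import Mathlib
import Cfsg.Agent.Lib.Helper22.NseDefs

/-!
# K-NSE-C6a (keystone 343109): first consequences of `nse = {1,45,80,90,144}`
-/

set_option autoImplicit false

namespace Cfsg.Agent.Lib.Helper21.Nse

open Cfsg.Agent.Lib.Helper22.Nse

/-- values at `m ≥ 3` are even (or zero), hence in `{0,80,90,144}` -/
theorem c6a_val {N : ℕ} {S : ℕ → ℕ} (H : NseHyp N S {1, 45, 80, 90, 144}) (m : ℕ) (hm : 3 ≤ m) :
    S m = 0 ∨ S m = 80 ∨ S m = 90 ∨ S m = 144 := by
  by_cases h0 : S m = 0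
  · exact Or.inl h0
  · right
    have hmem := H.mem m h0
    have hev : Even (Nat.totient m) := Nat.totient_even (by omega)
    have h2 : 2 ∣ S m := (even_iff_two_dvd.mp hev).trans (H.phi m)
    simp only [Finset.mem_insert, Finset.mem_singleton] at hmem
    rcases hmem with h | h | h | h | h
    · rw [h] at h2; omega
    · rw [h] at h2; omega
    · exact Or.inl h
    · exact Or.inr (Or.inl h)
    · exact Or.inr (Or.inr h)

/-- for an odd prime `p ∣ N`: `S p ≠ 0`, `p ∣ 1 + S p`, `(p - 1) ∣ S p` -/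
theorem c6a_prime {N : ℕ} {S : ℕ → ℕ} (H : NseHyp N S {1, 45, 80, 90, 144}) (p : ℕ) (hp : p.Prime)
    (hpN : p ∣ N) : S p ≠ 0 ∧ p ∣ 1 + S p ∧ (p - 1) ∣ S p := by
  refine ⟨H.cauchy p hp hpN, ?_, ?_⟩
  · have := H.frob p hpN
    rw [hp.sum_divisors, H.one, add_comm] at this
    exact this
  · have := H.phi p
    rwa [Nat.totient_prime hp] at this

theorem c6a_odd_prime {N : ℕ} {S : ℕ → ℕ} (H : NseHyp N S {1, 45, 80, 90, 144}) (p : ℕ) (hp : p.Prime)
    (hpN : p ∣ N) (hp3 : 3 ≤ p) :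
    (p = 3 ∧ S p = 80) ∨ (p = 7 ∧ S p = 90) ∨ (p = 5 ∧ S p = 144) := by
  obtain ⟨h0, hd, hphi⟩ := c6a_prime H p hp hpN
  rcases c6a_val H p hp3 with h | h | h | h
  · exact absurd h h0
  · left
    rw [h] at hd
    have h81 : p ∣ 3 ^ 4 := by norm_num; exact hd
    have := (Nat.prime_dvd_prime_iff_eq hp Nat.prime_three).mp (hp.dvd_of_dvd_pow h81)
    exact ⟨this, h⟩
  · right; left
    rw [h] at hd hphi
    have h91 : p ∣ 7 * 13 := by norm_num; exact hd
    rcases (hp.dvd_mul).mp h91 with h7 | h13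
    · exact ⟨(Nat.prime_dvd_prime_iff_eq hp (by norm_num)).mp h7, h⟩
    · have : p = 13 := (Nat.prime_dvd_prime_iff_eq hp (by norm_num)).mp h13
      rw [this] at hphi
      omega
  · right; right
    rw [h] at hd hphi
    have h145 : p ∣ 5 * 29 := by norm_num; exact hd
    rcases (hp.dvd_mul).mp h145 with h5 | h29
    · exact ⟨(Nat.prime_dvd_prime_iff_eq hp (by norm_num)).mp h5, h⟩
    · have : p = 29 := (Nat.prime_dvd_prime_iff_eq hp (by norm_num)).mp h29
      rw [this] at hphi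
      omega

/-- C6a -/
theorem a6_basic {N : ℕ} {S : ℕ → ℕ} (H : NseHyp N S {1, 45, 80, 90, 144}) : A6Basic N S := by
  refine ⟨?_, c6a_val H, ?_, ?_, ?_, ?_⟩
  · -- S 2 = 45
    obtain ⟨m, hm⟩ := H.attained 45 (by simp)
    have h0 : S m ≠ 0 := by rw [hm]; norm_num
    have hmN : m ∣ N := H.dvd m h0
    have hm0 : m ≠ 0 := by
      rintro rfl
      have := Nat.eq_zero_of_zero_dvd hmN
      have := H.pos
      omega
    have hm1 : m ≠ 1 := by
      rintro rfl
      rw [H.one] at hm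
      omega
    by_cases hm3 : 3 ≤ m
    · rcases c6a_val H m hm3 with h | h | h | h <;> omega
    · have : m = 2 := by omega
      rw [← this]; exact hm
  · intro h3
    rcases c6a_odd_prime H 3 Nat.prime_three h3 le_rfl with ⟨-, h⟩ | ⟨h, -⟩ | ⟨h, -⟩
    · exact h
    · omega
    · omega
  · intro h5
    rcases c6a_odd_prime H 5 (by norm_num) h5 (by norm_num) with ⟨h, -⟩ | ⟨h, -⟩ | ⟨-, h⟩
    · omega
    · omega
    · exact h
  · intro h7
    rcases c6a_odd_prime H 7 (by norm_num) h7 (by norm_num) with ⟨h, -⟩ | ⟨-, h⟩ | ⟨h, -⟩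
    · omega
    · exact h
    · omega
  · intro p hp hpN
    by_cases hp3 : 3 ≤ p
    · rcases c6a_odd_prime H p hp hpN hp3 with ⟨h, -⟩ | ⟨h, -⟩ | ⟨h, -⟩
      · exact Or.inr (Or.inl h)
      · exact Or.inr (Or.inr (Or.inr h))
      · exact Or.inr (Or.inr (Or.inl h))
    · left
      have := hp.two_le
      omega

end Cfsg.Agent.Lib.Helper21.Nse
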