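import Mathlib
import Cfsg.Agent.Lib.Helper22.NseDefs

/-!
# K-NSE-C6d (keystone 343112): `nse = {1,45,80,90,144}`, `5 ∣ N` ⟹ `N = 360` and spectrum `≤ 5`
-/

set_option autoImplicit false

namespace Cfsg.Agent.Lib.Helper21.Nse

open Cfsg.Agent.Lib.Helper22.Nse

section

variable {N : ℕ} {S : ℕ → ℕ}

theorem c6d_le144 (B : A6Basic N S) (d : ℕ) (hd : 3 ≤ d) : S d ≤ 144 := by
  rcases B.val d hd with h | h | h | h <;> omega

theorem c6d_vals (H : NseHyp N S {1, 45, 80, 90, 144}) (B : A6Basic N S) (d : ℕ) (hd : 3 ≤ d)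
    (h4 : 4 ∣ Nat.totient d) : S d = 0 ∨ S d = 80 ∨ S d = 144 := by
  have h := h4.trans (H.phi d)
  rcases B.val d hd with h' | h' | h' | h'
  · exact Or.inl h'
  · exact Or.inr (Or.inl h')
  · rw [h'] at h; omega
  · exact Or.inr (Or.inr h')

theorem c6d_zero_of_dvd (H : NseHyp N S {1, 45, 80, 90, 144}) (d m : ℕ) (hd : S d = 0) (hdm : d ∣ m) :
    S m = 0 := by
  by_contra h
  exact H.closed m d h hdm hd

/-- the total, restricted to the orders not divisible by `9`, when `S 9 = 0` -/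
theorem c6d_total9 (H : NseHyp N S {1, 45, 80, 90, 144}) (h9 : S 9 = 0) :
    N = ∑ d ∈ N.divisors.filter (fun d => ¬ 9 ∣ d), S d := by
  have := H.total
  rw [Finset.sum_filter_of_ne]
  · exact this
  · intro d _ hd h9d
    exact hd (c6d_zero_of_dvd H 9 d h9 h9d)

/-- splitting off the orders `1, …, 5` -/
theorem c6d_split (H : NseHyp N S {1, 45, 80, 90, 144}) (B : A6Basic N S) (h3 : 3 ∣ N) (h4 : 4 ∣ N)
    (h5 : 5 ∣ N) (hS4 : S 4 = 90) :
    N = 360 + ∑ d ∈ N.divisors \ {1, 2, 3, 4, 5}, S d := by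
  have hN0 : N ≠ 0 := H.pos.ne'
  have hsub : ({1, 2, 3, 4, 5} : Finset ℕ) ⊆ N.divisors := by
    intro d hd
    simp only [Finset.mem_insert, Finset.mem_singleton] at hd
    rw [Nat.mem_divisors]
    refine ⟨?_, hN0⟩
    rcases hd with rfl | rfl | rfl | rfl | rfl
    · exact one_dvd _
    · exact (by norm_num : 2 ∣ 4).trans h4
    · exact h3
    · exact h4
    · exact h5
  have h1 := Finset.sum_sdiff (f := S) hsub
  have h2 : ∑ d ∈ ({1, 2, 3, 4, 5} : Finset ℕ), S d = 1 + (45 + (80 + (90 + 144))) := by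
    rw [Finset.sum_insert (by decide), Finset.sum_insert (by decide), Finset.sum_insert (by decide),
      Finset.sum_insert (by decide), Finset.sum_singleton, H.one, B.two, B.three h3, hS4, B.five h5]
  have h3' := H.total
  omega

end

/-- a number with prime divisors in `{2,3,5}` and bounded exponents divides `3240` -/
theorem c6d_dvd_3240 (N : ℕ) (hpos : 0 < N)
    (hpr : ∀ p, p.Prime → p ∣ N → p = 2 ∨ p = 3 ∨ p = 5)
    (h16 : ¬ 16 ∣ N) (h243 : ¬ 243 ∣ N) (h25 : ¬ 25 ∣ N) : N ∣ 3240 := by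
  have hN0 : N ≠ 0 := hpos.ne'
  rw [← Nat.factorization_prime_le_iff_dvd hN0 (by norm_num)]
  intro p hp
  by_cases hpN : p ∣ N
  · have key : ∀ (e : ℕ), ¬ p ^ (e + 1) ∣ N → p ^ e ∣ 3240 →
        N.factorization p ≤ (3240 : ℕ).factorization p := by
      intro e h1 h2
      have h3 : N.factorization p ≤ e := by
        by_contra hc
        rw [not_le] at hc
        exact h1 ((hp.pow_dvd_iff_le_factorization hN0).mpr hc)
      have h4 : e ≤ (3240 : ℕ).factorization p :=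
        (hp.pow_dvd_iff_le_factorization (by norm_num)).mp h2
      omega
    rcases hpr p hp hpN with rfl | rfl | rfl
    · exact key 3 (by norm_num; exact h16) (by norm_num)
    · exact key 4 (by norm_num; exact h243) (by norm_num)
    · exact key 1 (by norm_num; exact h25) (by norm_num)
  · rw [Nat.factorization_eq_zero_of_not_dvd hpN]
    exact Nat.zero_le _


section cases

variable {N : ℕ} {S : ℕ → ℕ}

theorem c6d_dvd16 (H : NseHyp N S {1, 45, 80, 90, 144}) (B : A6Basic N S) (d : ℕ) (hd : 3 ≤ d)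
    (h4 : 4 ∣ Nat.totient d) : 16 ∣ S d := by
  rcases c6d_vals H B d hd h4 with h | h | h <;> rw [h] <;> norm_num

theorem c6d_tot :
    Nat.totient 8 = 4 ∧ Nat.totient 10 = 4 ∧ Nat.totient 12 = 4 ∧ Nat.totient 15 = 8 ∧
    Nat.totient 20 = 8 ∧ Nat.totient 24 = 8 ∧ Nat.totient 30 = 8 ∧ Nat.totient 40 = 16 ∧
    Nat.totient 60 = 16 ∧ Nat.totient 120 = 32 := by
  decide +kernel

theorem c6d_four_dvd_tot (d : ℕ) (hd : d = 8 ∨ d = 10 ∨ d = 12 ∨ d = 15 ∨ d = 20 ∨ d = 24 ∨ d = 30 ∨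
    d = 40 ∨ d = 60 ∨ d = 120) : 4 ∣ Nat.totient d := by
  obtain ⟨a, b, c, e, f, g, h, i, j, k⟩ := c6d_tot
  rcases hd with rfl | rfl | rfl | rfl | rfl | rfl | rfl | rfl | rfl | rfl
  · rw [a]
  · rw [b]
  · rw [c]
  · rw [e]; norm_num
  · rw [f]; norm_num
  · rw [g]; norm_num
  · rw [h]; norm_num
  · rw [i]; norm_num
  · rw [j]; norm_num
  · rw [k]; norm_num

theorem c6d_sum12 (S : ℕ → ℕ) : ∑ d ∈ ({1,2,3,4,5,6,10,12,15,20,30,60} : Finset ℕ), S d =
    S 1 + S 2 + S 3 + S 4 + S 5 + S 6 + S 10 + S 12 + S 15 + S 20 + S 30 + S 60 := by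
  simp [Finset.sum_insert, add_assoc]

theorem c6d_sum16 (S : ℕ → ℕ) : ∑ d ∈ ({1,2,3,4,5,6,8,10,12,15,20,24,30,40,60,120} : Finset ℕ), S d =
    S 1 + S 2 + S 3 + S 4 + S 5 + S 6 + S 8 + S 10 + S 12 + S 15 + S 20 + S 24 + S 30 + S 40 + S 60 +
      S 120 := by
  simp [Finset.sum_insert, add_assoc]

theorem c6d_no540 (H : NseHyp N S {1, 45, 80, 90, 144}) (B : A6Basic N S) (P : A6Parts N S)
    (hN : N = 540) (hS1 : S 1 = 1) (hS2 : S 2 = 45) (hS3 : S 3 = 80) (hS4 : S 4 = 90)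
    (hS5 : S 5 = 144) : False := by
  have h27 : 27 ∣ N := by rw [hN]; norm_num
  have hS9 : S 9 = 0 := P.nine h27
  have ht := c6d_total9 H hS9
  rw [hN] at ht
  have hd : (Nat.divisors 540).filter (fun d => ¬ 9 ∣ d) = {1,2,3,4,5,6,10,12,15,20,30,60} := by
    decide +kernel
  rw [hd, c6d_sum12] at ht
  obtain ⟨k10, h10⟩ := c6d_dvd16 H B 10 (by norm_num) (c6d_four_dvd_tot 10 (by norm_num))
  obtain ⟨k12, h12⟩ := c6d_dvd16 H B 12 (by norm_num) (c6d_four_dvd_tot 12 (by norm_num))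
  obtain ⟨k15, h15⟩ := c6d_dvd16 H B 15 (by norm_num) (c6d_four_dvd_tot 15 (by norm_num))
  obtain ⟨k20, h20⟩ := c6d_dvd16 H B 20 (by norm_num) (c6d_four_dvd_tot 20 (by norm_num))
  obtain ⟨k30, h30⟩ := c6d_dvd16 H B 30 (by norm_num) (c6d_four_dvd_tot 30 (by norm_num))
  obtain ⟨k60, h60⟩ := c6d_dvd16 H B 60 (by norm_num) (c6d_four_dvd_tot 60 (by norm_num))
  rcases B.val 6 (by norm_num) with h | h | h | h <;> omega

theorem c6d_no1620 (H : NseHyp N S {1, 45, 80, 90, 144}) (B : A6Basic N S) (P : A6Parts N S)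
    (hN : N = 1620) (hS1 : S 1 = 1) (hS2 : S 2 = 45) (hS3 : S 3 = 80) (hS4 : S 4 = 90)
    (hS5 : S 5 = 144) : False := by
  have h27 : 27 ∣ N := by rw [hN]; norm_num
  have hS9 : S 9 = 0 := P.nine h27
  have ht := c6d_total9 H hS9
  rw [hN] at ht
  have hd : (Nat.divisors 1620).filter (fun d => ¬ 9 ∣ d) = {1,2,3,4,5,6,10,12,15,20,30,60} := by
    decide +kernel
  rw [hd, c6d_sum12] at ht
  have := c6d_le144 B 6 (by norm_num)
  have := c6d_le144 B 10 (by norm_num)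
  have := c6d_le144 B 12 (by norm_num)
  have := c6d_le144 B 15 (by norm_num)
  have := c6d_le144 B 20 (by norm_num)
  have := c6d_le144 B 30 (by norm_num)
  have := c6d_le144 B 60 (by norm_num)
  omega

theorem c6d_no3240 (H : NseHyp N S {1, 45, 80, 90, 144}) (B : A6Basic N S) (P : A6Parts N S)
    (hN : N = 3240) (hS1 : S 1 = 1) (hS2 : S 2 = 45) (hS3 : S 3 = 80) (hS4 : S 4 = 90)
    (hS5 : S 5 = 144) : False := by
  have h27 : 27 ∣ N := by rw [hN]; norm_num
  have hS9 : S 9 = 0 := P.nine h27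
  have ht := c6d_total9 H hS9
  rw [hN] at ht
  have hd : (Nat.divisors 3240).filter (fun d => ¬ 9 ∣ d) =
      {1,2,3,4,5,6,8,10,12,15,20,24,30,40,60,120} := by
    decide +kernel
  rw [hd, c6d_sum16] at ht
  have := c6d_le144 B 6 (by norm_num)
  have := c6d_le144 B 8 (by norm_num)
  have := c6d_le144 B 10 (by norm_num)
  have := c6d_le144 B 12 (by norm_num)
  have := c6d_le144 B 15 (by norm_num)
  have := c6d_le144 B 20 (by norm_num)
  have := c6d_le144 B 24 (by norm_num)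
  have := c6d_le144 B 30 (by norm_num)
  have := c6d_le144 B 40 (by norm_num)
  have := c6d_le144 B 60 (by norm_num)
  have := c6d_le144 B 120 (by norm_num)
  omega

theorem c6d_no1080 (H : NseHyp N S {1, 45, 80, 90, 144}) (B : A6Basic N S) (P : A6Parts N S)
    (hN : N = 1080) (hS1 : S 1 = 1) (hS2 : S 2 = 45) (hS3 : S 3 = 80) (hS4 : S 4 = 90)
    (hS5 : S 5 = 144) : False := by
  have h27 : 27 ∣ N := by rw [hN]; norm_num
  have hS9 : S 9 = 0 := P.nine h27
  have ht := c6d_total9 H hS9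
  rw [hN] at ht
  have hd : (Nat.divisors 1080).filter (fun d => ¬ 9 ∣ d) =
      {1,2,3,4,5,6,8,10,12,15,20,24,30,40,60,120} := by
    decide +kernel
  rw [hd, c6d_sum16] at ht
  have V : ∀ d, (d = 8 ∨ d = 10 ∨ d = 12 ∨ d = 15 ∨ d = 20 ∨ d = 24 ∨ d = 30 ∨
      d = 40 ∨ d = 60 ∨ d = 120) → S d = 0 ∨ S d = 80 ∨ S d = 144 := by
    intro d hd'
    have h3 : 3 ≤ d := by omega
    exact c6d_vals H B d h3 (c6d_four_dvd_tot d hd')
  -- Frobenius
  have f15 := H.frob 15 (by rw [hN]; norm_num)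
  have f10 := H.frob 10 (by rw [hN]; norm_num)
  have f20 := H.frob 20 (by rw [hN]; norm_num)
  have f40 := H.frob 40 (by rw [hN]; norm_num)
  have f6 := H.frob 6 (by rw [hN]; norm_num)
  have f12 := H.frob 12 (by rw [hN]; norm_num)
  have f24 := H.frob 24 (by rw [hN]; norm_num)
  rw [show Nat.divisors 15 = {1,3,5,15} from by decide +kernel] at f15
  rw [show Nat.divisors 10 = {1,2,5,10} from by decide +kernel] at f10
  rw [show Nat.divisors 20 = {1,2,4,5,10,20} from by decide +kernel] at f20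
  rw [show Nat.divisors 40 = {1,2,4,5,8,10,20,40} from by decide +kernel] at f40
  rw [show Nat.divisors 6 = {1,2,3,6} from by decide +kernel] at f6
  rw [show Nat.divisors 12 = {1,2,3,4,6,12} from by decide +kernel] at f12
  rw [show Nat.divisors 24 = {1,2,3,4,6,8,12,24} from by decide +kernel] at f24
  simp [Finset.sum_insert] at f15 f10 f20 f40 f6 f12 f24
  rw [hS1, hS2, hS3, hS4, hS5] at ht
  rw [hS1, hS3, hS5] at f15
  rw [hS1, hS2, hS5] at f10
  rw [hS1, hS2, hS4, hS5] at f20 f40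
  rw [hS1, hS2, hS3] at f6
  rw [hS1, hS2, hS3, hS4] at f12 f24
  obtain ⟨c15, f15⟩ := f15
  obtain ⟨c10, f10⟩ := f10
  obtain ⟨c20, f20⟩ := f20
  obtain ⟨c40, f40⟩ := f40
  obtain ⟨c6, f6⟩ := f6
  obtain ⟨c12, f12⟩ := f12
  obtain ⟨c24, f24⟩ := f24
  have hS15 : S 15 = 0 := by
    rcases V 15 (by norm_num) with h | h | h <;> omega
  have hS30 : S 30 = 0 := c6d_zero_of_dvd H 15 30 hS15 (by norm_num)
  have hS60 : S 60 = 0 := c6d_zero_of_dvd H 15 60 hS15 (by norm_num)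
  have hS120 : S 120 = 0 := c6d_zero_of_dvd H 15 120 hS15 (by norm_num)
  obtain ⟨a10, h10⟩ : ∃ a, S 10 = 80 * a := by
    rcases V 10 (by norm_num) with h | h | h
    · exact ⟨0, by omega⟩
    · exact ⟨1, by omega⟩
    · omega
  obtain ⟨a20, h20⟩ : ∃ a, S 20 = 80 * a := by
    rcases V 20 (by norm_num) with h | h | h
    · exact ⟨0, by omega⟩
    · exact ⟨1, by omega⟩
    · omega
  have hS8a : S 8 ≠ 144 := by
    intro h8
    rcases V 40 (by norm_num) with h | h | h <;> omega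
  obtain ⟨b6, h6⟩ : ∃ b, S 6 = 144 * b := by
    rcases B.val 6 (by norm_num) with h | h | h | h
    · exact ⟨0, by omega⟩
    · omega
    · rcases V 12 (by norm_num) with h' | h' | h' <;> omega
    · exact ⟨1, by omega⟩
  obtain ⟨b12, h12⟩ : ∃ b, S 12 = 144 * b := by
    rcases V 12 (by norm_num) with h | h | h
    · exact ⟨0, by omega⟩
    · omega
    · exact ⟨1, by omega⟩
  have hS8 : S 8 = 0 := by
    rcases V 8 (by norm_num) with h | h | h
    · exact h
    · rcases V 24 (by norm_num) with h' | h' | h' <;> omega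
    · exact absurd h hS8a
  have hS24 : S 24 = 0 := c6d_zero_of_dvd H 8 24 hS8 (by norm_num)
  have hS40 : S 40 = 0 := c6d_zero_of_dvd H 8 40 hS8 (by norm_num)
  have hS6' : S 6 ≤ 144 := c6d_le144 B 6 (by norm_num)
  have hS12' : S 12 ≤ 144 := c6d_le144 B 12 (by norm_num)
  have hS10' : S 10 ≤ 144 := c6d_le144 B 10 (by norm_num)
  have hS20' : S 20 ≤ 144 := c6d_le144 B 20 (by norm_num)
  clear V f15 f10 f20 f40 f6 f12 f24
  omega

end cases

/-- C6d -/
theorem a6_final {N : ℕ} {S : ℕ → ℕ} (H : NseHyp N S {1, 45, 80, 90, 144}) (hs : SylowHyp N S)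
    (B : A6Basic N S) (P : A6Parts N S) (h5 : 5 ∣ N) : N = 360 ∧ ∀ m, S m ≠ 0 → m ≤ 5 := by
  have hS5 : S 5 = 144 := B.five h5
  have hS2 : S 2 = 45 := B.two
  have hS1 : S 1 = 1 := H.one
  -- Sylow at 5
  obtain ⟨n, hn1, -, hn3⟩ := hs 5 1 (by norm_num) (by norm_num) (by simpa using h5)
    (by norm_num; exact P.not25) (by rw [pow_one, hS5]; norm_num)
  have hn : n = 36 := by
    rw [pow_one, hS5, Nat.totient_prime (by norm_num)] at hn1
    omega
  subst hn
  have h4 : 4 ∣ N := (by norm_num : 4 ∣ 36).trans hn3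
  have h9 : 9 ∣ N := (by norm_num : 9 ∣ 36).trans hn3
  have h3 : 3 ∣ N := (by norm_num : 3 ∣ 36).trans hn3
  have hS3 : S 3 = 80 := B.three h3
  have hS4 : S 4 = 90 := P.four h4
  have h180 : 180 ∣ N := by
    have : Nat.Coprime 36 5 := by norm_num
    exact this.mul_dvd_of_dvd_of_dvd hn3 h5
  have hpr : ∀ p, p.Prime → p ∣ N → p = 2 ∨ p = 3 ∨ p = 5 := by
    intro p hp hpN
    rcases B.primes p hp hpN with h | h | h | h
    · exact Or.inl h
    · exact Or.inr (Or.inl h)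
    · exact Or.inr (Or.inr h)
    · exact absurd (h ▸ hpN) P.not7
  have hdvd : N ∣ 3240 := c6d_dvd_3240 N H.pos hpr P.not16 P.not243 P.not25
  have hmem : N ∈ (Nat.divisors 3240).filter (fun d => 180 ∣ d) := by
    rw [Finset.mem_filter, Nat.mem_divisors]
    exact ⟨⟨hdvd, by norm_num⟩, h180⟩
  have hlist : (Nat.divisors 3240).filter (fun d => 180 ∣ d) = {180, 360, 540, 1080, 1620, 3240} := by
    decide +kernel
  rw [hlist] at hmem
  simp only [Finset.mem_insert, Finset.mem_singleton] at hmem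
  have hsplit := c6d_split H B h3 h4 h5 hS4
  rcases hmem with hN | hN | hN | hN | hN | hN
  · -- 180
    omega
  · -- 360
    refine ⟨hN, ?_⟩
    intro m hm
    have hz : ∑ d ∈ N.divisors \ {1, 2, 3, 4, 5}, S d = 0 := by omega
    rw [Finset.sum_eq_zero_iff] at hz
    by_contra hm5
    apply hm
    apply hz
    rw [Finset.mem_sdiff, Nat.mem_divisors]
    refine ⟨⟨H.dvd m hm, H.pos.ne'⟩, ?_⟩
    simp only [Finset.mem_insert, Finset.mem_singleton]
    omega
  · exact (c6d_no540 H B P hN hS1 hS2 hS3 hS4 hS5).elim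
  · exact (c6d_no1080 H B P hN hS1 hS2 hS3 hS4 hS5).elim
  · exact (c6d_no1620 H B P hN hS1 hS2 hS3 hS4 hS5).elim
  · exact (c6d_no3240 H B P hN hS1 hS2 hS3 hS4 hS5).elim

end Cfsg.Agent.Lib.Helper21.Nse
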