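import Cfsg.Agent.Lib.Helper21.OPb14b
import Cfsg.Agent.Lib.Helper61.OPb1
import Cfsg.Agent.Lib.Helper84.OPb9

/-!
# K-OPb-14 (keystone 598914, architect helper69): `mod_lt_of_dvd_card`, exact signature

Wrapper of `mod_lt_of_dvd_card_of` (OPb14b) with LEAF 1 (`Helper61.OPb.exists_sub_isoCls`) and
LEAF 9 (`Helper84.OPb.piece_chain`) plugged in.
-/

set_option autoImplicit false
set_option linter.unusedVariables false

namespace Cfsg.Agent.Lib.Helper21.OPb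

open Module Cfsg.Agent.Lib.Helper98.Elus Cfsg.Agent.Lib.Helper98.Sy Cfsg.Agent.Lib.Helper98.Oh
  Cfsg.Agent.Lib.Helper69.OPb

universe u
variable {F : Type u} [Field F] {V : Type u} [AddCommGroup V] [Module F V]

theorem mod_lt_of_dvd_card [Fintype F] (h2 : (2 : F) ≠ 0) [FiniteDimensional F V]
    (B : LinearMap.BilinForm F V) (hS : ∀ a b, B a b = B b a) (hV : NonDeg B ⊤)
    (p f : ℕ) [Fact p.Prime] (hF : Fintype.card F = p ^ f)
    (r : ℕ) [Fact r.Prime] (hpr : p ≠ r) (hr2 : r ≠ 2) (hrF : (r : F) ≠ 0)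
    (m : ℕ) (hm : Odd m) (W₀ : Submodule F V) (hW₀ : NonDeg B W₀) (hW₀d : finrank F W₀ = m)
    (hmc : m < cOf (orderOf ((Fintype.card F : ℕ) : ZMod r)))
    (hr : r ∣ Nat.card {W : Submodule F V // NonDeg B W ∧ IsoCls B W W₀}) :
    finrank F V % cOf (orderOf ((Fintype.card F : ℕ) : ZMod r)) ≤ m :=
  mod_lt_of_dvd_card_of h2 B hS hV r hrF (cOf (orderOf ((Fintype.card F : ℕ) : ZMod r))) m W₀
    hW₀d hmc
    (fun U hU hlt => Cfsg.Agent.Lib.Helper61.OPb.exists_sub_isoCls h2 B hS U hU W₀ hW₀ hlt)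
    (fun y hy hiso U hUV1 hUinv hUnd => by
      obtain ⟨T, hT, -⟩ := Cfsg.Agent.Lib.Helper84.OPb.piece_chain h2 B hS hV p f hF r hpr hr2
        hrF y hy hiso U hUV1 hUinv hUnd
      exact ⟨T, by rw [hT, mul_comm]⟩)
    hr

end Cfsg.Agent.Lib.Helper21.OPb
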