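import Cfsg.Agent.Lib.Helper69.OPbDefs
import Cfsg.Agent.Lib.Helper43.WittQuad

/-!
# K-OPb-14 (keystone 598914, architect helper69), part a: Witt transitivity and the group of
isometries fixing `U^⊥` pointwise
-/

set_option autoImplicit false
set_option linter.unusedSimpArgs false
set_option linter.unusedSectionVars false
set_option linter.unusedVariables false
set_option linter.style.haveILetI false

namespace Cfsg.Agent.Lib.Helper21.OPb

open Module Cfsg.Agent.Lib.Helper98.Elus Cfsg.Agent.Lib.Helper98.Sy Cfsg.Agent.Lib.Helper98.Oh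
  Cfsg.Agent.Lib.Helper69.OPb

universe u
variable {F : Type u} [Field F] {V : Type u} [AddCommGroup V] [Module F V]

/-- the quadratic form `v ↦ B v v` -/
noncomputable def qf (B : LinearMap.BilinForm F V) : QuadraticForm F V :=
  LinearMap.BilinMap.toQuadraticMap B

theorem qf_apply (B : LinearMap.BilinForm F V) (v : V) : qf B v = B v v :=
  LinearMap.BilinMap.toQuadraticMap_apply B v

theorem polar_qf (B : LinearMap.BilinForm F V) (hS : ∀ a b, B a b = B b a) (x y : V) :
    QuadraticMap.polarBilin (qf B) x y = 2 * B x y := by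
  rw [QuadraticMap.polarBilin_apply_apply, QuadraticMap.polar, qf_apply, qf_apply, qf_apply,
    map_add, map_add, LinearMap.add_apply, LinearMap.add_apply, hS y x]
  ring

theorem qf_nondeg (h2 : (2 : F) ≠ 0) (B : LinearMap.BilinForm F V) (hS : ∀ a b, B a b = B b a)
    (hV : NonDeg B ⊤) : (QuadraticMap.polarBilin (qf B)).Nondegenerate := by
  constructor
  · intro x hx
    apply hV x trivial
    intro y _
    have := hx y
    rw [polar_qf B hS] at this
    exact (mul_eq_zero.mp this).resolve_left h2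
  · intro y hy
    apply hV y trivial
    intro x _
    have := hy x
    rw [polar_qf B hS, hS] at this
    exact (mul_eq_zero.mp this).resolve_left h2

theorem iso_of_qf (h2 : (2 : F) ≠ 0) (B : LinearMap.BilinForm F V) (hS : ∀ a b, B a b = B b a)
    (g : V →ₗ[F] V) (hg : ∀ v, qf B (g v) = qf B v) : Iso B g := by
  intro x y
  have h := Cfsg.Agent.Lib.Helper43.polar_of_isometry (qf B) g hg x y
  rw [polar_qf B hS, polar_qf B hS] at h
  exact mul_left_cancel₀ h2 h

/-- polarization of an equivalence preserving `B w w` -/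
theorem polarize (h2 : (2 : F) ≠ 0) (B : LinearMap.BilinForm F V) (hS : ∀ a b, B a b = B b a)
    {W W' : Submodule F V} (e : W ≃ₗ[F] W')
    (he : ∀ w : W, B (e w : V) (e w : V) = B (w : V) (w : V)) (u v : W) :
    B (e u : V) (e v : V) = B (u : V) (v : V) := by
  have h := he (u + v)
  rw [map_add, Submodule.coe_add, Submodule.coe_add, map_add, map_add, LinearMap.add_apply,
    LinearMap.add_apply, map_add, map_add, LinearMap.add_apply, LinearMap.add_apply, he u, he v,
    hS (e v : V) (e u : V), hS (v : V) (u : V)] at h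
  have h' : 2 * B (e u : V) (e v : V) = 2 * B (u : V) (v : V) := by linear_combination h
  exact mul_left_cancel₀ h2 h'

/-- an isometry fixing `U^⊥` pointwise preserves the nondegenerate subspace `U` -/
theorem mem_of_fix [FiniteDimensional F V] (B : LinearMap.BilinForm F V)
    (hS : ∀ a b, B a b = B b a) (hV : NonDeg B ⊤) (U : Submodule F V) (hU : NonDeg B U)
    (g : V →ₗ[F] V) (hg : Iso B g) (hfix : ∀ t ∈ B.orthogonal U, g t = t) :
    ∀ u ∈ U, g u ∈ U := by
  intro u hu
  have hR : B.IsRefl := Cfsg.Agent.Lib.Helper98.Os.isRefl_of_symm hS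
  have hc := Cfsg.Agent.Lib.Helper98.Os.isCompl_orth hR U hU
  have hnd : NonDeg B (B.orthogonal U) := by
    have := (Cfsg.Agent.Lib.Helper98.Os.compl_props hR U ⊤ hU le_top hV).2.2.1
    rwa [inf_top_eq] at this
  have hmem : g u ∈ U ⊔ B.orthogonal U := by rw [hc.sup_eq_top]; trivial
  obtain ⟨a, ha, b, hb, hab⟩ := Submodule.mem_sup.mp hmem
  have hb0 : b = 0 := by
    apply hnd b hb
    intro t ht
    have hbeq : b = g u - a := by rw [← hab]; abel
    rw [hbeq, map_sub, LinearMap.sub_apply]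
    have h1 : B (g u) t = 0 := by
      have := hg u t
      rw [hfix t ht] at this
      rw [this]
      exact LinearMap.BilinForm.mem_orthogonal_iff.mp ht u hu
    have h2' : B a t = 0 := LinearMap.BilinForm.mem_orthogonal_iff.mp ht a ha
    rw [h1, h2', sub_zero]
  rw [hb0, add_zero] at hab
  rw [← hab]
  exact ha

/-- Witt: an isometry between nondegenerate subspaces of `U` is induced by an isometry of `V`
fixing `U^⊥` pointwise -/
theorem exists_isometry_map (h2 : (2 : F) ≠ 0) [FiniteDimensional F V]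
    (B : LinearMap.BilinForm F V) (hS : ∀ a b, B a b = B b a) (hV : NonDeg B ⊤)
    (U : Submodule F V) (hU : NonDeg B U) (W W' : Submodule F V) (hWU : W ≤ U) (hW'U : W' ≤ U)
    (hW : NonDeg B W) (e : W ≃ₗ[F] W')
    (he : ∀ u v : W, B (e u : V) (e v : V) = B (u : V) (v : V)) :
    ∃ g : V ≃ₗ[F] V, Iso B (g : V →ₗ[F] V) ∧ (∀ t ∈ B.orthogonal U, g t = t) ∧
      W.map (g : V →ₗ[F] V) = W' := by
  have hR : B.IsRefl := Cfsg.Agent.Lib.Helper98.Os.isRefl_of_symm hS
  have hc := Cfsg.Agent.Lib.Helper98.Os.isCompl_orth hR W hW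
  set π : V →ₗ[F] W := Submodule.linearProjOfIsCompl W (B.orthogonal W) hc with hπ
  set f : V →ₗ[F] V :=
    W'.subtype ∘ₗ (e : W →ₗ[F] W') ∘ₗ π + (LinearMap.id - W.subtype ∘ₗ π) with hf
  have hle : B.orthogonal U ≤ B.orthogonal W := LinearMap.BilinForm.orthogonal_le hWU
  have hπW : ∀ (w : V) (hw : w ∈ W), π w = ⟨w, hw⟩ := fun w hw =>
    Submodule.linearProjOfIsCompl_apply_left hc ⟨w, hw⟩
  have hπt : ∀ t ∈ B.orthogonal U, π t = 0 := fun t ht =>
    Submodule.linearProjOfIsCompl_apply_right hc ⟨t, hle ht⟩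
  have hfx : ∀ (w : V) (hw : w ∈ W) (t : V), t ∈ B.orthogonal U →
      f (w + t) = (e ⟨w, hw⟩ : V) + t := by
    intro w hw t ht
    rw [hf]
    simp only [LinearMap.add_apply, LinearMap.comp_apply, LinearMap.sub_apply, LinearMap.id_apply,
      Submodule.subtype_apply, map_add, hπW w hw, hπt t ht, add_zero, LinearEquiv.coe_coe,
      Submodule.coe_zero, map_zero, zero_add]
    abel
  set X : Submodule F V := W ⊔ B.orthogonal U with hX
  have hortho : ∀ a ∈ U, ∀ t ∈ B.orthogonal U, B a t = 0 ∧ B t a = 0 := by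
    intro a ha t ht
    have h1 : B a t = 0 := LinearMap.BilinForm.mem_orthogonal_iff.mp ht a ha
    exact ⟨h1, by rw [hS]; exact h1⟩
  have h1 : ∀ x ∈ X, qf B (f x) = qf B x := by
    intro x hx
    obtain ⟨w, hw, t, ht, rfl⟩ := Submodule.mem_sup.mp hx
    rw [hfx w hw t ht, qf_apply, qf_apply]
    have e1 := hortho _ (hW'U (e ⟨w, hw⟩).2) t ht
    have e2 := hortho w (hWU hw) t ht
    have e3 := he ⟨w, hw⟩ ⟨w, hw⟩
    simp only [map_add, LinearMap.add_apply, e1.1, e1.2, e2.1, e2.2, e3, add_zero, zero_add]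
  have h3 : ∀ x ∈ X, f x = 0 → x = 0 := by
    intro x hx hx0
    obtain ⟨w, hw, t, ht, rfl⟩ := Submodule.mem_sup.mp hx
    rw [hfx w hw t ht] at hx0
    have hew : (e ⟨w, hw⟩ : V) = -t := eq_neg_of_add_eq_zero_left hx0
    have hew0 : (e ⟨w, hw⟩ : V) = 0 := by
      apply hU _ (hW'U (e ⟨w, hw⟩).2)
      intro v hv
      rw [hew, map_neg, LinearMap.neg_apply, (hortho v hv t ht).2, neg_zero]
    have hw0 : (⟨w, hw⟩ : W) = 0 := by
      have : e ⟨w, hw⟩ = 0 := Subtype.ext hew0
      exact e.map_eq_zero_iff.mp this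
    have hw0' : w = 0 := congrArg Subtype.val hw0
    have ht0 : t = 0 := by
      rw [hew0] at hew
      exact neg_eq_zero.mp hew.symm
    rw [hw0', ht0, add_zero]
  obtain ⟨g, hg1, hg2⟩ := Cfsg.Agent.Lib.Helper43.witt_quad_aux (qf B) (qf_nondeg h2 B hS hV)
    (finrank F X) X rfl f h1 h3
  refine ⟨g, iso_of_qf h2 B hS (g : V →ₗ[F] V) (fun v => hg1 v), ?_, ?_⟩
  · intro t ht
    have := hg2 t (Submodule.mem_sup_right ht)
    rw [this]
    have h0 := hfx 0 (Submodule.zero_mem _) t ht
    rw [zero_add] at h0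
    rw [h0]
    have : (⟨0, Submodule.zero_mem _⟩ : W) = 0 := rfl
    rw [this, map_zero, Submodule.coe_zero, zero_add]
  · have hgw : ∀ (w : V) (hw : w ∈ W), g w = (e ⟨w, hw⟩ : V) := by
      intro w hw
      have := hg2 w (Submodule.mem_sup_left hw)
      rw [this]
      have h0 := hfx w hw 0 (Submodule.zero_mem _)
      rw [add_zero, add_zero] at h0
      exact h0
    apply le_antisymm
    · rintro _ ⟨w, hw, rfl⟩
      rw [LinearEquiv.coe_coe, hgw w hw]
      exact (e ⟨w, hw⟩).2
    · intro w' hw'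
      refine ⟨(e.symm ⟨w', hw'⟩ : V), (e.symm ⟨w', hw'⟩).2, ?_⟩
      rw [LinearEquiv.coe_coe, hgw _ (e.symm ⟨w', hw'⟩).2]
      simp

/-- the group of isometries of `V` fixing `U^⊥` pointwise -/
def fixGroup (B : LinearMap.BilinForm F V) (U : Submodule F V) : Subgroup (V ≃ₗ[F] V) where
  carrier := {g | Iso B (g : V →ₗ[F] V) ∧ ∀ t ∈ B.orthogonal U, g t = t}
  one_mem' := ⟨fun u v => rfl, fun t _ => rfl⟩
  mul_mem' := by
    rintro g h ⟨hg1, hg2⟩ ⟨hh1, hh2⟩
    refine ⟨fun u v => ?_, fun t ht => ?_⟩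
    · show B (g (h u)) (g (h v)) = B u v
      have := hg1 (h u) (h v)
      rw [LinearEquiv.coe_coe] at this
      rw [this]
      exact hh1 u v
    · show g (h t) = t
      rw [hh2 t ht, hg2 t ht]
  inv_mem' := by
    rintro g ⟨hg1, hg2⟩
    refine ⟨fun u v => ?_, fun t ht => ?_⟩
    · show B (g.symm u) (g.symm v) = B u v
      have := hg1 (g.symm u) (g.symm v)
      rw [LinearEquiv.coe_coe, LinearEquiv.apply_symm_apply, LinearEquiv.apply_symm_apply] at this
      exact this.symm
    · show g.symm t = t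
      apply g.injective
      rw [LinearEquiv.apply_symm_apply, hg2 t ht]

theorem mem_fixGroup (B : LinearMap.BilinForm F V) (U : Submodule F V) (g : V ≃ₗ[F] V) :
    g ∈ fixGroup B U ↔ Iso B (g : V →ₗ[F] V) ∧ ∀ t ∈ B.orthogonal U, g t = t := Iff.rfl

end Cfsg.Agent.Lib.Helper21.OPb
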