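import Cfsg.Agent.Lib.Helper21.OPb14a

/-!
# K-OPb-14 (keystone 598914, architect helper69), part b: the fixed point induction
-/

set_option autoImplicit false
set_option linter.unusedSimpArgs false
set_option linter.unusedSectionVars false
set_option linter.unusedVariables false
set_option linter.style.haveILetI false

namespace Cfsg.Agent.Lib.Helper21.OPb

open Module Cfsg.Agent.Lib.Helper98.Elus Cfsg.Agent.Lib.Helper98.Sy Cfsg.Agent.Lib.Helper98.Oh
  Cfsg.Agent.Lib.Helper69.OPb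

universe u
variable {F : Type u} [Field F] {V : Type u} [AddCommGroup V] [Module F V]

/-- the action of linear automorphisms on subspaces -/
noncomputable def subAct : MulAction (V ≃ₗ[F] V) (Submodule F V) where
  smul g W := W.map (g : V →ₗ[F] V)
  one_smul W := by
    show W.map ((LinearEquiv.refl F V : V ≃ₗ[F] V) : V →ₗ[F] V) = W
    rw [LinearEquiv.refl_toLinearMap, Submodule.map_id]
  mul_smul g h W := by
    show W.map ((g * h : V ≃ₗ[F] V) : V →ₗ[F] V) =
      (W.map (h : V →ₗ[F] V)).map (g : V →ₗ[F] V)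
    rw [← Submodule.map_comp]
    rfl

/-- the image of a member of `Ω(U)` under an element of `fixGroup B U` is a member -/
theorem map_mem_om [FiniteDimensional F V] (B : LinearMap.BilinForm F V)
    (hS : ∀ a b, B a b = B b a) (hV : NonDeg B ⊤) (U : Submodule F V) (hU : NonDeg B U)
    (W₀ : Submodule F V) (g : V ≃ₗ[F] V) (hg : g ∈ fixGroup B U) (W : Submodule F V)
    (hW : W ≤ U ∧ NonDeg B W ∧ IsoCls B W W₀) :
    W.map (g : V →ₗ[F] V) ≤ U ∧ NonDeg B (W.map (g : V →ₗ[F] V)) ∧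
      IsoCls B (W.map (g : V →ₗ[F] V)) W₀ := by
  obtain ⟨hWU, hWnd, e₀, he₀⟩ := hW
  obtain ⟨hg1, hg2⟩ := hg
  refine ⟨?_, ?_, ?_⟩
  · rintro _ ⟨w, hw, rfl⟩
    exact mem_of_fix B hS hV U hU (g : V →ₗ[F] V) hg1 hg2 w (hWU hw)
  · rintro _ ⟨w, hw, rfl⟩ h
    have hw0 : w = 0 := by
      apply hWnd w hw
      intro w' hw'
      rw [← hg1 w w']
      exact h _ ⟨w', hw', rfl⟩
    rw [hw0, map_zero]
  · refine ⟨(g.submoduleMap W).symm.trans e₀, ?_⟩
    intro x
    rw [LinearEquiv.trans_apply, he₀]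
    have h1 : (((g.submoduleMap W).symm x : W) : V) = g.symm (x : V) :=
      LinearEquiv.submoduleMap_symm_apply g W x
    rw [h1]
    have h3 := hg1 (g.symm (x : V)) (g.symm (x : V))
    rw [LinearEquiv.coe_coe, LinearEquiv.apply_symm_apply] at h3
    exact h3.symm

/-- `fixGroup B U` is transitive on `Ω(U)` -/
theorem exists_fix_map (h2 : (2 : F) ≠ 0) [FiniteDimensional F V]
    (B : LinearMap.BilinForm F V) (hS : ∀ a b, B a b = B b a) (hV : NonDeg B ⊤)
    (U : Submodule F V) (hU : NonDeg B U) (W₀ W₁ W : Submodule F V)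
    (hW₁ : W₁ ≤ U ∧ NonDeg B W₁ ∧ IsoCls B W₁ W₀) (hW : W ≤ U ∧ NonDeg B W ∧ IsoCls B W W₀) :
    ∃ g : V ≃ₗ[F] V, g ∈ fixGroup B U ∧ W₁.map (g : V →ₗ[F] V) = W := by
  obtain ⟨hW₁U, hW₁nd, e₁, he₁⟩ := hW₁
  obtain ⟨hWU, hWnd, e₂, he₂⟩ := hW
  have he : ∀ w : W₁, B ((e₁.trans e₂.symm) w : V) ((e₁.trans e₂.symm) w : V) =
      B (w : V) (w : V) := by
    intro w
    rw [LinearEquiv.trans_apply, ← he₂, LinearEquiv.apply_symm_apply, he₁]
  obtain ⟨g, hg1, hg2, hg3⟩ := exists_isometry_map h2 B hS hV U hU W₁ W hW₁U hWU hW₁nd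
    (e₁.trans e₂.symm) (polarize h2 B hS _ he)
  exact ⟨g, ⟨hg1, hg2⟩, hg3⟩

/-- the number of members of `Ω(U)` is prime to `r` when `dim U mod c > m` -/
theorem card_not_dvd (h2 : (2 : F) ≠ 0) [Fintype F] [FiniteDimensional F V]
    (B : LinearMap.BilinForm F V) (hS : ∀ a b, B a b = B b a) (hV : NonDeg B ⊤)
    (r : ℕ) [Fact r.Prime] (hrF : (r : F) ≠ 0) (c m : ℕ) (W₀ : Submodule F V)
    (hW₀d : finrank F W₀ = m) (hmc : m < c)
    (hL1 : ∀ U : Submodule F V, NonDeg B U → finrank F W₀ < finrank F U →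
      ∃ W : Submodule F V, W ≤ U ∧ NonDeg B W ∧ IsoCls B W W₀)
    (hL9 : ∀ y : V →ₗ[F] V, y ^ r = 1 → Iso B y → ∀ U : Submodule F V, U ≤ V1 r y → Inv y U →
      NonDeg B U → c ∣ finrank F U) :
    ∀ n : ℕ, ∀ U : Submodule F V, finrank F U = n → NonDeg B U → m < n % c →
      ¬ r ∣ Nat.card {W : Submodule F V // W ≤ U ∧ NonDeg B W ∧ IsoCls B W W₀} := by
  classical
  have hrp : r.Prime := Fact.out
  have hR : B.IsRefl := Cfsg.Agent.Lib.Helper98.Os.isRefl_of_symm hS
  haveI : Finite V := Module.finite_of_finite F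
  haveI : Finite (Submodule F V) :=
    Finite.of_injective (fun p : Submodule F V => (p : Set V)) SetLike.coe_injective
  haveI : Finite (V ≃ₗ[F] V) :=
    Finite.of_injective (fun g : V ≃ₗ[F] V => (g : V → V)) DFunLike.coe_injective
  intro n
  induction n using Nat.strong_induction_on with
  | _ n ih =>
  intro U hUn hU hmn hdvd
  letI := subAct (F := F) (V := V)
  -- `Ω(U)` is nonempty
  have hlt : finrank F W₀ < finrank F U := by
    rw [hW₀d, hUn]
    exact lt_of_lt_of_le hmn (Nat.mod_le n c)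
  obtain ⟨W₁, hW₁⟩ := hL1 U hU hlt
  -- `Ω(U)` is an orbit
  have horb : MulAction.orbit ↥(fixGroup B U) W₁ =
      {W : Submodule F V | W ≤ U ∧ NonDeg B W ∧ IsoCls B W W₀} := by
    ext W
    constructor
    · rintro ⟨g, rfl⟩
      exact map_mem_om B hS hV U hU W₀ g.1 g.2 W₁ hW₁
    · intro hW
      obtain ⟨g, hg, hgW⟩ := exists_fix_map h2 B hS hV U hU W₀ W₁ W hW₁ hW
      exact ⟨⟨g, hg⟩, hgW⟩
  have hcard : Nat.card {W : Submodule F V // W ≤ U ∧ NonDeg B W ∧ IsoCls B W W₀} =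
      (MulAction.orbit ↥(fixGroup B U) W₁).ncard := by
    rw [horb]
    exact Nat.card_coe_set_eq _
  have hdvdG : r ∣ Nat.card ↥(fixGroup B U) := by
    have h1 : (MulAction.orbit ↥(fixGroup B U) W₁).ncard ∣ Nat.card ↥(fixGroup B U) := by
      rw [← MulAction.index_stabilizer]
      exact Subgroup.index_dvd_card _
    rw [hcard] at hdvd
    exact dvd_trans hdvd h1
  obtain ⟨z, hz⟩ := exists_prime_orderOf_dvd_card' r hdvdG
  have hz1 : z ≠ 1 := by
    intro h
    rw [h, orderOf_one] at hz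
    exact hrp.one_lt.ne hz
  set y : V →ₗ[F] V := ((z : V ≃ₗ[F] V) : V →ₗ[F] V) with hy
  have hzr : (z : V ≃ₗ[F] V) ^ r = 1 := by
    have h := pow_orderOf_eq_one z
    rw [hz] at h
    have h' := congrArg Subtype.val h
    rwa [Subgroup.coe_pow, Subgroup.coe_one] at h'
  have hyr : y ^ r = 1 := by
    have h := congrArg (LinearEquiv.automorphismGroup.toLinearMapMonoidHom (R := F) (M := V)) hzr
    rw [map_pow, map_one] at h
    exact h
  have hyiso : Iso B y := z.2.1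
  have hyfix : ∀ t ∈ B.orthogonal U, y t = t := z.2.2
  have hyU : Inv y U := mem_of_fix B hS hV U hU y hyiso hyfix
  -- the fixed part of `U`
  have hparts := nonDeg_inf_parts_refl hR r hrF y hyr hyiso U hU hyU
  have hsum := finrank_inf_V0_add_inf_V1 r hrF y hyr U hyU
  have hinv1 : Inv y (U ⊓ V1 r y) := fun v hv =>
    Submodule.mem_inf.mpr ⟨hyU v (Submodule.mem_inf.mp hv).1,
      inv_V1 r y v (Submodule.mem_inf.mp hv).2⟩
  have hc1 : c ∣ finrank F ↥(U ⊓ V1 r y) := hL9 y hyr hyiso _ inf_le_right hinv1 hparts.2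
  have hpos : 0 < finrank F ↥(U ⊓ V1 r y) := by
    rw [Nat.pos_iff_ne_zero]
    intro h0
    apply hz1
    rw [h0, add_zero] at hsum
    have hUV0 : U ⊓ V0 y = U := Submodule.eq_of_le_of_finrank_eq inf_le_left hsum
    have hUle : U ≤ V0 y := by rw [← hUV0]; exact inf_le_right
    apply Subtype.ext
    apply LinearEquiv.ext
    intro v
    show y v = v
    have hc := Cfsg.Agent.Lib.Helper98.Os.isCompl_orth hR U hU
    have hmem : v ∈ U ⊔ B.orthogonal U := by rw [hc.sup_eq_top]; trivial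
    obtain ⟨a, ha, b, hb, rfl⟩ := Submodule.mem_sup.mp hmem
    rw [map_add, (mem_V0 y a).mp (hUle ha), hyfix b hb]
  obtain ⟨k, hk⟩ := hc1
  have hkpos : 0 < c * k := by rw [← hk]; exact hpos
  have hn' : finrank F ↥(U ⊓ V0 y) < n := by omega
  have hmod : finrank F ↥(U ⊓ V0 y) % c = n % c := by
    rw [← hUn, ← hsum, hk, Nat.add_mul_mod_self_left]
  have ih' := ih (finrank F ↥(U ⊓ V0 y)) hn' (U ⊓ V0 y) rfl hparts.1 (by rw [hmod]; exact hmn)
  -- the permutation of `Ω(U)` induced by `z`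
  haveI : Fintype {W : Submodule F V // W ≤ U ∧ NonDeg B W ∧ IsoCls B W W₀} := Fintype.ofFinite _
  let f : Function.End {W : Submodule F V // W ≤ U ∧ NonDeg B W ∧ IsoCls B W W₀} :=
    fun ω => ⟨ω.1.map y, map_mem_om B hS hV U hU W₀ z.1 z.2 ω.1 ω.2⟩
  have hiter : ∀ (k : ℕ) (ω : {W : Submodule F V // W ≤ U ∧ NonDeg B W ∧ IsoCls B W W₀}),
      ((f ^ k) ω).1 = ω.1.map (y ^ k) := by
    intro k
    induction k with
    | zero =>
      intro ω
      rw [pow_zero, pow_zero]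
      show ω.1 = ω.1.map (1 : V →ₗ[F] V)
      rw [Module.End.one_eq_id, Submodule.map_id]
    | succ k ihk =>
      intro ω
      have e1 : (f ^ (k + 1)) ω = (f ^ k) (f ω) := by rw [pow_succ]; rfl
      rw [e1, ihk (f ω), pow_succ, Module.End.mul_eq_comp, Submodule.map_comp]
  have hfr : f ^ r ^ 1 = 1 := by
    rw [pow_one]
    funext ω
    apply Subtype.ext
    rw [hiter r ω, hyr]
    show ω.1.map (1 : V →ₗ[F] V) = ω.1
    rw [Module.End.one_eq_id, Submodule.map_id]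
  have hcong := Equiv.Perm.card_fixedPoints_modEq (f := f) (p := r) (n := 1) hfr
  -- the fixed points are the members of `Ω(U ⊓ V0 y)`
  have hfixle : ∀ ω : {W : Submodule F V // W ≤ U ∧ NonDeg B W ∧ IsoCls B W W₀},
      ω ∈ Function.fixedPoints f → ω.1 ≤ U ⊓ V0 y := by
    intro ω hω
    have hmap : ω.1.map y = ω.1 := congrArg Subtype.val hω
    have hWinv : Inv y ω.1 := by
      intro v hv
      rw [← hmap]
      exact ⟨v, hv, rfl⟩
    obtain ⟨hWU, hWnd, e₀, he₀⟩ := ω.2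
    have hWd : finrank F ω.1 = m := by rw [← hW₀d]; exact LinearEquiv.finrank_eq e₀
    have hWparts := nonDeg_inf_parts_refl hR r hrF y hyr hyiso ω.1 hWnd hWinv
    have hWsum := finrank_inf_V0_add_inf_V1 r hrF y hyr ω.1 hWinv
    have hWinv1 : Inv y (ω.1 ⊓ V1 r y) := fun v hv =>
      Submodule.mem_inf.mpr ⟨hWinv v (Submodule.mem_inf.mp hv).1,
        inv_V1 r y v (Submodule.mem_inf.mp hv).2⟩
    have hWc : c ∣ finrank F ↥(ω.1 ⊓ V1 r y) :=
      hL9 y hyr hyiso _ inf_le_right hWinv1 hWparts.2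
    have hW0 : finrank F ↥(ω.1 ⊓ V1 r y) = 0 := by
      apply Nat.eq_zero_of_dvd_of_lt hWc
      omega
    rw [hW0, add_zero] at hWsum
    have hWV0 : ω.1 ⊓ V0 y = ω.1 := Submodule.eq_of_le_of_finrank_eq inf_le_left hWsum
    rw [← hWV0]
    exact inf_le_inf_right _ hWU
  have hfixpt : ∀ W : {W : Submodule F V // W ≤ U ⊓ V0 y ∧ NonDeg B W ∧ IsoCls B W W₀},
      (⟨W.1, le_trans W.2.1 inf_le_left, W.2.2.1, W.2.2.2⟩ :
        {W : Submodule F V // W ≤ U ∧ NonDeg B W ∧ IsoCls B W W₀}) ∈ Function.fixedPoints f := by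
    intro W
    apply Subtype.ext
    show W.1.map y = W.1
    have hfixv : ∀ v ∈ W.1, y v = v := fun v hv =>
      (mem_V0 y v).mp ((Submodule.mem_inf.mp (W.2.1 hv)).2)
    apply le_antisymm
    · rintro _ ⟨v, hv, rfl⟩
      rw [hfixv v hv]
      exact hv
    · intro v hv
      exact ⟨v, hv, hfixv v hv⟩
  let φ : ↥(Function.fixedPoints f) ≃
      {W : Submodule F V // W ≤ U ⊓ V0 y ∧ NonDeg B W ∧ IsoCls B W W₀} :=
    { toFun := fun x => ⟨x.1.1, hfixle x.1 x.2, x.1.2.2.1, x.1.2.2.2⟩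
      invFun := fun W => ⟨⟨W.1, le_trans W.2.1 inf_le_left, W.2.2.1, W.2.2.2⟩, hfixpt W⟩
      left_inv := fun x => by
        apply Subtype.ext
        apply Subtype.ext
        rfl
      right_inv := fun W => by
        apply Subtype.ext
        rfl }
  rw [← Nat.card_eq_fintype_card, ← Nat.card_eq_fintype_card, Nat.card_congr φ] at hcong
  exact ih' ((Nat.ModEq.dvd_iff hcong (dvd_refl r)).mp hdvd)

/-- K-OPb-14 with LEAF 1 and (a consequence of) LEAF 9 as hypotheses -/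
theorem mod_lt_of_dvd_card_of [Fintype F] (h2 : (2 : F) ≠ 0) [FiniteDimensional F V]
    (B : LinearMap.BilinForm F V) (hS : ∀ a b, B a b = B b a) (hV : NonDeg B ⊤)
    (r : ℕ) [Fact r.Prime] (hrF : (r : F) ≠ 0) (c m : ℕ) (W₀ : Submodule F V)
    (hW₀d : finrank F W₀ = m) (hmc : m < c)
    (hL1 : ∀ U : Submodule F V, NonDeg B U → finrank F W₀ < finrank F U →
      ∃ W : Submodule F V, W ≤ U ∧ NonDeg B W ∧ IsoCls B W W₀)
    (hL9 : ∀ y : V →ₗ[F] V, y ^ r = 1 → Iso B y → ∀ U : Submodule F V, U ≤ V1 r y → Inv y U →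
      NonDeg B U → c ∣ finrank F U)
    (hr : r ∣ Nat.card {W : Submodule F V // NonDeg B W ∧ IsoCls B W W₀}) :
    finrank F V % c ≤ m := by
  by_contra hlt
  have hlt' : m < finrank F V % c := not_le.mp hlt
  have h := card_not_dvd h2 B hS hV r hrF c m W₀ hW₀d hmc hL1 hL9 (finrank F V) ⊤
    (finrank_top F V) hV hlt'
  apply h
  have hcongr : Nat.card {W : Submodule F V // W ≤ ⊤ ∧ NonDeg B W ∧ IsoCls B W W₀} =
      Nat.card {W : Submodule F V // NonDeg B W ∧ IsoCls B W W₀} :=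
    Nat.card_congr (Equiv.subtypeEquivRight
      (p := fun W : Submodule F V => W ≤ ⊤ ∧ NonDeg B W ∧ IsoCls B W W₀)
      (q := fun W : Submodule F V => NonDeg B W ∧ IsoCls B W W₀) (fun W => by simp))
  rw [hcongr]
  exact hr

end Cfsg.Agent.Lib.Helper21.OPb
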