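import Mathlib

/-!
# K-OTF-NS5b (keystone 399909, pack K-OTF / S3999): `card_order_five_of_structure`

A group with the structure given by S3359 (a subgroup `G₀ = S × M` of index `≤ 2`, `S ≃* SL(2,5)`,
`|M|` prime to 30) has `5`-part `5` and exactly 24 elements of order 5.
-/

set_option autoImplicit false

namespace Cfsg.Agent.Lib.Helper21.OTF

theorem ns5_sl25_filter :
    (Finset.univ.filter
      (fun x : Matrix.SpecialLinearGroup (Fin 2) (ZMod 5) => x ^ 5 = 1 ∧ x ≠ 1)).card = 24 := by
  decide +kernel

theorem ns5_sl25_count :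
    Nat.card {x : Matrix.SpecialLinearGroup (Fin 2) (ZMod 5) // orderOf x = 5} = 24 ∧
      Nat.card (Matrix.SpecialLinearGroup (Fin 2) (ZMod 5)) = 120 := by
  have : Fact (Nat.Prime 5) := ⟨by norm_num⟩
  constructor
  · have h : ∀ x : Matrix.SpecialLinearGroup (Fin 2) (ZMod 5),
        orderOf x = 5 ↔ (x ^ 5 = 1 ∧ x ≠ 1) := fun x => orderOf_eq_prime_iff
    rw [Nat.card_congr (Equiv.subtypeEquivRight h), Nat.card_eq_fintype_card, Fintype.card_subtype]
    exact ns5_sl25_filter
  · rw [Nat.card_eq_fintype_card]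
    decide +kernel

/-- LEAF NS5b. -/
theorem card_order_five_of_structure {C : Type*} [Group C] [Finite C]
    (h : ∃ G₀ : Subgroup C, G₀.Normal ∧ (G₀.index = 1 ∨ G₀.index = 2) ∧
      ∃ S M : Subgroup C, S ⊔ M = G₀ ∧ S ⊓ M = ⊥ ∧ (∀ s ∈ S, ∀ x ∈ M, s * x = x * s) ∧
        Nonempty (S ≃* Matrix.SpecialLinearGroup (Fin 2) (ZMod 5)) ∧
        (∀ (p : ℕ) [Fact p.Prime] (P : Sylow p M), IsCyclic P) ∧ (Nat.card M).Coprime 30) :
    (Nat.card C).factorization 5 = 1 ∧ Nat.card {x : C // orderOf x = 5} = 24 := by
  classical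
  obtain ⟨G₀, hG₀n, hidx, S, M, hsup, hinf, hcomm, ⟨e⟩, -, hco⟩ := h
  have h5 : Fact (Nat.Prime 5) := ⟨by norm_num⟩
  -- the product map
  have hcm0 : ∀ (s : S) (m : M), Commute (S.subtype s) (M.subtype m) :=
    fun s m => hcomm s.1 s.2 m.1 m.2
  let f : S × M →* C := MonoidHom.noncommCoprod S.subtype M.subtype hcm0
  have hf_apply : ∀ p : S × M, f p = (p.1 : C) * (p.2 : C) := fun p => rfl
  have hrange : f.range = G₀ := by
    show (MonoidHom.noncommCoprod S.subtype M.subtype hcm0).range = G₀
    rw [MonoidHom.noncommCoprod_range, Subgroup.range_subtype, Subgroup.range_subtype, hsup]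
  have hdisj : Disjoint S M := disjoint_iff.mpr hinf
  have hfinj : Function.Injective f := by
    intro p q hpq
    have := Subgroup.mul_injective_of_disjoint hdisj (a₁ := p) (a₂ := q) hpq
    exact this
  -- card G₀
  have hcardG₀ : Nat.card G₀ = Nat.card S * Nat.card M := by
    rw [← hrange, ← Nat.card_prod]
    exact (Nat.card_congr (Equiv.ofInjective f hfinj)).symm
  have hcardS : Nat.card S = 120 := by
    rw [Nat.card_congr e.toEquiv]; exact ns5_sl25_count.2
  have hcardC : Nat.card C = G₀.index * (120 * Nat.card M) := by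
    rw [← hcardS, ← hcardG₀, mul_comm]; exact (Subgroup.card_mul_index G₀).symm
  have hM5 : ¬ 5 ∣ Nat.card M := by
    intro hd
    have : (5 : ℕ) ∣ Nat.gcd (Nat.card M) 30 := Nat.dvd_gcd hd (by norm_num)
    rw [hco] at this
    omega
  have hMpos : Nat.card M ≠ 0 := Nat.card_pos.ne'
  constructor
  · rw [hcardC]
    have hidx0 : G₀.index ≠ 0 := by rcases hidx with h | h <;> omega
    rw [Nat.factorization_mul hidx0 (by positivity), Nat.factorization_mul (by norm_num) hMpos]
    simp only [Finsupp.coe_add, Pi.add_apply]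
    rw [Nat.factorization_eq_zero_of_not_dvd hM5]
    have h120 : (120 : ℕ).factorization 5 = 1 := by
      have : (120 : ℕ) = 5 ^ 1 * 24 := by norm_num
      rw [this, Nat.factorization_mul (by norm_num) (by norm_num), Finsupp.coe_add, Pi.add_apply,
        Nat.Prime.factorization_pow (by norm_num : Nat.Prime 5)]
      simp
      exact Nat.factorization_eq_zero_of_not_dvd (by norm_num)
    have hidx5 : G₀.index.factorization 5 = 0 := by
      rcases hidx with h | h <;> rw [h]
      · simp
      · exact Nat.factorization_eq_zero_of_not_dvd (by norm_num)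
    omega
  · -- elements of order 5 lie in S
    have hinS : ∀ x : C, orderOf x = 5 → x ∈ S := by
      intro x hx
      have hx5 : x ^ 5 = 1 := by rw [← hx]; exact pow_orderOf_eq_one x
      have hxG₀ : x ∈ G₀ := by
        rcases hidx with h1 | h2
        · rw [Subgroup.index_eq_one] at h1; rw [h1]; exact Subgroup.mem_top x
        · have hsq : x ^ 2 ∈ G₀ := by
            have := Subgroup.sq_mem_of_index_two h2 x
            simpa [sq] using this
          have : x = (x ^ 2) ^ 3 := by
            rw [← pow_mul]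
            calc x = x ^ 5 * x := by rw [hx5, one_mul]
              _ = x ^ (2 * 3) := by rw [← pow_succ]
          rw [this]
          exact G₀.pow_mem hsq 3
      rw [← hrange] at hxG₀
      obtain ⟨⟨s, m⟩, hsm⟩ := hxG₀
      rw [hf_apply] at hsm
      simp only at hsm
      have hcm : Commute (s : C) (m : C) := hcomm s.1 s.2 m.1 m.2
      have hpow : (s : C) ^ 5 * (m : C) ^ 5 = 1 := by
        rw [← hcm.mul_pow, hsm, hx5]
      have hs5 : (s : C) ^ 5 ∈ S ⊓ M := by
        refine ⟨S.pow_mem s.2 5, ?_⟩
        have : (s : C) ^ 5 = ((m : C) ^ 5)⁻¹ := eq_inv_of_mul_eq_one_left hpow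
        rw [this]
        exact M.inv_mem (M.pow_mem m.2 5)
      rw [hinf, Subgroup.mem_bot] at hs5
      rw [hs5, one_mul] at hpow
      -- m = 1
      have hm1 : m = 1 := by
        have hm5 : m ^ 5 = 1 := by
          apply Subtype.ext
          simpa using hpow
        have hd1 : orderOf m ∣ 5 := orderOf_dvd_of_pow_eq_one hm5
        have hd2 : orderOf m ∣ Nat.card M := orderOf_dvd_natCard m
        rcases (Nat.dvd_prime (by norm_num : Nat.Prime 5)).mp hd1 with h1 | h5'
        · exact orderOf_eq_one_iff.mp h1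
        · exact absurd (h5' ▸ hd2) hM5
      rw [hm1] at hsm
      simp only [Subgroup.coe_one, mul_one] at hsm
      rw [← hsm]
      exact s.2
    -- the equivalence with the elements of order 5 of `S`, then of `SL(2,5)`
    have e1 : {x : C // orderOf x = 5} ≃ {s : S // orderOf s = 5} :=
      { toFun := fun x => ⟨⟨x.1, hinS x.1 x.2⟩,
          (Subgroup.orderOf_mk x.1 (hinS x.1 x.2)).trans x.2⟩
        invFun := fun s => ⟨(s.1 : C), (Subgroup.orderOf_coe s.1).trans s.2⟩
        left_inv := fun x => rfl
        right_inv := fun s => rfl }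
    have e2 : {s : S // orderOf s = 5} ≃
        {y : Matrix.SpecialLinearGroup (Fin 2) (ZMod 5) // orderOf y = 5} :=
      e.toEquiv.subtypeEquiv (fun s => by
        show orderOf s = 5 ↔ orderOf (e s) = 5
        rw [MulEquiv.orderOf_eq])
    rw [Nat.card_congr (e1.trans e2)]
    exact ns5_sl25_count.1

end Cfsg.Agent.Lib.Helper21.OTF
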