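import Cfsg.Agent.Lib.Helper21.OTsC1b
import Cfsg.Agent.Lib.Helper79.OTsO3
import Cfsg.Agent.Lib.Helper63.OTsO6

/-!
# K-OTs-C1 (keystone 597320, architect helper99): `card_ts_plus`, exact signature
-/

set_option autoImplicit false
set_option linter.unusedSectionVars false
set_option linter.unusedVariables false

namespace Cfsg.Agent.Lib.Helper21.OTs

open Module Cfsg.Agent.Lib.Helper98.Elus Cfsg.Agent.Lib.Helper98.Sy Cfsg.Agent.Lib.Helper99.OTs
open scoped Matrix MatrixGroups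

universe u
variable {F : Type u} [Field F] {V : Type u} [AddCommGroup V] [Module F V]

theorem card_ts_plus [Fintype F] (d m : ℕ) (hd : 4 ≤ d) (hm : 1 ≤ m) (hmd : m < d) :
    Nat.card {W : Submodule F (Fin d ⊕ Fin d → F) // Module.finrank F ↥W = m ∧
        (∀ w ∈ W, Cfsg.quadFormPlus d F w = 0)} *
      ∏ j ∈ Finset.range m, (Fintype.card F ^ (j + 1) - 1) =
    ∏ j ∈ Finset.range m, ((Fintype.card F ^ (d - j) - 1) * (Fintype.card F ^ (d - j - 1) + 1)) :=
  card_ts_plus_of d m hmd.le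
    (fun U hU e hUd hp =>
      (Cfsg.Agent.Lib.Helper79.OTs.card_singular (Cfsg.Agent.Lib.Helper50.QPlus d F) U hU e hUd).1 hp)
    (fun U0 U1 h0 h1 hort hsup hp1 hp =>
      Cfsg.Agent.Lib.Helper63.OTs.plusOn_cancel (Cfsg.Agent.Lib.Helper50.QPlus d F) (nonDeg_QPlus d)
        U0 U1 h0 h1 hort hsup hp1 hp)

end Cfsg.Agent.Lib.Helper21.OTs
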