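import Cfsg.Agent.Lib.Helper99.OTsDefs
import Cfsg.Agent.Lib.Helper98.Ti7
import Cfsg.Agent.Lib.Helper98.Os1
import Cfsg.Agent.Lib.Helper05.OsElB
import Cfsg.Agent.Lib.Helper08.OsElL2

/-!
# K-OTs-C1 (keystone 597320, architect helper99), part a: the ABSTRACT count of totally singular frames and
subspaces of a nondegenerate quadratic space of dimension `2 e`, both types at once, all characteristics.

`cnt e'` is the number of NONZERO singular vectors of a nondegenerate subspace of dimension `2 e'` of the type of `V`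
(hypothesis `hcnt`, from leaf O3 `card_singular`); `hcancel` is leaf O6 `plusOn_cancel`.
Port of `Helper08/OsElL1, OsElL2` (which port `Helper98/Ti6, Ti7`).
-/

set_option autoImplicit false
set_option linter.unusedSimpArgs false
set_option linter.unusedSectionVars false
set_option linter.unusedVariables false
set_option linter.style.haveILetI false
set_option maxHeartbeats 800000

namespace Cfsg.Agent.Lib.Helper21.OTs

open Module Cfsg.Agent.Lib.Helper98.Elus Cfsg.Agent.Lib.Helper98.Sy Cfsg.Agent.Lib.Helper99.OTs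
  Cfsg.Agent.Lib.Helper98.Ti

universe u
variable {F : Type u} [Field F] {V : Type u} [AddCommGroup V] [Module F V]

/-- totally singular frames -/
def IsTSFrame (Q : QuadraticForm F V) {k : ℕ} (s : Fin k → V) : Prop :=
  IsTIFrame (QuadraticMap.polarBilin Q) s ∧ ∀ a, Q (s a) = 0

theorem polarBilin_self (Q : QuadraticForm F V) (x : V) :
    QuadraticMap.polarBilin Q x x = 2 * Q x := by
  rw [QuadraticMap.polarBilin_apply_apply, QuadraticMap.polar_self, two_nsmul, two_mul]

theorem map_add_of_polar_zero (Q : QuadraticForm F V) (a b : V)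
    (h : QuadraticMap.polarBilin Q a b = 0) : Q (a + b) = Q a + Q b := by
  have h1 : QuadraticMap.polar Q a b = 0 := h
  unfold QuadraticMap.polar at h1
  have : Q (a + b) = Q a + Q b + (Q (a + b) - Q a - Q b) := by ring
  rw [this, h1, add_zero]

theorem isTSFrame_cons_iff (Q : QuadraticForm F V) {k : ℕ} (s : Fin k → V) (x : V) :
    IsTSFrame Q (Fin.cons x s : Fin (k + 1) → V) ↔
      IsTSFrame Q s ∧ (∀ a, QuadraticMap.polarBilin Q (s a) x = 0) ∧ Q x = 0 ∧
        x ∉ Submodule.span F (Set.range s) := by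
  unfold IsTSFrame
  rw [Cfsg.Agent.Lib.Helper08.OsEl.isTSFrame_cons_iff (polarBilin_symm Q) s x]
  constructor
  · rintro ⟨⟨h1, h2, h3, h4⟩, h5⟩
    refine ⟨⟨h1, fun a => ?_⟩, h2, ?_, h4⟩
    · have := h5 a.succ
      simpa using this
    · have := h5 0
      simpa using this
  · rintro ⟨⟨h1, h5⟩, h2, h3, h4⟩
    refine ⟨⟨h1, h2, ?_, h4⟩, fun a => ?_⟩
    · rw [polarBilin_self, h3, mul_zero]
    · cases a using Fin.cases with
      | zero => simpa using h3
      | succ a => simpa using h5 a

theorem ts_span_of_frame (Q : QuadraticForm F V) {k : ℕ} (s : Fin k → V) (hs : IsTSFrame Q s) :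
    TS Q (Submodule.span F (Set.range s)) := by
  have hort := ort_span s hs.1.2
  intro w hw
  induction hw using Submodule.span_induction with
  | mem x hx =>
    obtain ⟨a, rfl⟩ := hx
    exact hs.2 a
  | zero => exact map_zero Q
  | add x y hx hy ihx ihy =>
    rw [map_add_of_polar_zero Q x y (hort x hx y hy), ihx, ihy, add_zero]
  | smul c x hx ihx =>
    rw [QuadraticMap.map_smul, ihx, smul_zero]

section Count

variable [Fintype F] [FiniteDimensional F V]

theorem card_fiber_q (Q : QuadraticForm F V) (hV : NonDeg (QuadraticMap.polarBilin Q) ⊤) (e : ℕ)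
    (hd : finrank F V = 2 * e) (cnt : ℕ → ℕ)
    (hcnt : ∀ U : Submodule F V, NonDeg (QuadraticMap.polarBilin Q) U → ∀ e' : ℕ,
      finrank F U = 2 * e' → (PlusOn Q U ↔ PlusOn Q ⊤) →
      Nat.card {x : V // x ∈ U ∧ x ≠ 0 ∧ Q x = 0} = cnt e')
    (hcancel : ∀ U0 U1 : Submodule F V, NonDeg (QuadraticMap.polarBilin Q) U0 →
      NonDeg (QuadraticMap.polarBilin Q) U1 → Ort (QuadraticMap.polarBilin Q) U0 U1 →
      U0 ⊔ U1 = ⊤ → PlusOn Q U1 → PlusOn Q ⊤ → PlusOn Q U0)
    {k : ℕ} (hk : k ≤ e) (s : Fin k → V) (hs : IsTSFrame Q s) :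
    Nat.card {x : V // (∀ a, QuadraticMap.polarBilin Q (s a) x = 0) ∧ Q x = 0 ∧
        x ∉ Submodule.span F (Set.range s)} = Fintype.card F ^ k * cnt (e - k) := by
  classical
  haveI : Finite V := Module.finite_of_finite F
  set B : LinearMap.BilinForm F V := QuadraticMap.polarBilin Q with hB
  have hS : ∀ x y, B x y = B y x := polarBilin_symm Q
  have hR : B.IsRefl := Cfsg.Agent.Lib.Helper98.Os.isRefl_of_symm hS
  set S := Submodule.span F (Set.range s) with hSdef
  set O := B.orthogonal S with hO
  have hSd : finrank F S = k := by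
    rw [hSdef, finrank_span_eq_card hs.1.1, Fintype.card_fin]
  have hOd : finrank F O = 2 * e - k := by
    have := Cfsg.Agent.Lib.Helper05.OsEl.finrank_add_orth_refl hR hV S
    rw [← hO] at this
    omega
  have hSts : TS Q S := ts_span_of_frame Q s hs
  have hSS : Ort B S S := ort_span s hs.1.2
  have hSO : S ≤ O := by
    intro x hx
    rw [hO, LinearMap.BilinForm.mem_orthogonal_iff]
    intro n hn
    exact hSS n hn x hx
  -- the double orthogonal
  have hOO : B.orthogonal O = S := by
    symm
    apply Submodule.eq_of_le_of_finrank_eq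
    · intro x hx
      rw [LinearMap.BilinForm.mem_orthogonal_iff]
      intro n hn
      have h1 : B x n = 0 := LinearMap.BilinForm.mem_orthogonal_iff.mp hn x hx
      show B n x = 0
      rw [hS]
      exact h1
    · have := Cfsg.Agent.Lib.Helper05.OsEl.finrank_add_orth_refl hR hV O
      omega
  -- a complement
  obtain ⟨C, hC⟩ := Submodule.exists_isCompl S
  set U : Submodule F V := C ⊓ O with hU
  have hsup : S ⊔ U = O := by
    rw [hU, ← sup_inf_assoc_of_le C hSO, hC.sup_eq_top, top_inf_eq]
  have hinf : S ⊓ U = ⊥ := by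
    rw [eq_bot_iff, ← hC.inf_eq_bot]
    exact inf_le_inf le_rfl inf_le_left
  have hUO : U ≤ O := inf_le_right
  have hUd : finrank F U = 2 * (e - k) := by
    have h := Submodule.finrank_sup_add_finrank_inf_eq S U
    rw [hsup, hinf, finrank_bot, hOd, hSd] at h
    omega
  have hSU : ∀ a ∈ S, ∀ b ∈ O, B a b = 0 := fun a ha b hb =>
    LinearMap.BilinForm.mem_orthogonal_iff.mp hb a ha
  have hUnd : NonDeg B U := by
    intro u hu hall
    have huO : u ∈ B.orthogonal O := by
      rw [LinearMap.BilinForm.mem_orthogonal_iff]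
      intro n hn
      show B n u = 0
      rw [← hsup] at hn
      obtain ⟨a, ha, b, hb, rfl⟩ := Submodule.mem_sup.mp hn
      rw [map_add, LinearMap.add_apply, hSU a ha u (hUO hu), zero_add, hS]
      exact hall b hb
    rw [hOO] at huO
    have : u ∈ S ⊓ U := Submodule.mem_inf.mpr ⟨huO, hu⟩
    rw [hinf] at this
    exact (Submodule.mem_bot F).mp this
  -- the type of `U` is the type of `V`
  have htype : PlusOn Q U ↔ PlusOn Q ⊤ := by
    constructor
    · rintro ⟨Z, hZU, hZts, hZd⟩
      refine ⟨Z ⊔ S, le_top, ?_, ?_⟩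
      · apply TS.sup hZts hSts
        intro u hu v hv
        rw [hS]
        exact hSU v hv u (hUO (hZU hu))
      · have hZS : Z ⊓ S = ⊥ := by
          rw [eq_bot_iff, ← hinf, inf_comm]
          exact inf_le_inf le_rfl hZU
        have h := Submodule.finrank_sup_add_finrank_inf_eq Z S
        rw [hZS, finrank_bot, hSd] at h
        rw [finrank_top, hd]
        omega
    · intro hp
      obtain ⟨h1, h2, h3, h4⟩ := Cfsg.Agent.Lib.Helper98.Os.compl_props hR U ⊤ hUnd le_top hV
      rw [inf_top_eq] at h1 h2 h3 h4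
      rw [finrank_top, hd, hUd] at h4
      have hSU1 : S ≤ B.orthogonal U := by
        intro x hx
        rw [LinearMap.BilinForm.mem_orthogonal_iff]
        intro n hn
        show B n x = 0
        rw [hS]
        exact hSU x hx n (hUO hn)
      apply hcancel U (B.orthogonal U) hUnd h3 ?_ h1 ⟨S, hSU1, hSts, by rw [hSd]; omega⟩ hp
      intro u hu v hv
      exact LinearMap.BilinForm.mem_orthogonal_iff.mp hv u hu
  have hcardU := hcnt U hUnd (e - k) hUd htype
  have hform : ∀ a ∈ S, ∀ b ∈ O, Q (a + b) = Q b := by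
    intro a ha b hb
    rw [map_add_of_polar_zero Q a b (hSU a ha b hb), hSts a ha, zero_add]
  let Φ : S × {x : V // x ∈ U ∧ x ≠ 0 ∧ Q x = 0} →
      {x : V // (∀ a, B (s a) x = 0) ∧ Q x = 0 ∧ x ∉ S} := fun z =>
    ⟨(z.1 : V) + (z.2 : V), by
      refine ⟨?_, ?_, ?_⟩
      · rw [← mem_orth_span_iff]
        exact O.add_mem (hSO z.1.2) (hUO z.2.2.1)
      · rw [hform _ z.1.2 _ (hUO z.2.2.1)]
        exact z.2.2.2.2
      · intro hmem
        have h1 : (z.2 : V) ∈ S := by
          have := S.sub_mem hmem z.1.2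
          rwa [add_sub_cancel_left] at this
        have h2 : (z.2 : V) ∈ S ⊓ U := Submodule.mem_inf.mpr ⟨h1, z.2.2.1⟩
        rw [hinf] at h2
        exact z.2.2.2.1 ((Submodule.mem_bot F).mp h2)⟩
  have hΦinj : Function.Injective Φ := by
    rintro ⟨a, b⟩ ⟨a', b'⟩ h
    have h1 : (a : V) + (b : V) = (a' : V) + (b' : V) := congrArg Subtype.val h
    have h2' : (a : V) - (a' : V) = (b' : V) - (b : V) := by
      rw [sub_eq_sub_iff_add_eq_add, h1, add_comm]
    have h3 : (a : V) - (a' : V) ∈ S ⊓ U := by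
      refine Submodule.mem_inf.mpr ⟨S.sub_mem a.2 a'.2, ?_⟩
      rw [h2']
      exact U.sub_mem b'.2.1 b.2.1
    rw [hinf, Submodule.mem_bot, sub_eq_zero] at h3
    have h4 : (b : V) = (b' : V) := by
      rw [h3] at h1
      exact add_left_cancel h1
    exact Prod.ext (Subtype.ext h3) (Subtype.ext h4)
  have hΦsurj : Function.Surjective Φ := by
    rintro ⟨x, hxO, hxx, hxS⟩
    have hxO' : x ∈ O := by
      rw [hO, mem_orth_span_iff]
      exact hxO
    rw [← hsup] at hxO'
    obtain ⟨a, ha, b, hb, rfl⟩ := Submodule.mem_sup.mp hxO'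
    refine ⟨(⟨a, ha⟩, ⟨b, hb, ?_, ?_⟩), rfl⟩
    · rintro rfl
      apply hxS
      rw [add_zero]
      exact ha
    · rw [← hform a ha b (hUO hb)]
      exact hxx
  rw [← Nat.card_congr (Equiv.ofBijective Φ ⟨hΦinj, hΦsurj⟩), Nat.card_prod, hcardU,
    natCard_submodule, hSd]

theorem card_tsFrames_q (Q : QuadraticForm F V) (hV : NonDeg (QuadraticMap.polarBilin Q) ⊤) (e : ℕ)
    (hd : finrank F V = 2 * e) (cnt : ℕ → ℕ)
    (hcnt : ∀ U : Submodule F V, NonDeg (QuadraticMap.polarBilin Q) U → ∀ e' : ℕ,
      finrank F U = 2 * e' → (PlusOn Q U ↔ PlusOn Q ⊤) →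
      Nat.card {x : V // x ∈ U ∧ x ≠ 0 ∧ Q x = 0} = cnt e')
    (hcancel : ∀ U0 U1 : Submodule F V, NonDeg (QuadraticMap.polarBilin Q) U0 →
      NonDeg (QuadraticMap.polarBilin Q) U1 → Ort (QuadraticMap.polarBilin Q) U0 U1 →
      U0 ⊔ U1 = ⊤ → PlusOn Q U1 → PlusOn Q ⊤ → PlusOn Q U0) : ∀ k : ℕ, k ≤ e →
    Nat.card {s : Fin k → V // IsTSFrame Q s} =
      ∏ j ∈ Finset.range k, (Fintype.card F ^ j * cnt (e - j)) := by
  classical
  haveI : Finite V := Module.finite_of_finite F
  intro k
  induction k with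
  | zero =>
    intro _
    rw [Finset.prod_range_zero]
    haveI : Unique {s : Fin 0 → V // IsTSFrame Q s} :=
      { default := ⟨fun a => a.elim0, ⟨linearIndependent_empty_type, fun a => a.elim0⟩,
          fun a => a.elim0⟩
        uniq := fun s => Subtype.ext (funext fun a => a.elim0) }
    exact Nat.card_unique
  | succ k ih =>
    intro hk
    let e' : {s : Fin (k + 1) → V // IsTSFrame Q s} ≃
        Σ s : {s : Fin k → V // IsTSFrame Q s},
          {x : V // (∀ a, QuadraticMap.polarBilin Q (s.1 a) x = 0) ∧ Q x = 0 ∧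
            x ∉ Submodule.span F (Set.range s.1)} :=
      { toFun := fun s => ⟨⟨Fin.tail s.1,
            ((isTSFrame_cons_iff Q (Fin.tail s.1) (s.1 0)).mp
              (by rw [Fin.cons_self_tail]; exact s.2)).1⟩,
          ⟨s.1 0, ((isTSFrame_cons_iff Q (Fin.tail s.1) (s.1 0)).mp
              (by rw [Fin.cons_self_tail]; exact s.2)).2⟩⟩
        invFun := fun s => ⟨Fin.cons s.2.1 s.1.1,
          (isTSFrame_cons_iff Q s.1.1 s.2.1).mpr ⟨s.1.2, s.2.2⟩⟩
        left_inv := fun s => by simp only [Fin.cons_self_tail, Subtype.coe_eta]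
        right_inv := fun ⟨⟨s, hs⟩, ⟨x, hx⟩⟩ =>
          sigma_subtype_ext (Q := fun (s : Fin k → V) (x : V) =>
            (∀ a, QuadraticMap.polarBilin Q (s a) x = 0) ∧ Q x = 0 ∧
              x ∉ Submodule.span F (Set.range s)) _ _ _ _ _ _ _ _
            (show Fin.tail (Fin.cons x s : Fin (k + 1) → V) = s from Fin.tail_cons _ _)
            (show (Fin.cons x s : Fin (k + 1) → V) 0 = x from Fin.cons_zero _ _) }
    rw [Nat.card_congr e']
    haveI : Fintype {s : Fin k → V // IsTSFrame Q s} := Fintype.ofFinite _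
    rw [Nat.card_sigma]
    rw [Finset.sum_congr rfl
        (fun s _ => card_fiber_q Q hV e hd cnt hcnt hcancel (by omega) s.1 s.2),
      Finset.sum_const, Finset.card_univ, ← Nat.card_eq_fintype_card, ih (by omega),
      Finset.prod_range_succ, smul_eq_mul]

theorem card_tsFrames_q_eq_mul (Q : QuadraticForm F V) (m : ℕ) :
    Nat.card {s : Fin m → V // IsTSFrame Q s} =
      Nat.card {W : Submodule F V // finrank F W = m ∧ TS Q W} *
        ∏ j ∈ Finset.range m, (Fintype.card F ^ m - Fintype.card F ^ j) := by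
  classical
  haveI : Finite V := Module.finite_of_finite F
  let fmap : {s : Fin m → V // IsTSFrame Q s} → {W : Submodule F V // finrank F W = m ∧ TS Q W} :=
    fun s => ⟨Submodule.span F (Set.range s.1),
      by rw [finrank_span_eq_card s.2.1.1, Fintype.card_fin], ts_span_of_frame Q s.1 s.2⟩
  rw [← Nat.card_congr (Equiv.sigmaFiberEquiv fmap)]
  haveI : Fintype {W : Submodule F V // finrank F W = m ∧ TS Q W} := Fintype.ofFinite _
  rw [Nat.card_sigma]
  have hfib : ∀ W : {W : Submodule F V // finrank F W = m ∧ TS Q W},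
      Nat.card {s : {s : Fin m → V // IsTSFrame Q s} // fmap s = W} =
        ∏ j ∈ Finset.range m, (Fintype.card F ^ m - Fintype.card F ^ j) := by
    intro W
    let e : {s : {s : Fin m → V // IsTSFrame Q s} // fmap s = W} ≃
        {t : Fin m → W.1 // LinearIndependent F t} :=
      { toFun := fun s => ⟨fun a => ⟨s.1.1 a, by
            have h1 : Submodule.span F (Set.range s.1.1) = W.1 := congrArg Subtype.val s.2
            rw [← h1]
            exact Submodule.subset_span ⟨a, rfl⟩⟩, by
            apply LinearIndependent.of_comp W.1.subtype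
            exact s.1.2.1.1⟩
        invFun := fun t => ⟨⟨fun a => (t.1 a : V),
            ⟨t.2.map' W.1.subtype (Submodule.ker_subtype W.1),
              fun a b => W.2.2.ort _ (t.1 a).2 _ (t.1 b).2⟩,
            fun a => W.2.2 _ (t.1 a).2⟩, by
            apply Subtype.ext
            show Submodule.span F (Set.range fun a => (t.1 a : V)) = W.1
            have h1 : (Set.range fun a => (t.1 a : V)) = W.1.subtype '' Set.range t.1 := by
              rw [← Set.range_comp]
              rfl
            rw [h1, Submodule.span_image,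
              LinearIndependent.span_eq_top_of_card_eq_finrank' t.2
                (by rw [Fintype.card_fin, W.2.1]),
              Submodule.map_subtype_top]⟩
        left_inv := fun s => by
          apply Subtype.ext
          apply Subtype.ext
          rfl
        right_inv := fun t => by
          apply Subtype.ext
          funext a
          rfl }
    rw [Nat.card_congr e, card_linearIndependent (by rw [W.2.1]), W.2.1,
      Fin.prod_univ_eq_prod_range (fun j => Fintype.card F ^ m - Fintype.card F ^ j) m]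
  rw [Finset.sum_congr rfl (fun W _ => hfib W), Finset.sum_const, Finset.card_univ,
    ← Nat.card_eq_fintype_card, smul_eq_mul]

theorem prod_reflect_q (q m : ℕ) :
    ∏ j ∈ Finset.range m, (q ^ (m - j) - 1) = ∏ j ∈ Finset.range m, (q ^ (j + 1) - 1) := by
  rw [← Finset.prod_range_reflect (fun j => q ^ (j + 1) - 1) m]
  apply Finset.prod_congr rfl
  intro j hj
  have hj' : j < m := Finset.mem_range.mp hj
  congr 2
  omega

/-- **the abstract count**: the number `N` of totally singular `m`-spaces (`m ≤ e`) satisfies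
`N * ∏_{j<m} (q^(j+1) - 1) = ∏_{j<m} cnt (e - j)` -/
theorem card_ts_mul_q (Q : QuadraticForm F V) (hV : NonDeg (QuadraticMap.polarBilin Q) ⊤) (e : ℕ)
    (hd : finrank F V = 2 * e) (cnt : ℕ → ℕ)
    (hcnt : ∀ U : Submodule F V, NonDeg (QuadraticMap.polarBilin Q) U → ∀ e' : ℕ,
      finrank F U = 2 * e' → (PlusOn Q U ↔ PlusOn Q ⊤) →
      Nat.card {x : V // x ∈ U ∧ x ≠ 0 ∧ Q x = 0} = cnt e')
    (hcancel : ∀ U0 U1 : Submodule F V, NonDeg (QuadraticMap.polarBilin Q) U0 →
      NonDeg (QuadraticMap.polarBilin Q) U1 → Ort (QuadraticMap.polarBilin Q) U0 U1 →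
      U0 ⊔ U1 = ⊤ → PlusOn Q U1 → PlusOn Q ⊤ → PlusOn Q U0) (m : ℕ) (hm : m ≤ e) :
    Nat.card {W : Submodule F V // finrank F W = m ∧ TS Q W} *
        ∏ j ∈ Finset.range m, (Fintype.card F ^ (j + 1) - 1) =
      ∏ j ∈ Finset.range m, cnt (e - j) := by
  have hq : 1 ≤ Fintype.card F := Fintype.card_pos
  have h := card_tsFrames_q_eq_mul Q m
  rw [card_tsFrames_q Q hV e hd cnt hcnt hcancel m hm, Finset.prod_mul_distrib,
    prod_split2 _ m hq, prod_reflect_q] at h
  have hpos : 0 < ∏ j ∈ Finset.range m, Fintype.card F ^ j :=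
    Finset.prod_pos fun j _ => pow_pos hq j
  apply Nat.eq_of_mul_eq_mul_left hpos
  rw [h]
  ring

end Count

end Cfsg.Agent.Lib.Helper21.OTs
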