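import Cfsg.Agent.Lib.Helper21.OTsC1a
import Cfsg.Agent.Lib.Helper50.PlusForm
import Cfsg.Agent.Lib.Helper50.TypeCriteria

/-!
# K-OTs-C1 (keystone 597320, architect helper99), part b: the number of totally singular `m`-spaces of the
standard plus type space, with leaves O3 (`card_singular`) and O6 (`plusOn_cancel`) as hypotheses.
-/

set_option autoImplicit false
set_option linter.unusedSectionVars false
set_option linter.unusedVariables false

namespace Cfsg.Agent.Lib.Helper21.OTs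

open Module Cfsg.Agent.Lib.Helper98.Elus Cfsg.Agent.Lib.Helper98.Sy Cfsg.Agent.Lib.Helper99.OTs

universe u
variable {F : Type u} [Field F]

theorem nonDeg_QPlus (d : ℕ) :
    NonDeg (QuadraticMap.polarBilin (Cfsg.Agent.Lib.Helper50.QPlus d F)) ⊤ := by
  have h : (QuadraticMap.polarBilin (Cfsg.Agent.Lib.Helper50.QPlus d F)).Nondegenerate :=
    Cfsg.Agent.Lib.Helper50.QPlus_nondegenerate
  intro u _ hu
  exact h.1 u (fun w => hu w Submodule.mem_top)

theorem finrank_plus_space (d : ℕ) : finrank F (Fin d ⊕ Fin d → F) = 2 * d := by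
  rw [Module.finrank_pi, Fintype.card_sum, Fintype.card_fin]
  omega

theorem plusOn_QPlus (d : ℕ) : PlusOn (Cfsg.Agent.Lib.Helper50.QPlus d F) ⊤ := by
  obtain ⟨X, hXd, hX⟩ := Cfsg.Agent.Lib.Helper50.exists_totally_singular_of_plusType
    (Cfsg.Agent.Lib.Helper50.QPlus d F) d ⟨LinearEquiv.refl F _, fun v => rfl⟩
  refine ⟨X, le_top, hX, ?_⟩
  rw [hXd, finrank_top, finrank_plus_space]

/-- hypothesis form of `card_ts_plus` (C1): `hO3` is the plus half of leaf O3 `card_singular`, `hO6` is leaf O6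
`plusOn_cancel`, both for `Q := Helper50.QPlus d F` only -/
theorem card_ts_plus_of [Fintype F] (d m : ℕ) (hmd : m ≤ d)
    (hO3 : ∀ U : Submodule F (Fin d ⊕ Fin d → F),
      NonDeg (QuadraticMap.polarBilin (Cfsg.Agent.Lib.Helper50.QPlus d F)) U → ∀ e : ℕ,
      finrank F U = 2 * e → PlusOn (Cfsg.Agent.Lib.Helper50.QPlus d F) U →
      Nat.card {x : Fin d ⊕ Fin d → F // x ∈ U ∧ x ≠ 0 ∧
          Cfsg.Agent.Lib.Helper50.QPlus d F x = 0} =
        (Fintype.card F ^ e - 1) * (Fintype.card F ^ (e - 1) + 1))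
    (hO6 : ∀ U0 U1 : Submodule F (Fin d ⊕ Fin d → F),
      NonDeg (QuadraticMap.polarBilin (Cfsg.Agent.Lib.Helper50.QPlus d F)) U0 →
      NonDeg (QuadraticMap.polarBilin (Cfsg.Agent.Lib.Helper50.QPlus d F)) U1 →
      Ort (QuadraticMap.polarBilin (Cfsg.Agent.Lib.Helper50.QPlus d F)) U0 U1 →
      U0 ⊔ U1 = ⊤ → PlusOn (Cfsg.Agent.Lib.Helper50.QPlus d F) U1 →
      PlusOn (Cfsg.Agent.Lib.Helper50.QPlus d F) ⊤ →
      PlusOn (Cfsg.Agent.Lib.Helper50.QPlus d F) U0) :
    Nat.card {W : Submodule F (Fin d ⊕ Fin d → F) // Module.finrank F ↥W = m ∧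
        (∀ w ∈ W, Cfsg.quadFormPlus d F w = 0)} *
      ∏ j ∈ Finset.range m, (Fintype.card F ^ (j + 1) - 1) =
    ∏ j ∈ Finset.range m, ((Fintype.card F ^ (d - j) - 1) * (Fintype.card F ^ (d - j - 1) + 1)) := by
  have hp := plusOn_QPlus (F := F) d
  exact card_ts_mul_q (Cfsg.Agent.Lib.Helper50.QPlus d F) (nonDeg_QPlus d) d (finrank_plus_space d)
    (fun e => (Fintype.card F ^ e - 1) * (Fintype.card F ^ (e - 1) + 1))
    (fun U hU e hUd htype => hO3 U hU e hUd (htype.mpr hp)) hO6 m hmd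

end Cfsg.Agent.Lib.Helper21.OTs
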