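import Cfsg.Agent.Lib.Helper21.OTsC1a
import Cfsg.Agent.Lib.Helper50.MinusLang
import Cfsg.Agent.Lib.Helper50.TypeCriteria
import Cfsg.Agent.Lib.Helper79.OTsO3
import Cfsg.Agent.Lib.Helper63.OTsO6

/-!
# K-OTs-C2 (keystone 597321, architect helper99; parallel hand of helper9): `card_ts_minus`, the number of
totally singular `m`-spaces of the standard minus type space, from the abstract count `card_ts_mul_q`.
-/

set_option autoImplicit false
set_option linter.unusedSectionVars false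
set_option linter.unusedVariables false

namespace Cfsg.Agent.Lib.Helper21.OTs

open Module Cfsg.Agent.Lib.Helper98.Elus Cfsg.Agent.Lib.Helper98.Sy Cfsg.Agent.Lib.Helper99.OTs
open scoped Matrix MatrixGroups

universe u
variable {F : Type u} [Field F] {V : Type u} [AddCommGroup V] [Module F V]

theorem finrank_minus_space (k : ℕ) : finrank F ((Fin k ⊕ Fin k) ⊕ Fin 2 → F) = 2 * (k + 1) := by
  rw [Module.finrank_pi, Fintype.card_sum, Fintype.card_sum, Fintype.card_fin, Fintype.card_fin]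
  omega

theorem nonDeg_QMinus [Fintype F] (k : ℕ) (a b : F)
    (hab : ∀ x y : F, x ^ 2 + a * x * y + b * y ^ 2 = 0 → x = 0 ∧ y = 0) :
    NonDeg (QuadraticMap.polarBilin (Cfsg.Agent.Lib.Helper50.QMinus k F a b)) ⊤ := by
  have h := Cfsg.Agent.Lib.Helper50.QMinus_nondeg_of_anis k a b hab
  intro u _ hu
  exact h.1 u (fun w => hu w Submodule.mem_top)

theorem not_plusOn_QMinus [Fintype F] (k : ℕ) (a b : F)
    (hab : ∀ x y : F, x ^ 2 + a * x * y + b * y ^ 2 = 0 → x = 0 ∧ y = 0) :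
    ¬ PlusOn (Cfsg.Agent.Lib.Helper50.QMinus k F a b) ⊤ := by
  rintro ⟨Z, -, hZts, hZd⟩
  rw [finrank_top, finrank_minus_space] at hZd
  have hnd := Cfsg.Agent.Lib.Helper50.QMinus_nondeg_of_anis k a b hab
  have hp : Cfsg.Agent.Lib.Helper50.IsPlusType (Cfsg.Agent.Lib.Helper50.QMinus k F a b) (k + 1) :=
    Cfsg.Agent.Lib.Helper50.plusType_of_totally_singular (k + 1) _
      (Cfsg.Agent.Lib.Helper50.QND_of_nondegenerate _ hnd) (finrank_minus_space k) Z (by omega)
      hZts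
  exact Cfsg.Agent.Lib.Helper50.not_plus_of_anis a b (Cfsg.Agent.Lib.Helper50.QMinus k F a b) k
    (LinearEquiv.refl F _) (fun v => rfl) hab hp

theorem card_ts_minus [Fintype F] (d m : ℕ) (hd : 4 ≤ d) (hm : 1 ≤ m) (hmd : m + 1 ≤ d) (a b : F)
    (hab : ∀ x y : F, x ^ 2 + a * x * y + b * y ^ 2 = 0 → x = 0 ∧ y = 0) :
    Nat.card {W : Submodule F ((Fin (d - 1) ⊕ Fin (d - 1)) ⊕ Fin 2 → F) // Module.finrank F ↥W = m ∧
        Cfsg.Geo.IsTotallySingularQuad (Cfsg.quadFormMinus (d - 1) F a b) W} *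
      ∏ j ∈ Finset.range m, (Fintype.card F ^ (j + 1) - 1) =
    ∏ j ∈ Finset.range m, ((Fintype.card F ^ (d - j) + 1) * (Fintype.card F ^ (d - j - 1) - 1)) := by
  have hnp := not_plusOn_QMinus (d - 1) a b hab
  have hV := nonDeg_QMinus (d - 1) a b hab
  have hfr : finrank F ((Fin (d - 1) ⊕ Fin (d - 1)) ⊕ Fin 2 → F) = 2 * d := by
    rw [finrank_minus_space]
    omega
  exact card_ts_mul_q (Cfsg.Agent.Lib.Helper50.QMinus (d - 1) F a b) hV d hfr
    (fun e => (Fintype.card F ^ e + 1) * (Fintype.card F ^ (e - 1) - 1))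
    (fun U hU e hUd htype =>
      (Cfsg.Agent.Lib.Helper79.OTs.card_singular (Cfsg.Agent.Lib.Helper50.QMinus (d - 1) F a b) U hU e
        hUd).2 (fun hp => hnp (htype.mp hp)))
    (fun U0 U1 h0 h1 hort hsup hp1 hp =>
      Cfsg.Agent.Lib.Helper63.OTs.plusOn_cancel (Cfsg.Agent.Lib.Helper50.QMinus (d - 1) F a b) hV
        U0 U1 h0 h1 hort hsup hp1 hp) m (by omega)

end Cfsg.Agent.Lib.Helper21.OTs
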