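import Cfsg.Agent.Lib.Helper21.OhPT0

/-!
# K-OhP-N (keystone 597422, architect helper38): normalisation of an element of `Ω` with scalar `r`-th power
-/

set_option autoImplicit false
set_option linter.unusedSectionVars false
set_option linter.unusedVariables false

namespace Cfsg.Agent.Lib.Helper21.OhP

open Module Cfsg.Agent.Lib.Helper98.Elus Cfsg.Agent.Lib.Helper98.Sy Cfsg.Agent.Lib.Helper38.OhP

universe u
variable {F : Type u} [Field F] {V : Type u} [AddCommGroup V] [Module F V]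

/-- a vector of norm one for the standard plus form -/
theorem exists_Q0_eq_one (d : ℕ) (hd : 1 ≤ d) : ∃ v : Fin d ⊕ Fin d → F, Q0 d F v = 1 := by
  classical
  refine ⟨Pi.single (Sum.inl ⟨0, hd⟩) 1 + Pi.single (Sum.inr ⟨0, hd⟩) 1, ?_⟩
  rw [Cfsg.Agent.Lib.Helper50.QPlus_apply]
  rw [Finset.sum_eq_single (⟨0, hd⟩ : Fin d)]
  · simp
  · intro i _ hi
    have h1 : (Sum.inl i : Fin d ⊕ Fin d) ≠ Sum.inl ⟨0, hd⟩ := fun h => hi (Sum.inl_injective h)
    simp [Pi.single_apply, h1]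
  · intro h
    exact absurd (Finset.mem_univ _) h

theorem scalar_sq_eq_one (d : ℕ) (hd : 1 ≤ d) (x : GL (Fin d ⊕ Fin d) F)
    (hx : x ∈ Cfsg.Geo.omegaGL (Cfsg.quadFormPlus d F)) (k : ℕ) (z : F)
    (hz : ((x ^ k : GL (Fin d ⊕ Fin d) F) : Matrix (Fin d ⊕ Fin d) (Fin d ⊕ Fin d) F) =
      z • (1 : Matrix (Fin d ⊕ Fin d) (Fin d ⊕ Fin d) F)) : z * z = 1 := by
  have h := qiso_of_mem_omegaGL d (x ^ k) (Subgroup.pow_mem _ hx k)
  obtain ⟨v, hv⟩ := exists_Q0_eq_one (F := F) d hd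
  have h1 := h v
  rw [hz, map_smul, Matrix.toLin'_one, LinearMap.smul_apply, LinearMap.id_apply,
    QuadraticMap.map_smul, hv, smul_eq_mul, mul_one] at h1
  exact h1

theorem exists_normalized (d : ℕ) (hd : 1 ≤ d) (r : ℕ) (hr : Odd r) (x : GL (Fin d ⊕ Fin d) F)
    (hx : x ∈ Cfsg.Geo.omegaGL (Cfsg.quadFormPlus d F)) (z : F)
    (hz : ((x ^ r : GL (Fin d ⊕ Fin d) F) : Matrix (Fin d ⊕ Fin d) (Fin d ⊕ Fin d) F) =
      z • (1 : Matrix (Fin d ⊕ Fin d) (Fin d ⊕ Fin d) F))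
    (hns : ∀ z : F, (x : Matrix (Fin d ⊕ Fin d) (Fin d ⊕ Fin d) F) ≠
      z • (1 : Matrix (Fin d ⊕ Fin d) (Fin d ⊕ Fin d) F)) :
    ∃ y : (Fin d ⊕ Fin d → F) →ₗ[F] (Fin d ⊕ Fin d → F), QIso (Q0 d F) y ∧ y ^ r = 1 ∧ y ≠ 1 ∧
      ∀ W : Submodule F (Fin d ⊕ Fin d → F), Inv y W →
        W.map (Matrix.toLin' (x : Matrix (Fin d ⊕ Fin d) (Fin d ⊕ Fin d) F)) ≤ W := by
  have hzz : z * z = 1 := scalar_sq_eq_one d hd x hx r z hz
  set X : (Fin d ⊕ Fin d → F) →ₗ[F] (Fin d ⊕ Fin d → F) :=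
    Matrix.toLin' (x : Matrix (Fin d ⊕ Fin d) (Fin d ⊕ Fin d) F) with hX
  have hXiso : QIso (Q0 d F) X := qiso_of_mem_omegaGL d x hx
  have hXr : X ^ r = z • 1 := by
    rw [hX, ← Matrix.toLin'_pow, ← Units.val_pow_eq_pow_val, hz, map_smul, Matrix.toLin'_one]
    rfl
  refine ⟨z • X, ?_, ?_, ?_, ?_⟩
  · intro v
    rw [LinearMap.smul_apply, QuadraticMap.map_smul, hzz, one_smul]
    exact hXiso v
  · rw [smul_pow, hXr, smul_smul, ← pow_succ]
    obtain ⟨k, hk⟩ := hr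
    have : r + 1 = 2 * (k + 1) := by omega
    rw [this, pow_mul, pow_two, hzz, one_pow, one_smul]
  · intro h1
    have h2 : X = z • 1 := by
      have := congrArg (fun t => z • t) h1
      simp only [smul_smul, hzz, one_smul] at this
      exact this
    apply hns z
    apply Matrix.toLin'.injective
    rw [map_smul, Matrix.toLin'_one]
    exact h2
  · intro W hW
    rintro _ ⟨w, hw, rfl⟩
    have h1 : (z • X) w ∈ W := hW w hw
    have h2 : z • ((z • X) w) ∈ W := W.smul_mem z h1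
    rw [LinearMap.smul_apply, smul_smul, hzz, one_smul] at h2
    exact h2

end Cfsg.Agent.Lib.Helper21.OhP
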