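import Mathlib

/-!
# K-PG2 leaf F3240 (S3452): the Frobenius group `3⁴ : (5 : 8)` has the spectrum of `PGL₂(9)`
-/

set_option autoImplicit false
set_option linter.unusedSectionVars false
set_option linter.unusedVariables false

namespace Cfsg.Agent.Lib.Helper21.PG2

open Matrix

abbrev F4M : Type := Matrix (Fin 4) (Fin 4) (ZMod 3)
abbrev F4V : Type := Fin 4 → ZMod 3

/-- multiplication by `ζ¹⁶` on `F₈₁ = F₃[x]/(x⁴+x+2)` -/
def f4A : F4M := !![2,2,0,1; 1,0,2,2; 0,1,0,2; 2,0,1,0]
/-- `v ↦ ζ v³` -/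
def f4B : F4M := !![0,1,2,1; 1,2,1,2; 0,0,0,1; 0,0,1,1]

theorem f4A_pow : f4A ^ 5 = 1 := by decide +kernel
theorem f4B_pow : f4B ^ 8 = 1 := by decide +kernel

/-- the elements `a^i b^j` as matrices -/
def f4E (i : Fin 5) (j : Fin 8) : F4M := f4A ^ (i : ℕ) * f4B ^ (j : ℕ)

theorem f4_closed_A : ∀ i j, ∃ i' j', f4A * f4E i j = f4E i' j' := by decide +kernel
theorem f4_closed_B : ∀ i j, ∃ i' j', f4B * f4E i j = f4E i' j' := by decide +kernel
theorem f4_closed_A' : ∀ i j, ∃ i' j', f4A ^ 4 * f4E i j = f4E i' j' := by decide +kernel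
theorem f4_closed_B' : ∀ i j, ∃ i' j', f4B ^ 7 * f4E i j = f4E i' j' := by decide +kernel
theorem f4_order : ∀ i j, f4E i j ^ 8 = 1 ∨ f4E i j ^ 10 = 1 := by decide +kernel
theorem f4_fpf : ∀ i j, (i ≠ 0 ∨ j ≠ 0) → ∀ v : F4V, f4E i j *ᵥ v = v → v = 0 := by
  decide +kernel

def f4a : F4Mˣ := ⟨f4A, f4A ^ 4, by rw [← pow_succ']; exact f4A_pow, by rw [← pow_succ]; exact f4A_pow⟩
def f4b : F4Mˣ := ⟨f4B, f4B ^ 7, by rw [← pow_succ']; exact f4B_pow, by rw [← pow_succ]; exact f4B_pow⟩

/-- the complement `5 : 8` -/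
def f4C : Subgroup F4Mˣ := Subgroup.closure {f4a, f4b}

theorem f4a_mem : f4a ∈ f4C := Subgroup.subset_closure (by simp)
theorem f4b_mem : f4b ∈ f4C := Subgroup.subset_closure (by simp)

theorem f4C_enum : ∀ c ∈ f4C, ∃ i j, (c : F4M) = f4E i j := by
  intro c hc
  induction hc using Subgroup.closure_induction_left with
  | one => exact ⟨0, 0, by simp [f4E]⟩
  | mul_left x hx y hy ih =>
    obtain ⟨i, j, hij⟩ := ih
    simp only [Set.mem_insert_iff, Set.mem_singleton_iff] at hx
    rcases hx with rfl | rfl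
    · obtain ⟨i', j', h⟩ := f4_closed_A i j
      exact ⟨i', j', by rw [Units.val_mul, hij, ← h]; rfl⟩
    · obtain ⟨i', j', h⟩ := f4_closed_B i j
      exact ⟨i', j', by rw [Units.val_mul, hij, ← h]; rfl⟩
  | inv_mul_cancel x hx y hy ih =>
    obtain ⟨i, j, hij⟩ := ih
    simp only [Set.mem_insert_iff, Set.mem_singleton_iff] at hx
    rcases hx with rfl | rfl
    · obtain ⟨i', j', h⟩ := f4_closed_A' i j
      exact ⟨i', j', by rw [Units.val_mul, hij, ← h]; rfl⟩
    · obtain ⟨i', j', h⟩ := f4_closed_B' i j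
      exact ⟨i', j', by rw [Units.val_mul, hij, ← h]; rfl⟩

/-- the action of a unit on the vectors -/
def f4Equiv (u : F4Mˣ) : F4V ≃+ F4V where
  toFun v := u.1 *ᵥ v
  invFun v := u⁻¹.1 *ᵥ v
  left_inv v := by
    show u⁻¹.1 *ᵥ (u.1 *ᵥ v) = v
    rw [Matrix.mulVec_mulVec, ← Units.val_mul, inv_mul_cancel, Units.val_one, Matrix.one_mulVec]
  right_inv v := by
    show u.1 *ᵥ (u⁻¹.1 *ᵥ v) = v
    rw [Matrix.mulVec_mulVec, ← Units.val_mul, mul_inv_cancel, Units.val_one, Matrix.one_mulVec]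
  map_add' v w := Matrix.mulVec_add _ v w

def f4rho : F4Mˣ →* MulAut (Multiplicative F4V) where
  toFun u := AddEquiv.toMultiplicative (f4Equiv u)
  map_one' := by
    refine MulEquiv.ext (fun W => ?_)
    show Multiplicative.ofAdd ((1 : F4Mˣ).1 *ᵥ (Multiplicative.toAdd W)) = W
    rw [Units.val_one, Matrix.one_mulVec]; rfl
  map_mul' g h := by
    refine MulEquiv.ext (fun W => ?_)
    show Multiplicative.ofAdd ((g * h).1 *ᵥ (Multiplicative.toAdd W)) =
      Multiplicative.ofAdd (g.1 *ᵥ (h.1 *ᵥ (Multiplicative.toAdd W)))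
    rw [Matrix.mulVec_mulVec, Units.val_mul]

theorem f4rho_apply (u : F4Mˣ) (v : F4V) :
    f4rho u (Multiplicative.ofAdd v) = Multiplicative.ofAdd (u.1 *ᵥ v) := rfl

def f4phi : ↥f4C →* MulAut (Multiplicative F4V) := f4rho.comp f4C.subtype

abbrev F4G : Type := Multiplicative F4V ⋊[f4phi] ↥f4C

theorem f4_fixed (c : ↥f4C) (hc : c ≠ 1) (w : Multiplicative F4V) (hw : f4phi c w = w) : w = 1 := by
  obtain ⟨i, j, hij⟩ := f4C_enum c.1 c.2
  have hne : i ≠ 0 ∨ j ≠ 0 := by
    by_contra h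
    obtain ⟨h1, h2⟩ := not_or.1 h
    rw [not_not] at h1 h2
    apply hc
    apply Subtype.ext
    apply Units.ext
    rw [hij, h1, h2]
    simp [f4E]
  have h1 : (c.1 : F4M) *ᵥ (Multiplicative.toAdd w) = Multiplicative.toAdd w := by
    have := congrArg Multiplicative.toAdd hw
    exact this
  rw [hij] at h1
  have := f4_fpf i j hne _ h1
  exact this

section SDP
variable {N G : Type*} [CommGroup N] [Group G] (φ : G →* MulAut N)

theorem f4_sdp_pow_right (h : N ⋊[φ] G) (m : ℕ) : (h ^ m).right = h.right ^ m :=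
  map_pow (SemidirectProduct.rightHom : N ⋊[φ] G →* G) h m

theorem f4_sdp_exists_fixed (h : N ⋊[φ] G) (m : ℕ) (hm : h.right ^ m = 1) :
    ∃ w : N, h ^ m = SemidirectProduct.inl w ∧ φ h.right w = w := by
  have hr : (h ^ m).right = 1 := by rw [f4_sdp_pow_right, hm]
  refine ⟨(h ^ m).left, ?_, ?_⟩
  · ext
    · simp
    · simp [hr]
  · have hc : h * h ^ m = h ^ m * h := (Commute.refl h).pow_right m
    have h1 := congrArg SemidirectProduct.left hc
    simp only [SemidirectProduct.mul_left, hr, map_one, MulAut.one_apply] at h1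
    have h2 : h.left * φ h.right (h ^ m).left = h.left * (h ^ m).left := by
      rw [h1, mul_comm]
    exact mul_left_cancel h2

theorem f4_sdp_orderOf (hfix : ∀ c : G, c ≠ 1 → ∀ w : N, φ c w = w → w = 1) (h : N ⋊[φ] G)
    (hh : h.right ≠ 1) : orderOf h = orderOf h.right := by
  apply Nat.dvd_antisymm
  · apply orderOf_dvd_of_pow_eq_one
    obtain ⟨w, hw, hw2⟩ := f4_sdp_exists_fixed φ h (orderOf h.right) (pow_orderOf_eq_one _)
    rw [hw, hfix _ hh w hw2, map_one]
  · exact orderOf_map_dvd (SemidirectProduct.rightHom : N ⋊[φ] G →* G) h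

theorem f4_sdp_orderOf_inr (g : G) : orderOf (SemidirectProduct.inr g : N ⋊[φ] G) = orderOf g :=
  orderOf_injective (SemidirectProduct.inr : G →* N ⋊[φ] G) SemidirectProduct.inr_injective g

end SDP

theorem f4_orderOf_C (c : ↥f4C) : orderOf c ∈ ({1, 2, 4, 5, 8, 10} : Set ℕ) := by
  obtain ⟨i, j, hij⟩ := f4C_enum c.1 c.2
  have hpow : ∀ n : ℕ, (f4E i j) ^ n = 1 → c ^ n = 1 := by
    intro n hn
    apply Subtype.ext
    apply Units.ext
    rw [Subgroup.coe_pow, Units.val_pow_eq_pow_val, hij, hn]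
    rfl
  rcases f4_order i j with h | h
  · have hd : orderOf c ∣ 8 := orderOf_dvd_of_pow_eq_one (hpow 8 h)
    have hm : orderOf c ∈ Nat.divisors 8 := Nat.mem_divisors.2 ⟨hd, by norm_num⟩
    have : Nat.divisors 8 = {1, 2, 4, 8} := by decide
    rw [this] at hm
    simp only [Finset.mem_insert, Finset.mem_singleton] at hm
    rcases hm with h | h | h | h <;> rw [h] <;> simp
  · have hd : orderOf c ∣ 10 := orderOf_dvd_of_pow_eq_one (hpow 10 h)
    have hm : orderOf c ∈ Nat.divisors 10 := Nat.mem_divisors.2 ⟨hd, by norm_num⟩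
    have : Nat.divisors 10 = {1, 2, 5, 10} := by decide
    rw [this] at hm
    simp only [Finset.mem_insert, Finset.mem_singleton] at hm
    rcases hm with h | h | h | h <;> rw [h] <;> simp

theorem f4_orderOf_G (h : F4G) : orderOf h ∈ ({1, 2, 3, 4, 5, 8, 10} : Set ℕ) := by
  by_cases hr : h.right = 1
  · have h3 : h ^ 3 = 1 := by
      have hh : h = SemidirectProduct.inl h.left := by
        ext
        · simp
        · simp [hr]
      rw [hh, ← map_pow]
      have : h.left ^ 3 = 1 := by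
        show Multiplicative.ofAdd ((3 : ℕ) • Multiplicative.toAdd h.left) = 1
        have h0 : (3 : ℕ) • Multiplicative.toAdd h.left = 0 := by
          ext k
          simp only [Pi.smul_apply, Pi.zero_apply, nsmul_eq_mul]
          have : ((3 : ℕ) : ZMod 3) = 0 := by decide
          rw [this, zero_mul]
        rw [h0]; rfl
      rw [this, map_one]
    have hd : orderOf h ∣ 3 := orderOf_dvd_of_pow_eq_one h3
    rcases (Nat.dvd_prime Nat.prime_three).1 hd with h1 | h1 <;> rw [h1] <;> simp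
  · rw [f4_sdp_orderOf f4phi f4_fixed h hr]
    have := f4_orderOf_C h.right
    simp only [Set.mem_insert_iff, Set.mem_singleton_iff] at this ⊢
    tauto

theorem f4_orderOf_unit (u : ↥f4C) (n : ℕ) (h : orderOf (u.1.1 : F4M) = n) :
    orderOf (SemidirectProduct.inr u : F4G) = n := by
  rw [f4_sdp_orderOf_inr, ← Subgroup.orderOf_coe, ← orderOf_units, h]


theorem f4_ordA : orderOf f4A = 5 :=
  (orderOf_eq_iff (by norm_num)).2 ⟨by decide +kernel, by decide +kernel⟩
theorem f4_ordB : orderOf f4B = 8 :=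
  (orderOf_eq_iff (by norm_num)).2 ⟨by decide +kernel, by decide +kernel⟩
theorem f4_ordB2 : orderOf (f4B ^ 2) = 4 :=
  (orderOf_eq_iff (by norm_num)).2 ⟨by decide +kernel, by decide +kernel⟩
theorem f4_ordB4 : orderOf (f4B ^ 4) = 2 :=
  (orderOf_eq_iff (by norm_num)).2 ⟨by decide +kernel, by decide +kernel⟩
theorem f4_ordAB4 : orderOf (f4A * f4B ^ 4) = 10 :=
  (orderOf_eq_iff (by norm_num)).2 ⟨by decide +kernel, by decide +kernel⟩

/-- a non-zero vector -/
def f4e : F4V := ![1, 0, 0, 0]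

theorem f4e_ne : Multiplicative.ofAdd f4e ≠ 1 := by
  intro h
  have h1 : f4e = 0 := h
  have h2 : f4e 0 = 0 := by rw [h1]; rfl
  revert h2
  decide

theorem f4_inl_pow_three (w : Multiplicative F4V) : (SemidirectProduct.inl w : F4G) ^ 3 = 1 := by
  rw [← map_pow]
  have : w ^ 3 = 1 := by
    show Multiplicative.ofAdd ((3 : ℕ) • Multiplicative.toAdd w) = 1
    have h0 : (3 : ℕ) • Multiplicative.toAdd w = 0 := by
      ext k
      simp only [Pi.smul_apply, Pi.zero_apply, nsmul_eq_mul]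
      have : ((3 : ℕ) : ZMod 3) = 0 := by decide
      rw [this, zero_mul]
    rw [h0]; rfl
  rw [this, map_one]

theorem exists_spec_pgl29 : ∃ (G : Type) (_ : Group G) (_ : Finite G) (K : Subgroup G),
    K.Normal ∧ K ≠ ⊥ ∧ Group.IsSolvable ↥K ∧ Set.range (orderOf : G → ℕ) = {1, 2, 3, 4, 5, 8, 10} := by
  have hfin : Finite F4G := Finite.of_equiv _ SemidirectProduct.equivProd.symm
  refine ⟨F4G, inferInstance, hfin, (SemidirectProduct.inl : Multiplicative F4V →* F4G).range,
    ?_, ?_, ?_, ?_⟩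
  · rw [SemidirectProduct.range_inl_eq_ker_rightHom]
    exact MonoidHom.normal_ker _
  · intro h
    have hmem : (SemidirectProduct.inl (Multiplicative.ofAdd f4e) : F4G) ∈
        (SemidirectProduct.inl : Multiplicative F4V →* F4G).range := ⟨_, rfl⟩
    rw [h, Subgroup.mem_bot] at hmem
    have h1 : (SemidirectProduct.inl (Multiplicative.ofAdd f4e) : F4G) = SemidirectProduct.inl 1 := by
      rw [hmem, map_one]
    exact f4e_ne (SemidirectProduct.inl_injective h1)
  · apply Group.isSolvable_of_comm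
    rintro ⟨_, ⟨v, rfl⟩⟩ ⟨_, ⟨w, rfl⟩⟩
    apply Subtype.ext
    show (SemidirectProduct.inl v : F4G) * SemidirectProduct.inl w =
      SemidirectProduct.inl w * SemidirectProduct.inl v
    rw [← map_mul, ← map_mul, mul_comm]
  · have key : ∀ (u : F4Mˣ) (hu : u ∈ f4C) (n : ℕ), orderOf (u : F4M) = n →
        n ∈ Set.range (orderOf : F4G → ℕ) :=
      fun u hu n h => ⟨SemidirectProduct.inr ⟨u, hu⟩, f4_orderOf_unit ⟨u, hu⟩ n h⟩
    apply Set.Subset.antisymm
    · rintro n ⟨h, rfl⟩
      exact f4_orderOf_G h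
    · intro n hn
      simp only [Set.mem_insert_iff, Set.mem_singleton_iff] at hn
      rcases hn with rfl | rfl | rfl | rfl | rfl | rfl | rfl
      · exact ⟨1, orderOf_one⟩
      · exact key (f4b ^ 4) (pow_mem f4b_mem 4) 2 (by rw [Units.val_pow_eq_pow_val]; exact f4_ordB4)
      · refine ⟨SemidirectProduct.inl (Multiplicative.ofAdd f4e), ?_⟩
        have : Fact (Nat.Prime 3) := ⟨Nat.prime_three⟩
        apply orderOf_eq_prime (f4_inl_pow_three _)
        intro h1
        have h2 : (SemidirectProduct.inl (Multiplicative.ofAdd f4e) : F4G) =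
            SemidirectProduct.inl 1 := by rw [h1, map_one]
        exact f4e_ne (SemidirectProduct.inl_injective h2)
      · exact key (f4b ^ 2) (pow_mem f4b_mem 2) 4 (by rw [Units.val_pow_eq_pow_val]; exact f4_ordB2)
      · exact key f4a f4a_mem 5 f4_ordA
      · exact key f4b f4b_mem 8 f4_ordB
      · exact key (f4a * f4b ^ 4) (mul_mem f4a_mem (pow_mem f4b_mem 4)) 10
          (by rw [Units.val_mul, Units.val_pow_eq_pow_val]; exact f4_ordAB4)

end Cfsg.Agent.Lib.Helper21.PG2
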