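import Mathlib

/-!
# K-PG2 leaf UNIP (S3452): the trace class function sums to zero over cosets of subgroups of order `p`
-/

set_option autoImplicit false
set_option linter.unusedSectionVars false
set_option linter.unusedVariables false

namespace Cfsg.Agent.Lib.Helper21.PG2

open Matrix

/-- the discriminant is a square when the trace of `n g` vanishes -/
theorem unip_sq_aux {F : Type*} [Field F] (a b c α β γ δ : F) (h2 : a ^ 2 + b * c = 0)
    (h3 : α * δ - β * γ = 1) (h4 : a * (α - δ) + b * γ + c * β = 0)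
    (hne : ¬ (a = 0 ∧ b = 0 ∧ c = 0)) : IsSquare ((α + δ) ^ 2 - 4) := by
  by_cases hb : b = 0
  · by_cases hc : c = 0
    · exfalso
      apply hne
      refine ⟨?_, hb, hc⟩
      rw [hb, hc] at h2
      simpa using h2
    · refine ⟨(c * (α - δ) - 2 * a * γ) / c, ?_⟩
      rw [div_mul_div_comm, eq_div_iff (mul_ne_zero hc hc)]
      linear_combination (4 * c ^ 2) * h3 + (4 * c * γ) * h4 - (4 * γ ^ 2) * h2
  · refine ⟨(b * (α - δ) - 2 * a * β) / b, ?_⟩
    rw [div_mul_div_comm, eq_div_iff (mul_ne_zero hb hb)]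
    linear_combination (4 * b ^ 2) * h3 + (4 * b * β) * h4 - (4 * β ^ 2) * h2

/-- 2×2 Cayley–Hamilton -/
theorem unip_ch {F : Type*} [Field F] (N : Matrix (Fin 2) (Fin 2) F) :
    N * N = N.trace • N - N.det • (1 : Matrix (Fin 2) (Fin 2) F) := by
  ext i j
  fin_cases i <;> fin_cases j <;>
    simp [Matrix.mul_apply, Fin.sum_univ_two, Matrix.trace_fin_two, Matrix.det_fin_two] <;> ring

/-- a nilpotent non-zero 2×2 matrix has trace `0`, determinant `0` and square `0` -/
theorem unip_nil {F : Type*} [Field F] (N : Matrix (Fin 2) (Fin 2) F) (k : ℕ) (hN : N ^ k = 0) :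
    N.trace = 0 ∧ N.det = 0 ∧ N * N = 0 := by
  have hnil : IsNilpotent N := ⟨k, hN⟩
  have h1 : N.trace = 0 := (Matrix.isNilpotent_trace_of_isNilpotent hnil).eq_zero
  have h2 : N.det = 0 := by
    have : IsNilpotent N.det := by
      refine ⟨k, ?_⟩
      rw [← Matrix.det_pow, hN]
      by_cases hk : k = 0
      · subst hk
        simp at hN
      · simp
    exact this.eq_zero
  refine ⟨h1, h2, ?_⟩
  rw [unip_ch, h1, h2]
  simp

/-- counting over `range p` is counting over `ZMod p` -/
theorem unip_card_range (p : ℕ) [Fact p.Prime] (P : ZMod p → Prop) [DecidablePred P]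
    [DecidablePred (fun i : ℕ => P (i : ZMod p))] :
    ((Finset.range p).filter (fun i : ℕ => P (i : ZMod p))).card =
      (Finset.univ.filter P).card := by
  apply Finset.card_bij (t := Finset.univ.filter P) (fun (i : ℕ) _ => ((i : ℕ) : ZMod p))
  · intro i hi
    simp only [Finset.mem_filter, Finset.mem_range] at hi
    simp [hi.2]
  · intro i hi j hj h
    simp only [Finset.mem_filter, Finset.mem_range] at hi hj
    have := (ZMod.natCast_eq_natCast_iff' i j p).1 h
    rwa [Nat.mod_eq_of_lt hi.1, Nat.mod_eq_of_lt hj.1] at this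
  · intro x hx
    simp only [Finset.mem_filter, Finset.mem_univ, true_and] at hx
    refine ⟨x.val, ?_, ?_⟩
    · simp only [Finset.mem_filter, Finset.mem_range]
      refine ⟨ZMod.val_lt x, ?_⟩
      rwa [ZMod.natCast_zmod_val]
    · exact ZMod.natCast_zmod_val x

/-- matrix form, `M ^ p = 1` -/
theorem unip_even_mat (p : ℕ) [Fact p.Prime] (hp : p ≠ 2) (t0 : ZMod p) (ht0 : t0 ≠ 0)
    (hns : ¬ IsSquare (t0 ^ 2 - 4)) (M G : Matrix (Fin 2) (Fin 2) (ZMod p))
    (hM : M ^ p = 1) (hne : M ≠ 1) (hG : G.det = 1) :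
    Even (Finset.card ((Finset.range p).filter (fun i => ((M ^ i * G).trace) ^ 2 = t0 ^ 2))) := by
  set N : Matrix (Fin 2) (Fin 2) (ZMod p) := M - 1 with hNdef
  have hNp : N ^ p = 0 := by
    rw [hNdef, sub_pow_char_of_commute _ (Commute.one_right M), hM, one_pow, sub_self]
  obtain ⟨htr, hdet, hNN⟩ := unip_nil N p hNp
  have hN0 : N ≠ 0 := by
    intro h
    apply hne
    rw [hNdef, sub_eq_zero] at h
    exact h
  have hMN : M = 1 + N := by rw [hNdef]; abel
  have hpow : ∀ i : ℕ, M ^ i = 1 + (i : ZMod p) • N := by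
    intro i
    induction i with
    | zero => simp
    | succ i ih =>
      rw [pow_succ, ih, hMN]
      simp only [Matrix.add_mul, Matrix.mul_add, Matrix.one_mul, Matrix.mul_one, Matrix.smul_mul,
        hNN, smul_zero, add_zero, Nat.cast_succ, add_smul, one_smul]
      abel
  set τ := G.trace with hτ
  set c := (N * G).trace with hc
  have htrace : ∀ i : ℕ, (M ^ i * G).trace = τ + (i : ZMod p) * c := by
    intro i
    rw [hpow i, Matrix.add_mul, Matrix.one_mul, Matrix.smul_mul, Matrix.trace_add, Matrix.trace_smul,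
      smul_eq_mul]
  have hfilter : (Finset.range p).filter (fun i => ((M ^ i * G).trace) ^ 2 = t0 ^ 2) =
      (Finset.range p).filter (fun i : ℕ => (τ + (i : ZMod p) * c) ^ 2 = t0 ^ 2) := by
    apply Finset.filter_congr
    intro i _
    rw [htrace i]
  rw [hfilter]
  have h2ne : (2 : ZMod p) ≠ 0 := by
    intro h
    have h' : ((2 : ℕ) : ZMod p) = 0 := by exact_mod_cast h
    rw [ZMod.natCast_eq_zero_iff] at h'
    have hp' : (2 : ℕ).Prime := Nat.prime_two
    have := (Nat.prime_dvd_prime_iff_eq (Fact.out : p.Prime) hp').1 h'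
    exact hp this
  by_cases hc0 : c = 0
  · -- the trace is constant
    have hsq : IsSquare (τ ^ 2 - 4) := by
      have h3 : G 0 0 * G 1 1 - G 0 1 * G 1 0 = 1 := by rw [← Matrix.det_fin_two]; exact hG
      have h2 : (N 0 0) ^ 2 + N 0 1 * N 1 0 = 0 := by
        rw [Matrix.trace_fin_two] at htr
        rw [Matrix.det_fin_two] at hdet
        have e : N 1 1 = - N 0 0 := by linear_combination htr
        rw [e] at hdet
        linear_combination -hdet
      have h4 : N 0 0 * (G 0 0 - G 1 1) + N 0 1 * G 1 0 + N 1 0 * G 0 1 = 0 := by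
        have h := hc0
        rw [hc, Matrix.trace_fin_two] at h
        simp only [Matrix.mul_apply, Fin.sum_univ_two] at h
        rw [Matrix.trace_fin_two] at htr
        have e : N 1 1 = - N 0 0 := by linear_combination htr
        rw [e] at h
        linear_combination h
      have hne3 : ¬ (N 0 0 = 0 ∧ N 0 1 = 0 ∧ N 1 0 = 0) := by
        rintro ⟨ha, hb, hc'⟩
        apply hN0
        rw [Matrix.trace_fin_two] at htr
        have e : N 1 1 = 0 := by linear_combination htr - ha
        ext i j
        fin_cases i <;> fin_cases j <;> simp [ha, hb, hc', e]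
      have := unip_sq_aux (N 0 0) (N 0 1) (N 1 0) (G 0 0) (G 0 1) (G 1 0) (G 1 1) h2 h3 h4 hne3
      rw [hτ, Matrix.trace_fin_two]
      exact this
    have hτne : τ ^ 2 ≠ t0 ^ 2 := by
      intro h
      apply hns
      rw [← h]
      exact hsq
    have : (Finset.range p).filter (fun i : ℕ => (τ + (i : ZMod p) * c) ^ 2 = t0 ^ 2) = ∅ := by
      apply Finset.filter_false_of_mem
      intro i _
      rw [hc0, mul_zero, add_zero]
      exact hτne
    rw [this]
    simp
  · -- exactly two solutions
    rw [unip_card_range p (fun x : ZMod p => (τ + x * c) ^ 2 = t0 ^ 2)]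
    have hset : (Finset.univ.filter (fun x : ZMod p => (τ + x * c) ^ 2 = t0 ^ 2)) =
        {(t0 - τ) / c, (-t0 - τ) / c} := by
      ext x
      simp only [Finset.mem_filter, Finset.mem_univ, true_and, Finset.mem_insert,
        Finset.mem_singleton]
      constructor
      · intro h
        have h' : (τ + x * c - t0) * (τ + x * c + t0) = 0 := by linear_combination h
        rcases mul_eq_zero.1 h' with h1 | h1
        · left
          rw [eq_div_iff hc0]
          linear_combination h1
        · right
          rw [eq_div_iff hc0]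
          linear_combination h1
      · rintro (h | h)
        · rw [h, div_mul_cancel₀ _ hc0]
          ring
        · rw [h, div_mul_cancel₀ _ hc0]
          ring
    rw [hset, Finset.card_pair]
    · exact even_two
    · intro h
      rw [div_left_inj' hc0] at h
      have : 2 * t0 = 0 := by linear_combination h
      rcases mul_eq_zero.1 this with h1 | h1
      · exact h2ne h1
      · exact ht0 h1

theorem unip_even (p : ℕ) [Fact p.Prime] (hp : p ≠ 2) (t0 : ZMod p) (ht0 : t0 ≠ 0)
    (hns : ¬ IsSquare (t0 ^ 2 - 4)) (K g : Matrix.SpecialLinearGroup (Fin 2) (ZMod p))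
    (hK : (K ^ p).1 = 1 ∨ (K ^ p).1 = -1) (hne : K.1 ≠ 1) (hne' : K.1 ≠ -1) :
    Even (Finset.card ((Finset.range p).filter (fun i => ((K ^ i * g).1.trace) ^ 2 = t0 ^ 2))) := by
  have hpodd : Odd p := (Fact.out : p.Prime).odd_of_ne_two hp
  have hcoe : ∀ i : ℕ, (K ^ i * g).1 = K.1 ^ i * g.1 := by
    intro i
    rw [Matrix.SpecialLinearGroup.coe_mul, Matrix.SpecialLinearGroup.coe_pow]
  have hg : g.1.det = 1 := g.2
  rcases hK with hK | hK
  · rw [Matrix.SpecialLinearGroup.coe_pow] at hK
    have := unip_even_mat p hp t0 ht0 hns K.1 g.1 hK hne hg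
    convert this using 4 with i
    rw [hcoe i]
  · rw [Matrix.SpecialLinearGroup.coe_pow] at hK
    have hK' : (-K.1) ^ p = 1 := by
      rw [Odd.neg_pow hpodd, hK, neg_neg]
    have hne2 : -K.1 ≠ 1 := by
      intro h
      apply hne'
      rw [← h, neg_neg]
    have := unip_even_mat p hp t0 ht0 hns (-K.1) g.1 hK' hne2 hg
    convert this using 4 with i
    rw [hcoe i, neg_pow]
    rcases neg_one_pow_eq_or (Matrix (Fin 2) (Fin 2) (ZMod p)) i with h | h
    · rw [h, one_mul]
    · rw [h, neg_one_mul, Matrix.neg_mul, Matrix.trace_neg, neg_sq]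

end Cfsg.Agent.Lib.Helper21.PG2
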