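import Mathlib
import Cfsg.Prelude.Def_Blocks
import Cfsg.Agent.Lib.Helper21.RegularPart
import Cfsg.Agent.Lib.Helper21.InducedSum
import Cfsg.Agent.Lib.Helper21.OsimaApps
import Cfsg.Agent.Lib.Helper21.HKLocal
import Cfsg.Agent.S0963

/-!
# Blocks of principal type over an invariant character of a normal `p'`-subgroup

`K ⊴ G` a `p'`-group, `θ ∈ Irr(K)` `G`-invariant, `B = Irr(G | θ)` a block.  If a block `f` of a
subgroup `H` induces `B`, then `f` lies over a character `ξ₀` of `H ∩ K` whose multiplicity in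
`θ_{H ∩ K}` is prime to `p`.
-/

set_option autoImplicit false
set_option linter.unusedSectionVars false
set_option linter.style.haveILetI false

namespace Cfsg.Agent.Lib.Helper21

open Cfsg
open scoped ComplexConjugate
open Cfsg.Agent.Lib.Helper82 Cfsg.Agent.Lib.Helper83 Cfsg.Agent.Lib.Helper84
open Cfsg.Agent.Lib.Helper81 (irrComp irrComp_apply irrComp_symm_irrComp irrComp_irrComp_symm
  mem_blockOf_irrComp_iff omega_comp)

universe u
variable {G : Type u} [Group G] [Fintype G]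
variable {p : ℕ} [Fact p.Prime] {M : Ideal AlgInt}

/-- The central character of `χ` over `θ ∈ Irr(N)` on a class function supported on `N ⊴ G`. -/
theorem omega_eq_of_vanish_off (N : Subgroup G) [N.Normal] [Fintype N] (χ : IrrCharacter G)
    (θ : IrrCharacter N)
    (hc : classInner (fun n : N => (χ : G → ℂ) n) (θ : N → ℂ) ≠ 0) {f : G → ℂ}
    (hf : IsClassFunction G f) (hoff : ∀ g, g ∉ N → f g = 0) :
    omega f (χ : G → ℂ) = omega (fun n : N => f n) (θ : N → ℂ) := by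
  classical
  haveI : Fintype (ConjClasses G) := Fintype.ofFinite _
  rw [omega_eq_sum_classes hf (isClassFunction_irr χ), ← sum_classes_mul_induced N hf]
  apply Finset.sum_congr rfl
  intro L _
  by_cases hL : Quotient.out L ∈ N
  · have := (Cfsg.Agent.S0963.result N χ θ).1 hc ⟨_, hL⟩
    rw [this]
  · rw [hoff _ hL, zero_mul, zero_mul]

variable (K : Subgroup G) [Fintype K]

/-- The coefficient function of the idempotent `e_θ = θ(1)/|K| Σ_k θ(k⁻¹) k`. -/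
noncomputable def eFun (θ : K → ℂ) : G → ℂ := by
  classical
  exact fun g => if h : g ∈ K then (θ 1 * conj (θ ⟨g, h⟩)) / (Nat.card K : ℂ) else 0

theorem eFun_of_mem (θ : K → ℂ) {g : G} (h : g ∈ K) :
    eFun K θ g = θ 1 * conj (θ ⟨g, h⟩) / (Nat.card K : ℂ) := by
  unfold eFun
  rw [dif_pos h]

theorem eFun_of_not_mem (θ : K → ℂ) {g : G} (h : g ∉ K) : eFun K θ g = 0 := by
  unfold eFun
  rw [dif_neg h]

theorem eFun_isClassFunction [hK : K.Normal] (θ : K → ℂ)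
    (hinv : ∀ (g : G) (n : K), θ ⟨g * n * g⁻¹, hK.conj_mem n n.2 g⟩ = θ n) :
    IsClassFunction G (eFun K θ) := by
  intro g h
  by_cases hg : g ∈ K
  · rw [eFun_of_mem K θ hg, eFun_of_mem K θ (hK.conj_mem g hg h)]
    have := hinv h ⟨g, hg⟩
    rw [this]
  · have hg' : h * g * h⁻¹ ∉ K := by
      intro hc
      apply hg
      have := hK.conj_mem _ hc h⁻¹
      simpa [mul_assoc] using this
    rw [eFun_of_not_mem K θ hg, eFun_of_not_mem K θ hg']

theorem eFun_memLocalRing (hM : IsPModular p M) (hpK : ¬ p ∣ Nat.card K) (θ : IrrCharacter K)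
    (g : G) : MemLocalRing M (eFun K (θ : K → ℂ) g) := by
  have hprime : M.IsPrime := hM.2.1.isPrime
  by_cases hg : g ∈ K
  · rw [eFun_of_mem K _ hg, div_eq_mul_inv]
    apply memLocalRing_mul hprime
    · apply memLocalRing_mul hprime
      · exact memLocalRing_of_isIntegral hprime
          (IsCharacter.isIntegral (isCharacter_of_irr θ.2) 1)
      · exact memLocalRing_of_isIntegral hprime
          (map_isIntegral_int (starRingEnd ℂ) (IsCharacter.isIntegral (isCharacter_of_irr θ.2) _))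
    · apply memLocalRing_inv (memLocalRing_natCast hprime _)
      rw [memLocalIdeal_natCast_iff hM]
      exact hpK
  · rw [eFun_of_not_mem K _ hg]
    exact memLocalRing_zero hprime

/-- `ω_θ(e_θ) = 1`. -/
theorem omega_eFun_self (θ : IrrCharacter K) :
    omega (fun k : K => eFun K (θ : K → ℂ) k) (θ : K → ℂ) = 1 := by
  have h1 : (θ : K → ℂ) 1 ≠ 0 := IsIrrCharacter.apply_one_ne_zero θ.2
  have hcard : (Nat.card K : ℂ) ≠ 0 := by
    exact_mod_cast Nat.card_pos.ne'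
  have horth : classInner (θ : K → ℂ) (θ : K → ℂ) = 1 := by
    rw [irr_orthonormal, if_pos rfl]
  unfold classInner at horth
  rw [omega, div_eq_iff h1, one_mul]
  have : ∀ k : K, eFun K (θ : K → ℂ) k * (θ : K → ℂ) k =
      (θ : K → ℂ) 1 * ((Nat.card K : ℂ)⁻¹ * ((θ : K → ℂ) k * conj ((θ : K → ℂ) k))) := by
    intro k
    rw [eFun_of_mem K _ k.2]
    simp only [Subtype.coe_eta]
    field_simp
  rw [Finset.sum_congr rfl (fun k _ => this k), ← Finset.mul_sum, ← Finset.mul_sum, horth, mul_one]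

/-- `ω_χ(e_θ) = 1` for `χ` over the invariant character `θ`. -/
theorem omega_eFun_of_over [hK : K.Normal] (θ : IrrCharacter K)
    (hinv : ∀ (g : G) (n : K),
      (θ : K → ℂ) ⟨g * n * g⁻¹, hK.conj_mem n n.2 g⟩ = (θ : K → ℂ) n)
    (χ : IrrCharacter G)
    (hc : classInner (fun n : K => (χ : G → ℂ) n) (θ : K → ℂ) ≠ 0) :
    omega (eFun K (θ : K → ℂ)) (χ : G → ℂ) = 1 := by
  rw [omega_eq_of_vanish_off K χ θ hc (eFun_isClassFunction K _ hinv)
    (fun g hg => eFun_of_not_mem K _ hg)]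
  exact omega_eFun_self K θ

/-- The value of `ω_{ξ₀}` on the restriction of `e_θ` to `H ∩ K`. -/
theorem omega_eFun_inf (θ : IrrCharacter K) (H : Subgroup G) [Fintype ↥(H ⊓ K)]
    (ξ₀ : IrrCharacter ↥(H ⊓ K)) (m : ℕ)
    (hm : classInner (fun c : ↥(H ⊓ K) => (θ : K → ℂ) ⟨c, (inf_le_right : H ⊓ K ≤ K) c.2⟩)
      (ξ₀ : ↥(H ⊓ K) → ℂ) = m) :
    omega (fun l : ↥(H ⊓ K) => eFun K (θ : K → ℂ) (l : G)) (ξ₀ : ↥(H ⊓ K) → ℂ) =
      (m : ℂ) * (((charDegree (θ : K → ℂ) * Nat.card ↥(H ⊓ K) : ℕ) : ℂ) /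
        ((Nat.card K * charDegree (ξ₀ : ↥(H ⊓ K) → ℂ) : ℕ) : ℂ)) := by
  have h1 : (ξ₀ : ↥(H ⊓ K) → ℂ) 1 ≠ 0 := IsIrrCharacter.apply_one_ne_zero ξ₀.2
  have hcardK : (Nat.card K : ℂ) ≠ 0 := by
    exact_mod_cast Nat.card_pos.ne'
  have hcardI : (Nat.card ↥(H ⊓ K) : ℂ) ≠ 0 := by
    exact_mod_cast Nat.card_pos.ne'
  have hm' := congrArg (starRingEnd ℂ) hm
  unfold classInner at hm'
  rw [map_mul, map_inv₀, map_natCast, map_natCast, map_sum] at hm'
  have hsum : ∑ l : ↥(H ⊓ K), conj ((θ : K → ℂ) ⟨l, (inf_le_right : H ⊓ K ≤ K) l.2⟩) *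
      (ξ₀ : ↥(H ⊓ K) → ℂ) l = (Nat.card ↥(H ⊓ K) : ℂ) * m := by
    rw [← hm', ← mul_assoc, mul_inv_cancel₀ hcardI, one_mul]
    apply Finset.sum_congr rfl
    intro l _
    rw [map_mul, Complex.conj_conj]
  have hval : ∀ l : ↥(H ⊓ K), eFun K (θ : K → ℂ) (l : G) * (ξ₀ : ↥(H ⊓ K) → ℂ) l =
      ((θ : K → ℂ) 1 / (Nat.card K : ℂ)) *
        (conj ((θ : K → ℂ) ⟨l, (inf_le_right : H ⊓ K ≤ K) l.2⟩) * (ξ₀ : ↥(H ⊓ K) → ℂ) l) := by
    intro l
    rw [eFun_of_mem K _ ((inf_le_right : H ⊓ K ≤ K) l.2)]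
    ring
  rw [omega, Finset.sum_congr rfl (fun l _ => hval l), ← Finset.mul_sum, hsum]
  push_cast
  rw [charDegree_cast (isCharacter_of_irr θ.2), charDegree_cast (isCharacter_of_irr ξ₀.2)]
  field_simp

/-- **Key lemma.** If a block `f` of `H` induces a block `B ⊆ Irr(G | θ)` (`θ` an invariant
character of the normal `p'`-subgroup `K`), then every `ξ₀ ∈ Irr(H ∩ K)` under `f` has multiplicity
prime to `p` in `θ_{H ∩ K}`. -/
theorem not_dvd_mult_of_induced [hK : K.Normal] (hM : IsPModular p M)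
    (hpK : ¬ p ∣ Nat.card K) (θ : IrrCharacter K)
    (hinv : ∀ (g : G) (n : K),
      (θ : K → ℂ) ⟨g * n * g⁻¹, hK.conj_mem n n.2 g⟩ = (θ : K → ℂ) n)
    (H : Subgroup G) [Fintype H] [Fintype ↥(H ⊓ K)]
    {f : Set (IrrCharacter H)} {B : Set (IrrCharacter G)} (hind : IsInducedBlock M H f B)
    (hB : ∀ χ ∈ B, classInner (fun n : K => (χ : G → ℂ) n) (θ : K → ℂ) ≠ 0)
    {ψ : IrrCharacter H} (hψ : ψ ∈ f) (ξ₀ : IrrCharacter ↥(H ⊓ K))
    (hcon : classInner (fun l : ↥(H ⊓ K) => (ψ : H → ℂ) (Subgroup.inclusion inf_le_left l))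
      (ξ₀ : ↥(H ⊓ K) → ℂ) ≠ 0)
    (m : ℕ)
    (hm : classInner (fun c : ↥(H ⊓ K) => (θ : K → ℂ) ⟨c, (inf_le_right : H ⊓ K ≤ K) c.2⟩)
      (ξ₀ : ↥(H ⊓ K) → ℂ) = m) :
    ¬ p ∣ m := by
  classical
  have hp : p.Prime := hM.1
  have hprime : M.IsPrime := hM.2.1.isPrime
  obtain ⟨χ, hχ⟩ := IsPBlock.nonempty hprime hind.2.1
  have hf := eFun_isClassFunction K (θ : K → ℂ) hinv
  have hfR := eFun_memLocalRing K hM hpK θ
  have h1 := omega_restrict_sub_memLocalIdeal H hprime hind hψ hχ hf hfR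
  rw [omega_eFun_of_over K θ hinv χ (hB χ hχ)] at h1
  -- move to the normal subgroup `(H ⊓ K).subgroupOf H` of `H`
  haveI : Fintype ((H ⊓ K).subgroupOf H) := Fintype.ofFinite _
  haveI hnorm : ((H ⊓ K).subgroupOf H).Normal := inf_subgroupOf_normal (N := K) H
  set e := Subgroup.subgroupOfEquivOfLe (inf_le_left : H ⊓ K ≤ H) with he
  have hc' : classInner (fun n' : (H ⊓ K).subgroupOf H => (ψ : H → ℂ) (n' : H))
      (irrComp e ξ₀ : (H ⊓ K).subgroupOf H → ℂ) ≠ 0 := by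
    rw [classInner_incl_transport (N := K) H (ψ : H → ℂ) ξ₀]
    exact hcon
  have hfH : IsClassFunction H (fun h : H => eFun K (θ : K → ℂ) (h : G)) := by
    intro g h
    exact hf (g : G) (h : G)
  have hoff : ∀ h : H, h ∉ (H ⊓ K).subgroupOf H → eFun K (θ : K → ℂ) (h : G) = 0 := by
    intro h hh
    apply eFun_of_not_mem
    intro hk
    apply hh
    rw [Subgroup.mem_subgroupOf]
    exact ⟨h.2, hk⟩
  have h2 := omega_eq_of_vanish_off ((H ⊓ K).subgroupOf H) ψ (irrComp e ξ₀) hc' hfH hoff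
  have h3 : omega (fun n' : (H ⊓ K).subgroupOf H => eFun K (θ : K → ℂ) ((n' : H) : G))
      (irrComp e ξ₀ : (H ⊓ K).subgroupOf H → ℂ) =
      omega (fun l : ↥(H ⊓ K) => eFun K (θ : K → ℂ) (l : G)) (ξ₀ : ↥(H ⊓ K) → ℂ) :=
    omega_comp e (fun l : ↥(H ⊓ K) => eFun K (θ : K → ℂ) (l : G)) (ξ₀ : ↥(H ⊓ K) → ℂ)
  rw [h2, h3, omega_eFun_inf K θ H ξ₀ m hm] at h1
  intro hdvd
  have hden : (Nat.card K * charDegree (ξ₀ : ↥(H ⊓ K) → ℂ)) ≠ 0 :=
    mul_ne_zero Nat.card_pos.ne' (charDegree_ne_zero' ξ₀)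
  have hpden : ¬ p ∣ Nat.card K * charDegree (ξ₀ : ↥(H ⊓ K) → ℂ) := by
    intro h
    rcases (Nat.Prime.dvd_mul hp).1 h with h | h
    · exact hpK h
    · exact hpK (dvd_trans h (dvd_trans (irr_charDegree_dvd_card ξ₀)
        (Subgroup.card_dvd_of_le (inf_le_right : H ⊓ K ≤ K))))
  have hR : MemLocalRing M (((charDegree (θ : K → ℂ) * Nat.card ↥(H ⊓ K) : ℕ) : ℂ) /
        ((Nat.card K * charDegree (ξ₀ : ↥(H ⊓ K) → ℂ) : ℕ) : ℂ)) := by
    apply memLocalRing_natCast_div hM hden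
    rw [Nat.factorization_eq_zero_of_not_dvd hpden]
    exact Nat.zero_le _
  have hI : MemLocalIdeal M ((m : ℂ) * (((charDegree (θ : K → ℂ) * Nat.card ↥(H ⊓ K) : ℕ) : ℂ) /
        ((Nat.card K * charDegree (ξ₀ : ↥(H ⊓ K) → ℂ) : ℕ) : ℂ))) :=
    memLocalIdeal_mul_right hprime ((memLocalIdeal_natCast_iff hM m).2 hdvd) hR
  have := memLocalIdeal_sub hprime hI h1
  rw [sub_sub_cancel] at this
  exact not_memLocalIdeal_one hprime this

end Cfsg.Agent.Lib.Helper21
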