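import Mathlib
import Cfsg.Prelude.Def_Blocks
import Cfsg.Agent.Lib.Helper21.PrincipalType
import Cfsg.Agent.Lib.Helper21.CentInduced
import Cfsg.Agent.Lib.Helper21.CentCore
import Cfsg.Agent.Lib.Helper21.FongConstrained
import Cfsg.Agent.Lib.Helper21.HKConj
import Cfsg.Agent.Lib.Helper04.GlaubInd
import Cfsg.Agent.Lib.Helper04.GlaubCons
import Cfsg.Agent.Lib.Helper85.CliffordCorr

/-!
# Blocks of principal type in `p`-constrained groups

`G` `p`-constrained, `K = O_{p'}(G)`, `θ ∈ Irr(K)` `G`-invariant, `B = Irr(G | θ)`.  For every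
`p`-subgroup `R`, exactly one block of `C_G(R)` induces `B`.
-/

set_option autoImplicit false
set_option linter.unusedSectionVars false
set_option linter.style.haveILetI false

namespace Cfsg.Agent.Lib.Helper21

open Cfsg
open scoped ComplexConjugate
open Cfsg.Agent.Lib.Helper82 Cfsg.Agent.Lib.Helper83 Cfsg.Agent.Lib.Helper84
open Cfsg.Agent.Lib.Helper81 (irrComp irrComp_apply irrComp_symm_irrComp irrComp_irrComp_symm
  mem_blockOf_irrComp_iff omega_comp)

universe u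
variable {G : Type u} [Group G] [Fintype G]
variable {p : ℕ} [Fact p.Prime] {M : Ideal AlgInt}

/-- **Glauberman uniqueness**: for a `p`-group `R` normalizing the `p'`-group `K` and an
`R`-invariant `θ ∈ Irr(K)`, at most one irreducible character of `C_K(R)` has multiplicity prime
to `p` in `θ`. -/
theorem glauberman_unique (K R : Subgroup G) [Fintype ↥(Subgroup.centralizer (R : Set G) ⊓ K)]
    (hRK : ∀ s ∈ R, ∀ g ∈ K, s * g * s⁻¹ ∈ K) (hcop : (Nat.card K).Coprime p)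
    (hR : IsPGroup p R) (θ : IrrCharacter K)
    (hθ : ∀ s ∈ R, ∀ g g' : K, (g' : G) = s * g * s⁻¹ → (θ : K → ℂ) g' = (θ : K → ℂ) g)
    (β₁ β₂ : IrrCharacter ↥(Subgroup.centralizer (R : Set G) ⊓ K)) (m₁ m₂ : ℕ)
    (h₁ : classInner (fun c : ↥(Subgroup.centralizer (R : Set G) ⊓ K) =>
      (θ : K → ℂ) ⟨c, (inf_le_right : Subgroup.centralizer (R : Set G) ⊓ K ≤ K) c.2⟩)
        (β₁ : ↥(Subgroup.centralizer (R : Set G) ⊓ K) → ℂ) = m₁)
    (h₂ : classInner (fun c : ↥(Subgroup.centralizer (R : Set G) ⊓ K) =>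
      (θ : K → ℂ) ⟨c, (inf_le_right : Subgroup.centralizer (R : Set G) ⊓ K ≤ K) c.2⟩)
        (β₂ : ↥(Subgroup.centralizer (R : Set G) ⊓ K) → ℂ) = m₂)
    (hp₁ : ¬ p ∣ m₁) (hp₂ : ¬ p ∣ m₂) : β₁ = β₂ := by
  obtain ⟨k, hk⟩ := hR.exists_card_eq
  have hcorr := Cfsg.Agent.Lib.Helper04.glaub_rel p k K R ⊥
    (Subgroup.centralizer (R : Set G) ⊓ K) inf_le_right hRK (fun _ => hcop) bot_le
    (fun s _ t ht => by
      rw [Subgroup.mem_bot] at ht ⊢
      rw [ht]; group)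
    (fun t ht g _ => by
      rw [Subgroup.mem_bot] at ht
      rw [ht]; group)
    (by rw [Subgroup.relIndex_bot_left, hk]) (inf_comm _ _)
  obtain ⟨f, _, hf⟩ := hcorr
  have key : ∀ (β : IrrCharacter ↥(Subgroup.centralizer (R : Set G) ⊓ K)) (m : ℕ),
      classInner (fun c : ↥(Subgroup.centralizer (R : Set G) ⊓ K) =>
        (θ : K → ℂ) ⟨c, (inf_le_right : Subgroup.centralizer (R : Set G) ⊓ K ≤ K) c.2⟩)
          (β : ↥(Subgroup.centralizer (R : Set G) ⊓ K) → ℂ) = m → ¬ p ∣ m → β = f ⟨θ, hθ⟩ := by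
    intro β m hm hpm
    obtain ⟨m', hm', hcase⟩ := hf ⟨θ, hθ⟩ β
    have : m' = m := by
      have := hm'.symm.trans hm
      exact_mod_cast this
    subst this
    rcases hcase with h | h
    · exact h.1
    · exact absurd h.2 hpm
  rw [key β₁ m₁ h₁ hp₁, key β₂ m₂ h₂ hp₂]

/-- the restriction of `θ` to `H ⊓ K` is invariant under conjugation by `H`, so multiplicities
are too. -/
theorem classInner_res_conjInf (K : Subgroup G) [hK : K.Normal] [Fintype K] (θ : IrrCharacter K)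
    (hinv : ∀ (g : G) (n : K),
      (θ : K → ℂ) ⟨g * n * g⁻¹, hK.conj_mem n n.2 g⟩ = (θ : K → ℂ) n)
    (H : Subgroup G) [Fintype ↥(H ⊓ K)] (h : G) (hh : h ∈ H) (ξ : IrrCharacter ↥(H ⊓ K)) :
    classInner (fun c : ↥(H ⊓ K) => (θ : K → ℂ) ⟨c, (inf_le_right : H ⊓ K ≤ K) c.2⟩)
      (irrComp (conjInf (N := K) H h hh) ξ : ↥(H ⊓ K) → ℂ) =
    classInner (fun c : ↥(H ⊓ K) => (θ : K → ℂ) ⟨c, (inf_le_right : H ⊓ K ≤ K) c.2⟩)
      (ξ : ↥(H ⊓ K) → ℂ) := by
  have h1 := Cfsg.Agent.Lib.Helper85.classInner_comp_mulEquiv (conjInf (N := K) H h hh)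
    (fun c : ↥(H ⊓ K) => (θ : K → ℂ) ⟨c, (inf_le_right : H ⊓ K ≤ K) c.2⟩)
    (ξ : ↥(H ⊓ K) → ℂ)
  rw [← h1]
  have h2 : (fun c : ↥(H ⊓ K) => (θ : K → ℂ) ⟨c, (inf_le_right : H ⊓ K ≤ K) c.2⟩) =
      (fun c : ↥(H ⊓ K) => (θ : K → ℂ) ⟨(conjInf (N := K) H h hh c : ↥(H ⊓ K)),
        (inf_le_right : H ⊓ K ≤ K) (conjInf (N := K) H h hh c).2⟩) := by
    funext c
    exact (hinv h ⟨c, (inf_le_right : H ⊓ K ≤ K) c.2⟩).symm
  have h3 : (irrComp (conjInf (N := K) H h hh) ξ : ↥(H ⊓ K) → ℂ) =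
      fun c => (ξ : ↥(H ⊓ K) → ℂ) (conjInf (N := K) H h hh c) := by
    funext c
    rw [irrComp_apply]
  rw [h3]
  conv_lhs => rw [h2]

/-- **Uniqueness of the block of `C_G(R)` inducing `Irr(G | θ)`.** -/
theorem cent_induced_unique (hM : IsPModular p M) (hcon : IsPConstrained p G)
    (K : Subgroup G) [hK : K.Normal] [Fintype K] (hKdef : K = pPrimeCore p G)
    (θ : IrrCharacter K)
    (hinv : ∀ (g : G) (n : K),
      (θ : K → ℂ) ⟨g * n * g⁻¹, hK.conj_mem n n.2 g⟩ = (θ : K → ℂ) n)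
    (B : Set (IrrCharacter G))
    (hB : ∀ χ ∈ B, classInner (fun n : K => (χ : G → ℂ) n) (θ : K → ℂ) ≠ 0)
    (R : Subgroup G) (hR : IsPGroup p R)
    (f₁ f₂ : Set (IrrCharacter (Subgroup.centralizer (R : Set G))))
    (h₁ : IsInducedBlock M (Subgroup.centralizer (R : Set G)) f₁ B)
    (h₂ : IsInducedBlock M (Subgroup.centralizer (R : Set G)) f₂ B) : f₁ = f₂ := by
  classical
  have hp : p.Prime := hM.1
  have hprime : M.IsPrime := hM.2.1.isPrime
  have hcop : (Nat.card K).Coprime p := by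
    rw [hKdef]
    exact Cfsg.Agent.Lib.Helper01.pPrimeCore_card_coprime p
  have hpK : ¬ p ∣ Nat.card K := (Nat.Prime.coprime_iff_not_dvd hp).1 hcop.symm
  haveI : Fintype ↥(Subgroup.centralizer (R : Set G)) := Fintype.ofFinite _
  haveI : Fintype ↥(Subgroup.centralizer (R : Set G) ⊓ K) := Fintype.ofFinite _
  haveI : Fintype ((Subgroup.centralizer (R : Set G) ⊓ K).subgroupOf
    (Subgroup.centralizer (R : Set G))) := Fintype.ofFinite _
  haveI hnorm : ((Subgroup.centralizer (R : Set G) ⊓ K).subgroupOf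
    (Subgroup.centralizer (R : Set G))).Normal :=
    inf_subgroupOf_normal (N := K) (Subgroup.centralizer (R : Set G))
  set e := Subgroup.subgroupOfEquivOfLe
    (inf_le_left : Subgroup.centralizer (R : Set G) ⊓ K ≤ Subgroup.centralizer (R : Set G))
    with he
  -- the restriction of `θ`
  have hchar : IsCharacter ↥(Subgroup.centralizer (R : Set G) ⊓ K)
      (fun c : ↥(Subgroup.centralizer (R : Set G) ⊓ K) =>
        (θ : K → ℂ) ⟨c, (inf_le_right : Subgroup.centralizer (R : Set G) ⊓ K ≤ K) c.2⟩) :=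
    Cfsg.Agent.Lib.Helper04.isCharacter_resTo
      (inf_le_right : Subgroup.centralizer (R : Set G) ⊓ K ≤ K) (isCharacter_of_irr θ.2)
  -- invariance under `R`
  have hRK : ∀ s ∈ R, ∀ g ∈ K, s * g * s⁻¹ ∈ K := fun s _ g hg => hK.conj_mem g hg s
  have hθR : ∀ s ∈ R, ∀ g g' : K, (g' : G) = s * g * s⁻¹ →
      (θ : K → ℂ) g' = (θ : K → ℂ) g := by
    intro s _ g g' hgg'
    rw [← hinv s g]
    exact congrArg _ (Subtype.ext hgg')
  -- the analysis of one block
  have key : ∀ (f : Set (IrrCharacter (Subgroup.centralizer (R : Set G))))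
      (_ : IsInducedBlock M (Subgroup.centralizer (R : Set G)) f B)
      (ψ : IrrCharacter (Subgroup.centralizer (R : Set G))) (_ : ψ ∈ f),
      ∃ (ξ : IrrCharacter ↥(Subgroup.centralizer (R : Set G) ⊓ K)) (m : ℕ),
        classInner (fun n' : (Subgroup.centralizer (R : Set G) ⊓ K).subgroupOf
          (Subgroup.centralizer (R : Set G)) =>
            (ψ : Subgroup.centralizer (R : Set G) → ℂ) (n' : Subgroup.centralizer (R : Set G)))
          (irrComp e ξ : (Subgroup.centralizer (R : Set G) ⊓ K).subgroupOf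
            (Subgroup.centralizer (R : Set G)) → ℂ) ≠ 0 ∧
        classInner (fun c : ↥(Subgroup.centralizer (R : Set G) ⊓ K) =>
          (θ : K → ℂ) ⟨c, (inf_le_right : Subgroup.centralizer (R : Set G) ⊓ K ≤ K) c.2⟩)
            (ξ : ↥(Subgroup.centralizer (R : Set G) ⊓ K) → ℂ) = m ∧ ¬ p ∣ m := by
    intro f hf ψ hψ
    obtain ⟨θ', hθ'⟩ := Cfsg.Agent.Lib.Helper82.exists_constituent
      ((Subgroup.centralizer (R : Set G) ⊓ K).subgroupOf (Subgroup.centralizer (R : Set G))) ψ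
    set ξ := irrComp e.symm θ' with hξ
    have hξ' : irrComp e ξ = θ' := irrComp_irrComp_symm e θ'
    have hc' : classInner (fun n' : (Subgroup.centralizer (R : Set G) ⊓ K).subgroupOf
          (Subgroup.centralizer (R : Set G)) =>
            (ψ : Subgroup.centralizer (R : Set G) → ℂ) (n' : Subgroup.centralizer (R : Set G)))
          (irrComp e ξ : (Subgroup.centralizer (R : Set G) ⊓ K).subgroupOf
            (Subgroup.centralizer (R : Set G)) → ℂ) ≠ 0 := by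
      rw [hξ']
      exact hθ'
    have hcon' : classInner (fun l : ↥(Subgroup.centralizer (R : Set G) ⊓ K) =>
        (ψ : Subgroup.centralizer (R : Set G) → ℂ) (Subgroup.inclusion inf_le_left l))
        (ξ : ↥(Subgroup.centralizer (R : Set G) ⊓ K) → ℂ) ≠ 0 := by
      rw [← classInner_incl_transport (N := K) (Subgroup.centralizer (R : Set G))
        (ψ : Subgroup.centralizer (R : Set G) → ℂ) ξ]
      exact hc'
    refine ⟨ξ, irrMult _ ξ, hc', (irrMult_cast hchar ξ).symm, ?_⟩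
    exact not_dvd_mult_of_induced K hM hpK θ hinv (Subgroup.centralizer (R : Set G)) hf hB hψ ξ
      hcon' _ (irrMult_cast hchar ξ).symm
  obtain ⟨ψ₁, hψ₁⟩ := IsPBlock.nonempty hprime h₁.1
  obtain ⟨ψ₂, hψ₂⟩ := IsPBlock.nonempty hprime h₂.1
  obtain ⟨ξ₁, m₁, hc₁, hm₁, hp₁⟩ := key f₁ h₁ ψ₁ hψ₁
  obtain ⟨ξ₂, m₂, hc₂, hm₂, hp₂⟩ := key f₂ h₂ ψ₂ hψ₂
  have hξ : ξ₂ = ξ₁ := glauberman_unique K R hRK hcop hR θ hθR ξ₂ ξ₁ m₂ m₁ hm₂ hm₁ hp₂ hp₁
  rw [hξ] at hc₂
  -- invariance of `ξ₁`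
  have hξinv : ∀ (h : G) (hh : h ∈ Subgroup.centralizer (R : Set G)),
      irrComp (conjInf (N := K) (Subgroup.centralizer (R : Set G)) h hh) ξ₁ = ξ₁ := by
    intro h hh
    apply glauberman_unique K R hRK hcop hR θ hθR _ _ m₁ m₁ _ hm₁ hp₁ hp₁
    rw [classInner_res_conjInf K θ hinv]
    exact hm₁
  -- Fong in `C_G(R)`
  have hHcon : IsPConstrained p ↥(Subgroup.centralizer (R : Set G)) :=
    (Cfsg.Agent.S0631.result hcon R hR).2
  have hNdef : (Subgroup.centralizer (R : Set G) ⊓ K).subgroupOf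
      (Subgroup.centralizer (R : Set G)) = pPrimeCore p ↥(Subgroup.centralizer (R : Set G)) := by
    rw [pPrimeCore_centralizer_eq hcon R hR, Subgroup.inf_subgroupOf_left, hKdef]
  have hinv' : ∀ (g : ↥(Subgroup.centralizer (R : Set G)))
      (n : (Subgroup.centralizer (R : Set G) ⊓ K).subgroupOf (Subgroup.centralizer (R : Set G))),
      (irrComp e ξ₁ : (Subgroup.centralizer (R : Set G) ⊓ K).subgroupOf
          (Subgroup.centralizer (R : Set G)) → ℂ) ⟨g * n * g⁻¹, hnorm.conj_mem n n.2 g⟩ =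
        (irrComp e ξ₁ : (Subgroup.centralizer (R : Set G) ⊓ K).subgroupOf
          (Subgroup.centralizer (R : Set G)) → ℂ) n := by
    intro g n
    rw [irrComp_apply, irrComp_apply]
    have h1 : e ⟨g * n * g⁻¹, hnorm.conj_mem n n.2 g⟩ =
        conjInf (N := K) (Subgroup.centralizer (R : Set G)) (g : G) g.2 (e n) := by
      apply Subtype.ext
      rw [conjInf_coe]
      rfl
    rw [h1, ← irrComp_apply, hξinv]
  obtain ⟨B', hB', hB'mem, _⟩ := fong_constrained hM hHcon _ hNdef (irrComp e ξ₁) hinv'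
  have hψ₁' : ψ₁ ∈ B' := (hB'mem ψ₁).2 hc₁
  have hψ₂' : ψ₂ ∈ B' := (hB'mem ψ₂).2 hc₂
  rw [IsPBlock.eq_blockOf hprime h₁.1 hψ₁, IsPBlock.eq_blockOf hprime h₂.1 hψ₂,
    ← IsPBlock.eq_blockOf hprime hB' hψ₁', ← IsPBlock.eq_blockOf hprime hB' hψ₂']

end Cfsg.Agent.Lib.Helper21
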