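import Mathlib
import Cfsg.Agent.Lib.Helper49.RSU3Defs
import Cfsg.Agent.Lib.Helper40.GUConj
import Cfsg.Agent.Lib.Helper21.RSU3L04
import Cfsg.Agent.Lib.Helper47.RSU3L06
import Cfsg.Agent.Lib.Helper63.RSU3L02

/-!
# K-RSU3-L08 (keystone 228308): the explicit conjugator `g = yM a_w b_w * hM lam * xM c e`
with `g u g⁻¹ = u h z` in `SU_3(q)` (antidiagonal model).
-/

set_option autoImplicit false
set_option linter.unusedSectionVars false
set_option linter.unusedVariables false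

namespace Cfsg.Agent.Lib.Helper21.RSU3

open Matrix Cfsg.Agent.Lib.Helper49.StSU Cfsg.Agent.Lib.Helper49.RSU3

variable {F : Type*} [Field F] [Fintype F] {q : ℕ}

/-! ### the lower triangular root element (local copy of L05) -/

theorem l08_det_y (a b : F) : (yM q a b).det = 1 := by
  unfold yM
  rw [Matrix.det_fin_three]
  simp

theorem l08_mulVec_y (a b : F) (u : Fin 3 → F) :
    yM q a b *ᵥ u = ![u 0, a * u 0 + u 1, b * u 0 - a ^ q * u 1 + u 2] := by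
  unfold yM
  ext i
  fin_cases i <;> simp [Matrix.mulVec, dotProduct, Fin.sum_univ_three] <;> ring

theorem l08_exists_y (hF : Fintype.card F = q ^ 2) (a b : F) (h : Val q a b) :
    ∃ g : GJ 3 F q, mat g = yM q a b := by
  obtain ⟨φ, hφ, hφφ, -⟩ := Cfsg.Agent.Lib.Helper40.GUConj.exists_frob hF
  have h' : b + φ b + a * φ a = 0 := by
    rw [hφ b, hφ a]; exact h
  have hM : ∀ u v, hJ 3 F q (yM q a b *ᵥ u) (yM q a b *ᵥ v) = hJ 3 F q u v := by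
    intro u v
    rw [l04_hJ φ hφ, l04_hJ φ hφ, l08_mulVec_y, l08_mulVec_y, ← hφ a]
    simp only [Matrix.cons_val_zero, Matrix.cons_val_one, Matrix.cons_val_two, Matrix.head_cons,
      Matrix.tail_cons, map_add, map_sub, map_mul, hφφ]
    linear_combination (u 0 * φ (v 0)) * h'
  exact ⟨⟨⟨yM q a b, l08_det_y a b⟩, hM⟩, rfl⟩

/-! ### the matrix identity as an identity of rational functions of `μ` -/

set_option maxHeartbeats 4000000 in
theorem l08_main (μ : F) (h0 : μ ≠ 0) (h1 : μ - 1 ≠ 0) (h2 : μ + 1 ≠ 0)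
    (β βc c c' aw aw' bw lam lam' e bz : F)
    (hβ : β = (2*μ+1)/((μ-1)*(μ+1)^3))
    (hβc : βc = -(μ^3*(μ+2))/((μ-1)*(μ+1)^3))
    (hc : c = β^2*μ*(μ+2))
    (hc' : c' = βc^2*(1+2*μ)/μ^2)
    (haw : aw = -((μ-1)*(μ+1)^2))
    (haw' : aw' = (μ-1)*(μ+1)^2/μ^3)
    (hbw : bw = (μ-1)^2*(μ+1)^3/μ^2)
    (hlam : lam = -1/(μ+1))
    (hlam' : lam' = -μ/(μ+1))
    (he : e = c * c' * β)
    (hbz : bz = -((μ - μ⁻¹)^3)) :
    (!![1,0,0; aw,1,0; bw,-aw',1] * !![lam,0,0;0,lam'/lam,0;0,0,1/lam'] * !![1,c,e;0,1,-c';0,0,1]) *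
        !![1,1,β;0,1,-1;0,0,1] =
      !![1,1,β;0,1,-1;0,0,1] * !![μ,0,0;0,μ⁻¹/μ,0;0,0,1/μ⁻¹] * !![1,0,0;0,1,0;bz,0,1] *
        (!![1,0,0; aw,1,0; bw,-aw',1] * !![lam,0,0;0,lam'/lam,0;0,0,1/lam'] * !![1,c,e;0,1,-c';0,0,1]) := by
  subst he hc hc' hβ hβc haw haw' hbw hlam hlam' hbz
  ext i j
  fin_cases i <;> fin_cases j <;> simp [Matrix.mul_apply, Fin.sum_univ_three] <;> field_simp <;> ring

/-- L08 -/
theorem exists_conj (hq : 3 ≤ q) (hF : Fintype.card F = q ^ 2) (μ : F) (hμ : orderOf μ = q + 1) :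
    ∃ g : GJ 3 F q, ∀ u hh zz : GJ 3 F q, mat u = xM q 1 (bet μ) → mat hh = hM q μ →
      mat zz = yM q 0 (bz μ) → g * u * g⁻¹ = u * hh * zz := by
  obtain ⟨h0, h1', hm1, hinv⟩ := Cfsg.Agent.Lib.Helper63.RSU3.mu_facts hq μ hμ
  obtain ⟨φ, hφ, hφφ, -⟩ := Cfsg.Agent.Lib.Helper40.GUConj.exists_frob hF
  have hφμ : φ μ = μ⁻¹ := by rw [hφ, hinv]
  have e1 : μ - 1 ≠ 0 := sub_ne_zero.mpr h1'
  have e2 : μ + 1 ≠ 0 := by
    intro h
    exact hm1 (eq_neg_of_add_eq_zero_left h)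
  have e3 : 1 - μ ≠ 0 := sub_ne_zero.mpr (Ne.symm h1')
  have e4 : μ⁻¹ - 1 ≠ 0 := by
    intro h
    apply h1'
    have : μ⁻¹ = 1 := sub_eq_zero.mp h
    rw [← inv_inv μ, this, inv_one]
  have e5 : μ⁻¹ + 1 ≠ 0 := by
    intro h
    apply hm1
    have : μ⁻¹ = -1 := eq_neg_of_add_eq_zero_left h
    rw [← inv_inv μ, this, inv_neg, inv_one]
  have e6 : 1 + μ ≠ 0 := by rw [add_comm]; exact e2
  -- the parameters
  have hβ : bet μ = (2*μ+1)/((μ-1)*(μ+1)^3) := rfl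
  have hβc : φ (bet μ) = -(μ^3*(μ+2))/((μ-1)*(μ+1)^3) := by
    rw [hβ]
    simp only [map_div₀, map_mul, map_add, map_sub, map_pow, map_one, map_ofNat, hφμ]
    field_simp
    ring
  obtain ⟨aw, haw⟩ : ∃ aw : F, aw = -((μ-1)*(μ+1)^2) := ⟨_, rfl⟩
  obtain ⟨bw, hbw⟩ : ∃ bw : F, bw = (μ-1)^2*(μ+1)^3/μ^2 := ⟨_, rfl⟩
  obtain ⟨lam, hlam⟩ : ∃ lam : F, lam = -1/(μ+1) := ⟨_, rfl⟩
  obtain ⟨c, hc⟩ : ∃ c : F, c = (bet μ)^2*μ*(μ+2) := ⟨_, rfl⟩
  obtain ⟨e, he⟩ : ∃ e : F, e = c * φ c * bet μ := ⟨_, rfl⟩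
  have haw' : φ aw = (μ-1)*(μ+1)^2/μ^3 := by
    rw [haw]
    simp only [map_neg, map_mul, map_add, map_sub, map_pow, map_one, hφμ]
    field_simp
    ring
  have hbw' : φ bw = (1-μ)^2*(1+μ)^3/μ^3 := by
    rw [hbw]
    simp only [map_div₀, map_mul, map_add, map_sub, map_pow, map_one, hφμ]
    field_simp
  have hlam' : φ lam = -μ/(μ+1) := by
    rw [hlam]
    simp only [map_div₀, map_neg, map_add, map_one, hφμ]
    field_simp
    ring
  have hc' : φ c = (φ (bet μ))^2*(1+2*μ)/μ^2 := by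
    rw [hc]
    simp only [map_mul, map_add, map_pow, map_ofNat, hφμ]
    field_simp
  have hlam0 : lam ≠ 0 := by
    rw [hlam]
    exact div_ne_zero (neg_ne_zero.mpr one_ne_zero) e2
  -- the two `Val`s
  have hV1 : Val q aw bw := by
    unfold Val
    rw [← hφ bw, ← hφ aw, haw', hbw', haw, hbw]
    field_simp
    ring
  have hvb : bet μ + φ (bet μ) + 1 = 0 := by
    have := Cfsg.Agent.Lib.Helper63.RSU3.val_bet hq hF μ hμ
    unfold Val at this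
    rw [one_pow, mul_one, ← hφ] at this
    exact this
  have hV2 : Val q c e := by
    unfold Val
    rw [← hφ e, ← hφ c, he]
    simp only [map_mul, hφφ]
    linear_combination (c * φ c) * hvb
  -- the three factors
  obtain ⟨X, hX⟩ := exists_x hF c e hV2
  obtain ⟨Y, hY⟩ := l08_exists_y hF aw bw hV1
  obtain ⟨H, hH⟩ := Cfsg.Agent.Lib.Helper47.RSU3.exists_h (q := q) hF lam hlam0
  refine ⟨Y * H * X, ?_⟩
  intro u hh zz hu hhh hzz
  rw [mul_inv_eq_iff_eq_mul]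
  apply mat_injective
  simp only [mat_mul]
  rw [hY, hH, hX, hu, hhh, hzz]
  have q0 : q ≠ 0 := by omega
  have m1 : yM q aw bw = !![1,0,0; aw,1,0; bw,-(φ aw),1] := by
    unfold yM; rw [hφ aw]
  have m2 : hM q lam = !![lam,0,0;0,φ lam/lam,0;0,0,1/φ lam] := by
    unfold hM; rw [hφ lam]
  have m3 : xM q c e = !![1,c,e;0,1,-(φ c);0,0,1] := by
    unfold xM; rw [hφ c]
  have m4 : xM q 1 (bet μ) = !![1,1,bet μ;0,1,-1;0,0,1] := by
    unfold xM; rw [one_pow]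
  have m5 : hM q μ = !![μ,0,0;0,μ⁻¹/μ,0;0,0,1/μ⁻¹] := by
    unfold hM; rw [hinv]
  have m6 : yM q 0 (bz μ) = !![1,0,0;0,1,0;bz μ,0,1] := by
    unfold yM; rw [zero_pow q0, neg_zero]
  rw [m1, m2, m3, m4, m5, m6]
  exact l08_main μ h0 e1 e2 (bet μ) (φ (bet μ)) c (φ c) aw (φ aw) bw lam (φ lam) e (bz μ)
    hβ hβc hc hc' haw haw' hbw hlam hlam' he rfl

end Cfsg.Agent.Lib.Helper21.RSU3
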