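import Mathlib
import Cfsg.Agent.Lib.Helper48.RSpDefs2

/-!
# K-RSp-P4 (keystone 228113, pack K-RSp = S2281, architect helper48; parallel hand)

`n = 2`, characteristic `2`, `|F| ≥ 4`: an additive group `X` of `2 × 2` matrices containing `l E_00` and closed
under `U`, `L` (on matrices with last row zero) and the quadratic Levi step `τ` contains every symmetric matrix.
-/

set_option autoImplicit false
set_option linter.unusedSectionVars false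
set_option linter.unusedVariables false

namespace Cfsg.Agent.Lib.Helper21.RSp

open Matrix Cfsg.Agent.Lib.Helper48.RSp Cfsg.Agent.Lib.Helper18

variable {F : Type*} [Field F]

/-- the symmetric `2 × 2` matrix with entries `(a, b, c)` -/
def p4M (a b c : F) : SM 0 F := !![a, b; b, c]

theorem p4M_transpose (a b c : F) : (p4M a b c)ᵀ = p4M a b c := by
  unfold p4M
  ext i j
  fin_cases i <;> fin_cases j <;> rfl

theorem p4M_add (a b c a' b' c' : F) :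
    p4M a b c + p4M a' b' c' = p4M (a + a') (b + b') (c + c') := by
  unfold p4M
  ext i j
  fin_cases i <;> fin_cases j <;> rfl

theorem p4M_sub (a b c a' b' c' : F) :
    p4M a b c - p4M a' b' c' = p4M (a - a') (b - b') (c - c') := by
  unfold p4M
  ext i j
  fin_cases i <;> fin_cases j <;> rfl

theorem p4M_zero : p4M (0 : F) 0 0 = 0 := by
  unfold p4M
  ext i j
  fin_cases i <;> fin_cases j <;> rfl

theorem p4_eq_M (S : SM 0 F) (hS : Sᵀ = S) : S = p4M (S 0 0) (S 0 1) (S 1 1) := by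
  have h10 : S 1 0 = S 0 1 := by
    have := congrFun (congrFun hS 0) 1
    rwa [Matrix.transpose_apply] at this
  unfold p4M
  ext i j
  fin_cases i <;> fin_cases j
  · rfl
  · rfl
  · exact h10
  · rfl

theorem p4_Uup : Uup 0 F = !![1, 1; 0, 1] := by
  ext i j
  fin_cases i <;> fin_cases j <;> simp [Uup, Nup]

theorem p4_Lbi (t : F) : Lbi 0 (fun j : Fin (0 + 2) => if j = 0 then t else 1) = !![1, 0; t, 1] := by
  ext i j
  fin_cases i <;> fin_cases j <;> simp [Lbi]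

theorem p4_E00 (l : F) : l • E00 0 F = p4M l 0 0 := by
  unfold p4M E00
  ext i j
  fin_cases i <;> fin_cases j <;> simp [Matrix.single_apply]

theorem p4_U (h2 : (2 : F) = 0) (a b c : F) :
    Uup 0 F * p4M a b c * (Uup 0 F)ᵀ = p4M (a + c) (b + c) c := by
  rw [p4_Uup]
  unfold p4M
  ext i j
  fin_cases i <;> fin_cases j <;>
    simp [Matrix.mul_apply, Fin.sum_univ_two, Matrix.transpose_apply]
  · linear_combination b * h2

theorem p4_L (t a : F) :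
    Lbi 0 (fun j : Fin (0 + 2) => if j = 0 then t else 1) * p4M a 0 0 *
      (Lbi 0 (fun j : Fin (0 + 2) => if j = 0 then t else 1))ᵀ = p4M a (a * t) (a * t ^ 2) := by
  rw [p4_Lbi]
  unfold p4M
  ext i j
  fin_cases i <;> fin_cases j <;>
    simp [Matrix.mul_apply, Fin.sum_univ_two, Matrix.transpose_apply] <;> ring

theorem p4_tau (h2 : (2 : F) = 0) (t σ β₀ a b : F) :
    tauMat t σ β₀ * p4M a b 0 * (tauMat t σ β₀)ᵀ =
      p4M ((1 + σ * β₀ * t) ^ 2 * a) ((1 + σ * β₀ * t) * (σ * β₀ * t ^ 2) * a + b)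
        ((σ * β₀ * t ^ 2) ^ 2 * a) := by
  unfold p4M tauMat
  ext i j
  fin_cases i <;> fin_cases j <;>
    simp [Matrix.mul_apply, Fin.sum_univ_two, Matrix.transpose_apply]
  · linear_combination (-(1 + σ * β₀ * t) * (σ * β₀) * b) * h2
  · linear_combination (-(σ * β₀ * t) ^ 2 * b) * h2
  · linear_combination (-(σ * β₀ * t) ^ 2 * b) * h2
  · linear_combination ((σ * β₀ * t ^ 2) * (1 - σ * β₀ * t) * b) * h2

/-- K-RSp-P4 -/
theorem sym_all_two {F : Type*} [Field F] (X : AddSubgroup (SM 0 F)) (t σ l : F)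
    (ht : t ≠ 0) (hσ : σ ≠ 0) (hl0 : l ≠ 0)
    (hU : ∀ S ∈ X, Uup 0 F * S * (Uup 0 F)ᵀ ∈ X)
    (hL : ∀ S ∈ X, Sᵀ = S → (∀ j, S (Fin.last 1) j = 0) →
      Lbi 0 (fun j => if j = 0 then t else 1) * S * (Lbi 0 (fun j => if j = 0 then t else 1))ᵀ ∈ X)
    (hτ : ∀ S ∈ X, Sᵀ = S → S 1 1 = 0 → ∀ S₂ ∈ X,
      tauMat t σ (S 0 1) * S₂ * (tauMat t σ (S 0 1))ᵀ ∈ X)
    (h2 : (2 : F) = 0) (hl : l • E00 0 F ∈ X)
    (hgen : ∀ x : F, x ≠ 0 → ∃ k : ℕ, x = (σ * t ^ 4 * l) ^ (2 * k + 1))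
    (h4 : ∃ ρ₁ ρ₂ : F, ρ₁ ≠ 0 ∧ ρ₂ ≠ 0 ∧ ρ₁ ≠ ρ₂) :
    ∀ S : SM 0 F, Sᵀ = S → S ∈ X := by
  -- characteristic 2
  have hxx : ∀ x : F, x + x = 0 := fun x => by linear_combination x * h2
  have hsubadd : ∀ x y : F, x - y = x + y := fun x y => by linear_combination (-y) * h2
  -- the predicate
  set P : F → F → F → Prop := fun a b c => p4M a b c ∈ X with hP
  have Padd : ∀ {a b c a' b' c' : F}, P a b c → P a' b' c' → P (a + a') (b + b') (c + c') := by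
    intro a b c a' b' c' h h'
    show p4M (a + a') (b + b') (c + c') ∈ X
    rw [← p4M_add]
    exact X.add_mem h h'
  have Pzero : P 0 0 0 := by
    show p4M (0 : F) 0 0 ∈ X
    rw [p4M_zero]
    exact X.zero_mem
  -- the three operations
  have PU : ∀ {a b c : F}, P a b c → P (a + c) (b + c) c := by
    intro a b c h
    show p4M (a + c) (b + c) c ∈ X
    rw [← p4_U h2]
    exact hU _ h
  have PL : ∀ {a : F}, P a 0 0 → P a (a * t) (a * t ^ 2) := by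
    intro a h
    show p4M a (a * t) (a * t ^ 2) ∈ X
    rw [← p4_L]
    refine hL _ h (p4M_transpose _ _ _) ?_
    intro j
    unfold p4M
    fin_cases j <;> rfl
  have Pτ : ∀ {a₀ β₀ a b : F}, P a₀ β₀ 0 → P a b 0 →
      P ((1 + σ * β₀ * t) ^ 2 * a) ((1 + σ * β₀ * t) * (σ * β₀ * t ^ 2) * a + b)
        ((σ * β₀ * t ^ 2) ^ 2 * a) := by
    intro a₀ β₀ a b h h'
    show p4M _ _ _ ∈ X
    rw [← p4_tau h2]
    have e : (p4M a₀ β₀ 0) 0 1 = β₀ := rfl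
    have := hτ _ h (p4M_transpose _ _ _) rfl _ h'
    rwa [e] at this
  -- `(a, b, c) ∈ X` gives `(c, c, 0) ∈ X`
  have Pcc : ∀ {a b c : F}, P a b c → P c c 0 := by
    intro a b c h
    have h1 := Padd (PU h) h
    have e1 : a + c + a = c := by linear_combination a * h2
    have e2 : b + c + b = c := by linear_combination b * h2
    rw [e1, e2, hxx] at h1
    exact h1
  -- start
  have h0 : P l 0 0 := by
    show p4M l 0 0 ∈ X
    rw [← p4_E00]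
    exact hl
  have hC0 : P (l * t ^ 2) (l * t ^ 2) 0 := Pcc (PL h0)
  -- the closure property of `C`
  have hCmul : ∀ {α β : F}, P α α 0 → P β β 0 →
      P (σ ^ 2 * t ^ 4 * α * β ^ 2) (σ ^ 2 * t ^ 4 * α * β ^ 2) 0 := by
    intro α β hα hβ
    have h1 := Pcc (Pτ hβ hα)
    have e : (σ * β * t ^ 2) ^ 2 * α = σ ^ 2 * t ^ 4 * α * β ^ 2 := by ring
    rwa [e] at h1
  -- `D x := C (x / (σ t²))`
  have hσt : σ * t ^ 2 ≠ 0 := mul_ne_zero hσ (pow_ne_zero 2 ht)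
  have hDmul : ∀ {x y : F}, P (x / (σ * t ^ 2)) (x / (σ * t ^ 2)) 0 →
      P (y / (σ * t ^ 2)) (y / (σ * t ^ 2)) 0 →
      P (x * y ^ 2 / (σ * t ^ 2)) (x * y ^ 2 / (σ * t ^ 2)) 0 := by
    intro x y hx hy
    have h1 := hCmul hx hy
    have e : σ ^ 2 * t ^ 4 * (x / (σ * t ^ 2)) * (y / (σ * t ^ 2)) ^ 2 = x * y ^ 2 / (σ * t ^ 2) := by
      field_simp
    rwa [e] at h1
  have hD0 : P (σ * t ^ 4 * l / (σ * t ^ 2)) (σ * t ^ 4 * l / (σ * t ^ 2)) 0 := by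
    have e : σ * t ^ 4 * l / (σ * t ^ 2) = l * t ^ 2 := by field_simp
    rw [e]
    exact hC0
  have hDodd : ∀ k : ℕ, P ((σ * t ^ 4 * l) ^ (2 * k + 1) / (σ * t ^ 2))
      ((σ * t ^ 4 * l) ^ (2 * k + 1) / (σ * t ^ 2)) 0 := by
    intro k
    induction k with
    | zero => simpa using hD0
    | succ k ih =>
      have h1 := hDmul ih hD0
      have e : (σ * t ^ 4 * l) ^ (2 * k + 1) * (σ * t ^ 4 * l) ^ 2 =
          (σ * t ^ 4 * l) ^ (2 * (k + 1) + 1) := by ring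
      rwa [e] at h1
  have hC : ∀ c : F, P c c 0 := by
    intro c
    by_cases hc : c = 0
    · subst hc; exact Pzero
    · obtain ⟨k, hk⟩ := hgen (σ * t ^ 2 * c) (mul_ne_zero hσt hc)
      have h1 := hDodd k
      rw [← hk] at h1
      have e : σ * t ^ 2 * c / (σ * t ^ 2) = c := by field_simp
      rwa [e] at h1
  -- the elements `h(α, ρ)`
  have hH : ∀ a β₀ : F, P ((σ * β₀ * t) ^ 2 * a) ((1 + σ * β₀ * t) * (σ * β₀ * t ^ 2) * a)
      ((σ * β₀ * t ^ 2) ^ 2 * a) := by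
    intro a β₀
    have h1 := Padd (Pτ (hC β₀) (hC a)) (hC a)
    have e1 : (1 + σ * β₀ * t) ^ 2 * a + a = (σ * β₀ * t) ^ 2 * a := by
      linear_combination (a + σ * β₀ * t * a) * h2
    have e2 : (1 + σ * β₀ * t) * (σ * β₀ * t ^ 2) * a + a + a =
        (1 + σ * β₀ * t) * (σ * β₀ * t ^ 2) * a := by linear_combination a * h2
    rw [e1, e2, add_zero] at h1
    exact h1
  -- `(0, b, 0) ∈ X`
  obtain ⟨ρ₁, ρ₂, hρ₁, hρ₂, hρ⟩ := h4
  have hB : ∀ b : F, P 0 b 0 := by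
    intro b
    have hd : ρ₁⁻¹ + ρ₂⁻¹ ≠ 0 := by
      intro h
      apply hρ
      have h' : ρ₁⁻¹ = ρ₂⁻¹ := by linear_combination h - ρ₂⁻¹ * h2
      exact inv_injective h'
    set κ : F := b / (t * (ρ₁⁻¹ + ρ₂⁻¹)) with hκ
    have hσt1 : σ * t ≠ 0 := mul_ne_zero hσ ht
    have h1 := hH (κ / ρ₁ ^ 2) (ρ₁ / (σ * t))
    have h2' := hH (κ / ρ₂ ^ 2) (ρ₂ / (σ * t))
    have h3 := Padd h1 h2'
    have e1 : (σ * (ρ₁ / (σ * t)) * t) ^ 2 * (κ / ρ₁ ^ 2) + (σ * (ρ₂ / (σ * t)) * t) ^ 2 * (κ / ρ₂ ^ 2)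
        = 0 := by
      have : (σ * (ρ₁ / (σ * t)) * t) ^ 2 * (κ / ρ₁ ^ 2) + (σ * (ρ₂ / (σ * t)) * t) ^ 2 * (κ / ρ₂ ^ 2)
          = κ + κ := by field_simp
      rw [this, hxx]
    have e3 : (σ * (ρ₁ / (σ * t)) * t ^ 2) ^ 2 * (κ / ρ₁ ^ 2) +
        (σ * (ρ₂ / (σ * t)) * t ^ 2) ^ 2 * (κ / ρ₂ ^ 2) = 0 := by
      have : (σ * (ρ₁ / (σ * t)) * t ^ 2) ^ 2 * (κ / ρ₁ ^ 2) +
          (σ * (ρ₂ / (σ * t)) * t ^ 2) ^ 2 * (κ / ρ₂ ^ 2) = t ^ 2 * κ + t ^ 2 * κ := by field_simp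
      rw [this, hxx]
    have e2 : (1 + σ * (ρ₁ / (σ * t)) * t) * (σ * (ρ₁ / (σ * t)) * t ^ 2) * (κ / ρ₁ ^ 2) +
        (1 + σ * (ρ₂ / (σ * t)) * t) * (σ * (ρ₂ / (σ * t)) * t ^ 2) * (κ / ρ₂ ^ 2) = b := by
      have : (1 + σ * (ρ₁ / (σ * t)) * t) * (σ * (ρ₁ / (σ * t)) * t ^ 2) * (κ / ρ₁ ^ 2) +
          (1 + σ * (ρ₂ / (σ * t)) * t) * (σ * (ρ₂ / (σ * t)) * t ^ 2) * (κ / ρ₂ ^ 2) =
          t * κ * (ρ₁⁻¹ + ρ₂⁻¹) + (t * κ + t * κ) := by field_simp; ring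
      rw [this, hxx, add_zero, hκ]
      have ht' : t * (ρ₁⁻¹ + ρ₂⁻¹) ≠ 0 := mul_ne_zero ht hd
      calc t * (b / (t * (ρ₁⁻¹ + ρ₂⁻¹))) * (ρ₁⁻¹ + ρ₂⁻¹)
          = b / (t * (ρ₁⁻¹ + ρ₂⁻¹)) * (t * (ρ₁⁻¹ + ρ₂⁻¹)) := by ring
        _ = b := div_mul_cancel₀ b ht'
    rw [e1, e2, e3] at h3
    exact h3
  -- `(c, 0, 0) ∈ X`
  have hA : ∀ c : F, P c 0 0 := by
    intro c
    have h1 := Padd (hC c) (hB c)
    rwa [add_zero, hxx, add_zero] at h1
  -- `(0, 0, c) ∈ X`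
  have hG : ∀ c : F, P 0 0 c := by
    intro c
    have h1 := Padd (Padd (PL (hA (c / t ^ 2))) (hA (c / t ^ 2))) (hB (c / t ^ 2 * t))
    have e1 : c / t ^ 2 + c / t ^ 2 + 0 = 0 := by rw [hxx, add_zero]
    have e2 : c / t ^ 2 * t + 0 + c / t ^ 2 * t = 0 := by
      rw [add_zero, hxx]
    have e3 : c / t ^ 2 * t ^ 2 + 0 + 0 = c := by
      rw [add_zero, add_zero]
      exact div_mul_cancel₀ c (pow_ne_zero 2 ht)
    rw [e1, e2, e3] at h1
    exact h1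
  intro S hS
  rw [p4_eq_M S hS]
  have h1 := Padd (Padd (hA (S 0 0)) (hB (S 0 1))) (hG (S 1 1))
  simp only [add_zero, zero_add] at h1
  exact h1

end Cfsg.Agent.Lib.Helper21.RSp
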