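import Mathlib
import Cfsg.Prelude.Def_Blocks

set_option autoImplicit false
set_option linter.style.haveILetI false
open Cfsg

namespace Cfsg.Agent.Lib.Helper21


/-- If `p ∈ M`, `M` proper, and `p ∤ m`, then `(m : AlgInt) ∉ M`. -/
theorem natCast_not_mem_of_not_dvd {p : ℕ} (hp : p.Prime) {M : Ideal AlgInt} (hM : M ≠ ⊤)
    (hpM : (p : AlgInt) ∈ M) {m : ℕ} (hm : ¬ p ∣ m) : (m : AlgInt) ∉ M := by
  intro hmM
  have hcop : Nat.Coprime m p := (Nat.Coprime.symm ((Nat.Prime.coprime_iff_not_dvd hp).2 hm))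
  have := Nat.isCoprime_iff_coprime.2 hcop
  obtain ⟨a, b, hab⟩ := this
  apply hM
  rw [Ideal.eq_top_iff_one]
  have h1 : (1 : AlgInt) = (a : AlgInt) * (m : AlgInt) + (b : AlgInt) * (p : AlgInt) := by
    have := congrArg (fun z : ℤ => (z : AlgInt)) hab
    simp only [Int.cast_add, Int.cast_mul, Int.cast_natCast, Int.cast_one] at this
    exact this.symm
  rw [h1]
  exact M.add_mem (M.mul_mem_left _ hmM) (M.mul_mem_left _ hpM)

/-- Reduction modulo `M` is injective on roots of unity of order prime to `p`. -/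
theorem root_of_unity_inj {p : ℕ} (hp : p.Prime) {M : Ideal AlgInt} (hM : M ≠ ⊤)
    (hpM : (p : AlgInt) ∈ M) {ε₁ ε₂ : AlgInt} {m₁ m₂ : ℕ} (h1 : ¬ p ∣ m₁) (h2 : ¬ p ∣ m₂)
    (e1 : ε₁ ^ m₁ = 1) (e2 : ε₂ ^ m₂ = 1) (hmem : ε₁ - ε₂ ∈ M) : ε₁ = ε₂ := by
  by_contra hne
  set m := m₁ * m₂ with hm
  have hpm : ¬ p ∣ m := by
    intro h
    rcases (Nat.Prime.dvd_mul hp).1 h with h | h
    · exact h1 h
    · exact h2 h
  have hm0 : m ≠ 0 := by
    rintro h0
    apply hpm
    rw [h0]; exact dvd_zero p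
  have e1' : ε₁ ^ m = 1 := by rw [hm, pow_mul, e1, one_pow]
  have e2' : ε₂ ^ m = 1 := by rw [hm, mul_comm, pow_mul, e2, one_pow]
  -- `ζ = ε₁ * ε₂^(m-1)`
  set ζ := ε₁ * ε₂ ^ (m - 1) with hζ
  have hε₂ : ε₂ * ε₂ ^ (m - 1) = 1 := by
    rw [← pow_succ', Nat.sub_add_cancel (Nat.pos_of_ne_zero hm0), e2']
  have hζm : ζ ^ m = 1 := by
    rw [hζ, mul_pow, e1', one_mul, ← pow_mul, mul_comm, pow_mul, e2', one_pow]
  have hζ1 : ζ ≠ 1 := by
    intro h
    apply hne
    have : ε₁ = ζ * ε₂ := by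
      rw [hζ, mul_assoc, mul_comm (ε₂ ^ (m - 1)), hε₂, mul_one]
    rw [this, h, one_mul]
  have hζM : ζ - 1 ∈ M := by
    have : ζ - 1 = (ε₁ - ε₂) * ε₂ ^ (m - 1) := by
      rw [sub_mul, hε₂]
    rw [this]
    exact M.mul_mem_right _ hmem
  have hgeom : (∑ i ∈ Finset.range m, ζ ^ i) * (ζ - 1) = 0 := by
    rw [geom_sum_mul, hζm, sub_self]
  have hsum : ∑ i ∈ Finset.range m, ζ ^ i = 0 := by
    rcases mul_eq_zero.1 hgeom with h | h
    · exact h
    · exact absurd (sub_eq_zero.1 h) hζ1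
  -- modulo `M`
  have hq : Ideal.Quotient.mk M ζ = 1 := by
    have := (Ideal.Quotient.eq_zero_iff_mem (I := M)).2 hζM
    rw [map_sub, map_one, sub_eq_zero] at this
    exact this
  have hmM : (m : AlgInt) ∈ M := by
    rw [← Ideal.Quotient.eq_zero_iff_mem]
    have := congrArg (Ideal.Quotient.mk M) hsum
    rw [map_sum] at this
    simp only [map_pow, hq, one_pow, Finset.sum_const, Finset.card_range, nsmul_eq_mul, mul_one,
      map_zero] at this
    rw [map_natCast]
    exact this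
  exact natCast_not_mem_of_not_dvd hp hM hpM hpm hmM



/-- In a field of characteristic `p`, every element integral over `ℤ` and nonzero has a power
`x ^ n = 1` with `p ∤ n`. -/
theorem exists_pow_eq_one_of_isIntegral {F : Type*} [Field F] (p : ℕ) [Fact p.Prime] [CharP F p]
    (x : F) (hx : IsIntegral ℤ x) (hx0 : x ≠ 0) : ∃ n : ℕ, ¬ p ∣ n ∧ x ^ n = 1 := by
  letI : Algebra (ZMod p) F := ZMod.algebra F p
  have hx' : IsIntegral (ZMod p) x := hx.tower_top
  let K := IntermediateField.adjoin (ZMod p) {x}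
  haveI : FiniteDimensional (ZMod p) K := IntermediateField.adjoin.finiteDimensional hx'
  haveI : Finite K := Module.finite_of_finite (ZMod p)
  haveI := Fintype.ofFinite K
  let y : K := ⟨x, IntermediateField.mem_adjoin_simple_self (ZMod p) x⟩
  have hy0 : y ≠ 0 := by
    intro h
    apply hx0
    exact congrArg Subtype.val h
  have hy := FiniteField.pow_card_sub_one_eq_one y hy0
  obtain ⟨n, _, hn⟩ := FiniteField.card K p
  refine ⟨Fintype.card K - 1, ?_, ?_⟩
  · rw [hn]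
    intro hdvd
    have h1 : p ∣ p ^ (n : ℕ) := dvd_pow_self p n.ne_zero
    have hpos : 1 ≤ p ^ (n : ℕ) := Nat.one_le_pow _ _ (Fact.out : p.Prime).pos
    have : p ∣ 1 := by
      have := (Nat.dvd_sub h1 hdvd)
      rwa [Nat.sub_sub_self hpos] at this
    exact (Fact.out : p.Prime).one_lt.ne' (Nat.dvd_one.1 this)
  · have := congrArg Subtype.val hy
    simpa using this



/-- Lifting roots of unity: if `x ^ n = 1` in the residue field with `p ∤ n`, then `x` is the
image of a complex `n`-th root of unity. -/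
theorem exists_root_of_unity_lift {p : ℕ} (hp : p.Prime) {M : Ideal AlgInt} [hMax : M.IsMaximal]
    (hpM : (p : AlgInt) ∈ M) {n : ℕ} (hn : ¬ p ∣ n) (x : AlgInt ⧸ M) (hx : x ^ n = 1) :
    ∃ ε : AlgInt, ε ^ n = 1 ∧ Ideal.Quotient.mk M ε = x := by
  classical
  letI : Field (AlgInt ⧸ M) := Ideal.Quotient.field M
  have hn0 : n ≠ 0 := by
    rintro rfl; exact hn (dvd_zero p)
  have hnpos : 0 < n := Nat.pos_of_ne_zero hn0
  have hint : ∀ z : ℂ, z ∈ Polynomial.nthRootsFinset n (1 : ℂ) → z ∈ AlgInt := by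
    intro z hz
    rw [Polynomial.mem_nthRootsFinset hnpos] at hz
    have : IsIntegral ℤ (z ^ n) := by rw [hz]; exact isIntegral_one
    exact IsIntegral.of_pow hnpos this
  let f : {z : ℂ // z ∈ Polynomial.nthRootsFinset n (1 : ℂ)} → (AlgInt ⧸ M) :=
    fun z => Ideal.Quotient.mk M ⟨z.1, hint z.1 z.2⟩
  have hfinj : Function.Injective f := by
    intro z₁ z₂ h
    have hmem : (⟨z₁.1, hint z₁.1 z₁.2⟩ : AlgInt) - ⟨z₂.1, hint z₂.1 z₂.2⟩ ∈ M := by
      rw [← Ideal.Quotient.eq_zero_iff_mem, map_sub, sub_eq_zero]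
      exact h
    have e1 : (⟨z₁.1, hint z₁.1 z₁.2⟩ : AlgInt) ^ n = 1 := by
      apply Subtype.ext
      have := (Polynomial.mem_nthRootsFinset hnpos (1 : ℂ)).1 z₁.2
      simpa using this
    have e2 : (⟨z₂.1, hint z₂.1 z₂.2⟩ : AlgInt) ^ n = 1 := by
      apply Subtype.ext
      have := (Polynomial.mem_nthRootsFinset hnpos (1 : ℂ)).1 z₂.2
      simpa using this
    have := root_of_unity_inj hp hMax.ne_top hpM hn hn e1 e2 hmem
    apply Subtype.ext
    exact congrArg (fun w : AlgInt => (w : ℂ)) this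
  let T : Finset (AlgInt ⧸ M) := (Finset.univ : Finset {z : ℂ // z ∈ Polynomial.nthRootsFinset n (1 : ℂ)}).image f
  have hTcard : T.card = n := by
    rw [Finset.card_image_of_injective _ hfinj, Finset.card_univ, Fintype.card_coe]
    exact (Complex.isPrimitiveRoot_exp n hn0).card_nthRootsFinset
  have hTsub : T ⊆ Polynomial.nthRootsFinset n (1 : AlgInt ⧸ M) := by
    intro y hy
    obtain ⟨z, _, rfl⟩ := Finset.mem_image.1 hy
    rw [Polynomial.mem_nthRootsFinset hnpos]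
    show (Ideal.Quotient.mk M ⟨z.1, hint z.1 z.2⟩) ^ n = 1
    rw [← map_pow]
    have : (⟨z.1, hint z.1 z.2⟩ : AlgInt) ^ n = 1 := by
      apply Subtype.ext
      have := (Polynomial.mem_nthRootsFinset hnpos (1 : ℂ)).1 z.2
      simpa using this
    rw [this, map_one]
  have hcard_le : (Polynomial.nthRootsFinset n (1 : AlgInt ⧸ M)).card ≤ T.card := by
    rw [hTcard, Polynomial.nthRootsFinset_def]
    exact (Multiset.toFinset_card_le _).trans (Polynomial.card_nthRoots n 1)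
  have hEq := Finset.eq_of_subset_of_card_le hTsub hcard_le
  have hxT : x ∈ T := by
    rw [hEq, Polynomial.mem_nthRootsFinset hnpos]
    exact hx
  obtain ⟨z, _, hz⟩ := Finset.mem_image.1 hxT
  refine ⟨⟨z.1, hint z.1 z.2⟩, ?_, hz⟩
  apply Subtype.ext
  have := (Polynomial.mem_nthRootsFinset hnpos (1 : ℂ)).1 z.2
  simpa using this


end Cfsg.Agent.Lib.Helper21
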