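import Mathlib

/-!
# K-SN (S4073): Lemma A

Setting: `hSN`: every non-abelian subgroup of the finite simple non-abelian group `G` is
self-normalizing. If `S` is an abelian Sylow `p`-subgroup and `1 ≠ x ∈ S` then `C_G(x)` is abelian.

Route (no Lemma 1 needed): in `H = C(x)` the transfer into `S` does not kill the central element
`x`; its kernel `L` is a proper normal subgroup, hence abelian, and contains all `p'`-elements; the
`p'`-part `K` of `L` is an abelian normal `p`-complement of `H`.  If `S` were not cyclic every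
`K⟨s⟩` would be proper normal, hence abelian, and `H = KS` abelian.  So `S` is cyclic,
`N_G(S) ≤ N(⟨x⟩) ≤ N(H) = H`, and `N_H(S) ≤ C(S)` because `[N_K(S), S] ≤ K ∩ S = 1`.  Burnside's
transfer theorem then contradicts simplicity.
-/

set_option autoImplicit false

namespace Cfsg.Agent.Lib.Helper21.SNA

open Subgroup
open scoped IsMulCommutative


/-- Transfer of a central `p`-element into an abelian Sylow `p`-subgroup: there is a normal
subgroup missing it and containing all `p'`-elements. -/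
theorem exists_normal_not_mem_of_mem_center {Γ : Type*} [Group Γ] [Finite Γ] {p : ℕ}
    [Fact p.Prime] (P : Sylow p Γ) [hP : IsMulCommutative (P : Subgroup Γ)] {z : Γ}
    (hzP : z ∈ (P : Subgroup Γ)) (hzc : z ∈ Subgroup.center Γ) (hz1 : z ≠ 1) :
    ∃ L : Subgroup Γ, L.Normal ∧ z ∉ L ∧ (∀ g : Γ, Nat.Coprime (orderOf g) p → g ∈ L) ∧
      (∀ g : Γ, ∃ n : ℕ, g ^ (p ^ n) ∈ L) := by
  classical
  have hp : p.Prime := Fact.out
  let f : Γ →* (P : Subgroup Γ) := MonoidHom.transfer (MonoidHom.id (P : Subgroup Γ))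
  refine ⟨f.ker, inferInstance, ?_, ?_, ?_⟩
  · rw [MonoidHom.mem_ker]
    have key : ∀ (k : ℕ) (g₀ : Γ), g₀⁻¹ * z ^ k * g₀ ∈ (P : Subgroup Γ) →
        g₀⁻¹ * z ^ k * g₀ = z ^ k := by
      intro k g₀ _
      have : z ^ k ∈ Subgroup.center Γ := Subgroup.pow_mem _ hzc k
      have h2 := Subgroup.mem_center_iff.mp this g₀
      rw [mul_assoc, ← h2, inv_mul_cancel_left]
    have h1 : f z = ⟨z ^ (P : Subgroup Γ).index, _⟩ :=
      MonoidHom.transfer_eq_pow (MonoidHom.id (P : Subgroup Γ)) z key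
    rw [h1]
    intro h
    have h3 : z ^ (P : Subgroup Γ).index = 1 := congrArg Subtype.val h
    obtain ⟨n, hn⟩ := (IsPGroup.iff_orderOf.mp P.2) ⟨z, hzP⟩
    have h4 : orderOf z = p ^ n := by
      rw [← hn]; exact (Subgroup.orderOf_mk z hzP).symm
    have h5 : orderOf z ∣ (P : Subgroup Γ).index := orderOf_dvd_of_pow_eq_one h3
    have h6 : Nat.Coprime (orderOf z) (P : Subgroup Γ).index := by
      rw [h4]
      exact Nat.Coprime.pow_left _ ((Nat.Prime.coprime_iff_not_dvd hp).mpr P.not_dvd_index)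
    have h7 : orderOf z = 1 := Nat.Coprime.eq_one_of_dvd h6 h5
    exact hz1 (orderOf_eq_one_iff.mp h7)
  · intro g hg
    rw [MonoidHom.mem_ker]
    obtain ⟨n, hn⟩ := (IsPGroup.iff_orderOf.mp P.2) (f g)
    have h1 : orderOf (f g) ∣ orderOf g := orderOf_map_dvd f g
    have h2 : Nat.Coprime (orderOf (f g)) (p ^ n) :=
      Nat.Coprime.pow_right _ (Nat.Coprime.coprime_dvd_left h1 hg)
    rw [hn] at h2
    have h3 : p ^ n = 1 := (Nat.coprime_self _).mp h2
    rw [h3] at hn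
    exact orderOf_eq_one_iff.mp hn
  · intro g
    obtain ⟨n, hn⟩ := P.2 (f g)
    refine ⟨n, ?_⟩
    rw [MonoidHom.mem_ker, map_pow, hn]



/-- Lemma K: a normal abelian `p`-complement. -/
theorem exists_normal_complement_of_mem_center {Γ : Type*} [Group Γ] [Finite Γ] {p : ℕ}
    [Fact p.Prime] (P : Sylow p Γ) [hP : IsMulCommutative (P : Subgroup Γ)] {z : Γ}
    (hzP : z ∈ (P : Subgroup Γ)) (hzc : z ∈ Subgroup.center Γ) (hz1 : z ≠ 1)
    (hprop : ∀ L : Subgroup Γ, L.Normal → L ≠ ⊤ → IsMulCommutative L) :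
    ∃ K : Subgroup Γ, K.Normal ∧ IsMulCommutative K ∧ K.IsComplement' (P : Subgroup Γ) := by
  classical
  have hp : p.Prime := Fact.out
  obtain ⟨L, hLn, hzL, hLcop, _⟩ := exists_normal_not_mem_of_mem_center P hzP hzc hz1
  have hLab : IsMulCommutative L := hprop L hLn (fun h => hzL (h ▸ Subgroup.mem_top z))
  have hLcomm : ∀ a ∈ L, ∀ b ∈ L, a * b = b * a := fun a ha b hb =>
    congrArg Subtype.val (hLab.is_comm.comm ⟨a, ha⟩ ⟨b, hb⟩)
  set n := Nat.card Γ with hn
  have hn0 : n ≠ 0 := Nat.card_pos.ne'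
  set q := ordProj[p] n with hq
  set m := ordCompl[p] n with hm
  have hqm : q * m = n := Nat.ordProj_mul_ordCompl_eq_self n p
  have hpm : ¬ p ∣ m := Nat.not_dvd_ordCompl hp hn0
  let K : Subgroup Γ :=
    { carrier := {c | c ∈ L ∧ c ^ m = 1}
      mul_mem' := by
        rintro a b ⟨ha, ha'⟩ ⟨hb, hb'⟩
        refine ⟨L.mul_mem ha hb, ?_⟩
        rw [(show Commute a b from hLcomm a ha b hb).mul_pow, ha', hb', one_mul]
      one_mem' := ⟨L.one_mem, one_pow _⟩
      inv_mem' := by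
        rintro a ⟨ha, ha'⟩
        exact ⟨L.inv_mem ha, by rw [inv_pow, ha', inv_one]⟩ }
  have hKL : K ≤ L := fun c hc => hc.1
  have hKn : K.Normal := by
    refine ⟨fun c hc γ => ⟨hLn.conj_mem c hc.1 γ, ?_⟩⟩
    rw [conj_pow, hc.2]; simp
  have hKab : IsMulCommutative K :=
    ⟨⟨fun a b => Subtype.ext (hLcomm a.1 (hKL a.2) b.1 (hKL b.2))⟩⟩
  -- q-th powers land in K
  have hpowK : ∀ γ : Γ, γ ^ q ∈ K := by
    intro γ
    have h1 : (γ ^ q) ^ m = 1 := by
      rw [← pow_mul, hqm, hn]; exact pow_card_eq_one'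
    refine ⟨hLcop _ ?_, h1⟩
    have h2 : orderOf (γ ^ q) ∣ m := orderOf_dvd_of_pow_eq_one h1
    exact Nat.Coprime.coprime_dvd_left h2 ((Nat.Prime.coprime_iff_not_dvd hp).mpr hpm).symm
  -- the quotient is a p-group
  have hquot : IsPGroup p (Γ ⧸ K) := by
    intro y
    obtain ⟨γ, rfl⟩ := QuotientGroup.mk_surjective y
    refine ⟨n.factorization p, ?_⟩
    rw [← QuotientGroup.mk_pow, QuotientGroup.eq_one_iff]
    exact hpowK γ
  obtain ⟨j, hj⟩ := IsPGroup.iff_card.mp hquot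
  have hcard : Nat.card Γ = Nat.card (Γ ⧸ K) * Nat.card K :=
    Subgroup.card_eq_card_quotient_mul_card_subgroup K
  -- |K| is prime to p
  have hKp : ¬ p ∣ Nat.card K := by
    intro hd
    obtain ⟨c, hc⟩ := exists_prime_orderOf_dvd_card' p hd
    have h1 : (c : Γ) ^ m = 1 := c.2.2
    have h2 : orderOf (c : Γ) ∣ m := orderOf_dvd_of_pow_eq_one h1
    rw [Subgroup.orderOf_coe, hc] at h2
    exact hpm h2
  have hKcop : Nat.Coprime (Nat.card K) p :=
    ((Nat.Prime.coprime_iff_not_dvd hp).mpr hKp).symm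
  obtain ⟨k', hk'⟩ := IsPGroup.iff_card.mp P.2
  have hPj : Nat.card (P : Subgroup Γ) = p ^ j := by
    apply Nat.dvd_antisymm
    · have h1 : Nat.card (P : Subgroup Γ) ∣ Nat.card Γ := Subgroup.card_subgroup_dvd_card _
      rw [hcard, hj, hk'] at h1
      rw [hk']
      exact Nat.Coprime.dvd_of_dvd_mul_right (Nat.Coprime.pow_left _ hKcop.symm) h1
    · apply P.pow_dvd_card_of_pow_dvd_card
      rw [hcard, hj]; exact dvd_mul_right _ _
  refine ⟨K, hKn, hKab, ?_⟩
  apply Subgroup.isComplement'_of_coprime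
  · rw [hPj, hcard, hj, mul_comm]
  · rw [hPj]; exact Nat.Coprime.pow_right _ hKcop



/-- Lemma E: with a normal complement of an abelian Sylow subgroup, `N(P) ≤ C(P)`. -/
theorem normalizer_le_centralizer_of_isComplement' {Γ : Type*} [Group Γ] {p : ℕ}
    (P : Sylow p Γ) (hP : IsMulCommutative (P : Subgroup Γ)) {K : Subgroup Γ} (hKn : K.Normal)
    (hK : K.IsComplement' (P : Subgroup Γ)) :
    Subgroup.normalizer ((P : Subgroup Γ) : Set Γ) ≤
      Subgroup.centralizer ((P : Subgroup Γ) : Set Γ) := by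
  intro n hn
  have hPcomm : ∀ a ∈ (P : Subgroup Γ), ∀ b ∈ (P : Subgroup Γ), a * b = b * a := fun a ha b hb =>
    congrArg Subtype.val (hP.is_comm.comm ⟨a, ha⟩ ⟨b, hb⟩)
  obtain ⟨⟨c, t⟩, hct, _⟩ := hK.existsUnique n
  simp only at hct
  have hcN : (c : Γ) ∈ Subgroup.normalizer ((P : Subgroup Γ) : Set Γ) := by
    have : (c : Γ) = n * (t : Γ)⁻¹ := by rw [← hct]; group
    rw [this]
    exact Subgroup.mul_mem _ hn (Subgroup.inv_mem _ (Subgroup.le_normalizer t.2))
  have hdisj := hK.disjoint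
  have hcs : ∀ s ∈ (P : Subgroup Γ), (c : Γ) * s = s * c := by
    intro s hs
    have h1 : (c : Γ) * s * (c : Γ)⁻¹ ∈ (P : Subgroup Γ) :=
      (Subgroup.mem_normalizer_iff.mp hcN s).mp hs
    have h2 : (c : Γ) * s * (c : Γ)⁻¹ * s⁻¹ ∈ (P : Subgroup Γ) :=
      Subgroup.mul_mem _ h1 (Subgroup.inv_mem _ hs)
    have h3 : (c : Γ) * s * (c : Γ)⁻¹ * s⁻¹ ∈ K := by
      have : (c : Γ) * s * (c : Γ)⁻¹ * s⁻¹ = (c : Γ) * (s * (c : Γ)⁻¹ * s⁻¹) := by group
      rw [this]
      exact K.mul_mem c.2 (hKn.conj_mem _ (K.inv_mem c.2) s)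
    have h4 : (c : Γ) * s * (c : Γ)⁻¹ * s⁻¹ = 1 := by
      have := Subgroup.disjoint_def.mp hdisj h3 h2
      exact this
    calc (c : Γ) * s = ((c : Γ) * s * (c : Γ)⁻¹ * s⁻¹) * (s * c) := by group
      _ = s * c := by rw [h4, one_mul]
  rw [Subgroup.mem_centralizer_iff]
  intro s hs
  rw [← hct]
  calc s * ((c : Γ) * (t : Γ)) = (s * c) * t := by group
    _ = (c * s) * t := by rw [hcs s hs]
    _ = c * (s * t) := by group
    _ = c * (t * s) := by rw [hPcomm s hs t t.2]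
    _ = (c : Γ) * (t : Γ) * s := by group

/-- Lemma D: the Sylow subgroup is cyclic. -/
theorem exists_generator_of_isComplement' {Γ : Type*} [Group Γ] [Finite Γ] {p : ℕ}
    (P : Sylow p Γ) (hP : IsMulCommutative (P : Subgroup Γ)) {K : Subgroup Γ} (hKn : K.Normal)
    (hKab : IsMulCommutative K) (hK : K.IsComplement' (P : Subgroup Γ))
    (hprop : ∀ L : Subgroup Γ, L.Normal → L ≠ ⊤ → IsMulCommutative L)
    (hΓ : ¬ IsMulCommutative Γ) :
    ∃ s ∈ (P : Subgroup Γ), ∀ t ∈ (P : Subgroup Γ), t ∈ Subgroup.zpowers s := by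
  classical
  by_contra hcon
  push Not at hcon
  apply hΓ
  have hPcomm : ∀ a ∈ (P : Subgroup Γ), ∀ b ∈ (P : Subgroup Γ), a * b = b * a := fun a ha b hb =>
    congrArg Subtype.val (hP.is_comm.comm ⟨a, ha⟩ ⟨b, hb⟩)
  have hKcomm : ∀ a ∈ K, ∀ b ∈ K, a * b = b * a := fun a ha b hb =>
    congrArg Subtype.val (hKab.is_comm.comm ⟨a, ha⟩ ⟨b, hb⟩)
  have hdisj := hK.disjoint
  have hdec : ∀ γ : Γ, ∃ c ∈ K, ∃ t ∈ (P : Subgroup Γ), c * t = γ := by
    intro γ
    obtain ⟨⟨c, t⟩, hct, _⟩ := hK.existsUnique γ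
    exact ⟨c.1, c.2, t.1, t.2, hct⟩
  -- the quotient is commutative
  have hmk : ∀ c ∈ K, ∀ t : Γ, (QuotientGroup.mk (c * t) : Γ ⧸ K) = QuotientGroup.mk t := by
    intro c hc t
    rw [QuotientGroup.mk_mul, (QuotientGroup.eq_one_iff c).mpr hc, one_mul]
  have hqcomm : ∀ a b : Γ ⧸ K, a * b = b * a := by
    intro a b
    obtain ⟨a, rfl⟩ := QuotientGroup.mk_surjective a
    obtain ⟨b, rfl⟩ := QuotientGroup.mk_surjective b
    obtain ⟨c1, hc1, t1, ht1, rfl⟩ := hdec a
    obtain ⟨c2, hc2, t2, ht2, rfl⟩ := hdec b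
    rw [hmk c1 hc1, hmk c2 hc2, ← QuotientGroup.mk_mul, ← QuotientGroup.mk_mul,
      hPcomm t1 ht1 t2 ht2]
  -- every element of P centralizes K
  have hcent : ∀ s ∈ (P : Subgroup Γ), ∀ c ∈ K, s * c = c * s := by
    intro s hs c hc
    set M : Subgroup Γ := (Subgroup.zpowers (QuotientGroup.mk s : Γ ⧸ K)).comap
      (QuotientGroup.mk' K) with hM
    have hMn : M.Normal := by
      have : (Subgroup.zpowers (QuotientGroup.mk s : Γ ⧸ K)).Normal :=
        ⟨fun n hn g => by rw [hqcomm g n, mul_inv_cancel_right]; exact hn⟩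
      exact this.comap _
    have hsM : s ∈ M := by
      rw [hM, Subgroup.mem_comap]; exact Subgroup.mem_zpowers _
    have hcM : c ∈ M := by
      rw [hM, Subgroup.mem_comap, QuotientGroup.mk'_apply, (QuotientGroup.eq_one_iff c).mpr hc]
      exact Subgroup.one_mem _
    have hMne : M ≠ ⊤ := by
      intro htop
      obtain ⟨t, ht, htn⟩ := hcon s hs
      apply htn
      have htM : t ∈ M := by rw [htop]; exact Subgroup.mem_top t
      rw [hM, Subgroup.mem_comap, QuotientGroup.mk'_apply, Subgroup.mem_zpowers_iff] at htM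
      obtain ⟨i, hi⟩ := htM
      rw [← QuotientGroup.mk_zpow, QuotientGroup.eq] at hi
      have h2 : (s ^ i)⁻¹ * t ∈ (P : Subgroup Γ) :=
        Subgroup.mul_mem _ (Subgroup.inv_mem _ (Subgroup.zpow_mem _ hs i)) ht
      have h3 : (s ^ i)⁻¹ * t = 1 := Subgroup.disjoint_def.mp hdisj hi h2
      rw [Subgroup.mem_zpowers_iff]
      refine ⟨i, ?_⟩
      calc s ^ i = s ^ i * ((s ^ i)⁻¹ * t) := by rw [h3, mul_one]
        _ = t := by group
    have hMab := hprop M hMn hMne
    exact congrArg Subtype.val (hMab.is_comm.comm ⟨s, hsM⟩ ⟨c, hcM⟩)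
  refine ⟨⟨fun a b => ?_⟩⟩
  obtain ⟨c1, hc1, t1, ht1, rfl⟩ := hdec a
  obtain ⟨c2, hc2, t2, ht2, rfl⟩ := hdec b
  calc c1 * t1 * (c2 * t2) = c1 * (t1 * c2) * t2 := by group
    _ = c1 * (c2 * t1) * t2 := by rw [hcent t1 ht1 c2 hc2]
    _ = (c1 * c2) * (t1 * t2) := by group
    _ = (c2 * c1) * (t2 * t1) := by rw [hKcomm c1 hc1 c2 hc2, hPcomm t1 ht1 t2 ht2]
    _ = c2 * (c1 * t2) * t1 := by group
    _ = c2 * (t2 * c1) * t1 := by rw [hcent t2 ht2 c1 hc1]
    _ = c2 * t2 * (c1 * t1) := by group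


/-- Lemma A: in a finite simple non-abelian group all of whose non-abelian subgroups are
self-normalizing, the centralizer of a nontrivial element of an abelian Sylow subgroup is abelian. -/
theorem centralizer_isMulCommutative_of_mem_sylow {G : Type*} [Group G] [Finite G]
    [IsSimpleGroup G] (hna : ¬ IsMulCommutative G)
    (hSN : ∀ H : Subgroup G, ¬ IsMulCommutative H → Subgroup.normalizer (H : Set G) = H)
    (p : ℕ) [Fact p.Prime] (S : Sylow p G) (hSab : IsMulCommutative (S : Subgroup G))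
    {x : G} (hxS : x ∈ (S : Subgroup G)) (hx1 : x ≠ 1) :
    IsMulCommutative (Subgroup.centralizer ({x} : Set G)) := by
  classical
  by_contra hH
  set H := Subgroup.centralizer ({x} : Set G) with hHdef
  have hmemH : ∀ h, h ∈ H ↔ h * x = x * h := fun h => Subgroup.mem_centralizer_singleton_iff
  have hNH : Subgroup.normalizer (H : Set G) = H := hSN H hH
  have hScomm : ∀ a ∈ (S : Subgroup G), ∀ b ∈ (S : Subgroup G), a * b = b * a :=
    fun a ha b hb => congrArg Subtype.val (hSab.is_comm.comm ⟨a, ha⟩ ⟨b, hb⟩)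
  have hSH : (S : Subgroup G) ≤ H := fun s hs => (hmemH s).mpr (hScomm s hs x hxS)
  have hxH : x ∈ H := hSH hxS
  -- pass to the group `H`
  let P : Sylow p H := S.subtype hSH
  have hmemP : ∀ h : H, h ∈ (P : Subgroup H) ↔ (h : G) ∈ (S : Subgroup G) := fun h => Iff.rfl
  have hPab : IsMulCommutative (P : Subgroup H) :=
    ⟨⟨fun a b => Subtype.ext (Subtype.ext
      (hScomm a.1.1 ((hmemP a.1).mp a.2) b.1.1 ((hmemP b.1).mp b.2)))⟩⟩
  have hzP : (⟨x, hxH⟩ : H) ∈ (P : Subgroup H) := (hmemP _).mpr hxS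
  have hzc : (⟨x, hxH⟩ : H) ∈ Subgroup.center H := by
    rw [Subgroup.mem_center_iff]
    intro h
    exact Subtype.ext ((hmemH h.1).mp h.2)
  have hz1 : (⟨x, hxH⟩ : H) ≠ 1 := fun h => hx1 (congrArg Subtype.val h)
  have hprop : ∀ L : Subgroup H, L.Normal → L ≠ ⊤ → IsMulCommutative L := by
    intro L hLn hLne
    by_contra hLab
    have hL' : ¬ IsMulCommutative (L.map H.subtype) := by
      intro hc
      apply hLab
      refine ⟨⟨fun a b => Subtype.ext (Subtype.ext ?_)⟩⟩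
      have h := congrArg Subtype.val
        (hc.is_comm.comm ⟨a.1.1, ⟨a.1, a.2, rfl⟩⟩ ⟨b.1.1, ⟨b.1, b.2, rfl⟩⟩)
      simpa using h
    have hself := hSN _ hL'
    have hle : H ≤ Subgroup.normalizer ((L.map H.subtype : Subgroup G) : Set G) := by
      rw [Subgroup.le_normalizer_iff]
      rintro h hh _ ⟨l0, hl0, rfl⟩
      refine ⟨⟨h, hh⟩ * l0 * ⟨h, hh⟩⁻¹, hLn.conj_mem l0 hl0 _, ?_⟩
      simp
    rw [hself] at hle
    apply hLne
    rw [eq_top_iff]
    intro y _
    obtain ⟨l0, hl0, hl0y⟩ := hle y.2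
    have : l0 = y := Subtype.ext hl0y
    rw [← this]; exact hl0
  obtain ⟨K, hKn, hKab, hK⟩ :=
    @exists_normal_complement_of_mem_center H _ _ p _ P hPab _ hzP hzc hz1 hprop
  obtain ⟨s, hsP, hgen⟩ := exists_generator_of_isComplement' P hPab hKn hKab hK hprop hH
  have hNC_H := normalizer_le_centralizer_of_isComplement' P hPab hKn hK
  have hsS : (s : G) ∈ (S : Subgroup G) := (hmemP s).mp hsP
  -- every element of `S` is a power of `s`
  have hgenG : ∀ t ∈ (S : Subgroup G), t ∈ Subgroup.zpowers (s : G) := by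
    intro t ht
    have h1 := hgen ⟨t, hSH ht⟩ ((hmemP _).mpr ht)
    rw [Subgroup.mem_zpowers_iff] at h1 ⊢
    obtain ⟨i, hi⟩ := h1
    refine ⟨i, ?_⟩
    have := congrArg Subtype.val hi
    simpa using this
  -- `N_G(S) ≤ N(⟨x⟩)`
  have h1 : Subgroup.normalizer ((S : Subgroup G) : Set G) ≤
      Subgroup.normalizer ((Subgroup.zpowers x : Subgroup G) : Set G) := by
    rw [Subgroup.le_normalizer_iff]
    intro n hn y hy
    obtain ⟨t, rfl⟩ := Subgroup.mem_zpowers_iff.mp hy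
    obtain ⟨i, hi⟩ := Subgroup.mem_zpowers_iff.mp (hgenG x hxS)
    have hconj : n * (s : G) * n⁻¹ ∈ (S : Subgroup G) :=
      (Subgroup.mem_normalizer_iff.mp hn _).mp hsS
    obtain ⟨j, hj⟩ := Subgroup.mem_zpowers_iff.mp (hgenG _ hconj)
    have hx' : n * x * n⁻¹ = x ^ j := by
      rw [← hi, ← conj_zpow, ← hj, ← zpow_mul, ← zpow_mul, mul_comm]
    rw [Subgroup.mem_zpowers_iff]
    refine ⟨j * t, ?_⟩
    rw [← conj_zpow, hx', ← zpow_mul]
  -- `N(⟨x⟩) ≤ N(H) = H`
  have h2 : Subgroup.normalizer ((Subgroup.zpowers x : Subgroup G) : Set G) ≤ H := by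
    refine le_trans ?_ (le_of_eq hNH)
    rw [Subgroup.le_normalizer_iff]
    intro n hn h hh
    rw [hmemH] at hh ⊢
    have hmem : n⁻¹ * x * n ∈ Subgroup.zpowers x := by
      have := (Subgroup.mem_normalizer_iff.mp (inv_mem hn) x).mp (Subgroup.mem_zpowers x)
      simpa using this
    obtain ⟨j, hj⟩ := Subgroup.mem_zpowers_iff.mp hmem
    have hcomm : h * (n⁻¹ * x * n) = (n⁻¹ * x * n) * h := by
      rw [← hj]
      exact (Commute.zpow_right (show Commute h x from hh) j)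
    calc n * h * n⁻¹ * x = n * (h * (n⁻¹ * x * n)) * n⁻¹ := by group
      _ = n * ((n⁻¹ * x * n) * h) * n⁻¹ := by rw [hcomm]
      _ = x * (n * h * n⁻¹) := by group
  -- `N_G(S) ≤ C_G(S)`
  have hNC : Subgroup.normalizer ((S : Subgroup G) : Set G) ≤
      Subgroup.centralizer ((S : Subgroup G) : Set G) := by
    intro n hn
    have hnH : n ∈ H := h2 (h1 hn)
    have hn' : (⟨n, hnH⟩ : H) ∈ Subgroup.normalizer ((P : Subgroup H) : Set H) := by
      rw [Subgroup.mem_normalizer_iff]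
      intro h
      rw [hmemP, hmemP]
      have := Subgroup.mem_normalizer_iff.mp hn h.1
      simpa using this
    have h3 := hNC_H hn'
    rw [Subgroup.mem_centralizer_iff] at h3 ⊢
    intro t ht
    have h4 := h3 ⟨t, hSH ht⟩ ((hmemP _).mpr ht)
    exact congrArg Subtype.val h4
  -- Burnside's transfer theorem in `G`
  have hcompl := MonoidHom.ker_transferSylow_isComplement' S hNC
  rcases (inferInstance : (MonoidHom.transferSylow S hNC).ker.Normal).eq_bot_or_eq_top with h | h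
  · have hST : (S : Subgroup G) = ⊤ := by
      have := hcompl.sup_eq_top
      rwa [h, bot_sup_eq] at this
    apply hna
    refine ⟨⟨fun a b => ?_⟩⟩
    exact hScomm a (hST ▸ Subgroup.mem_top a) b (hST ▸ Subgroup.mem_top b)
  · have hSb : (S : Subgroup G) = ⊥ := by
      have := hcompl.disjoint
      rw [h] at this
      exact top_disjoint.mp this
    exact hx1 (Subgroup.mem_bot.mp (le_of_eq hSb hxS))

end Cfsg.Agent.Lib.Helper21.SNA
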