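import Mathlib
import Cfsg.Agent.S0071

/-!
# K-SN (S4073): Lemma 1 and Lemma B

Setting: `hSN`: every non-abelian subgroup of the finite group `G` is self-normalizing.

* `card_prime_of_forall_normalizer_eq`: a nontrivial finite group all of whose nontrivial subgroups
  are self-normalizing has prime order.
* `normalizer_eq_centralizer_or` (Lemma 1): `U` abelian: `N(U) = C(U)`, or `C(U)` abelian and
  `|N(U) : C(U)|` prime.
* `sylow_isMulCommutative` (Lemma B): `G` simple non-abelian: every Sylow subgroup is abelian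
  (uses the Frobenius normal `p`-complement theorem S0071).
-/

set_option autoImplicit false

namespace Cfsg.Agent.Lib.Helper21.SNB

open Subgroup


/-- A nontrivial finite group with only the two trivial subgroups has prime order. -/
theorem card_prime_of_forall_eq_bot_or_top {Q : Type*} [Group Q] [Finite Q] [Nontrivial Q]
    (h : ∀ H : Subgroup Q, H = ⊥ ∨ H = ⊤) : (Nat.card Q).Prime := by
  classical
  have hcard : Nat.card Q ≠ 1 := by
    intro h1
    have := (Nat.card_eq_one_iff_unique.mp h1).1
    exact not_subsingleton Q this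
  obtain ⟨p, hp, hpd⟩ := Nat.exists_prime_and_dvd hcard
  have : Fact p.Prime := ⟨hp⟩
  obtain ⟨g, hg⟩ := exists_prime_orderOf_dvd_card' p hpd
  have hne : Subgroup.zpowers g ≠ ⊥ := by
    intro hb
    rw [Subgroup.zpowers_eq_bot] at hb
    rw [hb, orderOf_one] at hg
    exact hp.ne_one hg.symm
  have htop : Subgroup.zpowers g = ⊤ := (h _).resolve_left hne
  have : Nat.card Q = p := by
    rw [← hg, ← Nat.card_zpowers, htop, Subgroup.card_top]
  rw [this]; exact hp

/-- A nontrivial finite group all of whose nontrivial subgroups are self-normalizing has prime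
order. -/
theorem card_prime_of_forall_normalizer_eq {Q : Type*} [Group Q] [Finite Q] [Nontrivial Q]
    (h : ∀ H : Subgroup Q, H ≠ ⊥ → Subgroup.normalizer (H : Set Q) = H) :
    (Nat.card Q).Prime := by
  classical
  -- a nontrivial normal subgroup is everything
  have hnorm : ∀ H : Subgroup Q, H.Normal → H ≠ ⊥ → H = ⊤ := by
    intro H hH hne
    have := h H hne
    rw [Subgroup.normalizer_eq_top] at this
    exact this.symm
  -- pick a prime
  have hcard : Nat.card Q ≠ 1 := by
    intro h1
    have := (Nat.card_eq_one_iff_unique.mp h1).1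
    exact not_subsingleton Q this
  obtain ⟨p, hp, hpd⟩ := Nat.exists_prime_and_dvd hcard
  have : Fact p.Prime := ⟨hp⟩
  obtain ⟨P⟩ : Nonempty (Sylow p Q) := inferInstance
  have hPne : (P : Subgroup Q) ≠ ⊥ := P.ne_bot_of_dvd_card hpd
  have hNP : Subgroup.normalizer ((P : Subgroup Q) : Set Q) = P := h _ hPne
  -- the centre of P
  have : Nontrivial (P : Subgroup Q) := (Subgroup.nontrivial_iff_ne_bot _).mpr hPne
  have hZnt : Nontrivial (Subgroup.center (P : Subgroup Q)) := P.2.center_nontrivial
  set Z : Subgroup Q := (Subgroup.center (P : Subgroup Q)).map (P : Subgroup Q).subtype with hZ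
  have hZne : Z ≠ ⊥ := by
    intro hb
    rw [hZ, Subgroup.map_eq_bot_iff_of_injective _ (Subgroup.subtype_injective _)] at hb
    exact (Subgroup.nontrivial_iff_ne_bot _).mp hZnt hb
  have hPZ : (P : Subgroup Q) ≤ Subgroup.normalizer (Z : Set Q) := by
    rw [Subgroup.le_normalizer_iff]
    intro g hg z hz
    obtain ⟨z0, hz0, rfl⟩ := hz
    refine ⟨z0, hz0, ?_⟩
    have := Subgroup.mem_center_iff.mp hz0 ⟨g, hg⟩
    have h2 : g * z0.1 = z0.1 * g := congrArg Subtype.val this
    simp only [Subgroup.coe_subtype]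
    rw [h2]; group
  rw [h Z hZne] at hPZ
  -- P is abelian
  have hcomm : ∀ a ∈ (P : Subgroup Q), ∀ b ∈ (P : Subgroup Q), a * b = b * a := by
    intro a ha b hb
    obtain ⟨z0, hz0, rfl⟩ := hPZ ha
    have := Subgroup.mem_center_iff.mp hz0 ⟨b, hb⟩
    exact (congrArg Subtype.val this).symm
  have hNC : Subgroup.normalizer ((P : Subgroup Q) : Set Q) ≤
      Subgroup.centralizer ((P : Subgroup Q) : Set Q) := by
    rw [hNP]
    intro a ha
    rw [Subgroup.mem_centralizer_iff]
    intro b hb
    exact hcomm b hb a ha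
  have hcompl := MonoidHom.ker_transferSylow_isComplement' P hNC
  set K := (MonoidHom.transferSylow P hNC).ker with hK
  have hKbot : K = ⊥ := by
    by_contra hne
    have htop := hnorm K inferInstance hne
    have hdisj := hcompl.disjoint
    rw [htop] at hdisj
    exact hPne (top_disjoint.mp hdisj)
  have hPtop : (P : Subgroup Q) = ⊤ := by
    have := hcompl.sup_eq_top
    rwa [hKbot, bot_sup_eq] at this
  -- now Q is a p-group, hence nilpotent: normalizers grow
  have hQp : IsPGroup p Q := by
    have := P.2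
    rw [hPtop] at this
    exact (IsPGroup.of_equiv this (Subgroup.topEquiv)) 
  have hnil : Group.IsNilpotent Q := hQp.isNilpotent
  apply card_prime_of_forall_eq_bot_or_top
  intro H
  by_cases hb : H = ⊥
  · exact Or.inl hb
  · right
    by_contra ht
    have := Group.normalizerCondition_of_isNilpotent H (lt_top_iff_ne_top.mpr ht)
    rw [h H hb] at this
    exact lt_irrefl _ this



/-- Lemma 1. -/
theorem normalizer_eq_centralizer_or {G : Type*} [Group G] [Finite G]
    (hSN : ∀ H : Subgroup G, ¬ IsMulCommutative H → Subgroup.normalizer (H : Set G) = H)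
    (U : Subgroup G) (hU : IsMulCommutative U) :
    Subgroup.normalizer (U : Set G) = Subgroup.centralizer (U : Set G) ∨
      (IsMulCommutative (Subgroup.centralizer (U : Set G)) ∧
        ((Subgroup.centralizer (U : Set G)).relIndex (Subgroup.normalizer (U : Set G))).Prime) := by
  classical
  set N := Subgroup.normalizer (U : Set G) with hN
  set C := Subgroup.centralizer (U : Set G) with hC
  have hCN : C ≤ N := Subgroup.centralizer_le_normalizer _
  have hUC : U ≤ C := by
    intro u hu
    rw [hC, Subgroup.mem_centralizer_iff]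
    intro v hv
    have := hU.is_comm.comm ⟨v, hv⟩ ⟨u, hu⟩
    exact congrArg Subtype.val this
  by_cases hEq : N = C
  · exact Or.inl hEq
  right
  have hlt : C < N := lt_of_le_of_ne hCN (Ne.symm hEq)
  -- C normal in N
  have hCnormal : (C.subgroupOf N).Normal := by
    have : N ≤ Subgroup.normalizer (C : Set G) := by
      rw [Subgroup.le_normalizer_iff]
      intro n hn c hc
      rw [hC, Subgroup.mem_centralizer_iff] at hc ⊢
      intro u hu
      -- n c n⁻¹ commutes with u  iff  c commutes with n⁻¹ u n
      have hu' : n⁻¹ * u * n ∈ U := by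
        have := (Subgroup.mem_normalizer_iff.mp (inv_mem hn) u).mp hu
        simpa using this
      have := hc _ hu'
      calc u * (n * c * n⁻¹) = n * ((n⁻¹ * u * n) * c) * n⁻¹ := by group
        _ = n * (c * (n⁻¹ * u * n)) * n⁻¹ := by rw [this]
        _ = n * c * n⁻¹ * u := by group
    exact (Subgroup.normal_subgroupOf_iff_le_normalizer hCN).mpr this
  -- any H with C < H is non-abelian
  have hnab : ∀ H : Subgroup G, C ≤ H → ¬ H ≤ C → ¬ IsMulCommutative H := by
    intro H hCH hHC hcomm
    apply hHC
    intro x hx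
    rw [hC, Subgroup.mem_centralizer_iff]
    intro u hu
    have := hcomm.is_comm.comm ⟨u, hCH (hUC hu)⟩ ⟨x, hx⟩
    exact congrArg Subtype.val this
  -- C is abelian
  have hCab : IsMulCommutative C := by
    by_contra hnc
    have h1 := hSN C hnc
    have h2 : N ≤ Subgroup.normalizer (C : Set G) :=
      (Subgroup.normal_subgroupOf_iff_le_normalizer hCN).mp hCnormal
    rw [h1] at h2
    exact hEq (le_antisymm h2 hCN)
  refine ⟨hCab, ?_⟩
  -- the quotient
  have hnt : Nontrivial (N ⧸ C.subgroupOf N) := by
    rw [QuotientGroup.nontrivial_iff]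
    intro htop
    rw [Subgroup.subgroupOf_eq_top] at htop
    exact hEq (le_antisymm htop hCN)
  have key : (Nat.card (N ⧸ C.subgroupOf N)).Prime := by
    apply card_prime_of_forall_normalizer_eq
    intro Hb hHb
    -- preimage
    set H : Subgroup G := (Hb.comap (QuotientGroup.mk' (C.subgroupOf N))).map N.subtype with hH
    have hCH : C ≤ H := by
      intro c hc
      refine ⟨⟨c, hCN hc⟩, ?_, rfl⟩
      rw [SetLike.mem_coe, Subgroup.mem_comap]
      have : (QuotientGroup.mk' (C.subgroupOf N)) ⟨c, hCN hc⟩ = 1 := by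
        rw [QuotientGroup.mk'_apply, QuotientGroup.eq_one_iff]
        exact hc
      rw [this]; exact one_mem _
    have hHN : H ≤ N := by
      rintro _ ⟨x, _, rfl⟩
      exact x.2
    have hmemH : ∀ x : N, (x : G) ∈ H ↔ (QuotientGroup.mk' (C.subgroupOf N)) x ∈ Hb := by
      intro x
      constructor
      · rintro ⟨y, hy, hyx⟩
        have : y = x := Subtype.ext hyx
        rw [← this]; exact hy
      · intro hx
        exact ⟨x, hx, rfl⟩
    have hHC : ¬ H ≤ C := by
      intro hle
      apply hHb
      rw [eq_bot_iff]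
      intro y hy
      obtain ⟨x, rfl⟩ := QuotientGroup.mk'_surjective (C.subgroupOf N) y
      have hxH : (x : G) ∈ H := (hmemH x).mpr hy
      have hxC : (x : G) ∈ C := hle hxH
      rw [Subgroup.mem_bot, QuotientGroup.mk'_apply, QuotientGroup.eq_one_iff]
      exact hxC
    have hself := hSN H (hnab H hCH hHC)
    apply le_antisymm
    · intro y hy
      obtain ⟨x, rfl⟩ := QuotientGroup.mk'_surjective (C.subgroupOf N) y
      rw [← hmemH]
      rw [← hself]
      rw [Subgroup.mem_normalizer_iff]
      intro g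
      constructor
      · intro hg
        have hgN : g ∈ N := hHN hg
        have h1 := (hmemH ⟨g, hgN⟩).mp hg
        have h2 := (Subgroup.mem_normalizer_iff.mp hy _).mp h1
        have h3 : (QuotientGroup.mk' (C.subgroupOf N)) (x * ⟨g, hgN⟩ * x⁻¹) ∈ Hb := by
          simpa using h2
        exact (hmemH _).mpr h3
      · intro hg
        have hgN : g ∈ N := by
          have h1 : (x : G) * g * (x : G)⁻¹ ∈ N := hHN hg
          have h2 := N.mul_mem (N.mul_mem (N.inv_mem x.2) h1) x.2
          simpa [mul_assoc] using h2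
        have h3 : (x * ⟨g, hgN⟩ * x⁻¹ : N) ∈ Hb.comap (QuotientGroup.mk' (C.subgroupOf N)) := by
          rw [Subgroup.mem_comap, ← hmemH]
          simpa using hg
        have h4 : (QuotientGroup.mk' (C.subgroupOf N)) (x * ⟨g, hgN⟩ * x⁻¹) ∈ Hb := h3
        rw [map_mul, map_mul, map_inv] at h4
        have h5 := (Subgroup.mem_normalizer_iff.mp hy _).mpr h4
        exact (hmemH ⟨g, hgN⟩).mpr h5
    · exact Subgroup.le_normalizer
  rw [Subgroup.relIndex, Subgroup.index_eq_card]
  exact key



/-- The centralizer is normal in the normalizer. -/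
theorem centralizer_subgroupOf_normalizer_normal {G : Type*} [Group G] (U : Subgroup G) :
    ((Subgroup.centralizer (U : Set G)).subgroupOf (Subgroup.normalizer (U : Set G))).Normal := by
  have hCN : Subgroup.centralizer (U : Set G) ≤ Subgroup.normalizer (U : Set G) :=
    Subgroup.centralizer_le_normalizer _
  have : Subgroup.normalizer (U : Set G) ≤
      Subgroup.normalizer ((Subgroup.centralizer (U : Set G) : Subgroup G) : Set G) := by
    rw [Subgroup.le_normalizer_iff]
    intro n hn c hc
    rw [Subgroup.mem_centralizer_iff] at hc ⊢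
    intro u hu
    have hu' : n⁻¹ * u * n ∈ U := by
      have := (Subgroup.mem_normalizer_iff.mp (inv_mem hn) u).mp hu
      simpa using this
    have := hc _ hu'
    calc u * (n * c * n⁻¹) = n * ((n⁻¹ * u * n) * c) * n⁻¹ := by group
      _ = n * (c * (n⁻¹ * u * n)) * n⁻¹ := by rw [this]
      _ = n * c * n⁻¹ * u := by group
  exact (Subgroup.normal_subgroupOf_iff_le_normalizer hCN).mpr this

/-- Coprime-order elements of `K` die in a quotient `K/H` of coprime order. -/
theorem mem_of_pow_eq_one_of_coprime_relIndex {G : Type*} [Group G] [Finite G]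
    {H K : Subgroup G} (hn : (H.subgroupOf K).Normal) {x : G} (hx : x ∈ K) {m : ℕ}
    (hm : x ^ m = 1) (hcop : Nat.Coprime m (H.relIndex K)) : x ∈ H := by
  have h1 : (QuotientGroup.mk' (H.subgroupOf K) ⟨x, hx⟩) ^ m = 1 := by
    rw [← map_pow]
    have : (⟨x, hx⟩ : K) ^ m = 1 := Subtype.ext (by simpa using hm)
    rw [this, map_one]
  have h2 : (QuotientGroup.mk' (H.subgroupOf K) ⟨x, hx⟩) ^ (H.relIndex K) = 1 := by
    rw [Subgroup.relIndex, Subgroup.index_eq_card]
    exact pow_card_eq_one'
  have h3 : orderOf (QuotientGroup.mk' (H.subgroupOf K) ⟨x, hx⟩) ∣ 1 := by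
    rw [← Nat.Coprime.gcd_eq_one hcop]
    exact Nat.dvd_gcd (orderOf_dvd_of_pow_eq_one h1) (orderOf_dvd_of_pow_eq_one h2)
  have h4 : QuotientGroup.mk' (H.subgroupOf K) ⟨x, hx⟩ = 1 := by
    rw [← orderOf_eq_one_iff]; exact Nat.dvd_one.mp h3
  rw [QuotientGroup.mk'_apply, QuotientGroup.eq_one_iff] at h4
  exact h4

/-- Normalizers grow in `p`-subgroups. -/
theorem exists_mem_normalizer_not_mem {G : Type*} [Group G] [Finite G] {p : ℕ} [Fact p.Prime]
    {S A : Subgroup G} (hS : IsPGroup p S) (hAS : A ≤ S) (hne : A ≠ S) :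
    ∃ s ∈ S, s ∈ Subgroup.normalizer (A : Set G) ∧ s ∉ A := by
  have hnil : Group.IsNilpotent S := hS.isNilpotent
  have hlt : A.subgroupOf S < ⊤ := by
    rw [lt_top_iff_ne_top, Ne, Subgroup.subgroupOf_eq_top]
    intro hle
    exact hne (le_antisymm hAS hle)
  have hgrow := Group.normalizerCondition_of_isNilpotent (A.subgroupOf S) hlt
  obtain ⟨x, hxN, hxA⟩ := SetLike.exists_of_lt hgrow
  refine ⟨x.1, x.2, ?_, fun h => hxA (Subgroup.mem_subgroupOf.mpr h)⟩
  rw [Subgroup.mem_normalizer_iff]
  intro h
  constructor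
  · intro hh
    have hhS : h ∈ S := hAS hh
    have := (Subgroup.mem_normalizer_iff.mp hxN ⟨h, hhS⟩).mp (Subgroup.mem_subgroupOf.mpr hh)
    have := Subgroup.mem_subgroupOf.mp this
    simpa using this
  · intro hh
    have hhS : h ∈ S := by
      have h1 : x.1 * h * x.1⁻¹ ∈ S := hAS hh
      have h2 := S.mul_mem (S.mul_mem (S.inv_mem x.2) h1) x.2
      simpa [mul_assoc] using h2
    have h3 : x * ⟨h, hhS⟩ * x⁻¹ ∈ A.subgroupOf S := by
      rw [Subgroup.mem_subgroupOf]; simpa using hh
    have := (Subgroup.mem_normalizer_iff.mp hxN ⟨h, hhS⟩).mpr h3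
    exact Subgroup.mem_subgroupOf.mp this

/-- Lemma B: the Sylow subgroups are abelian. -/
theorem sylow_isMulCommutative {G : Type*} [Group G] [Finite G] [IsSimpleGroup G]
    (hna : ¬ IsMulCommutative G)
    (hSN : ∀ H : Subgroup G, ¬ IsMulCommutative H → Subgroup.normalizer (H : Set G) = H)
    (p : ℕ) [Fact p.Prime] (S : Sylow p G) : IsMulCommutative (S : Subgroup G) := by
  classical
  by_contra hS
  have hp : p.Prime := Fact.out
  have hNS : Subgroup.normalizer ((S : Subgroup G) : Set G) = S := hSN _ hS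
  -- no normal complement
  have hnc : ¬ ∃ N : Subgroup G, N.Normal ∧ N.IsComplement' (S : Subgroup G) := by
    rintro ⟨N, hNn, hN⟩
    rcases hNn.eq_bot_or_eq_top with h | h
    · have hST : (S : Subgroup G) = ⊤ := by
        have := hN.sup_eq_top
        rwa [h, bot_sup_eq] at this
      have hGp : IsPGroup p G := by
        have := S.2
        rw [hST] at this
        exact IsPGroup.of_equiv this Subgroup.topEquiv
      have hcnt : Nontrivial (Subgroup.center G) := hGp.center_nontrivial
      have hcne : Subgroup.center G ≠ ⊥ := (Subgroup.nontrivial_iff_ne_bot _).mp hcnt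
      have hctop : Subgroup.center G = ⊤ :=
        ((inferInstance : (Subgroup.center G).Normal).eq_bot_or_eq_top).resolve_left hcne
      apply hna
      refine ⟨⟨fun a b => ?_⟩⟩
      have : b ∈ Subgroup.center G := by rw [hctop]; exact Subgroup.mem_top b
      exact (Subgroup.mem_center_iff.mp this a)
    · have hSb : (S : Subgroup G) = ⊥ := by
        have := hN.disjoint
        rw [h] at this
        exact top_disjoint.mp this
      apply hS
      refine ⟨⟨fun a b => Subtype.ext ?_⟩⟩
      have ha : a.1 = 1 := Subgroup.mem_bot.mp (le_of_eq hSb a.2)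
      have hb : b.1 = 1 := Subgroup.mem_bot.mp (le_of_eq hSb b.2)
      simp [ha, hb]
  rw [Cfsg.Agent.S0071.result S] at hnc
  push Not at hnc
  obtain ⟨Q, hQS, g, hgN, hgcop, hgC⟩ := hnc
  set k := (Nat.card G).factorization p with hk
  -- p-elements have order dividing p^k
  have hpk : ∀ (S1 : Sylow p G), ∀ x ∈ (S1 : Subgroup G), x ^ (p ^ k) = 1 := by
    intro S1 x hx
    have h1 : (⟨x, hx⟩ : (S1 : Subgroup G)) ^ Nat.card (S1 : Subgroup G) = 1 := pow_card_eq_one'
    rw [S1.card_eq_multiplicity] at h1
    have := congrArg Subtype.val h1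
    simpa using this
  -- coprime-to-p elements of p-power order are trivial
  have hone : ∀ x : G, x ^ (p ^ k) = 1 → Nat.Coprime (orderOf x) p → x = 1 := by
    intro x h1 hcop
    have h2 : orderOf x ∣ p ^ k := orderOf_dvd_of_pow_eq_one h1
    have h3 : Nat.Coprime (orderOf x) (p ^ k) := Nat.Coprime.pow_right k hcop
    have h4 : orderOf x = 1 := Nat.Coprime.eq_one_of_dvd h3 h2
    exact orderOf_eq_one_iff.mp h4
  -- Q is a proper subgroup of S
  have hQne : Q ≠ S := by
    intro hQ
    apply hgC
    have hgS : g ∈ (S : Subgroup G) := by rw [← hNS, ← hQ]; exact hgN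
    rw [hone g (hpk S g hgS) hgcop]
    exact one_mem _
  -- hence Q is abelian
  have hQab : IsMulCommutative Q := by
    by_contra hQn
    obtain ⟨s, _, hsN, hsQ⟩ := exists_mem_normalizer_not_mem S.2 hQS hQne
    rw [hSN Q hQn] at hsN
    exact hsQ hsN
  -- Lemma 1 for Q
  have hCab : IsMulCommutative (Subgroup.centralizer (Q : Set G)) := by
    rcases normalizer_eq_centralizer_or hSN Q hQab with h | h
    · exact absurd (h ▸ hgN) hgC
    · exact h.1
  set C := Subgroup.centralizer (Q : Set G) with hC
  have hQC : Q ≤ C := by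
    intro u hu
    rw [hC, Subgroup.mem_centralizer_iff]
    intro v hv
    exact congrArg Subtype.val (hQab.is_comm.comm ⟨v, hv⟩ ⟨u, hu⟩)
  have hCcomm : ∀ a ∈ C, ∀ b ∈ C, a * b = b * a := fun a ha b hb =>
    congrArg Subtype.val (hCab.is_comm.comm ⟨a, ha⟩ ⟨b, hb⟩)
  -- the p-part of C
  let A : Subgroup G :=
    { carrier := {c | c ∈ C ∧ c ^ (p ^ k) = 1}
      mul_mem' := by
        rintro a b ⟨ha, ha'⟩ ⟨hb, hb'⟩
        refine ⟨C.mul_mem ha hb, ?_⟩
        rw [(show Commute a b from hCcomm a ha b hb).mul_pow, ha', hb', one_mul]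
      one_mem' := ⟨C.one_mem, one_pow _⟩
      inv_mem' := by
        rintro a ⟨ha, ha'⟩
        exact ⟨C.inv_mem ha, by rw [inv_pow, ha', inv_one]⟩ }
  have hmemA : ∀ c, c ∈ A ↔ c ∈ C ∧ c ^ (p ^ k) = 1 := fun c => Iff.rfl
  have hAC : A ≤ C := fun c hc => hc.1
  have hQA : Q ≤ A := fun u hu => ⟨hQC hu, hpk S u (hQS hu)⟩
  have hAp : IsPGroup p A := by
    intro a
    refine ⟨k, Subtype.ext ?_⟩
    simpa using a.2.2
  have hAab : IsMulCommutative A :=
    ⟨⟨fun a b => Subtype.ext (hCcomm a.1 (hAC a.2) b.1 (hAC b.2))⟩⟩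
  obtain ⟨S1, hAS1⟩ := hAp.exists_le_sylow
  have hS1 : ¬ IsMulCommutative (S1 : Subgroup G) := by
    intro h1
    apply hS
    let e : (S : Subgroup G) ≃* (S1 : Subgroup G) := Sylow.equiv S S1
    refine ⟨⟨fun a b => e.injective ?_⟩⟩
    rw [map_mul, map_mul]
    exact h1.is_comm.comm _ _
  have hAne : A ≠ S1 := by
    intro h
    apply hS1
    rw [← h]; exact hAab
  obtain ⟨s, hsS1, hsN, hsA⟩ := exists_mem_normalizer_not_mem S1.2 hAS1 hAne
  have hsCA : s ∉ Subgroup.centralizer (A : Set G) := by
    intro hsc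
    apply hsA
    refine ⟨?_, hpk S1 s hsS1⟩
    exact Subgroup.centralizer_le (show (Q : Set G) ⊆ A from hQA) hsc
  -- Lemma 1 for A
  have hprime : ((Subgroup.centralizer (A : Set G)).relIndex
      (Subgroup.normalizer (A : Set G))).Prime := by
    rcases normalizer_eq_centralizer_or hSN A hAab with h | h
    · exact absurd (h ▸ hsN) hsCA
    · exact h.2
  set l := (Subgroup.centralizer (A : Set G)).relIndex (Subgroup.normalizer (A : Set G)) with hl
  have hnormal := centralizer_subgroupOf_normalizer_normal A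
  have hlp : l = p := by
    by_contra hne
    apply hsCA
    refine mem_of_pow_eq_one_of_coprime_relIndex hnormal hsN (hpk S1 s hsS1) ?_
    rw [← hl]
    apply Nat.Coprime.pow_left
    exact (Nat.coprime_primes hp hprime).mpr (Ne.symm hne)
  -- g normalizes A
  have hgNA : g ∈ Subgroup.normalizer (A : Set G) := by
    have : Subgroup.normalizer (Q : Set G) ≤ Subgroup.normalizer (A : Set G) := by
      rw [Subgroup.le_normalizer_iff]
      intro n hn c hc
      refine ⟨?_, ?_⟩
      · have h1 := centralizer_subgroupOf_normalizer_normal Q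
        have h2 := (Subgroup.normal_subgroupOf_iff_le_normalizer
          (Subgroup.centralizer_le_normalizer _)).mp h1
        exact (Subgroup.le_normalizer_iff.mp h2) n hn c hc.1
      · rw [conj_pow, hc.2]; simp
    exact this hgN
  have hgCA : g ∈ Subgroup.centralizer (A : Set G) := by
    refine mem_of_pow_eq_one_of_coprime_relIndex hnormal hgNA (pow_orderOf_eq_one g) ?_
    rw [← hl, hlp]; exact hgcop
  exact hgC (Subgroup.centralizer_le (show (Q : Set G) ⊆ A from hQA) hgCA)


end Cfsg.Agent.Lib.Helper21.SNB
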