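import Mathlib
import Cfsg.Agent.Lib.Helper21.SNB
import Cfsg.Agent.Lib.Helper21.SNA

/-!
# K-SN (S4073): the CA property

A finite simple non-abelian group all of whose non-abelian subgroups are self-normalizing is a
CA-group: commuting is transitive on the non-identity elements (the hypothesis of S5748).
-/

set_option autoImplicit false

namespace Cfsg.Agent.Lib.Helper21.SNCA

open Subgroup

/-- Centralizers of non-identity elements are abelian. -/
theorem centralizer_isMulCommutative {G : Type*} [Group G] [Finite G] [IsSimpleGroup G]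
    (hna : ¬ IsMulCommutative G)
    (hSN : ∀ H : Subgroup G, ¬ IsMulCommutative H → Subgroup.normalizer (H : Set G) = H)
    {b : G} (hb : b ≠ 1) : IsMulCommutative (Subgroup.centralizer ({b} : Set G)) := by
  classical
  have hord : orderOf b ≠ 1 := fun h => hb (orderOf_eq_one_iff.mp h)
  have hpos : 0 < orderOf b := orderOf_pos b
  obtain ⟨p, hp, hpd⟩ := Nat.exists_prime_and_dvd hord
  have : Fact p.Prime := ⟨hp⟩
  set y := b ^ (orderOf b / p) with hy
  have hyord : orderOf y = p := orderOf_pow_orderOf_div hpos.ne' hpd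
  have hy1 : y ≠ 1 := by
    intro h
    rw [h, orderOf_one] at hyord
    exact hp.ne_one hyord.symm
  have hyp : IsPGroup p (Subgroup.zpowers y) := by
    apply IsPGroup.of_card (n := 1)
    rw [Nat.card_zpowers, hyord, pow_one]
  obtain ⟨S, hS⟩ := hyp.exists_le_sylow
  have hSab := Cfsg.Agent.Lib.Helper21.SNB.sylow_isMulCommutative hna hSN p S
  have hCy := Cfsg.Agent.Lib.Helper21.SNA.centralizer_isMulCommutative_of_mem_sylow hna hSN p S
    hSab (hS (Subgroup.mem_zpowers y)) hy1
  have hle : Subgroup.centralizer ({b} : Set G) ≤ Subgroup.centralizer ({y} : Set G) := by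
    intro a ha
    rw [Subgroup.mem_centralizer_singleton_iff] at ha ⊢
    exact (Commute.pow_right (show Commute a b from ha) _)
  refine ⟨⟨fun u v => Subtype.ext ?_⟩⟩
  have h := congrArg Subtype.val (hCy.is_comm.comm ⟨u.1, hle u.2⟩ ⟨v.1, hle v.2⟩)
  simpa using h

/-- Commuting is transitive on the non-identity elements. -/
theorem commute_trans_of_sn {G : Type*} [Group G] [Finite G] [IsSimpleGroup G]
    (hna : ¬ IsMulCommutative G)
    (hSN : ∀ H : Subgroup G, ¬ IsMulCommutative H → Subgroup.normalizer (H : Set G) = H) :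
    ∀ a b c : G, a ≠ 1 → b ≠ 1 → c ≠ 1 → Commute a b → Commute b c → Commute a c := by
  intro a b c _ hb _ hab hbc
  have hC := centralizer_isMulCommutative hna hSN hb
  have ha : a ∈ Subgroup.centralizer ({b} : Set G) :=
    Subgroup.mem_centralizer_singleton_iff.mpr hab.eq
  have hc : c ∈ Subgroup.centralizer ({b} : Set G) :=
    Subgroup.mem_centralizer_singleton_iff.mpr hbc.symm.eq
  exact congrArg Subtype.val (hC.is_comm.comm ⟨a, ha⟩ ⟨c, hc⟩)

end Cfsg.Agent.Lib.Helper21.SNCA
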