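import Mathlib

/-!
# K-SNC-10 (keystone 407310): Sylow subgroups of a CA-group are abelian
-/

set_option autoImplicit false

universe u

namespace Cfsg.Agent.Lib.Helper21.SNC

/-- 407310 SNC-10: Sylow subgroups of a CA-group are abelian. -/
theorem sylow_comm_of_ct {X : Type u} [Group X] [Finite X]
    (hCT : ∀ a b c : X, a ≠ 1 → a * b = b * a → a * c = c * a → b * c = c * b)
    (p : ℕ) [Fact p.Prime] (P : Sylow p X) : IsMulCommutative ↥(P : Subgroup X) := by
  classical
  by_cases hb : (P : Subgroup X) = ⊥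
  · refine ⟨⟨fun a b => Subtype.ext ?_⟩⟩
    have ha : a.1 = 1 := Subgroup.mem_bot.mp (le_of_eq hb a.2)
    have hb' : b.1 = 1 := Subgroup.mem_bot.mp (le_of_eq hb b.2)
    simp [ha, hb']
  · have hnt : Nontrivial (P : Subgroup X) := (Subgroup.nontrivial_iff_ne_bot _).mpr hb
    have hcnt : Nontrivial (Subgroup.center (P : Subgroup X)) := P.2.center_nontrivial
    obtain ⟨z, hz⟩ := exists_ne (1 : Subgroup.center (P : Subgroup X))
    have hz1 : ((z : (P : Subgroup X)) : X) ≠ 1 := by
      intro h
      apply hz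
      apply Subtype.ext
      apply Subtype.ext
      simpa using h
    have hzc : ∀ x : (P : Subgroup X), ((z : (P : Subgroup X)) : X) * x = x * z := by
      intro x
      have := Subgroup.mem_center_iff.mp z.2 x
      exact (congrArg Subtype.val this).symm
    refine ⟨⟨fun a b => Subtype.ext ?_⟩⟩
    exact hCT _ a.1 b.1 hz1 (hzc a) (hzc b)

end Cfsg.Agent.Lib.Helper21.SNC
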