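import Cfsg.Agent.Lib.Helper24.TwCount
import Cfsg.Agent.Lib.Helper38.SQ.Defs

set_option autoImplicit false

/-!
# K-SQ: the fixed points `U ∩ Fix σ` of a twisted group in characteristic 2 (classes of length ≤ 2)
are generated by involutions, hence all squares are products of commutators.
Generic part over `Helper24.TwU` (no tables).
-/

namespace Cfsg.Agent.Lib.Helper21.SQ

open Cfsg Cfsg.Lie Cfsg.Agent.Lib.Helper24 Cfsg.Agent.Lib.Helper38.SQ

section generic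

variable {F : Type*} [Field F] {D : ChevalleyDatum} {tab : List ℕ} {orb : List (ℕ × ℕ × ℕ)}
variable {E : Env D F tab orb} {T : Tw D F E.hF} {Hd : List (ℕ × ℕ)} {Lc : List ℕ} {Λ : List ℤ}

theorem xGL_sq [CharP F 2] (hF : Facts D) (s : ℕ) (t : F) : hF.xGL s t ^ 2 = 1 := by
  rw [sq, hF.xGL_mul, CharTwo.add_self_eq_zero, hF.xGL_zero]

theorem cls_one_sq [CharP F 2] {hF : Facts D} (T : Tw D F hF) (p : ℕ × F) : T.cls 1 p ^ 2 = 1 := by
  have : T.cls 1 p = hF.xGL p.1 p.2 := by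
    show T.xp p * 1 = _
    rw [mul_one]; rfl
  rw [this, xGL_sq]

theorem cls_two_sq [CharP F 2] (hT : TwU E T Hd Lc Λ) (p : ℕ × ℕ) (hp : p ∈ Hd) (h2 : p.2 = 2)
    (t : F) : T.cls 2 (p.1, t) ^ 2 = 1 := by
  have e : T.cls 2 (p.1, t) =
      E.hF.xGL p.1 t * E.hF.xGL (T.R^[1] p.1) ((T.η p.1 : F) * T.f t) := by
    show T.xp (p.1, t) * (T.xp (T.step (p.1, t)) * 1) = _
    rw [mul_one]; rfl
  have hc := hT.commute_head p hp t ((T.η p.1 : F) * T.f t) 1 (by omega) (by omega)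
  rw [e, hc.mul_pow, xGL_sq, xGL_sq, one_mul]

theorem cls_sq [CharP F 2] (hT : TwU E T Hd Lc Λ) (p : ℕ × ℕ) (hp : p ∈ Hd) (h2 : p.2 ≤ 2) (t : F) :
    T.cls p.2 (p.1, t) ^ 2 = 1 := by
  have h0 := (hT.hd p hp).2
  have h12 : p.2 = 1 ∨ p.2 = 2 := by omega
  rcases h12 with h | h
  · rw [h]; exact cls_one_sq T _
  · rw [h]; exact cls_two_sq hT p hp h t

/-- the generators: the class elements with admissible parameters -/
def clsSet {hF : Facts D} (T : Tw D F hF) (Hd : List (ℕ × ℕ)) : Set (GL D.Idx F) :=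
  {g | ∃ p ∈ Hd, ∃ t : F, (T.step^[p.2] (p.1, t)).2 = t ∧ g = T.cls p.2 (p.1, t)}

theorem eltSet_sub_closure {hF : Facts D} (T : Tw D F hF) (Hd Hd' : List (ℕ × ℕ))
    (hsub : ∀ p ∈ Hd', p ∈ Hd) :
    T.eltSet (fun _ => True) Hd' ⊆ (Subgroup.closure (clsSet T Hd) : Set (GL D.Idx F)) := by
  induction Hd' with
  | nil =>
    intro x hx
    rw [Tw.eltSet, Set.mem_singleton_iff] at hx
    rw [hx]; exact Subgroup.one_mem _
  | cons p Hd' ih =>
    rintro x ⟨⟨t, a⟩, ⟨⟨ht1, _⟩, ha⟩, rfl⟩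
    simp only
    apply Subgroup.mul_mem
    · exact Subgroup.subset_closure ⟨p, hsub p List.mem_cons_self, t, ht1, rfl⟩
    · exact ih (fun q hq => hsub q (List.mem_cons_of_mem _ hq)) ha

theorem fix_eq_closure (hT : TwU E T Hd Lc Λ) :
    D.posUnipotent F ⊓ T.Fx = Subgroup.closure (clsSet T Hd) := by
  apply le_antisymm
  · rintro u ⟨hu, hfix⟩
    exact eltSet_sub_closure T Hd Hd (fun _ h => h) (hT.fix_sub_eltSet u hu hfix)
  · rw [Subgroup.closure_le]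
    rintro g ⟨p, hp, t, ht, rfl⟩
    obtain ⟨hpos, _⟩ := hT.hd p hp
    refine ⟨?_, hT.cls_fixed p hp t ht⟩
    apply rootClosure_pos_le D F (· ∈ orbitL T.R p.2 p.1) _ (T.cls_mem p.2 (p.1, t))
    intro r hr
    obtain ⟨j, _, rfl⟩ := (mem_orbitL T.R p.2 p.1 r).mp hr
    exact T.iter_pos j _ hpos

/-- all squares in `U ∩ Fix σ` are products of commutators (characteristic 2, classes of length ≤ 2) -/
theorem sq_mem_commutator_fix [CharP F 2] (hT : TwU E T Hd Lc Λ) (h2 : ∀ p ∈ Hd, p.2 ≤ 2) :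
    ∀ x ∈ D.posUnipotent F ⊓ T.Fx,
      x ^ 2 ∈ ⁅D.posUnipotent F ⊓ T.Fx, D.posUnipotent F ⊓ T.Fx⁆ := by
  apply sq_mem_commutator_of_closure _ (clsSet T Hd) (fix_eq_closure hT)
  rintro s ⟨p, hp, t, _, rfl⟩
  rw [cls_sq hT p hp (h2 p hp) t]
  exact Subgroup.one_mem _

end generic

/-- a 2-subgroup `V` of a subgroup `G`, with all squares in `⁅V, V⁆`, gives `Unip2 ↥G` -/
theorem unip2_of_le {X : Type*} [Group X] (G V : Subgroup X) (hVG : V ≤ G) (c : ℕ)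
    (hp : IsPGroup 2 V) (hc : c ≤ Nat.card V) (hsq : ∀ x ∈ V, x ^ 2 ∈ ⁅V, V⁆) : Unip2 ↥G c := by
  refine ⟨V.subgroupOf G, hp.comap_subtype, ?_, ?_⟩
  · rw [Nat.card_congr (Subgroup.subgroupOfEquivOfLe hVG).toEquiv]
    exact hc
  · intro x hx
    have h1 : (x : X) ^ 2 ∈ ⁅V, V⁆ := hsq _ (Subgroup.mem_subgroupOf.1 hx)
    have h2 : (⁅V.subgroupOf G, V.subgroupOf G⁆).map G.subtype = ⁅V, V⁆ := by
      rw [Subgroup.map_commutator, Subgroup.map_subgroupOf_eq_of_le hVG]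
    rw [← h2] at h1
    have h3 : G.subtype (x ^ 2) ∈ (⁅V.subgroupOf G, V.subgroupOf G⁆).map G.subtype := by
      simpa using h1
    exact (Subgroup.mem_map_iff_mem G.subtype_injective).1 h3

/-- for `q` even the cofactor of the order of `²E₆(q)` is odd -/
theorem odd_cofactor_2E6 (q : ℕ) (hq : Even q) (hq1 : 1 ≤ q) :
    Odd ((q ^ 2 - 1) * (q ^ 5 + 1) * (q ^ 6 - 1) * (q ^ 8 - 1) * (q ^ 9 + 1) * (q ^ 12 - 1)) := by
  have he : ∀ k : ℕ, k ≠ 0 → Even (q ^ k) := fun k hk => hq.pow_of_ne_zero hk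
  have h1 : ∀ k : ℕ, k ≠ 0 → Odd (q ^ k - 1) := fun k hk =>
    Nat.Even.sub_odd (Nat.one_le_pow _ _ hq1) (he k hk) odd_one
  have h2 : ∀ k : ℕ, k ≠ 0 → Odd (q ^ k + 1) := fun k hk => (he k hk).add_one
  exact ((((((h1 2 (by norm_num)).mul (h2 5 (by norm_num))).mul (h1 6 (by norm_num))).mul
    (h1 8 (by norm_num))).mul (h2 9 (by norm_num))).mul (h1 12 (by norm_num)))

end Cfsg.Agent.Lib.Helper21.SQ
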