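import Cfsg.Agent.S1066
import Cfsg.Agent.Lib.Helper21.SQTw

set_option autoImplicit false
set_option maxRecDepth 100000

/-!
# K-SQ LEAF 462512: `SylSq (²E₆(q))`, `q` even
-/

namespace Cfsg.Agent.Lib.Helper21.SQ

open Cfsg Cfsg.Lie Cfsg.Agent.Lib.Helper24 Cfsg.Agent.Lib.Helper38.SQ

theorem twHd_E6_le_two : ∀ p ∈ twHd_E6, p.2 ≤ 2 := by decide

theorem twExp_E6 : twExp (fun _ => True) twHd_E6 = 36 := by simp [twExp, twHd_E6]

/-- a prime power `q` with `|K| = q ^ 2`, `K` of characteristic 2, is a power of 2 -/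
theorem exists_two_pow {K : Type*} [Field K] [Fintype K] [CharP K 2] {q : ℕ} (hq : IsPrimePow q)
    (hK : Fintype.card K = q ^ 2) : ∃ a : ℕ, a ≠ 0 ∧ q = 2 ^ a := by
  obtain ⟨p, a, hp, ha, rfl⟩ := (isPrimePow_nat_iff q).mp hq
  obtain ⟨n, _, hn⟩ := FiniteField.card K 2
  have h2 : 2 ∣ Fintype.card K := by
    rw [hn]; exact dvd_pow_self 2 n.ne_zero
  rw [hK] at h2
  have h3 : 2 ∣ p :=
    Nat.Prime.dvd_of_dvd_pow Nat.prime_two (Nat.Prime.dvd_of_dvd_pow Nat.prime_two h2)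
  have h4 : p = 2 := ((Nat.prime_dvd_prime_iff_eq Nat.prime_two hp).1 h3).symm
  exact ⟨a, ha.ne', by rw [h4]⟩

/-- LEAF 462512 K-SQ-2E6 -/
theorem sylSq_twistedE6 (K : Type) [Field K] [Fintype K] [CharP K 2] (q : ℕ) (hq : IsPrimePow q)
    (hK : Fintype.card K = q ^ 2) :
    SylSq (Cfsg.Lie.twistedE6 K q) := by
  have hq1 : 1 < q := hq.one_lt
  obtain ⟨f, hf⟩ := exists_frobQ hq hK
  have hff : ∀ t : K, (t ^ q) ^ q = t := fun t => by
    rw [← pow_mul, show q * q = q ^ 2 by ring]; exact pow_card_pow_eq hK t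
  have hG : twistedE6 K q = (twE6 K f).G1 (fundOf chevE6 twFd_E6) := twisted_eq_E6 q f hf hff
  have hVG : chevE6.posUnipotent K ⊓ (twE6 K f).Fx ≤ twistedE6 K q := by
    rw [hG]; exact twFixLe_E6 K f
  have hcard : Nat.card ↥(chevE6.posUnipotent K ⊓ (twE6 K f).Fx) = q ^ 36 := by
    rw [(twU_E6 K f).card_fix q (twPar_E6 f hq1 hK hf), twExp_E6]
  obtain ⟨a, ha0, ha⟩ := exists_two_pow hq hK
  have hqe : Even q := by rw [ha]; exact even_two.pow_of_ne_zero ha0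
  have hcard2 : Nat.card ↥(chevE6.posUnipotent K ⊓ (twE6 K f).Fx) = 2 ^ (36 * a) := by
    rw [hcard, ha, ← pow_mul, Nat.mul_comm]
  apply SylSq.of_unip_twoPart (36 * a)
  · exact unip2_of_le _ _ hVG _ (IsPGroup.of_card hcard2) hcard2.ge
      (sq_mem_commutator_fix (twU_E6 K f) twHd_E6_le_two)
  · have hord := Cfsg.Agent.S1066.result hq hK
    have hP := odd_cofactor_2E6 q hqe hq1.le
    have hdvd : q ^ 36 ∣ Nat.card ↥(twistedE6 K q) := by
      rw [← hcard, ← Nat.card_congr (Subgroup.subgroupOfEquivOfLe hVG).toEquiv]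
      exact Subgroup.card_subgroup_dvd_card _
    obtain ⟨m, hm⟩ := hdvd
    refine ⟨m, ?_, ?_⟩
    · have h1 : Nat.gcd 3 (q + 1) * m =
          (q ^ 2 - 1) * (q ^ 5 + 1) * (q ^ 6 - 1) * (q ^ 8 - 1) * (q ^ 9 + 1) * (q ^ 12 - 1) := by
        have h2 : q ^ 36 * (Nat.gcd 3 (q + 1) * m) = q ^ 36 *
            ((q ^ 2 - 1) * (q ^ 5 + 1) * (q ^ 6 - 1) * (q ^ 8 - 1) * (q ^ 9 + 1) * (q ^ 12 - 1)) := by
          rw [hm] at hord
          calc q ^ 36 * (Nat.gcd 3 (q + 1) * m) = Nat.gcd 3 (q + 1) * (q ^ 36 * m) := by ring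
            _ = _ := by rw [hord]; ring
        exact Nat.eq_of_mul_eq_mul_left (pow_pos (by omega) 36) h2
      intro h2
      have h3 : 2 ∣ (q ^ 2 - 1) * (q ^ 5 + 1) * (q ^ 6 - 1) * (q ^ 8 - 1) * (q ^ 9 + 1) *
          (q ^ 12 - 1) := h1 ▸ (dvd_mul_of_dvd_right h2 _)
      exact (Nat.not_even_iff_odd.2 hP) (even_iff_two_dvd.2 h3)
    · rw [hm, ha, ← pow_mul, Nat.mul_comm a 36]

end Cfsg.Agent.Lib.Helper21.SQ
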