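import Cfsg.Agent.Lib.Helper21.SQTw

set_option autoImplicit false

/-!
# K-SQ: the class elements of a twisted group in characteristic 2 are involutions, for classes of
ANY length (so also for `³D₄`), hence all squares of `U ∩ Fix σ` are products of commutators.
-/

namespace Cfsg.Agent.Lib.Helper21.SQ

open Cfsg Cfsg.Lie Cfsg.Agent.Lib.Helper24 Cfsg.Agent.Lib.Helper38.SQ

section generic

variable {F : Type*} [Field F] {D : ChevalleyDatum} {tab : List ℕ} {orb : List (ℕ × ℕ × ℕ)}
variable {E : Env D F tab orb} {T : Tw D F E.hF} {Hd : List (ℕ × ℕ)} {Lc : List ℕ} {Λ : List ℤ}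

/-- `σ` maps a root element to a root element, with a preassigned parameter -/
theorem map_xGL_symm {hF : Facts D} (T : Tw D F hF) (s : ℕ) (hs : s < D.nroots) (t : F) :
    T.σ (hF.xGL s (T.f.symm ((T.η s : F) * t))) = hF.xGL (T.R s) t := by
  rw [T.hx s hs, RingEquiv.apply_symm_apply, ← mul_assoc, T.ηsq s hs, one_mul]

/-- root elements of two different members of a class commute -/
theorem commute_orbit (hT : TwU E T Hd Lc Λ) (p : ℕ × ℕ) (hp : p ∈ Hd) :
    ∀ i j : ℕ, i < j → j < p.2 → ∀ t u : F,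
      Commute (E.hF.xGL (T.R^[i] p.1) t) (E.hF.xGL (T.R^[j] p.1) u) := by
  intro i
  induction i with
  | zero =>
    intro j hij hj t u
    exact hT.commute_head p hp t u j hij hj
  | succ i ih =>
    intro j hij hj t u
    obtain ⟨j', rfl⟩ : ∃ j', j = j' + 1 := ⟨j - 1, by omega⟩
    have hpos := (hT.hd p hp).1
    have hi : T.R^[i] p.1 < D.nroots := T.iter_lt i _ hpos.1
    have hj' : T.R^[j'] p.1 < D.nroots := T.iter_lt j' _ hpos.1
    have hc := (ih j' (by omega) (by omega) (T.f.symm ((T.η (T.R^[i] p.1) : F) * t))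
      (T.f.symm ((T.η (T.R^[j'] p.1) : F) * u))).map T.σ
    rw [map_xGL_symm T _ hi, map_xGL_symm T _ hj'] at hc
    rw [Function.iterate_succ_apply', Function.iterate_succ_apply']
    exact hc

/-- the square of a class element (any length) in characteristic 2 -/
theorem cls_sq_aux [CharP F 2] (hT : TwU E T Hd Lc Λ) (p : ℕ × ℕ) (hp : p ∈ Hd) :
    ∀ k i : ℕ, i + k ≤ p.2 → ∀ t : F, T.cls k (T.R^[i] p.1, t) ^ 2 = 1 := by
  intro k
  induction k with
  | zero =>
    intro i _ t
    show (1 : GL D.Idx F) ^ 2 = 1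
    exact one_pow 2
  | succ k ih =>
    intro i hik t
    have e : T.cls (k + 1) (T.R^[i] p.1, t) =
        E.hF.xGL (T.R^[i] p.1) t *
          T.cls k (T.R^[i + 1] p.1, (T.η (T.R^[i] p.1) : F) * T.f t) := by
      show T.xp (T.R^[i] p.1, t) * T.cls k (T.step (T.R^[i] p.1, t)) = _
      rw [Function.iterate_succ_apply']
      rfl
    have hc : Commute (E.hF.xGL (T.R^[i] p.1) t)
        (T.cls k (T.R^[i + 1] p.1, (T.η (T.R^[i] p.1) : F) * T.f t)) := by
      apply T.commute_cls
      intro j hj u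
      show Commute _ (E.hF.xGL (T.R^[j] (T.R^[i + 1] p.1)) u)
      rw [← Function.iterate_add_apply]
      exact commute_orbit hT p hp i (j + (i + 1)) (by omega) (by omega) t u
    rw [e, hc.mul_pow, xGL_sq, ih (i + 1) (by omega), one_mul]

theorem cls_sq_gen [CharP F 2] (hT : TwU E T Hd Lc Λ) (p : ℕ × ℕ) (hp : p ∈ Hd) (t : F) :
    T.cls p.2 (p.1, t) ^ 2 = 1 :=
  cls_sq_aux hT p hp p.2 0 (by omega) t

/-- all squares in `U ∩ Fix σ` are products of commutators (characteristic 2, any class lengths) -/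
theorem sq_mem_commutator_fix_gen [CharP F 2] (hT : TwU E T Hd Lc Λ) :
    ∀ x ∈ D.posUnipotent F ⊓ T.Fx,
      x ^ 2 ∈ ⁅D.posUnipotent F ⊓ T.Fx, D.posUnipotent F ⊓ T.Fx⁆ := by
  apply sq_mem_commutator_of_closure _ (clsSet T Hd) (fix_eq_closure hT)
  rintro s ⟨p, hp, t, _, rfl⟩
  rw [cls_sq_gen hT p hp t]
  exact Subgroup.one_mem _

end generic

end Cfsg.Agent.Lib.Helper21.SQ
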