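import Cfsg.Agent.S1067
import Cfsg.Agent.Lib.Helper21.SQTw3

set_option autoImplicit false
set_option maxRecDepth 100000

/-!
# K-SQ LEAF 462513: `SylSq (³D₄(q))`, `q` even
-/

namespace Cfsg.Agent.Lib.Helper21.SQ

open Cfsg Cfsg.Lie Cfsg.Agent.Lib.Helper24 Cfsg.Agent.Lib.Helper38.SQ

theorem twExp_D4 : twExp (fun _ => True) twHd_D4 = 12 := by simp [twExp, twHd_D4]

/-- a prime power `q` with `|K| = q ^ 3`, `K` of characteristic 2, is a power of 2 -/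
theorem exists_two_pow3 {K : Type*} [Field K] [Fintype K] [CharP K 2] {q : ℕ} (hq : IsPrimePow q)
    (hK : Fintype.card K = q ^ 3) : ∃ a : ℕ, a ≠ 0 ∧ q = 2 ^ a := by
  obtain ⟨p, a, hp, ha, rfl⟩ := (isPrimePow_nat_iff q).mp hq
  obtain ⟨n, _, hn⟩ := FiniteField.card K 2
  have h2 : 2 ∣ Fintype.card K := by
    rw [hn]; exact dvd_pow_self 2 n.ne_zero
  rw [hK] at h2
  have h3 : 2 ∣ p :=
    Nat.Prime.dvd_of_dvd_pow Nat.prime_two (Nat.Prime.dvd_of_dvd_pow Nat.prime_two h2)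
  have h4 : p = 2 := ((Nat.prime_dvd_prime_iff_eq Nat.prime_two hp).1 h3).symm
  exact ⟨a, ha.ne', by rw [h4]⟩

/-- for `q` even the cofactor of the order of `³D₄(q)` is odd -/
theorem odd_cofactor_3D4 (q : ℕ) (hq : Even q) (hq1 : 1 ≤ q) :
    Odd ((q ^ 2 - 1) * (q ^ 6 - 1) * (q ^ 8 + q ^ 4 + 1)) := by
  have he : ∀ k : ℕ, k ≠ 0 → Even (q ^ k) := fun k hk => hq.pow_of_ne_zero hk
  have h1 : ∀ k : ℕ, k ≠ 0 → Odd (q ^ k - 1) := fun k hk =>
    Nat.Even.sub_odd (Nat.one_le_pow _ _ hq1) (he k hk) odd_one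
  exact ((h1 2 (by norm_num)).mul (h1 6 (by norm_num))).mul
    (((he 8 (by norm_num)).add (he 4 (by norm_num))).add_one)

/-- LEAF 462513 K-SQ-3D4 -/
theorem sylSq_twistedD4 (K : Type) [Field K] [Fintype K] [CharP K 2] (q : ℕ) (hq : IsPrimePow q)
    (hK : Fintype.card K = q ^ 3) :
    SylSq (Cfsg.Lie.twistedD4 K q) := by
  have hq1 : 1 < q := hq.one_lt
  obtain ⟨f, hf⟩ := exists_frobQ hq hK
  have hff : ∀ t : K, ((t ^ q) ^ q) ^ q = t := fun t => by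
    rw [← pow_mul, ← pow_mul, show q * (q * q) = q ^ 3 by ring]; exact pow_card_pow_eq hK t
  have hG : twistedD4 K q = (twD4 K f).G1 (fundOf chevD4 twFd_D4) := twisted_eq_D4 q f hf hff
  have hVG : chevD4.posUnipotent K ⊓ (twD4 K f).Fx ≤ twistedD4 K q := by
    rw [hG]; exact twFixLe_D4 K f
  have hcard : Nat.card ↥(chevD4.posUnipotent K ⊓ (twD4 K f).Fx) = q ^ 12 := by
    rw [(twU_D4 K f).card_fix q (twPar_D4 f hq1 hK hf), twExp_D4]
  obtain ⟨a, ha0, ha⟩ := exists_two_pow3 hq hK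
  have hqe : Even q := by rw [ha]; exact even_two.pow_of_ne_zero ha0
  have hcard2 : Nat.card ↥(chevD4.posUnipotent K ⊓ (twD4 K f).Fx) = 2 ^ (12 * a) := by
    rw [hcard, ha, ← pow_mul, Nat.mul_comm]
  apply SylSq.of_unip_twoPart (12 * a)
  · exact unip2_of_le _ _ hVG _ (IsPGroup.of_card hcard2) hcard2.ge
      (sq_mem_commutator_fix_gen (twU_D4 K f))
  · have hord := Cfsg.Agent.S1067.result hq hK
    have hP := odd_cofactor_3D4 q hqe hq1.le
    refine ⟨(q ^ 2 - 1) * (q ^ 6 - 1) * (q ^ 8 + q ^ 4 + 1), ?_, ?_⟩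
    · intro h2
      exact (Nat.not_even_iff_odd.2 hP) (even_iff_two_dvd.2 h2)
    · rw [hord, ha, ← pow_mul, Nat.mul_comm a 12]
      ring

end Cfsg.Agent.Lib.Helper21.SQ
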