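import Mathlib
import Cfsg.Prelude.Def_GeometricClasses
import Cfsg.Agent.Lib.Helper73.SU6FDefs
import Cfsg.Agent.Lib.Helper99.FieldSub

/-!
# K-SU6-K2 (keystone 580208, architect helper73), part a: scalars, the adjoint, self-adjoint elements, an `F₂`-basis
of the self-adjoint elements of `K`.
-/

set_option autoImplicit false
set_option linter.unusedSectionVars false
set_option linter.unusedVariables false
set_option linter.style.haveILetI false

namespace Cfsg.Agent.Lib.Helper21.SU6K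

open Cfsg Cfsg.Geo Cfsg.Agent.Lib.Helper73.SU6
open Cfsg.Agent.Lib.Helper84.AschU (adj adj_adj adj_mul adj_apply herm_mulVec_left herm_mulVec_right
  adj_mem_of_isAdjointClosedFor)
open scoped Matrix MatrixGroups

variable {F : Type*} [Field F] [Fintype F]

local notation "Mat" => Matrix (Fin 6) (Fin 6) F
local notation "V" => (Fin 6 → F)
local notation "𝔥" => hermForm 6 F 2

/-! ## scalars -/

theorem two_eq_zero (hF : Fintype.card F = 2 ^ 2) : (2 : F) = 0 := by
  have h4 : ((Fintype.card F : ℕ) : F) = 0 := Nat.cast_card_eq_zero F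
  rw [hF] at h4
  have h22 : (2 : F) * 2 = 0 := by
    have : ((2 ^ 2 : ℕ) : F) = 2 * 2 := by norm_num
    rw [← this]; exact h4
  exact mul_self_eq_zero.mp h22

theorem pow_four (hF : Fintype.card F = 2 ^ 2) (x : F) : x ^ 4 = x := by
  have := FiniteField.pow_card x
  rw [hF] at this
  norm_num at this
  exact this

theorem add_self (hF : Fintype.card F = 2 ^ 2) (x : F) : x + x = 0 := by
  have := two_eq_zero hF
  linear_combination x * this

theorem mat_add_self (hF : Fintype.card F = 2 ^ 2) (M : Mat) : M + M = 0 := by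
  ext i j
  rw [Matrix.add_apply, Matrix.zero_apply, add_self hF]

theorem exists_omega (hF : Fintype.card F = 2 ^ 2) : ∃ ω : F, ω ^ 2 + ω + 1 = 0 := by
  classical
  have hcard : 2 < Fintype.card F := by rw [hF]; norm_num
  obtain ⟨x, hx0, hx1⟩ : ∃ x : F, x ≠ 0 ∧ x ≠ 1 := by
    by_contra hne
    push Not at hne
    have hsub : (Finset.univ : Finset F) ⊆ {0, 1} := by
      intro x _
      by_cases h : x = 0
      · simp [h]
      · simp [hne x h]
    have h1 : Fintype.card F ≤ 2 := by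
      calc Fintype.card F = (Finset.univ : Finset F).card := Finset.card_univ.symm
        _ ≤ ({0, 1} : Finset F).card := Finset.card_le_card hsub
        _ ≤ 2 := Finset.card_le_two
    omega
  refine ⟨x, ?_⟩
  have h4 := pow_four hF x
  have h : x * (x - 1) * (x ^ 2 + x + 1) = 0 := by linear_combination h4
  rcases mul_eq_zero.mp h with h | h
  · rcases mul_eq_zero.mp h with h | h
    · exact absurd h hx0
    · exact absurd (sub_eq_zero.mp h) hx1
  · exact h

/-! ## the adjoint -/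

theorem adj_add (hF : Fintype.card F = 2 ^ 2) (M N : Mat) : adj hF (M + N) = adj hF M + adj hF N := by
  ext i j
  rw [Matrix.add_apply, adj_apply, adj_apply, adj_apply, Matrix.add_apply,
    Cfsg.Agent.Lib.Helper19.add_pow_q hF]

theorem adj_smul (hF : Fintype.card F = 2 ^ 2) (c : F) (M : Mat) : adj hF (c • M) = c ^ 2 • adj hF M := by
  ext i j
  rw [adj_apply, Matrix.smul_apply, Matrix.smul_apply, adj_apply, smul_eq_mul, smul_eq_mul, mul_pow]

theorem adj_zero (hF : Fintype.card F = 2 ^ 2) : adj hF (0 : Mat) = 0 := by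
  ext i j
  rw [adj_apply, Matrix.zero_apply, Matrix.zero_apply]
  norm_num

theorem adj_one (hF : Fintype.card F = 2 ^ 2) : adj hF (1 : Mat) = 1 := by
  ext i j
  rw [adj_apply]
  by_cases h : i = j
  · subst h; simp
  · rw [Matrix.one_apply_ne (Ne.symm h), Matrix.one_apply_ne h]; norm_num

/-! ## self-adjoint elements -/

section sa
variable (hF : Fintype.card F = 2 ^ 2) (K : Subalgebra F (Matrix (Fin 6) (Fin 6) F))

theorem isSA_zero : IsSA hF K 0 := ⟨K.zero_mem, adj_zero hF⟩

theorem isSA_one : IsSA hF K 1 := ⟨K.one_mem, adj_one hF⟩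

variable {hF K}

theorem IsSA.add {a b : Mat} (ha : IsSA hF K a) (hb : IsSA hF K b) : IsSA hF K (a + b) :=
  ⟨K.add_mem ha.1 hb.1, by rw [adj_add, ha.2, hb.2]⟩

theorem IsSA.mul (hK : IsFieldSubalgebra 3 K) {a b : Mat} (ha : IsSA hF K a) (hb : IsSA hF K b) :
    IsSA hF K (a * b) :=
  ⟨K.mul_mem ha.1 hb.1, by rw [adj_mul, ha.2, hb.2, hK.comm b hb.1 a ha.1]⟩

theorem IsSA.smul {a : Mat} (ha : IsSA hF K a) {c : F} (hc : c ^ 2 = c) : IsSA hF K (c • a) :=
  ⟨K.smul_mem ha.1 c, by rw [adj_smul, ha.2, hc]⟩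

end sa

/-- every element of `K` is `a₀ + ω a₁` with `a₀, a₁` self-adjoint -/
theorem exists_sa_decomp (hF : Fintype.card F = 2 ^ 2) (K : Subalgebra F Mat)
    (hadj : IsAdjointClosedFor 𝔥 K) {ω : F} (hω : ω ^ 2 + ω + 1 = 0) {k : Mat} (hk : k ∈ K) :
    ∃ a₀ a₁ : Mat, IsSA hF K a₀ ∧ IsSA hF K a₁ ∧ k = a₀ + ω • a₁ := by
  have hk' : adj hF k ∈ K := adj_mem_of_isAdjointClosedFor hF K hadj k hk
  have h2 := two_eq_zero hF
  have hω4 : ω ^ 4 = ω := pow_four hF ω
  refine ⟨ω ^ 2 • k + ω • adj hF k, k + adj hF k, ⟨?_, ?_⟩, ⟨?_, ?_⟩, ?_⟩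
  · exact K.add_mem (K.smul_mem hk _) (K.smul_mem hk' _)
  · rw [adj_add, adj_smul, adj_smul, adj_adj, ← pow_mul]
    norm_num
    rw [hω4, add_comm]
  · exact K.add_mem hk hk'
  · rw [adj_add, adj_adj, add_comm]
  · have e1 : ω ^ 2 + ω = 1 := by linear_combination hω - h2
    have e2 : ω + ω = 0 := add_self hF ω
    rw [smul_add]
    calc k = (ω ^ 2 + ω) • k + (ω + ω) • adj hF k := by rw [e1, e2, one_smul, zero_smul, add_zero]
      _ = ω ^ 2 • k + ω • adj hF k + (ω • k + ω • adj hF k) := by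
          rw [add_smul, add_smul]; abel

/-- an `F`-basis of `K` consisting of self-adjoint elements -/
theorem exists_sa_basis (hF : Fintype.card F = 2 ^ 2) (K : Subalgebra F Mat)
    (hK : IsFieldSubalgebra 3 K) (hadj : IsAdjointClosedFor 𝔥 K) :
    ∃ κ : Fin 3 → Mat, (∀ i, IsSA hF K (κ i)) ∧
      (∀ k ∈ K, ∃ c : Fin 3 → F, k = c 0 • κ 0 + c 1 • κ 1 + c 2 • κ 2) ∧
      (∀ c : Fin 3 → F, c 0 • κ 0 + c 1 • κ 1 + c 2 • κ 2 = 0 → c = 0) := by
  classical
  obtain ⟨ω, hω⟩ := exists_omega hF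
  let S : Set ↥K := {a | adj hF a.1 = a.1}
  have hspan : Submodule.span F S = ⊤ := by
    rw [eq_top_iff]
    rintro ⟨k, hk⟩ -
    obtain ⟨a₀, a₁, h0, h1, hdec⟩ := exists_sa_decomp hF K hadj hω hk
    have e : (⟨k, hk⟩ : ↥K) = (⟨a₀, h0.1⟩ : ↥K) + ω • (⟨a₁, h1.1⟩ : ↥K) := Subtype.ext hdec
    rw [e]
    exact Submodule.add_mem _ (Submodule.subset_span h0.2)
      (Submodule.smul_mem _ _ (Submodule.subset_span h1.2))
  obtain ⟨b, hbS, hbspan, hli⟩ := exists_linearIndependent F S
  have hbtop : ⊤ ≤ Submodule.span F (Set.range ((↑) : b → ↥K)) := by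
    rw [Subtype.range_coe, hbspan, hspan]
  let B : Module.Basis b F ↥K := Module.Basis.mk hli hbtop
  have hcard : Nat.card b = 3 := by
    rw [← Module.finrank_eq_nat_card_basis B, hK.finrank_eq]
  haveI : Finite b := Nat.finite_of_card_ne_zero (by rw [hcard]; norm_num)
  haveI : Fintype b := Fintype.ofFinite b
  have hcard' : Fintype.card b = 3 := by rw [Fintype.card_eq_nat_card, hcard]
  let e : b ≃ Fin 3 := Fintype.equivFinOfCardEq hcard'
  let B' : Module.Basis (Fin 3) F ↥K := B.reindex e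
  refine ⟨fun i => (B' i).1, ?_, ?_, ?_⟩
  · intro i
    refine ⟨(B' i).2, ?_⟩
    show adj hF (B' i).1 = (B' i).1
    have : B' i = ((e.symm i : b) : ↥K) := by
      simp only [B', Module.Basis.reindex_apply, B, Module.Basis.mk_apply]
    rw [this]
    exact hbS (e.symm i).2
  · intro k hk
    refine ⟨fun i => B'.repr ⟨k, hk⟩ i, ?_⟩
    have h := B'.sum_repr ⟨k, hk⟩
    rw [Fin.sum_univ_three] at h
    have := congrArg Subtype.val h
    simpa using this.symm
  · intro c hc
    have hli' := B'.linearIndependent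
    rw [Fintype.linearIndependent_iff] at hli'
    have h0 : ∑ i, c i • B' i = 0 := by
      rw [Fin.sum_univ_three]
      apply Subtype.ext
      simpa using hc
    funext i
    exact hli' c h0 i

end Cfsg.Agent.Lib.Helper21.SU6K
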