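import Mathlib
import Cfsg.Prelude.Def_GeometricClasses
import Cfsg.Agent.Lib.Helper73.SU6FDefs
import Cfsg.Agent.Lib.Helper21.SU6K2a

/-!
# K-SU6-K2 (keystone 580208, architect helper73), part b: the `F₂`-structure `V₀ = K₀ u + K₀ v`.
-/

set_option autoImplicit false
set_option linter.unusedSectionVars false
set_option linter.unusedVariables false
set_option linter.style.haveILetI false

namespace Cfsg.Agent.Lib.Helper21.SU6K

open Cfsg Cfsg.Geo Cfsg.Agent.Lib.Helper73.SU6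
open Cfsg.Agent.Lib.Helper84.AschU (adj adj_adj adj_mul adj_apply herm_mulVec_left herm_mulVec_right
  adj_mem_of_isAdjointClosedFor)
open Cfsg.Agent.Lib.Helper19 (hermForm_add_left hermForm_add_right hermForm_conj)
open scoped Matrix MatrixGroups

variable {F : Type*} [Field F] [Fintype F]

local notation "Mat" => Matrix (Fin 6) (Fin 6) F
local notation "V" => (Fin 6 → F)
local notation "𝔥" => hermForm 6 F 2

/-! ## the prime subfield -/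

theorem mem_bot_iff (hF : Fintype.card F = 2 ^ 2) (x : F) : x ∈ (⊥ : Subfield F) ↔ x ^ 2 = x := by
  haveI : CharP F 2 := CharTwo.of_one_ne_zero_of_two_eq_zero one_ne_zero (two_eq_zero hF)
  haveI : Fact (Nat.Prime 2) := ⟨Nat.prime_two⟩
  exact Subfield.mem_bot_iff_pow_eq_self F 2

theorem card_bot (hF : Fintype.card F = 2 ^ 2) : Nat.card (⊥ : Subfield F) = 2 := by
  haveI : CharP F 2 := CharTwo.of_one_ne_zero_of_two_eq_zero one_ne_zero (two_eq_zero hF)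
  haveI : Fact (Nat.Prime 2) := ⟨Nat.prime_two⟩
  exact Subfield.card_bot F 2

theorem eq_zero_or_one_of_mem_bot (hF : Fintype.card F = 2 ^ 2) {x : F} (hx : x ∈ (⊥ : Subfield F)) :
    x = 0 ∨ x = 1 := by
  rw [mem_bot_iff hF] at hx
  have : x * (x - 1) = 0 := by linear_combination hx
  rcases mul_eq_zero.mp this with h | h
  · exact Or.inl h
  · exact Or.inr (sub_eq_zero.mp h)

/-! ## coefficients of self-adjoint elements -/

theorem sa_coeff (hF : Fintype.card F = 2 ^ 2) (K : Subalgebra F Mat) (κ : Fin 3 → Mat)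
    (hκ : ∀ i, IsSA hF K (κ i))
    (hli : ∀ c : Fin 3 → F, c 0 • κ 0 + c 1 • κ 1 + c 2 • κ 2 = 0 → c = 0)
    (c : Fin 3 → F) (hc : adj hF (c 0 • κ 0 + c 1 • κ 1 + c 2 • κ 2) = c 0 • κ 0 + c 1 • κ 1 + c 2 • κ 2) :
    ∀ i, c i ^ 2 = c i := by
  rw [adj_add, adj_add, adj_smul, adj_smul, adj_smul, (hκ 0).2, (hκ 1).2, (hκ 2).2] at hc
  have h0 := hli (fun i => c i ^ 2 - c i) (by
    show (c 0 ^ 2 - c 0) • κ 0 + (c 1 ^ 2 - c 1) • κ 1 + (c 2 ^ 2 - c 2) • κ 2 = 0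
    rw [sub_smul, sub_smul, sub_smul]
    have : c 0 ^ 2 • κ 0 - c 0 • κ 0 + (c 1 ^ 2 • κ 1 - c 1 • κ 1) + (c 2 ^ 2 • κ 2 - c 2 • κ 2)
        = (c 0 ^ 2 • κ 0 + c 1 ^ 2 • κ 1 + c 2 ^ 2 • κ 2) - (c 0 • κ 0 + c 1 • κ 1 + c 2 • κ 2) := by abel
    rw [this, hc, sub_self])
  intro i
  have := congrFun h0 i
  exact sub_eq_zero.mp this

/-! ## the matrix `P` -/

/-- the columns `κᵢ u, κᵢ v` -/
def colv (κ : Fin 3 → Mat) (u v : V) : Fin 6 → V :=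
  ![κ 0 *ᵥ u, κ 1 *ᵥ u, κ 2 *ᵥ u, κ 0 *ᵥ v, κ 1 *ᵥ v, κ 2 *ᵥ v]

/-- the matrix with columns `κᵢ u, κᵢ v` -/
def Pm (κ : Fin 3 → Mat) (u v : V) : Mat := Matrix.of fun r j => colv κ u v j r

theorem Pm_mulVec (κ : Fin 3 → Mat) (u v w : V) :
    Pm κ u v *ᵥ w = (w 0 • κ 0 + w 1 • κ 1 + w 2 • κ 2) *ᵥ u + (w 3 • κ 0 + w 4 • κ 1 + w 5 • κ 2) *ᵥ v := by
  funext r
  simp only [Pm, colv, Matrix.mulVec, dotProduct, Matrix.of_apply, Pi.add_apply,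
    Matrix.add_apply, Matrix.smul_apply, smul_eq_mul, Fin.sum_univ_succ, Fin.sum_univ_zero]
  simp [Fin.sum_univ_six, Matrix.mulVec, dotProduct]
  ring

/-! ## rational vectors -/

/-- rational vectors: the `F₀`-span of the columns of `P` -/
def Rat (F₀ : Subfield F) (P : Mat) (x : V) : Prop :=
  ∃ w : V, (∀ i, w i ∈ F₀) ∧ x = P *ᵥ w

section struct
variable (hF : Fintype.card F = 2 ^ 2) (K : Subalgebra F (Matrix (Fin 6) (Fin 6) F))
  (hK : IsFieldSubalgebra 3 K) (κ : Fin 3 → Matrix (Fin 6) (Fin 6) F)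
  (hκ : ∀ i, IsSA hF K (κ i))
  (hsp : ∀ k ∈ K, ∃ c : Fin 3 → F, k = c 0 • κ 0 + c 1 • κ 1 + c 2 • κ 2)
  (hli : ∀ c : Fin 3 → F, c 0 • κ 0 + c 1 • κ 1 + c 2 • κ 2 = 0 → c = 0)
  (u v : Fin 6 → F)

include hκ in
theorem isSA_comb {c : Fin 3 → F} (hc : ∀ i, c i ^ 2 = c i) :
    IsSA hF K (c 0 • κ 0 + c 1 • κ 1 + c 2 • κ 2) :=
  IsSA.add (IsSA.add (IsSA.smul (hκ 0) (hc 0)) (IsSA.smul (hκ 1) (hc 1))) (IsSA.smul (hκ 2) (hc 2))

include hκ in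
theorem inV0_of_rat {x : V} (hx : Rat (⊥ : Subfield F) (Pm κ u v) x) : InV0 hF K u v x := by
  obtain ⟨w, hw, rfl⟩ := hx
  have hw' : ∀ i, w i ^ 2 = w i := fun i => (mem_bot_iff hF _).1 (hw i)
  rw [Pm_mulVec]
  exact ⟨_, _, isSA_comb hF K κ hκ (c := ![w 0, w 1, w 2]) (by intro i; fin_cases i <;> simp [hw']),
    isSA_comb hF K κ hκ (c := ![w 3, w 4, w 5]) (by intro i; fin_cases i <;> simp [hw']), by simp⟩

include hκ hsp hli in
theorem rat_of_inV0 {x : V} (hx : InV0 hF K u v x) : Rat (⊥ : Subfield F) (Pm κ u v) x := by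
  obtain ⟨a, b, ha, hb, rfl⟩ := hx
  obtain ⟨c, hc⟩ := hsp a ha.1
  obtain ⟨d, hd⟩ := hsp b hb.1
  have hc2 := sa_coeff hF K κ hκ hli c (by rw [← hc]; exact ha.2)
  have hd2 := sa_coeff hF K κ hκ hli d (by rw [← hd]; exact hb.2)
  refine ⟨![c 0, c 1, c 2, d 0, d 1, d 2], ?_, ?_⟩
  · intro i
    rw [mem_bot_iff hF]
    fin_cases i <;> simp [hc2, hd2]
  · rw [Pm_mulVec, hc, hd]
    simp

end struct

end Cfsg.Agent.Lib.Helper21.SU6K
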