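import Mathlib
import Cfsg.Prelude.Def_GeometricClasses
import Cfsg.Agent.Lib.Helper73.SU6FDefs
import Cfsg.Agent.Lib.Helper21.SU6K2b

/-!
# K-SU6-K2 (keystone 580208, architect helper73), part c: values of the form on `V₀`.
-/

set_option autoImplicit false
set_option linter.unusedSectionVars false
set_option linter.unusedVariables false
set_option linter.style.haveILetI false

namespace Cfsg.Agent.Lib.Helper21.SU6K

open Cfsg Cfsg.Geo Cfsg.Agent.Lib.Helper73.SU6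
open Cfsg.Agent.Lib.Helper84.AschU (adj adj_adj adj_mul adj_apply herm_mulVec_left herm_mulVec_right
  adj_mem_of_isAdjointClosedFor)
open Cfsg.Agent.Lib.Helper19 (hermForm_add_left hermForm_add_right hermForm_conj)
open scoped Matrix MatrixGroups

variable {F : Type*} [Field F] [Fintype F]

local notation "Mat" => Matrix (Fin 6) (Fin 6) F
local notation "V" => (Fin 6 → F)
local notation "𝔥" => hermForm 6 F 2

/-- squaring is additive on commuting matrices in characteristic two -/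
theorem sq_add_of_comm (hF : Fintype.card F = 2 ^ 2) {a b : Mat} (hab : a * b = b * a) :
    (a + b) ^ 2 = a ^ 2 + b ^ 2 := by
  rw [sq, sq, sq, add_mul, mul_add, mul_add, hab]
  have h := mat_add_self hF (b * a)
  have : a * a + b * a + (b * a + b * b) = a * a + b * b + (b * a + b * a) := by abel
  rw [this, h, add_zero]

section form
variable (hF : Fintype.card F = 2 ^ 2) (K : Subalgebra F (Matrix (Fin 6) (Fin 6) F))
  (hK : IsFieldSubalgebra 3 K) (hadj : IsAdjointClosedFor (hermForm 6 F 2) K)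
  (hsa : ∀ a : Matrix (Fin 6) (Fin 6) F, IsSA hF K a → a ^ 8 = a)
  (u v : Fin 6 → F) (huv : IsHypPair K u v)

include hK hsa huv in
/-- the trace of a self-adjoint element lies in the prime field -/
theorem tau_sq {k : Mat} (hk : IsSA hF K k) : (𝔥 (k *ᵥ u) v) ^ 2 = 𝔥 (k *ᵥ u) v := by
  have h8 := hsa k hk
  have hp := huv.pair k hk.1
  have h16 : k ^ 16 = k ^ 2 := by
    calc k ^ 16 = (k ^ 8) ^ 2 := by rw [← pow_mul]
      _ = k ^ 2 := by rw [h8]
  rw [h16] at hp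
  have hk2 : k ^ 2 ∈ K := K.pow_mem hk.1 2
  have hk4 : k ^ 4 ∈ K := K.pow_mem hk.1 4
  have e1 : (k + k ^ 4 + k ^ 2) ^ 2 = k + k ^ 4 + k ^ 2 := by
    rw [sq_add_of_comm hF (hK.comm _ (K.add_mem hk.1 hk4) _ hk2), sq_add_of_comm hF (hK.comm _ hk.1 _ hk4),
      ← pow_mul, ← pow_mul]
    norm_num
    rw [h8]
    abel
  rw [← hp] at e1
  have e2 : ((𝔥 (k *ᵥ u) v) ^ 2) • (1 : Mat) = (𝔥 (k *ᵥ u) v) • (1 : Mat) := by
    rw [← e1, sq, sq, smul_mul_smul_comm, mul_one]
  have := congrFun (congrFun e2 0) 0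
  simpa using this

include hK hadj hsa huv in
/-- the value of the form on `V₀` -/
theorem herm_inV0 {a b c d : Mat} (ha : IsSA hF K a) (hb : IsSA hF K b) (hc : IsSA hF K c)
    (hd : IsSA hF K d) :
    𝔥 (a *ᵥ u + b *ᵥ v) (c *ᵥ u + d *ᵥ v) = 𝔥 ((d * a) *ᵥ u) v + 𝔥 ((b * c) *ᵥ u) v := by
  have h1 : 𝔥 (a *ᵥ u) (c *ᵥ u) = 0 := by
    have := herm_mulVec_right hF c (a *ᵥ u) u
    rw [hc.2, Matrix.mulVec_mulVec] at this
    rw [← this]
    exact huv.iso_u _ (K.mul_mem hc.1 ha.1)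
  have h2 : 𝔥 (b *ᵥ v) (d *ᵥ v) = 0 := by
    have := herm_mulVec_right hF d (b *ᵥ v) v
    rw [hd.2, Matrix.mulVec_mulVec] at this
    rw [← this]
    exact huv.iso_v _ (K.mul_mem hd.1 hb.1)
  have h3 : 𝔥 (a *ᵥ u) (d *ᵥ v) = 𝔥 ((d * a) *ᵥ u) v := by
    have := herm_mulVec_right hF d (a *ᵥ u) v
    rw [hd.2, Matrix.mulVec_mulVec] at this
    exact this.symm
  have h4 : 𝔥 (b *ᵥ v) (c *ᵥ u) = 𝔥 ((b * c) *ᵥ u) v := by
    have := herm_mulVec_right hF b (c *ᵥ u) v
    rw [hb.2, Matrix.mulVec_mulVec] at this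
    rw [← hermForm_conj hF, ← this]
    exact tau_sq hF K hK hsa u v huv (IsSA.mul hK hb hc)
  rw [hermForm_add_left, hermForm_add_right hF, hermForm_add_right hF, h1, h2, h3, h4]
  ring

include hK hadj hsa huv in
theorem herm_inV0_mem {x y : V} (hx : InV0 hF K u v x) (hy : InV0 hF K u v y) :
    𝔥 x y ∈ (⊥ : Subfield F) := by
  obtain ⟨a, b, ha, hb, rfl⟩ := hx
  obtain ⟨c, d, hc, hd, rfl⟩ := hy
  rw [herm_inV0 hF K hK hadj hsa u v huv ha hb hc hd]
  refine Subfield.add_mem _ ?_ ?_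
  · rw [mem_bot_iff hF]; exact tau_sq hF K hK hsa u v huv (IsSA.mul hK hd ha)
  · rw [mem_bot_iff hF]; exact tau_sq hF K hK hsa u v huv (IsSA.mul hK hb hc)

include hK hadj hsa huv in
theorem herm_inV0_self {x : V} (hx : InV0 hF K u v x) : 𝔥 x x = 0 := by
  obtain ⟨a, b, ha, hb, rfl⟩ := hx
  rw [herm_inV0 hF K hK hadj hsa u v huv ha hb ha hb, hK.comm b hb.1 a ha.1]
  exact add_self hF _

end form

end Cfsg.Agent.Lib.Helper21.SU6K
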