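import Mathlib
import Cfsg.Prelude.Def_GeometricClasses
import Cfsg.Agent.Lib.Helper73.SU6FDefs
import Cfsg.Agent.Lib.Helper21.SU6K2c

/-!
# K-SU6-K2 (keystone 580208, architect helper73), part d: the subfield subgroup, and the assembly (with the
statement of leaf K0 `sa_pow_eight` as a hypothesis).
-/

set_option autoImplicit false
set_option linter.unusedSectionVars false
set_option linter.unusedVariables false
set_option linter.style.haveILetI false

namespace Cfsg.Agent.Lib.Helper21.SU6K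

open Cfsg Cfsg.Geo Cfsg.Agent.Lib.Helper73.SU6
open Cfsg.Agent.Lib.Helper84.AschU (adj)
open scoped Matrix MatrixGroups

variable {F : Type*} [Field F] [Fintype F]

local notation "Mat" => Matrix (Fin 6) (Fin 6) F
local notation "V" => (Fin 6 → F)
local notation "𝔥" => hermForm 6 F 2

/-! ## general: matrices preserving the rational vectors -/

theorem rat_col (F₀ : Subfield F) (P : Mat) (j : Fin 6) : Rat F₀ P (P *ᵥ Pi.single j 1) := by
  refine ⟨Pi.single j 1, fun i => ?_, rfl⟩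
  by_cases h : i = j
  · subst h; rw [Pi.single_eq_same]; exact F₀.one_mem
  · rw [Pi.single_eq_of_ne h]; exact F₀.zero_mem

/-- if `c • g` preserves the rational vectors then `c • P⁻¹ g P` has entries in `F₀` -/
theorem entries_mem (F₀ : Subfield F) (P g : GL (Fin 6) F) (c : F)
    (h : ∀ x, Rat F₀ P.1 x → Rat F₀ P.1 (c • (g.1 *ᵥ x))) (i j : Fin 6) :
    (c • (P⁻¹ * g * P : GL (Fin 6) F).1) i j ∈ F₀ := by
  obtain ⟨w, hw, hwx⟩ := h _ (rat_col F₀ P.1 j)
  have h1 : (c • (P⁻¹ * g * P : GL (Fin 6) F).1) *ᵥ Pi.single j 1 = w := by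
    rw [Matrix.smul_mulVec, Units.val_mul, Units.val_mul, ← Matrix.mulVec_mulVec, ← Matrix.mulVec_mulVec,
      ← Matrix.mulVec_smul, hwx, Matrix.mulVec_mulVec, ← Units.val_mul, inv_mul_cancel, Units.val_one,
      Matrix.one_mulVec]
  have h2 : (c • (P⁻¹ * g * P : GL (Fin 6) F).1) i j = w i := by
    rw [← h1, Matrix.mulVec_single_one]; rfl
  rw [h2]; exact hw i

/-- sufficient condition for membership in the subfield subgroup -/
theorem mem_subfieldSubgroup_of_rat (F₀ : Subfield F) (P g : GL (Fin 6) F) (c : F) (hc : c ≠ 0)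
    (h : ∀ x, Rat F₀ P.1 x → Rat F₀ P.1 (c • (g.1 *ᵥ x))) : g ∈ subfieldSubgroup F₀ P := by
  classical
  let M : GL (Fin 6) F := P⁻¹ * g * P
  let N : Mat := c • M.1
  have hN : ∀ i j, N i j ∈ F₀ := entries_mem F₀ P g c h
  let N₀ : Matrix (Fin 6) (Fin 6) F₀ := fun i j => ⟨N i j, hN i j⟩
  have hmap : (F₀.subtype).mapMatrix N₀ = N := by ext i j; rfl
  have hdetM : M.1.det ≠ 0 := IsUnit.ne_zero ((Matrix.isUnit_iff_isUnit_det _).mp M.isUnit)
  have hdetN : N.det ≠ 0 := by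
    simp only [N]
    rw [Matrix.det_smul]
    exact mul_ne_zero (pow_ne_zero _ hc) hdetM
  have hdet0 : N₀.det ≠ 0 := by
    intro h0
    apply hdetN
    rw [← hmap, ← RingHom.map_det, h0, map_zero]
  let g₀ : Matrix.GeneralLinearGroup (Fin 6) F₀ := Matrix.GeneralLinearGroup.mkOfDetNeZero N₀ hdet0
  let k₁ : GL (Fin 6) F := Matrix.GeneralLinearGroup.map F₀.subtype g₀
  have hk₁ : k₁.1 = N := by
    ext i j
    rw [Matrix.GeneralLinearGroup.map_apply]
    rfl
  let s : GL (Fin 6) F := Units.map (Matrix.scalar (Fin 6) : F →+* Matrix (Fin 6) (Fin 6) F).toMonoidHom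
    (Units.mk0 c⁻¹ (inv_ne_zero hc))
  have hs : s ∈ scalars (Fin 6) F := ⟨_, rfl⟩
  have hs1 : s.1 = c⁻¹ • (1 : Matrix (Fin 6) (Fin 6) F) := by
    simp [s, Matrix.smul_one_eq_diagonal]
  have hks : k₁ * s = M := by
    apply Units.ext
    rw [Units.val_mul, hk₁, hs1]
    simp only [N]
    rw [Matrix.mul_smul, Matrix.mul_one, smul_smul, inv_mul_cancel₀ hc, one_smul]
  have hk : k₁ * s ∈ (Matrix.GeneralLinearGroup.map (F₀.subtype : F₀ →+* F)).range ⊔ scalars (Fin 6) F :=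
    mul_mem (Subgroup.mem_sup_left ⟨g₀, rfl⟩) (Subgroup.mem_sup_right hs)
  refine ⟨k₁ * s, hk, ?_⟩
  rw [hks]
  show MulAut.conj P M = g
  rw [MulAut.conj_apply]
  simp only [M]
  group

/-- a matrix preserving the rational vectors of an `F₂`-structure has determinant one -/
theorem det_eq_one_of_rat (hF : Fintype.card F = 2 ^ 2) (P g : GL (Fin 6) F)
    (h : ∀ x, Rat (⊥ : Subfield F) P.1 x → Rat (⊥ : Subfield F) P.1 (g.1 *ᵥ x)) : g.1.det = 1 := by
  classical
  let M : GL (Fin 6) F := P⁻¹ * g * P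
  have hN : ∀ i j, M.1 i j ∈ (⊥ : Subfield F) := by
    intro i j
    have := entries_mem (⊥ : Subfield F) P g 1 (fun x hx => by rw [one_smul]; exact h x hx) i j
    rwa [one_smul] at this
  let N₀ : Matrix (Fin 6) (Fin 6) (⊥ : Subfield F) := fun i j => ⟨M.1 i j, hN i j⟩
  have hmap : ((⊥ : Subfield F).subtype).mapMatrix N₀ = M.1 := by ext i j; rfl
  have hdetM : M.1.det ≠ 0 := IsUnit.ne_zero ((Matrix.isUnit_iff_isUnit_det _).mp M.isUnit)
  have hmem : M.1.det ∈ (⊥ : Subfield F) := by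
    rw [← hmap, ← RingHom.map_det]
    exact (N₀.det).2
  have h1 : M.1.det = 1 := by
    rcases eq_zero_or_one_of_mem_bot hF hmem with h0 | h0
    · exact absurd h0 hdetM
    · exact h0
  have hg : g = P * M * P⁻¹ := by simp only [M]; group
  rw [hg, Units.val_mul, Units.val_mul, Matrix.det_units_conj, h1]

/-! ## assembly -/

/-- K-SU6-K2 with the statement of K-SU6-K0 (`sa_pow_eight`) as a hypothesis. -/
theorem exists_structure_of_sa (hF : Fintype.card F = 2 ^ 2) (K : Subalgebra F (Matrix (Fin 6) (Fin 6) F))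
    (hK : IsFieldSubalgebra 3 K) (hadj : IsAdjointClosedFor (hermForm 6 F 2) K)
    (hsa : ∀ a : Matrix (Fin 6) (Fin 6) F, IsSA hF K a → a ^ 8 = a)
    (u v : Fin 6 → F) (huv : IsHypPair K u v) :
    ∃ (F₀ : Subfield F) (P : GL (Fin 6) F), Fintype.card F = Nat.card F₀ ^ 2 ∧
      IsFormRationalStructure (hermForm 6 F 2) F₀ 1 P ∧
      (∀ w : Fin 6 → F, (∀ i, w i ∈ F₀) →
        hermForm 6 F 2 ((P : Matrix (Fin 6) (Fin 6) F) *ᵥ w) ((P : Matrix (Fin 6) (Fin 6) F) *ᵥ w) = 0) ∧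
      (∀ g : GL (Fin 6) F,
        (∃ c : Fˣ, ∀ x, InV0 hF K u v x → ∃ y, InV0 hF K u v y ∧ (g : Matrix (Fin 6) (Fin 6) F) *ᵥ x = (c : F) • y) →
          g ∈ subfieldSubgroup F₀ P) ∧
      (∀ g : GL (Fin 6) F, (∀ x, InV0 hF K u v x → InV0 hF K u v ((g : Matrix (Fin 6) (Fin 6) F) *ᵥ x)) →
          (g : Matrix (Fin 6) (Fin 6) F).det = 1) := by
  classical
  obtain ⟨κ, hκ, hsp, hli⟩ := exists_sa_basis hF K hK hadj
  -- `P` is invertible
  have hsurj : Function.Surjective (Pm κ u v).mulVec := by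
    intro x
    obtain ⟨a, ha, b, hb, rfl⟩ := huv.span x
    obtain ⟨c, hc⟩ := hsp a ha
    obtain ⟨d, hd⟩ := hsp b hb
    refine ⟨![c 0, c 1, c 2, d 0, d 1, d 2], ?_⟩
    rw [Pm_mulVec, hc, hd]
    simp
  have hU : IsUnit (Pm κ u v) := Matrix.mulVec_surjective_iff_isUnit.mp hsurj
  let P : GL (Fin 6) F := hU.unit
  have hP : P.1 = Pm κ u v := rfl
  have hto : ∀ x, Rat (⊥ : Subfield F) P.1 x → InV0 hF K u v x := fun x hx =>
    inV0_of_rat hF K κ hκ u v (hP ▸ hx)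
  have hfrom : ∀ x, InV0 hF K u v x → Rat (⊥ : Subfield F) P.1 x := fun x hx => by
    rw [hP]; exact rat_of_inV0 hF K κ hκ hsp hli u v hx
  refine ⟨⊥, P, ?_, ?_, ?_, ?_, ?_⟩
  · rw [card_bot hF, hF]
  · intro w w' hw hw'
    rw [one_mul]
    exact herm_inV0_mem hF K hK hadj hsa u v huv (hto _ ⟨w, hw, rfl⟩) (hto _ ⟨w', hw', rfl⟩)
  · intro w hw
    exact herm_inV0_self hF K hK hadj hsa u v huv (hto _ ⟨w, hw, rfl⟩)
  · rintro g ⟨c, hc⟩
    refine mem_subfieldSubgroup_of_rat ⊥ P g (c : F)⁻¹ (inv_ne_zero c.ne_zero) ?_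
    intro x hx
    obtain ⟨y, hy, hgy⟩ := hc x (hto x hx)
    rw [hgy, smul_smul, inv_mul_cancel₀ c.ne_zero, one_smul]
    exact hfrom y hy
  · intro g hg
    exact det_eq_one_of_rat hF P g (fun x hx => hfrom _ (hg x (hto x hx)))

end Cfsg.Agent.Lib.Helper21.SU6K
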