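import Mathlib
import Cfsg.Prelude.Def_GeometricClasses
import Cfsg.Agent.Lib.Helper73.SU6FDefs
import Cfsg.Agent.Lib.Helper27.SU6K0
import Cfsg.Agent.Lib.Helper21.SU6K2d

/-!
# K-SU6-K2 (keystone 580208, architect helper73): `exists_structure`

From a hyperbolic pair `u, v` build `F₀ = F₂` (the prime subfield) and `P` (columns `κᵢ u, κᵢ v`, `κ` an `F₂`-basis of
the self-adjoint elements of `K`): the hermitian form is `F₂`-valued and alternating on `V₀ = K₀ u + K₀ v`; maps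
preserving `V₀` up to a scalar lie in `subfieldSubgroup F₀ P`; maps preserving `V₀` have determinant one.
-/

set_option autoImplicit false

namespace Cfsg.Agent.Lib.Helper21.SU6K

open Cfsg Cfsg.Geo Cfsg.Agent.Lib.Helper73.SU6
open scoped Matrix MatrixGroups

variable {F : Type*} [Field F] [Fintype F]

/-- K-SU6-K2 -/
theorem exists_structure (hF : Fintype.card F = 2 ^ 2) (K : Subalgebra F (Matrix (Fin 6) (Fin 6) F))
    (hK : IsFieldSubalgebra 3 K) (hadj : IsAdjointClosedFor (hermForm 6 F 2) K)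
    (u v : Fin 6 → F) (huv : IsHypPair K u v) :
    ∃ (F₀ : Subfield F) (P : GL (Fin 6) F), Fintype.card F = Nat.card F₀ ^ 2 ∧
      IsFormRationalStructure (hermForm 6 F 2) F₀ 1 P ∧
      (∀ w : Fin 6 → F, (∀ i, w i ∈ F₀) →
        hermForm 6 F 2 ((P : Matrix (Fin 6) (Fin 6) F) *ᵥ w) ((P : Matrix (Fin 6) (Fin 6) F) *ᵥ w) = 0) ∧
      (∀ g : GL (Fin 6) F,
        (∃ c : Fˣ, ∀ x, InV0 hF K u v x → ∃ y, InV0 hF K u v y ∧ (g : Matrix (Fin 6) (Fin 6) F) *ᵥ x = (c : F) • y) →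
          g ∈ subfieldSubgroup F₀ P) ∧
      (∀ g : GL (Fin 6) F, (∀ x, InV0 hF K u v x → InV0 hF K u v ((g : Matrix (Fin 6) (Fin 6) F) *ᵥ x)) →
          (g : Matrix (Fin 6) (Fin 6) F).det = 1) :=
  exists_structure_of_sa hF K hK hadj
    (fun a ha => Cfsg.Agent.Lib.Helper27.SU6K.sa_pow_eight hF K hK hadj a ha) u v huv

end Cfsg.Agent.Lib.Helper21.SU6K
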