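import Mathlib
import Cfsg.Prelude.Def_GeometricClasses
import Cfsg.Prelude.Def_ClassicalGeometry
import Cfsg.Agent.Lib.Helper38.SpF.Defs
import Cfsg.Agent.Lib.Helper49.PrimeOrderSpCount
import Cfsg.Agent.Lib.Helper50.SpTransvCent
import Cfsg.Agent.S2568

/-!
# K-SpF-C1 (keystone 597508, S5975 pack, architect helper38): `exists_min_semisimple`

A minimal semisimple element of odd prime order `r ≠ p` of `Sp_{2d}(q)`: the fixed space of every
conjugate has codimension `c = cOf (ord_r q)` and the form is nondegenerate on the range of `y - 1`.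
-/

set_option autoImplicit false
set_option linter.style.haveILetI false

namespace Cfsg.Agent.Lib.Helper21.SpF

open Cfsg Cfsg.Geo Cfsg.Agent.Lib.Helper38.SpF Polynomial
open scoped Matrix MatrixGroups

variable {F : Type*} [Field F]

/-- semisimplicity at the eigenvalue `1` -/
theorem eq_zero_of_fixed_of_range {ι : Type*} [Fintype ι] [DecidableEq ι] (A : Matrix ι ι F) (r : ℕ)
    (hA : A ^ r = 1) (hrF : (r : F) ≠ 0) (u u' : ι → F) (hu : A *ᵥ u = u)
    (hu' : u = (A - 1) *ᵥ u') : u = 0 := by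
  have h1 : ∀ j : ℕ, (A ^ j) *ᵥ u = u := by
    intro j
    induction j with
    | zero => rw [pow_zero, Matrix.one_mulVec]
    | succ j ih => rw [pow_succ, ← Matrix.mulVec_mulVec, hu, ih]
  have h2 : Matrix.toLin' (∑ j ∈ Finset.range r, A ^ j) u = (r : F) • u := by
    rw [map_sum, LinearMap.sum_apply,
      Finset.sum_congr rfl (fun j _ => by rw [Matrix.toLin'_apply, h1 j]),
      Finset.sum_const, Finset.card_range, Nat.cast_smul_eq_nsmul]
  have h3 : (∑ j ∈ Finset.range r, A ^ j) * (A - 1) = 0 := by rw [geom_sum_mul, hA, sub_self]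
  have h4 : Matrix.toLin' (∑ j ∈ Finset.range r, A ^ j) u = 0 := by
    rw [Matrix.toLin'_apply, hu', Matrix.mulVec_mulVec, h3, Matrix.zero_mulVec]
  rw [h2] at h4
  exact (smul_eq_zero.mp h4).resolve_left hrF

theorem sympForm_sub_left' (d : ℕ) (u w v : Fin d ⊕ Fin d → F) :
    sympForm d F (u - w) v = sympForm d F u v - sympForm d F w v := by
  unfold sympForm; rw [sub_dotProduct]

theorem sympForm_sub_right' (d : ℕ) (u v w : Fin d ⊕ Fin d → F) :
    sympForm d F u (v - w) = sympForm d F u v - sympForm d F u w := by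
  unfold sympForm; rw [Matrix.mulVec_sub, dotProduct_sub]

theorem sympForm_nondeg' (d : ℕ) (t : Fin d ⊕ Fin d → F) (h : ∀ v, sympForm d F t v = 0) :
    t = 0 := by
  apply dotProduct_eq_zero
  intro w
  have h1 := h (Matrix.J (Fin d) F *ᵥ (-w))
  unfold sympForm at h1
  rw [Matrix.mulVec_mulVec, Matrix.J_squared, Matrix.neg_mulVec, Matrix.one_mulVec, neg_neg] at h1
  exact h1

/-- for a semisimple isometry `A` the form is nondegenerate on `range (A - 1)` -/
theorem nondeg_range (d : ℕ) (A A' : Matrix (Fin d ⊕ Fin d) (Fin d ⊕ Fin d) F) (hAA' : A * A' = 1)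
    (hiso : ∀ u v, sympForm d F (A *ᵥ u) (A *ᵥ v) = sympForm d F u v)
    (hss : ∀ u u' : Fin d ⊕ Fin d → F, A *ᵥ u = u → u = (A - 1) *ᵥ u' → u = 0)
    (u : Fin d ⊕ Fin d → F) (hu : u ∈ LinearMap.range (Matrix.toLin' (A - 1)))
    (h : ∀ w ∈ LinearMap.range (Matrix.toLin' (A - 1)), sympForm d F u w = 0) : u = 0 := by
  obtain ⟨u', hu'⟩ := hu
  rw [Matrix.toLin'_apply] at hu'
  have hfix : A *ᵥ u - u = 0 := by
    apply sympForm_nondeg' d
    intro v
    have hv : A *ᵥ (A' *ᵥ v) = v := by rw [Matrix.mulVec_mulVec, hAA', Matrix.one_mulVec]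
    have h1 : sympForm d F u ((A - 1) *ᵥ (A' *ᵥ v)) = 0 :=
      h _ ⟨A' *ᵥ v, by rw [Matrix.toLin'_apply]⟩
    rw [Matrix.sub_mulVec, Matrix.one_mulVec, sympForm_sub_right'] at h1
    have e1 : sympForm d F (A *ᵥ u) v = sympForm d F u (A' *ᵥ v) := by
      rw [← hiso u (A' *ᵥ v), hv]
    have e2 : sympForm d F u v = sympForm d F u (A *ᵥ (A' *ᵥ v)) := by rw [hv]
    rw [sympForm_sub_left', e1, e2]
    linear_combination -h1
  exact hss u u' (sub_eq_zero.mp hfix) hu'.symm

theorem kdim_X_sub_one {ι : Type*} [Fintype ι] [DecidableEq ι] (A : Matrix ι ι F) :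
    Cfsg.Agent.Lib.Helper49.kdim (Matrix.toLin' A) (X - 1) =
      Module.finrank F (LinearMap.ker (Matrix.toLin' (A - 1))) := by
  unfold Cfsg.Agent.Lib.Helper49.kdim
  rw [map_sub, aeval_X, map_one, map_sub, Matrix.toLin'_one]
  rfl

theorem finrank_ker_conj {ι : Type*} [Fintype ι] [DecidableEq ι] (x g : GL ι F) :
    Module.finrank F (LinearMap.ker (Matrix.toLin'
      (((g⁻¹ * x * g : GL ι F) : Matrix ι ι F) - 1))) =
    Module.finrank F (LinearMap.ker (Matrix.toLin' ((x : Matrix ι ι F) - 1))) := by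
  have hgg' : (g : Matrix ι ι F) * ((g⁻¹ : GL ι F) : Matrix ι ι F) = 1 := by
    rw [← Units.val_mul, mul_inv_cancel, Units.val_one]
  have hg'g : ((g⁻¹ : GL ι F) : Matrix ι ι F) * (g : Matrix ι ι F) = 1 := by
    rw [← Units.val_mul, inv_mul_cancel, Units.val_one]
  let e : (ι → F) ≃ₗ[F] (ι → F) :=
    LinearEquiv.ofLinearMap (Matrix.toLin' (g : Matrix ι ι F))
      (Matrix.toLin' ((g⁻¹ : GL ι F) : Matrix ι ι F))
      (by rw [← Matrix.toLin'_mul, hgg', Matrix.toLin'_one])
      (by rw [← Matrix.toLin'_mul, hg'g, Matrix.toLin'_one])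
  rw [← kdim_X_sub_one, ← kdim_X_sub_one]
  apply Cfsg.Agent.Lib.Helper49.kdim_conj _ _ e
  intro v
  change Matrix.toLin' (g : Matrix ι ι F)
      (Matrix.toLin' ((g⁻¹ * x * g : GL ι F) : Matrix ι ι F) v) =
    Matrix.toLin' (x : Matrix ι ι F) (Matrix.toLin' (g : Matrix ι ι F) v)
  rw [Matrix.toLin'_apply, Matrix.toLin'_apply, Matrix.toLin'_apply, Matrix.toLin'_apply,
    Matrix.mulVec_mulVec, Matrix.mulVec_mulVec, Units.val_mul, Units.val_mul, ← mul_assoc,
    ← mul_assoc, hgg', one_mul]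

/-- realisation of a profile, with the dimension of the fixed space -/
theorem exists_profile_aux [Fintype F] (p : ℕ) [Fact p.Prime] [CharP F p]
    {r i : ℕ} {PP : Finset F[X]} (D : Cfsg.Agent.Lib.Helper49.FactorData F r i PP)
    (hmon : ∀ P ∈ PP, P.Monic) (hrF : (r : F) ≠ 0) (d : ℕ) (a : PP → ℕ)
    (ha : i * ∑ P, a P ≤ 2 * d)
    (hpal : ((X - 1 : F[X]) ^ (2 * d - i * ∑ P, a P) * ∏ P : PP, (P : F[X]) ^ a P).reverse =
      (X - 1 : F[X]) ^ (2 * d - i * ∑ P, a P) * ∏ P : PP, (P : F[X]) ^ a P) :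
    ∃ g₀ : Matrix.symplecticGroup (Fin d) F, g₀ ^ r = 1 ∧
      Cfsg.Agent.Lib.Helper49.kdim
        (Matrix.toLin' (g₀ : Matrix (Fin d ⊕ Fin d) (Fin d ⊕ Fin d) F)) (X - 1) +
        i * ∑ P, a P = 2 * d := by
  obtain ⟨g₀, hg₀, hκ⟩ := D.exists_sp_realize p hmon hrF d a ha hpal
  refine ⟨g₀, hg₀, ?_⟩
  have h1 := D.finrank_eq (Matrix.toLin' (g₀ : Matrix (Fin d ⊕ Fin d) (Fin d ⊕ Fin d) F))
    (Cfsg.Agent.Lib.Helper49.aeval_toLin'_of_pow_eq_one _ r
      (Cfsg.Agent.Lib.Helper49.sp_coe_pow_eq_one g₀ r hg₀))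
  have h2 : Module.finrank F (Fin d ⊕ Fin d → F) = 2 * d := by
    rw [Module.finrank_fintype_fun_eq_card, Fintype.card_sum, Fintype.card_fin]; ring
  have h3 : ∑ P ∈ PP, Cfsg.Agent.Lib.Helper49.kdim
      (Matrix.toLin' (g₀ : Matrix (Fin d ⊕ Fin d) (Fin d ⊕ Fin d) F)) P = i * ∑ P, a P := by
    rw [← Finset.sum_coe_sort PP, Finset.mul_sum]
    exact Finset.sum_congr rfl (fun P _ => hκ P)
  rw [h2, h3] at h1
  exact h1.symm

theorem exists_profile [Fintype F] {p : ℕ} [Fact p.Prime] [CharP F p] {q : ℕ}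
    (hq : Fintype.card F = q) (d : ℕ) (r : ℕ) [Fact r.Prime] (hr2 : r ≠ 2) (hrp : r ≠ p)
    (hcd : cOf (orderOf (q : ZMod r)) ≤ 2 * d) :
    1 ≤ orderOf (q : ZMod r) ∧
    ∃ g₀ : Matrix.symplecticGroup (Fin d) F, g₀ ^ r = 1 ∧
      Cfsg.Agent.Lib.Helper49.kdim
        (Matrix.toLin' (g₀ : Matrix (Fin d ⊕ Fin d) (Fin d ⊕ Fin d) F)) (X - 1) +
        cOf (orderOf (q : ZMod r)) = 2 * d := by
  classical
  have hr : r.Prime := Fact.out
  have hp : p.Prime := Fact.out
  obtain ⟨f, _, hqf⟩ := FiniteField.card F p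
  rw [hq] at hqf
  have hKc : Fintype.card F = p ^ (f : ℕ) := by rw [hq, hqf]
  obtain ⟨i, hi⟩ : ∃ i, i = orderOf ((q : ℕ) : ZMod r) := ⟨_, rfl⟩
  have hi' : i = orderOf ((p ^ (f : ℕ) : ℕ) : ZMod r) := by rw [hi, hqf]
  have hi2 : i = orderOf ((Fintype.card F : ℕ) : ZMod r) := by rw [hi, hq]
  have D := Cfsg.Agent.S2568.factorData hKc r i hrp hi'
  have hrF : (r : F) ≠ 0 := by
    intro h0
    rw [CharP.cast_eq_zero_iff F p] at h0
    exact hrp ((Nat.prime_dvd_prime_iff_eq hp hr).mp h0).symm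
  have hmon : ∀ P ∈ (UniqueFactorizationMonoid.normalizedFactors
      (Polynomial.cyclotomic r F)).toFinset, P.Monic := by
    intro P hP
    have hP1 := Multiset.mem_toFinset.mp hP
    rw [← UniqueFactorizationMonoid.normalize_normalized_factor P hP1]
    exact Polynomial.monic_normalize
      (UniqueFactorizationMonoid.irreducible_of_normalized_factor P hP1).ne_zero
  rw [← hi] at hcd ⊢
  have hi1 : 1 ≤ i := D.hi
  refine ⟨hi1, ?_⟩
  -- a factor
  have hne : (UniqueFactorizationMonoid.normalizedFactors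
      (Polynomial.cyclotomic r F)).toFinset.Nonempty := by
    rw [Finset.nonempty_iff_ne_empty]
    intro hempty
    have h1 := D.prod
    rw [hempty, Finset.prod_empty, mul_one] at h1
    have h2 := congrArg Polynomial.natDegree h1
    have e1 : (Polynomial.X - 1 : Polynomial F).natDegree = 1 := by
      rw [← Polynomial.C_1]; exact Polynomial.natDegree_X_sub_C 1
    have e2 : (Polynomial.X ^ r - 1 : Polynomial F).natDegree = r := by
      rw [← Polynomial.C_1]; exact Polynomial.natDegree_X_pow_sub_C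
    rw [e1, e2] at h2
    have := hr.two_le
    omega
  obtain ⟨P₀, hP₀⟩ := hne
  have hP₀irr : Fact (Irreducible P₀) := ⟨D.irr P₀ hP₀⟩
  set Q₀ : ↥(UniqueFactorizationMonoid.normalizedFactors (Polynomial.cyclotomic r F)).toFinset :=
    ⟨P₀, hP₀⟩ with hQ₀
  by_cases hev : Even i
  · -- `i` even: one self-reciprocal factor
    have hc : cOf i = i := by unfold cOf; rw [if_pos hev]
    rw [hc] at hcd ⊢
    let a : ↥(UniqueFactorizationMonoid.normalizedFactors
        (Polynomial.cyclotomic r F)).toFinset → ℕ := fun P => if P = Q₀ then 1 else 0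
    have hsum : ∑ P, a P = 1 := by
      rw [Finset.sum_ite_eq' Finset.univ Q₀ (fun _ => 1)]
      simp
    have ha1 : i * ∑ P, a P ≤ 2 * d := by rw [hsum, mul_one]; exact hcd
    have hPrev : ∀ P : ↥(UniqueFactorizationMonoid.normalizedFactors
        (Polynomial.cyclotomic r F)).toFinset, (P : Polynomial F).reverse = (P : Polynomial F) := by
      intro P
      haveI : Fact (Irreducible P.1) := ⟨D.irr P.1 P.2⟩
      apply Cfsg.Agent.Lib.Helper49.reverse_eq_self_of_starP_eq (hmon P.1 P.2)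
        (Cfsg.Agent.Lib.Helper49.starP_eq_self_of_even (hmon P.1 P.2) hi2 (by omega) hev
          (D.dvd_of_mem P.2)) hr.pos (D.dvd_of_mem P.2) (D.X_sub_one_not_dvd P.2)
    have hpal : ((Polynomial.X - 1 : Polynomial F) ^ (2 * d - i * ∑ P, a P) *
        ∏ P : ↥(UniqueFactorizationMonoid.normalizedFactors
        (Polynomial.cyclotomic r F)).toFinset, (P : Polynomial F) ^ a P).reverse =
        (Polynomial.X - 1 : Polynomial F) ^ (2 * d - i * ∑ P, a P) *
        ∏ P : ↥(UniqueFactorizationMonoid.normalizedFactors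
        (Polynomial.cyclotomic r F)).toFinset, (P : Polynomial F) ^ a P := by
      apply Cfsg.Agent.Lib.Helper49.palin_mul
      · apply Cfsg.Agent.Lib.Helper49.palin_X_sub_one_even
        rw [hsum, mul_one]
        obtain ⟨l, hl⟩ := hev
        exact ⟨d - l, by omega⟩
      · apply Cfsg.Agent.Lib.Helper49.palin_prod
        intro P _
        exact Cfsg.Agent.Lib.Helper49.palin_pow (hPrev P) _
    obtain ⟨g₀, hg₀, h⟩ := exists_profile_aux p D hmon hrF d a ha1 hpal
    refine ⟨g₀, hg₀, ?_⟩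
    rw [hsum, mul_one] at h
    exact h
  · -- `i` odd: a pair of reciprocal factors
    have hodd : Odd i := Nat.not_even_iff_odd.mp hev
    have hc : cOf i = 2 * i := by unfold cOf; rw [if_neg hev]
    rw [hc] at hcd ⊢
    set Q₁ : ↥(UniqueFactorizationMonoid.normalizedFactors (Polynomial.cyclotomic r F)).toFinset :=
      D.star hmon Q₀ with hQ₁
    have hQ₁val : (Q₁ : F[X]) = Cfsg.Agent.Lib.Helper49.starP P₀ := by
      rw [hQ₁, D.star_val]
    have hQne : Q₁ ≠ Q₀ := by
      intro h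
      have h1 : (Q₁ : F[X]) = P₀ := by rw [h]
      rw [hQ₁val] at h1
      refine Cfsg.Agent.Lib.Helper49.starP_ne_self_of_odd (P := P₀) hr.pos (hr.odd_of_ne_two hr2) ?_
        (D.dvd_of_mem hP₀) (D.not_dvd_X_sub_one hP₀) h1
      rw [D.deg P₀ hP₀]; exact hodd
    let a : ↥(UniqueFactorizationMonoid.normalizedFactors
        (Polynomial.cyclotomic r F)).toFinset → ℕ := fun P => if P = Q₀ ∨ P = Q₁ then 1 else 0
    have hsum : ∑ P, a P = 2 := by
      have h1 : ∑ P, a P = ∑ P ∈ ({Q₀, Q₁} : Finset _), 1 := by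
        rw [Finset.sum_ite, Finset.sum_const_zero, add_zero]
        apply Finset.sum_congr _ (fun _ _ => rfl)
        ext P
        simp
      rw [h1, Finset.sum_const, Finset.card_pair (Ne.symm hQne)]
      rfl
    have ha1 : i * ∑ P, a P ≤ 2 * d := by rw [hsum]; omega
    have hprod : ∏ P : ↥(UniqueFactorizationMonoid.normalizedFactors
        (Polynomial.cyclotomic r F)).toFinset, (P : Polynomial F) ^ a P =
        P₀ * Cfsg.Agent.Lib.Helper49.starP P₀ := by
      have h1 : ∏ P : ↥(UniqueFactorizationMonoid.normalizedFactors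
          (Polynomial.cyclotomic r F)).toFinset, (P : Polynomial F) ^ a P =
          ∏ P ∈ ({Q₀, Q₁} : Finset _), (P : Polynomial F) := by
        rw [← Finset.prod_subset (Finset.subset_univ ({Q₀, Q₁} : Finset _))]
        · apply Finset.prod_congr rfl
          intro P hP
          have : a P = 1 := by
            simp only [a]
            rw [if_pos]
            simpa using hP
          rw [this, pow_one]
        · intro P _ hP
          have : a P = 0 := by
            simp only [a]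
            rw [if_neg]
            simpa using hP
          rw [this, pow_zero]
      rw [h1, Finset.prod_pair (Ne.symm hQne), hQ₁val]
    have hpal : ((Polynomial.X - 1 : Polynomial F) ^ (2 * d - i * ∑ P, a P) *
        ∏ P : ↥(UniqueFactorizationMonoid.normalizedFactors
        (Polynomial.cyclotomic r F)).toFinset, (P : Polynomial F) ^ a P).reverse =
        (Polynomial.X - 1 : Polynomial F) ^ (2 * d - i * ∑ P, a P) *
        ∏ P : ↥(UniqueFactorizationMonoid.normalizedFactors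
        (Polynomial.cyclotomic r F)).toFinset, (P : Polynomial F) ^ a P := by
      apply Cfsg.Agent.Lib.Helper49.palin_mul
      · apply Cfsg.Agent.Lib.Helper49.palin_X_sub_one_even
        rw [hsum]
        exact ⟨d - i, by omega⟩
      · rw [hprod]
        apply Cfsg.Agent.Lib.Helper49.reverse_mul_starP (hmon P₀ hP₀) _ hr.pos (D.dvd_of_mem hP₀)
        rw [D.deg P₀ hP₀, ← hQ₁val]
        exact D.deg _ Q₁.2
    obtain ⟨g₀, hg₀, h⟩ := exists_profile_aux p D hmon hrF d a ha1 hpal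
    refine ⟨g₀, hg₀, ?_⟩
    rw [hsum, mul_comm] at h
    exact h

theorem exists_min_semisimple [Fintype F] {p : ℕ} [Fact p.Prime] [CharP F p] {q : ℕ} (hq : Fintype.card F = q) (d : ℕ) (hd : 2 ≤ d)
    (r : ℕ) [Fact r.Prime] (hr2 : r ≠ 2) (hrp : r ≠ p) (hcd : cOf (orderOf (q : ZMod r)) ≤ 2 * d) :
    ∃ x ∈ spGL d F, (x ^ r : GL (Fin d ⊕ Fin d) F) = 1 ∧
      (∀ z : F, (x : Matrix (Fin d ⊕ Fin d) (Fin d ⊕ Fin d) F) ≠ z • (1 : Matrix (Fin d ⊕ Fin d) (Fin d ⊕ Fin d) F)) ∧
      ∀ g ∈ spGL d F,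
        Module.finrank F (LinearMap.ker (Matrix.toLin' (((g⁻¹ * x * g : GL (Fin d ⊕ Fin d) F) : Matrix (Fin d ⊕ Fin d) (Fin d ⊕ Fin d) F) - 1))) +
          cOf (orderOf (q : ZMod r)) = 2 * d ∧
        ∀ u ∈ LinearMap.range (Matrix.toLin' (((g⁻¹ * x * g : GL (Fin d ⊕ Fin d) F) : Matrix (Fin d ⊕ Fin d) (Fin d ⊕ Fin d) F) - 1)),
          (∀ w ∈ LinearMap.range (Matrix.toLin' (((g⁻¹ * x * g : GL (Fin d ⊕ Fin d) F) : Matrix (Fin d ⊕ Fin d) (Fin d ⊕ Fin d) F) - 1)),
            sympForm d F u w = 0) → u = 0 := by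
  classical
  have hr : r.Prime := Fact.out
  have hp : p.Prime := Fact.out
  have hrF : (r : F) ≠ 0 := by
    intro h0
    rw [CharP.cast_eq_zero_iff F p] at h0
    exact hrp ((Nat.prime_dvd_prime_iff_eq hp hr).mp h0).symm
  obtain ⟨hi1, g₀, hg₀, hk⟩ := exists_profile hq d r hr2 hrp hcd
  set c := cOf (orderOf (q : ZMod r)) with hc
  set x : GL (Fin d ⊕ Fin d) F := ((Cfsg.Agent.Lib.Helper50.spEquiv (F := F) d g₀ : ↥(spGL d F)) :
    GL (Fin d ⊕ Fin d) F) with hx
  have hxmem : x ∈ spGL d F := (Cfsg.Agent.Lib.Helper50.spEquiv (F := F) d g₀).2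
  have hxval : (x : Matrix (Fin d ⊕ Fin d) (Fin d ⊕ Fin d) F) =
      (g₀ : Matrix (Fin d ⊕ Fin d) (Fin d ⊕ Fin d) F) := rfl
  have hxr : x ^ r = 1 := by
    rw [hx, ← Subgroup.coe_pow, ← map_pow, hg₀, map_one]
    rfl
  have hkx : Module.finrank F (LinearMap.ker (Matrix.toLin'
      ((x : Matrix (Fin d ⊕ Fin d) (Fin d ⊕ Fin d) F) - 1))) + c = 2 * d := by
    rw [← kdim_X_sub_one, hxval]; exact hk
  have hII : Module.finrank F (Fin d ⊕ Fin d → F) = 2 * d := by
    rw [Module.finrank_fintype_fun_eq_card, Fintype.card_sum, Fintype.card_fin]; ring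
  refine ⟨x, hxmem, hxr, ?_, ?_⟩
  · -- not scalar
    intro z hz
    have hxrM : (x : Matrix (Fin d ⊕ Fin d) (Fin d ⊕ Fin d) F) ^ r = 1 := by
      rw [← Units.val_pow_eq_pow_val, hxr, Units.val_one]
    have hzr : z ^ r = 1 := by
      rw [hz, _root_.smul_pow, one_pow] at hxrM
      have := congrFun (congrFun hxrM (Sum.inl ⟨0, by omega⟩)) (Sum.inl ⟨0, by omega⟩)
      simpa using this
    by_cases hz1 : z = 1
    · -- `x = 1`
      have hx1 : (x : Matrix (Fin d ⊕ Fin d) (Fin d ⊕ Fin d) F) - 1 = 0 := by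
        rw [hz, hz1, one_smul, sub_self]
      rw [hx1, map_zero, LinearMap.ker_zero, finrank_top, hII] at hkx
      have hc1 : 1 ≤ c := by
        rw [hc]; unfold cOf
        split_ifs <;> omega
      omega
    · -- `x - 1` invertible
      have hz0 : z ≠ 0 := by
        intro h0
        rw [h0, zero_pow hr.ne_zero] at hzr
        exact zero_ne_one hzr
      have hker : LinearMap.ker (Matrix.toLin'
          ((x : Matrix (Fin d ⊕ Fin d) (Fin d ⊕ Fin d) F) - 1)) = ⊥ := by
        rw [LinearMap.ker_eq_bot']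
        intro m hm
        rw [Matrix.toLin'_apply, hz, Matrix.sub_mulVec, Matrix.smul_mulVec, Matrix.one_mulVec] at hm
        have hm' : (z - 1) • m = 0 := by rw [sub_smul, one_smul]; exact hm
        exact (smul_eq_zero.mp hm').resolve_left (sub_ne_zero.mpr hz1)
      rw [hker, finrank_bot, zero_add] at hkx
      -- `r ∣ q - 1`
      have hu : orderOf (Units.mk0 z hz0) = r := by
        apply orderOf_eq_prime
        · apply Units.ext
          rw [Units.val_pow_eq_pow_val, Units.val_mk0, hzr, Units.val_one]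
        · intro h1
          apply hz1
          have := congrArg Units.val h1
          rwa [Units.val_mk0, Units.val_one] at this
      have hdvd : r ∣ q - 1 := by
        rw [← hu, ← hq, ← Fintype.card_units]
        exact orderOf_dvd_card
      have hq1 : 1 ≤ q := by rw [← hq]; exact Fintype.card_pos
      have hq1' : ((q : ℕ) : ZMod r) = 1 := by
        have h0 := (ZMod.natCast_eq_zero_iff (q - 1) r).mpr hdvd
        have h1 : q = (q - 1) + 1 := by omega
        rw [h1, Nat.cast_add, h0, zero_add, Nat.cast_one]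
      have hc2 : c = 2 := by
        rw [hc, hq1', orderOf_one]
        unfold cOf
        rw [if_neg (by decide)]
      omega
  · intro g hg
    refine ⟨by rw [finrank_ker_conj x g]; exact hkx, ?_⟩
    have hymem : g⁻¹ * x * g ∈ spGL d F :=
      Subgroup.mul_mem _ (Subgroup.mul_mem _ (Subgroup.inv_mem _ hg) hxmem) hg
    have hyr : (g⁻¹ * x * g) ^ r = 1 := by
      have h1 : g⁻¹ * x * g = g⁻¹ * x * g⁻¹⁻¹ := by rw [inv_inv]
      rw [h1, conj_pow, hxr]
      group
    intro u hu h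
    exact nondeg_range d ((g⁻¹ * x * g : GL (Fin d ⊕ Fin d) F) : Matrix (Fin d ⊕ Fin d) (Fin d ⊕ Fin d) F)
      (((g⁻¹ * x * g)⁻¹ : GL (Fin d ⊕ Fin d) F) : Matrix (Fin d ⊕ Fin d) (Fin d ⊕ Fin d) F)
      (by rw [← Units.val_mul, mul_inv_cancel, Units.val_one])
      (fun u v => hymem u v)
      (fun u u' => eq_zero_of_fixed_of_range _ r
        (by rw [← Units.val_pow_eq_pow_val, hyr, Units.val_one]) hrF u u') u hu h

end Cfsg.Agent.Lib.Helper21.SpF
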