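import Mathlib

/-!
# S4130 keystone L5/L6: the dichotomy for an abelian normal subgroup with all
`|N : C_N(g)| ∣ q`, and a normal subgroup of order `q` inside `N`.
-/

set_option autoImplicit false
set_option linter.style.haveILetI false

namespace Cfsg.Agent.Lib.Helper21.SqF

open Subgroup

universe u

variable {G : Type u} [Group G]

/-- `|H| * |K : H| = |K|` for `H ≤ K`. -/
theorem card_mul_relIndex_of_le {H K : Subgroup G} (h : H ≤ K) :
    Nat.card H * H.relIndex K = Nat.card K := by
  rw [Subgroup.relIndex, ← Subgroup.card_mul_index (H.subgroupOf K),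
    Nat.card_congr (Subgroup.subgroupOfEquivOfLe h).toEquiv]

/-- For `N` normal, `|N : N ∩ C|` divides `|G : C|`. -/
theorem relIndex_dvd_index_of_normal_right [Finite G] (C N : Subgroup G) [hN : N.Normal] :
    C.relIndex N ∣ C.index := by
  have h1 : Nat.card (N ⊓ C : Subgroup G) * C.relIndex N = Nat.card N := by
    rw [← Subgroup.inf_relIndex_left N C]
    exact card_mul_relIndex_of_le inf_le_left
  have h2 : Nat.card (N ⊓ C : Subgroup G) * N.relIndex C = Nat.card C := by
    rw [← Subgroup.inf_relIndex_right N C]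
    exact card_mul_relIndex_of_le inf_le_right
  have h3 : Nat.card N * N.relIndex C = Nat.card (C ⊔ N : Subgroup G) := by
    rw [← Subgroup.relIndex_sup_right C N]
    exact card_mul_relIndex_of_le le_sup_right
  have h4 : Nat.card C * C.relIndex (C ⊔ N) = Nat.card (C ⊔ N : Subgroup G) :=
    card_mul_relIndex_of_le le_sup_left
  have h5 : C.relIndex (C ⊔ N) = C.relIndex N := by
    have hpos : 0 < Nat.card C := Nat.card_pos
    apply Nat.eq_of_mul_eq_mul_left hpos
    rw [h4, ← h3, ← h1, ← h2]
    ring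
  rw [← h5]
  exact Subgroup.relIndex_dvd_index_of_le le_sup_left

/-- The commutator map `n ↦ g n g⁻¹ n⁻¹` on an abelian normal subgroup. -/
def commHom (N : Subgroup G) [hN : N.Normal] (hab : ∀ a ∈ N, ∀ b ∈ N, a * b = b * a) (g : G) :
    ↥N →* ↥N where
  toFun n := ⟨g * n * g⁻¹ * (n : G)⁻¹, N.mul_mem (hN.conj_mem n n.2 g) (N.inv_mem n.2)⟩
  map_one' := by ext; simp
  map_mul' a b := by
    ext
    have h1 : (g * (b : G) * g⁻¹ * (b : G)⁻¹) ∈ N :=
      N.mul_mem (hN.conj_mem b b.2 g) (N.inv_mem b.2)
    have h2 := hab _ (N.inv_mem a.2) _ h1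
    simp only [Subgroup.coe_mul]
    calc g * ((a : G) * (b : G)) * g⁻¹ * ((a : G) * (b : G))⁻¹
        = g * (a : G) * g⁻¹ * ((g * (b : G) * g⁻¹ * (b : G)⁻¹) * (a : G)⁻¹) := by group
      _ = g * (a : G) * g⁻¹ * ((a : G)⁻¹ * (g * (b : G) * g⁻¹ * (b : G)⁻¹)) := by rw [h2]
      _ = g * (a : G) * g⁻¹ * (a : G)⁻¹ * (g * (b : G) * g⁻¹ * (b : G)⁻¹) := by group

variable (N : Subgroup G) [hN : N.Normal] (hab : ∀ a ∈ N, ∀ b ∈ N, a * b = b * a)

@[simp] theorem commHom_coe (g : G) (n : ↥N) :
    ((commHom N hab g n : ↥N) : G) = g * n * g⁻¹ * (n : G)⁻¹ := rfl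

theorem mem_ker_commHom (g : G) (n : ↥N) :
    n ∈ (commHom N hab g).ker ↔ (n : G) ∈ centralizer ({g} : Set G) := by
  rw [MonoidHom.mem_ker, Subgroup.mem_centralizer_iff]
  constructor
  · intro h k hk
    rw [Set.mem_singleton_iff] at hk
    subst hk
    have h1 := congrArg (Subtype.val) h
    rw [commHom_coe] at h1
    simp only [OneMemClass.coe_one] at h1
    have : k * (n : G) = (k * (n : G) * k⁻¹ * (n : G)⁻¹) * ((n : G) * k) := by group
    rw [this, h1, one_mul]
  · intro h
    have h1 := h g (Set.mem_singleton g)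
    ext
    rw [commHom_coe, h1]
    simp

theorem ker_commHom (g : G) :
    (commHom N hab g).ker = (N ⊓ centralizer ({g} : Set G)).subgroupOf N := by
  ext n
  rw [mem_ker_commHom, Subgroup.mem_subgroupOf, Subgroup.mem_inf]
  exact ⟨fun h => ⟨n.2, h⟩, fun h => h.2⟩

theorem map_ker_commHom (g : G) :
    (commHom N hab g).ker.map N.subtype = N ⊓ centralizer ({g} : Set G) := by
  rw [ker_commHom, Subgroup.subgroupOf_map_subtype]
  exact inf_eq_left.2 inf_le_left

theorem card_range_commHom (g : G) :
    Nat.card (commHom N hab g).range = (N ⊓ centralizer ({g} : Set G)).relIndex N := by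
  rw [← Subgroup.index_ker, ker_commHom, Subgroup.relIndex]

theorem ker_commHom_eq_top_iff (g : G) :
    (commHom N hab g).ker = ⊤ ↔ N ≤ centralizer ({g} : Set G) := by
  constructor
  · intro h n hn
    have : (⟨n, hn⟩ : ↥N) ∈ (commHom N hab g).ker := by rw [h]; trivial
    exact (mem_ker_commHom N hab g _).1 this
  · intro h
    rw [eq_top_iff]
    intro n _
    exact (mem_ker_commHom N hab g n).2 (h n.2)

theorem card_range_commHom_of_not_le (q : ℕ) [hq : Fact q.Prime]
    (h : ∀ g : G, (N ⊓ centralizer ({g} : Set G)).relIndex N ∣ q)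
    (g : G) (hg : ¬ N ≤ centralizer ({g} : Set G)) :
    Nat.card (commHom N hab g).range = q := by
  have h1 := h g
  rw [← card_range_commHom N hab g] at h1
  rcases (Nat.dvd_prime hq.out).1 h1 with h2 | h2
  · exfalso
    apply hg
    rw [← ker_commHom_eq_top_iff N hab g]
    rw [← Subgroup.index_ker] at h2
    exact Subgroup.index_eq_one.1 h2
  · exact h2

theorem index_ker_commHom_of_not_le (q : ℕ) [hq : Fact q.Prime]
    (h : ∀ g : G, (N ⊓ centralizer ({g} : Set G)).relIndex N ∣ q)
    (g : G) (hg : ¬ N ≤ centralizer ({g} : Set G)) :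
    (commHom N hab g).ker.index = q := by
  rw [Subgroup.index_ker]
  exact card_range_commHom_of_not_le N hab q h g hg

/-- `g⁻¹ n g n⁻¹` lies in the range of the commutator map of `g`. -/
theorem inv_comm_mem_range (g : G) (n : ↥N) :
    (⟨g⁻¹ * n * g * (n : G)⁻¹,
      N.mul_mem (by simpa using hN.conj_mem n n.2 g⁻¹) (N.inv_mem n.2)⟩ : ↥N) ∈
      (commHom N hab g).range := by
  have hm : g⁻¹ * (n : G) * g ∈ N := by simpa using hN.conj_mem n n.2 g⁻¹
  have h1 : commHom N hab g ⟨g⁻¹ * n * g, hm⟩ ∈ (commHom N hab g).range := ⟨_, rfl⟩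
  have h2 := (commHom N hab g).range.inv_mem h1
  convert h2 using 1
  ext
  simp only [Subgroup.coe_inv, commHom_coe]
  group

/-- Two distinct subgroups of prime order intersect trivially. -/
theorem inf_eq_bot_of_card_prime {H : Type u} [Group H] [Finite H] (q : ℕ) [hq : Fact q.Prime]
    (A B : Subgroup H) (hA : Nat.card A = q) (hB : Nat.card B = q) (hne : A ≠ B) :
    A ⊓ B = ⊥ := by
  have h1 : Nat.card (A ⊓ B : Subgroup H) ∣ q := by
    rw [← hA]
    exact Subgroup.card_dvd_of_le inf_le_left
  rcases (Nat.dvd_prime hq.out).1 h1 with h2 | h2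
  · exact Subgroup.card_eq_one.1 h2
  · exfalso
    have h3 : A ⊓ B = A := Subgroup.eq_of_le_of_card_ge inf_le_left (by rw [h2, hA])
    have h4 : A ⊓ B = B := Subgroup.eq_of_le_of_card_ge inf_le_right (by rw [h2, hB])
    exact hne (h3.symm.trans h4)

/-- KEY: two nontrivially acting elements have the same centralizer in `N` or the same
commutator line. -/
theorem ker_eq_of_range_ne [Finite G] (q : ℕ) [hq : Fact q.Prime]
    (h : ∀ g : G, (N ⊓ centralizer ({g} : Set G)).relIndex N ∣ q)
    (g k : G) (hg : ¬ N ≤ centralizer ({g} : Set G)) (hk : ¬ N ≤ centralizer ({k} : Set G))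
    (hne : (commHom N hab g).range ≠ (commHom N hab k).range) :
    (commHom N hab g).ker = (commHom N hab k).ker := by
  have hbot : (commHom N hab g).range ⊓ (commHom N hab k).range = ⊥ :=
    inf_eq_bot_of_card_prime q _ _ (card_range_commHom_of_not_le N hab q h g hg)
      (card_range_commHom_of_not_le N hab q h k hk) hne
  -- the kernel of `g * k` is inside both kernels
  have hle : (commHom N hab (g * k)).ker ≤ (commHom N hab g).ker ⊓ (commHom N hab k).ker := by
    intro n hn
    rw [mem_ker_commHom, Subgroup.mem_centralizer_iff] at hn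
    have h1 : g * k * (n : G) = (n : G) * (g * k) := hn _ (Set.mem_singleton _)
    -- `k n k⁻¹ n⁻¹ = g⁻¹ n g n⁻¹`
    have h2 : k * (n : G) * k⁻¹ * (n : G)⁻¹ = g⁻¹ * (n : G) * g * (n : G)⁻¹ := by
      have : k * (n : G) = g⁻¹ * (n : G) * g * k := by
        calc k * (n : G) = g⁻¹ * (g * k * (n : G)) := by group
          _ = g⁻¹ * ((n : G) * (g * k)) := by rw [h1]
          _ = g⁻¹ * (n : G) * g * k := by group
      calc k * (n : G) * k⁻¹ * (n : G)⁻¹ = (k * (n : G)) * k⁻¹ * (n : G)⁻¹ := by group
        _ = (g⁻¹ * (n : G) * g * k) * k⁻¹ * (n : G)⁻¹ := by rw [this]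
        _ = g⁻¹ * (n : G) * g * (n : G)⁻¹ := by group
    have h3 : commHom N hab k n ∈ (commHom N hab g).range ⊓ (commHom N hab k).range := by
      refine Subgroup.mem_inf.2 ⟨?_, ⟨n, rfl⟩⟩
      have := inv_comm_mem_range N hab g n
      convert this using 1
      ext
      rw [commHom_coe]
      exact h2
    rw [hbot, Subgroup.mem_bot] at h3
    have h4 : n ∈ (commHom N hab k).ker := h3
    refine Subgroup.mem_inf.2 ⟨?_, h4⟩
    rw [mem_ker_commHom, Subgroup.mem_centralizer_iff]
    intro x hx
    rw [Set.mem_singleton_iff] at hx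
    subst hx
    have h5 : k * (n : G) * k⁻¹ * (n : G)⁻¹ = 1 := by
      have := congrArg Subtype.val h3
      simpa using this
    rw [h2] at h5
    -- `g⁻¹ n g n⁻¹ = 1`
    have h6 : x⁻¹ * (n : G) * x = (n : G) := mul_inv_eq_one.1 h5
    calc x * (n : G) = x * (x⁻¹ * (n : G) * x) := by rw [h6]
      _ = (n : G) * x := by group
  have hgk : ¬ N ≤ centralizer ({g * k} : Set G) := by
    intro hc
    apply hg
    rw [← ker_commHom_eq_top_iff N hab] at hc ⊢
    rw [eq_top_iff, ← hc]
    exact hle.trans inf_le_left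
  have hi := index_ker_commHom_of_not_le N hab q h (g * k) hgk
  haveI : Finite ↥N := inferInstance
  have hcard : ∀ x : G, ¬ N ≤ centralizer ({x} : Set G) →
      Nat.card (commHom N hab x).ker * q = Nat.card N := by
    intro x hx
    rw [← index_ker_commHom_of_not_le N hab q h x hx]
    exact Subgroup.card_mul_index _
  have hqpos : 0 < q := hq.out.pos
  have e1 : (commHom N hab (g * k)).ker = (commHom N hab g).ker := by
    apply Subgroup.eq_of_le_of_card_ge (hle.trans inf_le_left)
    have := (hcard g hg).trans (hcard (g * k) hgk).symm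
    exact (Nat.eq_of_mul_eq_mul_right hqpos this).le
  have e2 : (commHom N hab (g * k)).ker = (commHom N hab k).ker := by
    apply Subgroup.eq_of_le_of_card_ge (hle.trans inf_le_right)
    have := (hcard k hk).trans (hcard (g * k) hgk).symm
    exact (Nat.eq_of_mul_eq_mul_right hqpos this).le
  exact e1.symm.trans e2

/-- L5 (dichotomy). -/
theorem dichotomy {G : Type u} [Group G] [Finite G] (q : ℕ) [Fact q.Prime] (N : Subgroup G)
    [N.Normal] (hab : ∀ a ∈ N, ∀ b ∈ N, a * b = b * a)
    (h : ∀ g : G, (N ⊓ centralizer ({g} : Set G)).relIndex N ∣ q) :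
    (∀ g₁ g₂ : G, ¬ N ≤ centralizer ({g₁} : Set G) → ¬ N ≤ centralizer ({g₂} : Set G) →
        N ⊓ centralizer ({g₁} : Set G) = N ⊓ centralizer ({g₂} : Set G)) ∨
      (∃ L : Subgroup G, L ≤ N ∧ Nat.card L = q ∧ ∀ g : G, ∀ n ∈ N, g * n * g⁻¹ * n⁻¹ ∈ L) := by
  by_cases h1 : ∀ g₁ g₂ : G, ¬ N ≤ centralizer ({g₁} : Set G) →
      ¬ N ≤ centralizer ({g₂} : Set G) →
        N ⊓ centralizer ({g₁} : Set G) = N ⊓ centralizer ({g₂} : Set G)
  · exact Or.inl h1
  · right
    push Not at h1
    obtain ⟨g₁, g₂, hg₁, hg₂, hne⟩ := h1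
    have hkne : (commHom N hab g₁).ker ≠ (commHom N hab g₂).ker := by
      intro he
      apply hne
      rw [← map_ker_commHom N hab g₁, ← map_ker_commHom N hab g₂, he]
    have hr : (commHom N hab g₁).range = (commHom N hab g₂).range := by
      by_contra hc
      exact hkne (ker_eq_of_range_ne N hab q h g₁ g₂ hg₁ hg₂ hc)
    refine ⟨(commHom N hab g₁).range.map N.subtype, ?_, ?_, ?_⟩
    · intro x hx
      obtain ⟨y, _, rfl⟩ := hx
      exact y.2
    · rw [Nat.card_congr
        (Subgroup.equivMapOfInjective _ N.subtype N.subtype_injective).symm.toEquiv]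
      exact card_range_commHom_of_not_le N hab q h g₁ hg₁
    · intro g n hn
      by_cases hg : N ≤ centralizer ({g} : Set G)
      · have h2 := hg hn
        rw [Subgroup.mem_centralizer_iff] at h2
        have h3 : g * n = n * g := h2 g (Set.mem_singleton g)
        have : g * n * g⁻¹ * n⁻¹ = 1 := by rw [h3]; group
        rw [this]
        exact Subgroup.one_mem _
      · have hrg : (commHom N hab g).range = (commHom N hab g₁).range := by
          by_cases hk1 : (commHom N hab g).ker = (commHom N hab g₁).ker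
          · -- then the kernel differs from that of `g₂`
            have hk2 : (commHom N hab g).ker ≠ (commHom N hab g₂).ker := by
              rw [hk1]; exact hkne
            rw [hr]
            by_contra hc
            exact hk2 (ker_eq_of_range_ne N hab q h g g₂ hg hg₂ hc)
          · by_contra hc
            exact hk1 (ker_eq_of_range_ne N hab q h g g₁ hg hg₁ hc)
        refine ⟨commHom N hab g ⟨n, hn⟩, ?_, rfl⟩
        rw [SetLike.mem_coe, ← hrg]
        exact ⟨_, rfl⟩

/-- L6 (a normal subgroup of prime order). -/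
theorem exists_normal_card_prime_le {G : Type u} [Group G] [Finite G] (q : ℕ) [Fact q.Prime]
    (N : Subgroup G) [N.Normal] (hN1 : N ≠ ⊥) (hNq : IsPGroup q N)
    (hab : ∀ a ∈ N, ∀ b ∈ N, a * b = b * a)
    (h : ∀ g : G, ¬ q ^ 2 ∣ (centralizer ({g} : Set G)).index) :
    ∃ M : Subgroup G, M.Normal ∧ M ≤ N ∧ Nat.card M = q := by
  have hq : q.Prime := Fact.out
  -- step 0: relative indices divide `q`
  have h0 : ∀ g : G, (N ⊓ centralizer ({g} : Set G)).relIndex N ∣ q := by
    intro g
    rw [Subgroup.inf_relIndex_left]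
    have h1 : (centralizer ({g} : Set G)).relIndex N ∣ (centralizer ({g} : Set G)).index :=
      relIndex_dvd_index_of_normal_right _ N
    obtain ⟨k, hk⟩ := hNq.exists_card_eq
    have h2 : (centralizer ({g} : Set G)).relIndex N ∣ q ^ k := by
      rw [← hk]; exact Subgroup.relIndex_dvd_card _ _
    obtain ⟨j, _, hj⟩ := (Nat.dvd_prime_pow hq).1 h2
    rw [hj] at h1 ⊢
    have hj1 : j ≤ 1 := by
      by_contra hc
      push Not at hc
      exact h g ((pow_dvd_pow q hc).trans h1)
    calc q ^ j ∣ q ^ 1 := pow_dvd_pow q hj1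
      _ = q := pow_one q
  by_cases hZ : N ⊓ center G = ⊥
  · rcases dichotomy q N hab h0 with hA | ⟨L, hLN, hLq, hL⟩
    · -- some element acts nontrivially
      have hex : ∃ g₀ : G, ¬ N ≤ centralizer ({g₀} : Set G) := by
        by_contra hc
        push Not at hc
        apply hN1
        rw [eq_bot_iff, ← hZ]
        intro n hn
        refine Subgroup.mem_inf.2 ⟨hn, ?_⟩
        rw [Subgroup.mem_center_iff]
        intro g
        have := hc g hn
        rw [Subgroup.mem_centralizer_iff] at this
        exact this g (Set.mem_singleton g)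
      obtain ⟨g₀, hg₀⟩ := hex
      have hbot : N ⊓ centralizer ({g₀} : Set G) = ⊥ := by
        rw [eq_bot_iff, ← hZ]
        intro n hn
        refine Subgroup.mem_inf.2 ⟨hn.1, ?_⟩
        rw [Subgroup.mem_center_iff]
        intro g
        by_cases hg : N ≤ centralizer ({g} : Set G)
        · have := hg hn.1
          rw [Subgroup.mem_centralizer_iff] at this
          exact this g (Set.mem_singleton g)
        · have h2 : n ∈ N ⊓ centralizer ({g} : Set G) := by
            rw [hA g g₀ hg hg₀]; exact hn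
          have := (Subgroup.mem_inf.1 h2).2
          rw [Subgroup.mem_centralizer_iff] at this
          exact this g (Set.mem_singleton g)
      have h3 := h0 g₀
      rw [hbot, Subgroup.relIndex_bot_left] at h3
      refine ⟨N, inferInstance, le_rfl, ?_⟩
      rcases (Nat.dvd_prime hq).1 h3 with h4 | h4
      · exact absurd (Subgroup.card_eq_one.1 h4) hN1
      · exact h4
    · refine ⟨L, ⟨?_⟩, hLN, hLq⟩
      intro l hl g
      have h1 := hL g l (hLN hl)
      have : g * l * g⁻¹ = (g * l * g⁻¹ * l⁻¹) * l := by group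
      rw [this]
      exact L.mul_mem h1 hl
  · -- a central element of order `q` in `N`
    have hZq : IsPGroup q (N ⊓ center G : Subgroup G) := hNq.to_le inf_le_left
    have hcard : q ∣ Nat.card (N ⊓ center G : Subgroup G) := by
      obtain ⟨k, hk⟩ := hZq.exists_card_eq
      rw [hk]
      have hk0 : k ≠ 0 := by
        rintro rfl
        rw [pow_zero] at hk
        exact hZ (Subgroup.card_eq_one.1 hk)
      exact dvd_pow_self q hk0
    obtain ⟨z, hz⟩ := exists_prime_orderOf_dvd_card' q hcard
    have hzN : (z : G) ∈ N := z.2.1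
    have hzZ : (z : G) ∈ center G := z.2.2
    have hzo : orderOf (z : G) = q := by rw [Subgroup.orderOf_coe]; exact hz
    refine ⟨zpowers (z : G), ⟨?_⟩, ?_, ?_⟩
    · intro x hx g
      obtain ⟨i, rfl⟩ := Subgroup.mem_zpowers_iff.1 hx
      have h1 : (z : G) ^ i ∈ center G := Subgroup.zpow_mem _ hzZ i
      rw [Subgroup.mem_center_iff] at h1
      have : g * (z : G) ^ i * g⁻¹ = (z : G) ^ i := by rw [h1 g]; group
      rw [this]
      exact hx
    · rw [Subgroup.zpowers_le]; exact hzN
    · rw [Nat.card_zpowers, hzo]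

end Cfsg.Agent.Lib.Helper21.SqF
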