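import Mathlib
import Cfsg.Agent.Lib.Helper69.StNDefs

/-!
# K-StN-E4 (keystone 240115, pack K-StN = S2401, architect helper69)

`φ` is injective on the upper unipotent subgroup `Upos X` of a Steinberg group.

For a *closed* finite set `R` of positive roots (`(i,k), (k,j) ∈ R → (i,j) ∈ R`) let `e4U X R` be the
subgroup generated by the root subgroups `X i j _`, `(i,j) ∈ R`.  If `p ∈ R` has minimal height then
`R.erase p` is closed again, `X p _` normalizes `e4U X (R.erase p)`, so
`e4U X R = e4U X (R.erase p) * X p K`, and the `p`-entry of `φ (g' * X p t)` is `t`.  Induction on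
the cardinality of `R`.
-/

set_option autoImplicit false
set_option linter.unusedSectionVars false
set_option linter.unusedVariables false

namespace Cfsg.Agent.Lib.Helper21.StN

open Cfsg.Agent.Lib.Helper69.StN Matrix

variable {n : ℕ} {K : Type*} [Field K] {S : Type*} [Group S] {X : Fin n → Fin n → K → S}

/-- the subgroup generated by the root subgroups of a set of roots -/
def e4U (X : Fin n → Fin n → K → S) (R : Finset (Fin n × Fin n)) : Subgroup S :=
  Subgroup.closure {g | ∃ i j, ∃ t : K, (i, j) ∈ R ∧ g = X i j t}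

/-- closed sets of positive roots -/
def e4Closed (R : Finset (Fin n × Fin n)) : Prop :=
  (∀ i j, (i, j) ∈ R → i < j) ∧ ∀ i k j, (i, k) ∈ R → (k, j) ∈ R → (i, j) ∈ R

/-- matrices with unit diagonal, supported on the diagonal and on `R` -/
def e4M (R : Finset (Fin n × Fin n)) (M : Matrix (Fin n) (Fin n) K) : Prop :=
  (∀ i, M i i = 1) ∧ ∀ i j, i ≠ j → (i, j) ∉ R → M i j = 0

lemma e4_coe_mul (φ : S →* SpecialLinearGroup (Fin n) K) (x y : S) :
    ((φ (x * y) : SpecialLinearGroup (Fin n) K) : Matrix (Fin n) (Fin n) K) =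
      ((φ x : SpecialLinearGroup (Fin n) K) : Matrix (Fin n) (Fin n) K) *
        ((φ y : SpecialLinearGroup (Fin n) K) : Matrix (Fin n) (Fin n) K) := by
  rw [map_mul]; rfl

lemma e4_coe_one (φ : S →* SpecialLinearGroup (Fin n) K) :
    ((φ 1 : SpecialLinearGroup (Fin n) K) : Matrix (Fin n) (Fin n) K) = 1 := by
  rw [map_one]; rfl

lemma e4M_one (R : Finset (Fin n × Fin n)) : e4M R (1 : Matrix (Fin n) (Fin n) K) :=
  ⟨fun i => Matrix.one_apply_eq i, fun i j h _ => Matrix.one_apply_ne h⟩

lemma e4M_mul {R : Finset (Fin n × Fin n)} (hR : e4Closed R) {A B : Matrix (Fin n) (Fin n) K}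
    (hA : e4M R A) (hB : e4M R B) : e4M R (A * B) := by
  constructor
  · intro i
    rw [Matrix.mul_apply, Finset.sum_eq_single i]
    · rw [hA.1, hB.1, one_mul]
    · intro k _ hk
      by_cases h1 : (i, k) ∈ R
      · have hik : i < k := hR.1 i k h1
        have h2 : (k, i) ∉ R := fun h => absurd (hR.1 k i h) (not_lt.mpr hik.le)
        rw [hB.2 k i hk h2, mul_zero]
      · rw [hA.2 i k hk.symm h1, zero_mul]
    · simp
  · intro i j hij hR'
    rw [Matrix.mul_apply]
    apply Finset.sum_eq_zero
    intro k _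
    by_cases hki : k = i
    · subst hki
      rw [hB.2 k j hij hR', mul_zero]
    · by_cases hkj : k = j
      · subst hkj
        rw [hA.2 i k hij hR', zero_mul]
      · by_cases h1 : (i, k) ∈ R
        · by_cases h2 : (k, j) ∈ R
          · exact absurd (hR.2 i k j h1 h2) hR'
          · rw [hB.2 k j hkj h2, mul_zero]
        · rw [hA.2 i k (Ne.symm hki) h1, zero_mul]

lemma e4M_transvection {R : Finset (Fin n × Fin n)} {i j : Fin n} (hij : i ≠ j)
    (hR : (i, j) ∈ R) (t : K) :
    e4M R ((SpecialLinearGroup.transvection hij t : SpecialLinearGroup (Fin n) K) :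
      Matrix (Fin n) (Fin n) K) := by
  rw [SpecialLinearGroup.transvection_coe]
  constructor
  · intro r
    rw [Matrix.add_apply, Matrix.one_apply_eq, Matrix.single_apply_of_ne, add_zero]
    rintro ⟨rfl, rfl⟩
    exact hij rfl
  · intro r c hrc hR'
    rw [Matrix.add_apply, Matrix.one_apply_ne hrc, zero_add, Matrix.single_apply_of_ne]
    rintro ⟨rfl, rfl⟩
    exact hR' hR

lemma e4M_of_mem {R : Finset (Fin n × Fin n)} (hR : e4Closed R)
    {φ : S →* SpecialLinearGroup (Fin n) K} (hφ : IsPhi X φ) :
    ∀ g ∈ e4U X R, e4M R ((φ g : SpecialLinearGroup (Fin n) K) : Matrix (Fin n) (Fin n) K) := by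
  intro g hg
  unfold e4U at hg
  induction hg using Subgroup.closure_induction'' with
  | mem x hx =>
    obtain ⟨i, j, t, hij, rfl⟩ := hx
    rw [hφ i j (hR.1 i j hij).ne t]
    exact e4M_transvection _ hij t
  | inv_mem x hx =>
    obtain ⟨i, j, t, hij, rfl⟩ := hx
    rw [map_inv, hφ i j (hR.1 i j hij).ne t, SpecialLinearGroup.transvection_inv]
    exact e4M_transvection _ hij (-t)
  | one =>
    rw [e4_coe_one]
    exact e4M_one R
  | mul x y hx hy ihx ihy =>
    rw [e4_coe_mul]
    exact e4M_mul hR ihx ihy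

lemma e4_X_mem (X : Fin n → Fin n → K → S) {R : Finset (Fin n × Fin n)} {i j : Fin n}
    (h : (i, j) ∈ R) (t : K) : X i j t ∈ e4U X R :=
  Subgroup.subset_closure ⟨i, j, t, h, rfl⟩

/-- the new root subgroup normalizes the old subgroup -/
lemma e4_conj_mem (hX : IsSt X) {R : Finset (Fin n × Fin n)} {r c : Fin n}
    (hR' : e4Closed (insert (r, c) R)) (hrc : (r, c) ∉ R) (s : K) :
    ∀ g ∈ e4U X R, X r c s * g * (X r c s)⁻¹ ∈ e4U X R := by
  have hrc' : r < c := hR'.1 r c (Finset.mem_insert_self _ _)
  intro g hg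
  unfold e4U at hg
  induction hg using Subgroup.closure_induction with
  | mem x hx =>
    obtain ⟨i, j, u, hij, rfl⟩ := hx
    have hij' : i < j := hR'.1 i j (Finset.mem_insert_of_mem hij)
    by_cases hjr : j = r
    · subst hjr
      -- `i < j = r < c`
      have hic : i ≠ c := (hij'.trans hrc').ne
      have hicR : (i, c) ∈ R := by
        have := hR'.2 i j c (Finset.mem_insert_of_mem hij) (Finset.mem_insert_self _ _)
        rcases Finset.mem_insert.mp this with h | h
        · exact absurd (congrArg Prod.fst h) hij'.ne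
        · exact h
      have h := hX.comm3 i j c hij'.ne hrc'.ne hic u s
      have e : X j c s * X i j u * (X j c s)⁻¹ = (X i c (u * s))⁻¹ * X i j u := by
        rw [← h]; group
      rw [e]
      exact (e4U X R).mul_mem ((e4U X R).inv_mem (e4_X_mem X hicR _)) (e4_X_mem X hij _)
    · by_cases hci : c = i
      · subst hci
        -- `r < c = i < j`
        have hrj : r ≠ j := (hrc'.trans hij').ne
        have hrjR : (r, j) ∈ R := by
          have := hR'.2 r c j (Finset.mem_insert_self _ _) (Finset.mem_insert_of_mem hij)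
          rcases Finset.mem_insert.mp this with h | h
          · exact absurd (congrArg Prod.snd h) hij'.ne'
          · exact h
        have h := hX.comm3 r c j hrc'.ne hij'.ne hrj s u
        have e : X r c s * X c j u * (X r c s)⁻¹ = X r j (s * u) * X c j u := by
          rw [← h]; group
        rw [e]
        exact (e4U X R).mul_mem (e4_X_mem X hrjR _) (e4_X_mem X hij _)
      · have h := hX.comm r c i j hrc'.ne hij'.ne (Ne.symm hjr) hci s u
        have e : X r c s * X i j u * (X r c s)⁻¹ = X i j u := by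
          rw [h]; group
        rw [e]
        exact e4_X_mem X hij _
  | one =>
    have : X r c s * 1 * (X r c s)⁻¹ = 1 := by group
    rw [this]
    exact (e4U X R).one_mem
  | mul x y hx hy ihx ihy =>
    have : X r c s * (x * y) * (X r c s)⁻¹ =
        (X r c s * x * (X r c s)⁻¹) * (X r c s * y * (X r c s)⁻¹) := by group
    rw [this]
    exact (e4U X R).mul_mem ihx ihy
  | inv x hx ihx =>
    have : X r c s * x⁻¹ * (X r c s)⁻¹ = (X r c s * x * (X r c s)⁻¹)⁻¹ := by group
    rw [this]
    exact (e4U X R).inv_mem ihx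

/-- adding an extremal root: the new subgroup is the old one times the new root subgroup -/
lemma e4_decomp (hX : IsSt X) {R : Finset (Fin n × Fin n)} {r c : Fin n}
    (hR' : e4Closed (insert (r, c) R)) (hrc : (r, c) ∉ R) :
    ∀ g ∈ e4U X (insert (r, c) R), ∃ g' ∈ e4U X R, ∃ t : K, g = g' * X r c t := by
  have hrc' : r < c := hR'.1 r c (Finset.mem_insert_self _ _)
  -- left multiplication by a generator preserves the set of products
  have hgen : ∀ i j, ∀ u : K, (i, j) ∈ insert (r, c) R →
      ∀ h : S, (∃ g' ∈ e4U X R, ∃ t : K, h = g' * X r c t) →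
        ∃ g' ∈ e4U X R, ∃ t : K, X i j u * h = g' * X r c t := by
    rintro i j u hij h ⟨g', hg', t, rfl⟩
    rcases Finset.mem_insert.mp hij with h1 | h1
    · obtain ⟨rfl, rfl⟩ := Prod.mk.inj h1
      refine ⟨X i j u * g' * (X i j u)⁻¹, e4_conj_mem hX hR' hrc u g' hg', u + t, ?_⟩
      rw [← hX.add i j hrc'.ne u t]
      group
    · exact ⟨X i j u * g', (e4U X R).mul_mem (e4_X_mem X h1 _) hg', t, by group⟩
  have key : ∀ g ∈ e4U X (insert (r, c) R),
      ∀ h : S, (∃ g' ∈ e4U X R, ∃ t : K, h = g' * X r c t) →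
        ∃ g' ∈ e4U X R, ∃ t : K, g * h = g' * X r c t := by
    intro g hg
    unfold e4U at hg
    induction hg using Subgroup.closure_induction'' with
    | mem x hx =>
      obtain ⟨i, j, u, hij, rfl⟩ := hx
      exact hgen i j u hij
    | inv_mem x hx =>
      obtain ⟨i, j, u, hij, rfl⟩ := hx
      rw [hX.inv (hR'.1 i j hij).ne]
      exact hgen i j (-u) hij
    | one =>
      intro h hh
      rw [one_mul]
      exact hh
    | mul x y hx hy ihx ihy =>
      intro h hh
      rw [mul_assoc]
      exact ihx _ (ihy h hh)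
  intro g hg
  have := key g hg 1 ⟨1, (e4U X R).one_mem, 0, by rw [hX.zero hrc'.ne, one_mul]⟩
  rwa [mul_one] at this

/-- injectivity passes to the bigger subgroup -/
lemma e4_step (hX : IsSt X) {φ : S →* SpecialLinearGroup (Fin n) K} (hφ : IsPhi X φ)
    {R : Finset (Fin n × Fin n)} {r c : Fin n} (hR : e4Closed R)
    (hR' : e4Closed (insert (r, c) R)) (hrc : (r, c) ∉ R)
    (hQ : ∀ g ∈ e4U X R, φ g = 1 → g = 1) :
    ∀ g ∈ e4U X (insert (r, c) R), φ g = 1 → g = 1 := by
  have hrc' : r < c := hR'.1 r c (Finset.mem_insert_self _ _)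
  intro g hg hg1
  obtain ⟨g', hg', t, rfl⟩ := e4_decomp hX hR' hrc g hg
  have hM := e4M_of_mem hR hφ g' hg'
  have h1 : ((φ (g' * X r c t) : SpecialLinearGroup (Fin n) K) : Matrix (Fin n) (Fin n) K) r c
      = (1 : Matrix (Fin n) (Fin n) K) r c := by
    rw [hg1]; rfl
  rw [e4_coe_mul, hφ r c hrc'.ne t, SpecialLinearGroup.transvection_coe, Matrix.mul_add,
    Matrix.mul_one, Matrix.add_apply, Matrix.mul_single_apply_same, hM.1 r, hM.2 r c hrc'.ne hrc,
    Matrix.one_apply_ne hrc'.ne, zero_add, one_mul] at h1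
  subst h1
  rw [hX.zero hrc'.ne, mul_one] at hg1 ⊢
  exact hQ g' hg' hg1

lemma e4_inj (hX : IsSt X) {φ : S →* SpecialLinearGroup (Fin n) K} (hφ : IsPhi X φ) :
    ∀ (m : ℕ) (R : Finset (Fin n × Fin n)), R.card = m → e4Closed R →
      ∀ g ∈ e4U X R, φ g = 1 → g = 1 := by
  intro m
  induction m with
  | zero =>
    intro R hcard hR g hg _
    rw [Finset.card_eq_zero] at hcard
    subst hcard
    have : e4U X (∅ : Finset (Fin n × Fin n)) = ⊥ := by
      unfold e4U
      rw [Subgroup.closure_eq_bot_iff]
      rintro x ⟨i, j, t, hij, -⟩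
      exact absurd hij (Finset.notMem_empty _)
    rw [this, Subgroup.mem_bot] at hg
    exact hg
  | succ m ih =>
    intro R hcard hR
    have hne : R.Nonempty := by
      rw [← Finset.card_pos, hcard]; exact Nat.succ_pos m
    obtain ⟨p, hp, hmin⟩ := Finset.exists_min_image R (fun p => p.2.val - p.1.val) hne
    have hR0 : e4Closed (R.erase p) := by
      refine ⟨fun i j h => hR.1 i j (Finset.mem_of_mem_erase h), fun i k j h1 h2 => ?_⟩
      have h1' := Finset.mem_of_mem_erase h1
      have h2' := Finset.mem_of_mem_erase h2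
      refine Finset.mem_erase.mpr ⟨?_, hR.2 i k j h1' h2'⟩
      intro hp'
      have hik : i < k := hR.1 i k h1'
      have hkj : k < j := hR.1 k j h2'
      have := hmin (i, k) h1'
      rw [← hp'] at this
      simp only at this
      have h3 : i.val < k.val := hik
      have h4 : k.val < j.val := hkj
      omega
    have hins : insert (p.1, p.2) (R.erase p) = R := Finset.insert_erase hp
    have hnot : (p.1, p.2) ∉ R.erase p := Finset.notMem_erase p R
    have hcard0 : (R.erase p).card = m := by
      rw [Finset.card_erase_of_mem hp, hcard]; rfl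
    have := e4_step hX hφ hR0 (hins.symm ▸ hR) hnot (ih (R.erase p) hcard0 hR0)
    rw [hins] at this
    exact this

/-- K-StN-E4 -/
theorem Upos_inj (hX : IsSt X) {φ : S →* SpecialLinearGroup (Fin n) K} (hφ : IsPhi X φ) :
    ∀ g ∈ Upos X, φ g = 1 → g = 1 := by
  classical
  let R : Finset (Fin n × Fin n) := Finset.univ.filter (fun p => p.1 < p.2)
  have hR : e4Closed R := by
    refine ⟨fun i j h => ?_, fun i k j h1 h2 => ?_⟩
    · exact (Finset.mem_filter.mp h).2
    · have a : i < k := (Finset.mem_filter.mp h1).2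
      have b : k < j := (Finset.mem_filter.mp h2).2
      exact Finset.mem_filter.mpr ⟨Finset.mem_univ _, a.trans b⟩
  have hU : Upos X = e4U X R := by
    unfold Upos e4U
    congr 1
    ext g
    constructor
    · rintro ⟨i, j, t, hij, rfl⟩
      exact ⟨i, j, t, Finset.mem_filter.mpr ⟨Finset.mem_univ _, hij⟩, rfl⟩
    · rintro ⟨i, j, t, hij, rfl⟩
      exact ⟨i, j, t, (Finset.mem_filter.mp hij).2, rfl⟩
  rw [hU]
  exact e4_inj hX hφ R.card R rfl hR

end Cfsg.Agent.Lib.Helper21.StN
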