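import Mathlib
import Cfsg.Agent.Lib.Helper69.StNDefs

/-!
# K-StN-H1 (keystone 240119, pack K-StN = S2401, architect helper69)

`φ (Upos X)` consists of upper unitriangular matrices, `φ (Nmon X)` of monomial matrices, and a
monomial matrix with `1` on the diagonal is the identity.
-/

set_option autoImplicit false
set_option linter.unusedSectionVars false
set_option linter.unusedVariables false

namespace Cfsg.Agent.Lib.Helper21.StN

open Cfsg.Agent.Lib.Helper69.StN Matrix

variable {n : ℕ} {K : Type*} [Field K] {S : Type*} [Group S] {X : Fin n → Fin n → K → S}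

lemma h1_coe_mul (φ : S →* SpecialLinearGroup (Fin n) K) (x y : S) :
    ((φ (x * y) : SpecialLinearGroup (Fin n) K) : Matrix (Fin n) (Fin n) K) =
      ((φ x : SpecialLinearGroup (Fin n) K) : Matrix (Fin n) (Fin n) K) *
        ((φ y : SpecialLinearGroup (Fin n) K) : Matrix (Fin n) (Fin n) K) := by
  rw [map_mul]; rfl

lemma h1_coe_one (φ : S →* SpecialLinearGroup (Fin n) K) :
    ((φ 1 : SpecialLinearGroup (Fin n) K) : Matrix (Fin n) (Fin n) K) = 1 := by
  rw [map_one]; rfl

/-- upper unitriangular matrices -/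
def h1UT (A : Matrix (Fin n) (Fin n) K) : Prop :=
  (∀ i j, j < i → A i j = 0) ∧ ∀ i, A i i = 1

lemma h1UT_one : h1UT (1 : Matrix (Fin n) (Fin n) K) :=
  ⟨fun i j h => Matrix.one_apply_ne (ne_of_gt h), fun i => Matrix.one_apply_eq i⟩

lemma h1UT_mul {A B : Matrix (Fin n) (Fin n) K} (hA : h1UT A) (hB : h1UT B) : h1UT (A * B) := by
  constructor
  · intro i j hji
    rw [Matrix.mul_apply]
    apply Finset.sum_eq_zero
    intro k _
    by_cases hk : k < i
    · rw [hA.1 i k hk, zero_mul]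
    · have : j < k := lt_of_lt_of_le hji (not_lt.mp hk)
      rw [hB.1 k j this, mul_zero]
  · intro i
    rw [Matrix.mul_apply, Finset.sum_eq_single i]
    · rw [hA.2, hB.2, one_mul]
    · intro k _ hk
      rcases lt_or_gt_of_ne hk with h | h
      · rw [hA.1 i k h, zero_mul]
      · rw [hB.1 k i h, mul_zero]
    · simp

lemma h1UT_transvection {i j : Fin n} (hij : i < j) (t : K) :
    h1UT ((SpecialLinearGroup.transvection hij.ne t : SpecialLinearGroup (Fin n) K) :
      Matrix (Fin n) (Fin n) K) := by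
  rw [SpecialLinearGroup.transvection_coe]
  constructor
  · intro r c hcr
    rw [Matrix.add_apply, Matrix.one_apply_ne (ne_of_gt hcr), zero_add, Matrix.single_apply_of_ne]
    rintro ⟨rfl, rfl⟩
    exact absurd hij (not_lt.mpr hcr.le)
  · intro r
    rw [Matrix.add_apply, Matrix.one_apply_eq, Matrix.single_apply_of_ne, add_zero]
    rintro ⟨rfl, rfl⟩
    exact lt_irrefl _ hij

lemma h1UT_of_mem_Upos {φ : S →* SpecialLinearGroup (Fin n) K} (hφ : IsPhi X φ) :
    ∀ g ∈ Upos X, h1UT ((φ g : SpecialLinearGroup (Fin n) K) : Matrix (Fin n) (Fin n) K) := by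
  intro g hg
  unfold Upos at hg
  induction hg using Subgroup.closure_induction'' with
  | mem x hx =>
    obtain ⟨i, j, t, hij, rfl⟩ := hx
    rw [hφ i j hij.ne t]
    exact h1UT_transvection hij t
  | inv_mem x hx =>
    obtain ⟨i, j, t, hij, rfl⟩ := hx
    rw [map_inv, hφ i j hij.ne t, SpecialLinearGroup.transvection_inv]
    exact h1UT_transvection hij (-t)
  | one =>
    rw [h1_coe_one]
    exact h1UT_one
  | mul x y hx hy ihx ihy =>
    rw [h1_coe_mul]
    exact h1UT_mul ihx ihy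

/-- monomial matrices -/
def h1Mon (A : Matrix (Fin n) (Fin n) K) : Prop :=
  ∃ σ : Equiv.Perm (Fin n), ∃ d : Fin n → K, (∀ k, d k ≠ 0) ∧
    ∀ r c, A r c = if r = σ c then d c else 0

lemma h1Mon_one : h1Mon (1 : Matrix (Fin n) (Fin n) K) := by
  refine ⟨1, fun _ => 1, fun _ => one_ne_zero, fun r c => ?_⟩
  rw [Matrix.one_apply]
  rfl

lemma h1Mon_mul {A B : Matrix (Fin n) (Fin n) K} (hA : h1Mon A) (hB : h1Mon B) :
    h1Mon (A * B) := by
  obtain ⟨σ, d, hd, hA⟩ := hA
  obtain ⟨τ, e, he, hB⟩ := hB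
  refine ⟨σ * τ, fun c => d (τ c) * e c, fun k => mul_ne_zero (hd _) (he _), fun r c => ?_⟩
  rw [Matrix.mul_apply, Finset.sum_eq_single (τ c)]
  · rw [hA, hB, if_pos rfl]
    by_cases h : r = σ (τ c)
    · have h' : r = (σ * τ) c := h
      rw [if_pos h, if_pos h']
    · have h' : ¬ r = (σ * τ) c := h
      rw [if_neg h, if_neg h', zero_mul]
  · intro k _ hk
    rw [hB, if_neg hk, mul_zero]
  · simp

lemma h1Mon_w {φ : S →* SpecialLinearGroup (Fin n) K}
    (hphiw : ∀ {i j : Fin n}, i ≠ j → ∀ {u : K}, u ≠ 0 →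
      ((φ (w X i j u) : SpecialLinearGroup (Fin n) K) : Matrix (Fin n) (Fin n) K) =
        Matrix.of (fun r c => if r = i ∧ c = j then u else if r = j ∧ c = i then -u⁻¹
          else if r = c ∧ r ≠ i ∧ r ≠ j then 1 else 0))
    {i j : Fin n} (hij : i ≠ j) {u : K} (hu : u ≠ 0) :
    h1Mon ((φ (w X i j u) : SpecialLinearGroup (Fin n) K) : Matrix (Fin n) (Fin n) K) := by
  refine ⟨Equiv.swap i j, fun c => if c = j then u else if c = i then -u⁻¹ else 1, ?_, ?_⟩
  · intro k
    show (if k = j then u else if k = i then -u⁻¹ else 1) ≠ 0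
    split_ifs
    · exact hu
    · exact neg_ne_zero.mpr (inv_ne_zero hu)
    · exact one_ne_zero
  · intro r c
    rw [hphiw hij hu, Matrix.of_apply]
    by_cases hcj : c = j
    · subst hcj
      rw [Equiv.swap_apply_right]
      by_cases hri : r = i
      · simp [hri]
      · have : ¬ (r = c ∧ c = i) := fun h => hij (h.2.symm)
        simp [hri, this]
    · by_cases hci : c = i
      · subst hci
        rw [Equiv.swap_apply_left]
        by_cases hrj : r = j
        · simp [hrj, hij.symm, hij]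
        · simp [hrj, hij]
      · rw [Equiv.swap_apply_of_ne_of_ne hci hcj]
        by_cases hrc : r = c
        · subst hrc
          simp [hci, hcj]
        · simp [hrc, hci, hcj]

lemma h1Mon_of_mem_Nmon {φ : S →* SpecialLinearGroup (Fin n) K} (hφ : IsPhi X φ)
    (hphiw : ∀ {i j : Fin n}, i ≠ j → ∀ {u : K}, u ≠ 0 →
      ((φ (w X i j u) : SpecialLinearGroup (Fin n) K) : Matrix (Fin n) (Fin n) K) =
        Matrix.of (fun r c => if r = i ∧ c = j then u else if r = j ∧ c = i then -u⁻¹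
          else if r = c ∧ r ≠ i ∧ r ≠ j then 1 else 0)) :
    ∀ g ∈ Nmon X, h1Mon ((φ g : SpecialLinearGroup (Fin n) K) : Matrix (Fin n) (Fin n) K) := by
  intro g hg
  unfold Nmon at hg
  induction hg using Subgroup.closure_induction'' with
  | mem x hx =>
    obtain ⟨i, j, u, hij, hu, rfl⟩ := hx
    exact h1Mon_w hphiw hij hu
  | inv_mem x hx =>
    obtain ⟨i, j, u, hij, hu, rfl⟩ := hx
    have e : φ (w X i j u)⁻¹ = φ (w X i j (-u)) := by
      unfold w
      simp only [map_mul, map_inv, _root_.mul_inv_rev, hφ i j hij, hφ j i hij.symm,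
        SpecialLinearGroup.transvection_inv, inv_neg, neg_neg, mul_assoc]
    rw [e]
    exact h1Mon_w hphiw hij (neg_ne_zero.mpr hu)
  | one =>
    rw [h1_coe_one]
    exact h1Mon_one
  | mul x y hx hy ihx ihy =>
    rw [h1_coe_mul]
    exact h1Mon_mul ihx ihy

/-- K-StN-H1 -/
theorem phi_mon_eq_one {φ : S →* SpecialLinearGroup (Fin n) K} (hφ : IsPhi X φ)
    (hphiw : ∀ {i j : Fin n}, i ≠ j → ∀ {u : K}, u ≠ 0 →
      ((φ (w X i j u) : SpecialLinearGroup (Fin n) K) : Matrix (Fin n) (Fin n) K) =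
        Matrix.of (fun r c => if r = i ∧ c = j then u else if r = j ∧ c = i then -u⁻¹
          else if r = c ∧ r ≠ i ∧ r ≠ j then 1 else 0))
    {u m u' : S} (hu : u ∈ Upos X) (hm : m ∈ Nmon X) (hu' : u' ∈ Upos X)
    (h : φ (u * m * u') = 1) : φ m = 1 := by
  have hU := h1UT_of_mem_Upos hφ u⁻¹ ((Upos X).inv_mem hu)
  have hU' := h1UT_of_mem_Upos hφ u'⁻¹ ((Upos X).inv_mem hu')
  have hM := h1Mon_of_mem_Nmon hφ hphiw m hm
  have e : φ m = φ u⁻¹ * φ u'⁻¹ := by
    have : m = u⁻¹ * (u * m * u') * u'⁻¹ := by group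
    calc φ m = φ (u⁻¹ * (u * m * u') * u'⁻¹) := by rw [← this]
      _ = φ u⁻¹ * φ (u * m * u') * φ u'⁻¹ := by rw [map_mul, map_mul]
      _ = φ u⁻¹ * φ u'⁻¹ := by rw [h, mul_one]
  have hUT : h1UT ((φ m : SpecialLinearGroup (Fin n) K) : Matrix (Fin n) (Fin n) K) := by
    rw [e]
    exact h1UT_mul hU hU'
  obtain ⟨σ, d, hd, hA⟩ := hM
  have hσ : ∀ c, c = σ c := by
    intro c
    by_contra hc
    have h1 := hUT.2 c
    rw [hA c c, if_neg hc] at h1
    exact zero_ne_one h1
  have hd1 : ∀ c, d c = 1 := by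
    intro c
    have h1 := hUT.2 c
    rwa [hA c c, if_pos (hσ c)] at h1
  apply Subtype.ext
  ext r c
  show ((φ m : SpecialLinearGroup (Fin n) K) : Matrix (Fin n) (Fin n) K) r c =
    (1 : Matrix (Fin n) (Fin n) K) r c
  rw [hA r c, Matrix.one_apply, hd1 c, ← hσ c]
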