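import Mathlib
import Cfsg.Agent.Lib.Helper48.StODefs
import Cfsg.Agent.Lib.Helper19.CartanDieudonne
import Cfsg.Agent.Lib.Helper50.StdForms
import Cfsg.Agent.Lib.Helper86.StOR0a
import Cfsg.Agent.Lib.Helper84.StOR0b
import Cfsg.Agent.Lib.Helper61.StOR0c
import Cfsg.Agent.Lib.Helper50.StOF3Z
import Cfsg.Agent.Lib.Helper97.StOR1

/-!
# K-StO-C5a (254719, S2547 pack, architect helper48): `B ⊔ B⁻ = O_{2m+1}(F)` for `2 ≠ 0`

Route (architect's): Cartan–Dieudonné (`Helper19.isometry_eq_prod_reflectionMatrix`), then every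
reflection `r_v` lies in `H = B ⊔ B⁻`: `h r_v h⁻¹ = r_{h v}`, and `v` is moved by root elements of `H`
(`xZ`, `yZ`, `xPerm`) to `c z` (diagonal reflection) or to `x e_k + y f_k` (`r_v ∈ sFlip k * T`,
`sFlip k ∈ H` by the rank one identity F3Z).
-/

set_option autoImplicit false
set_option linter.unusedSectionVars false
set_option linter.unusedVariables false

namespace Cfsg.Agent.Lib.Helper21.StO

open Cfsg Cfsg.Agent.Lib.Helper48.StO Matrix

variable {m : ℕ} {F : Type*} [Field F]

/-- the polar form of `quadFormOdd` -/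
theorem c5a_polar (u w : OI m → F) :
    QuadraticMap.polar (Cfsg.quadFormOdd m F) u w =
      2 * u zI * w zI + ∑ i : Fin m, (u (eI i) * w (fI i) + u (fI i) * w (eI i)) := by
  unfold QuadraticMap.polar Cfsg.quadFormOdd
  simp only [Pi.add_apply]
  have : ∑ i : Fin m, (u (Sum.inr (Sum.inl i)) + w (Sum.inr (Sum.inl i))) *
      (u (Sum.inr (Sum.inr i)) + w (Sum.inr (Sum.inr i))) =
      ∑ i : Fin m, u (Sum.inr (Sum.inl i)) * u (Sum.inr (Sum.inr i)) +
      ∑ i : Fin m, w (Sum.inr (Sum.inl i)) * w (Sum.inr (Sum.inr i)) +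
      ∑ i : Fin m, (u (eI i) * w (fI i) + u (fI i) * w (eI i)) := by
    rw [← Finset.sum_add_distrib, ← Finset.sum_add_distrib]
    apply Finset.sum_congr rfl
    intro i _
    ring
  rw [this]
  ring

theorem c5a_pv_z (v : OI m → F) :
    Cfsg.polarVec (Cfsg.quadFormOdd m F) v zI = 2 * v zI := by
  unfold Cfsg.polarVec
  rw [c5a_polar]
  simp

theorem c5a_pv_e (v : OI m → F) (k : Fin m) :
    Cfsg.polarVec (Cfsg.quadFormOdd m F) v (eI k) = v (fI k) := by
  unfold Cfsg.polarVec
  rw [c5a_polar]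
  simp [Pi.single_apply]

theorem c5a_pv_f (v : OI m → F) (k : Fin m) :
    Cfsg.polarVec (Cfsg.quadFormOdd m F) v (fI k) = v (eI k) := by
  unfold Cfsg.polarVec
  rw [c5a_polar]
  simp [Pi.single_apply]

theorem c5a_refl_apply (v : OI m → F) (a b : OI m) :
    Cfsg.reflectionMatrix (Cfsg.quadFormOdd m F) v a b =
      (1 : Matrix (OI m) (OI m) F) a b - (Cfsg.quadFormOdd m F v)⁻¹ *
        (v a * Cfsg.polarVec (Cfsg.quadFormOdd m F) v b) := by
  unfold Cfsg.reflectionMatrix
  rw [Matrix.sub_apply, Matrix.smul_apply, Matrix.vecMulVec_apply, smul_eq_mul]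


theorem c5a_polar_isom (M : Matrix (OI m) (OI m) F)
    (hM : ∀ u, Cfsg.quadFormOdd m F (M *ᵥ u) = Cfsg.quadFormOdd m F u) (v u : OI m → F) :
    QuadraticMap.polar (Cfsg.quadFormOdd m F) (M *ᵥ v) (M *ᵥ u) =
      QuadraticMap.polar (Cfsg.quadFormOdd m F) v u := by
  unfold QuadraticMap.polar
  rw [← Matrix.mulVec_add, hM, hM, hM]

theorem c5a_refl_mulVec (v x : OI m → F) :
    Cfsg.reflectionMatrix (Cfsg.quadFormOdd m F) v *ᵥ x =
      x - ((Cfsg.quadFormOdd m F v)⁻¹ * QuadraticMap.polar (Cfsg.quadFormOdd m F) v x) • v :=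
  Cfsg.Agent.Lib.Helper19.reflectionMatrix_mulVec (Cfsg.Agent.Lib.Helper50.QOdd m F) v x

/-- conjugating a reflection by an isometry -/
theorem c5a_refl_conj (M : Matrix (OI m) (OI m) F)
    (hM : ∀ u, Cfsg.quadFormOdd m F (M *ᵥ u) = Cfsg.quadFormOdd m F u) (v : OI m → F) :
    Cfsg.reflectionMatrix (Cfsg.quadFormOdd m F) (M *ᵥ v) * M =
      M * Cfsg.reflectionMatrix (Cfsg.quadFormOdd m F) v := by
  rw [Matrix.ext_iff_mulVec]
  intro u
  rw [← Matrix.mulVec_mulVec, ← Matrix.mulVec_mulVec, c5a_refl_mulVec, c5a_refl_mulVec,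
    c5a_polar_isom M hM, hM, Matrix.mulVec_sub, Matrix.mulVec_smul]

/-- a reflection is the matrix of an element of the group -/
theorem c5a_exists_refl (v : OI m → F) (hv : Cfsg.quadFormOdd m F v ≠ 0) :
    ∃ g : OG m F, mat g = Cfsg.reflectionMatrix (Cfsg.quadFormOdd m F) v := by
  have hsq : Cfsg.reflectionMatrix (Cfsg.quadFormOdd m F) v *
      Cfsg.reflectionMatrix (Cfsg.quadFormOdd m F) v = 1 := by
    apply (Matrix.toLin' (R := F) (m := OI m) (n := OI m)).injective
    rw [Matrix.toLin'_mul, Matrix.toLin'_one]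
    have h1 := Cfsg.Agent.Lib.Helper19.toLin'_reflectionMatrix (Cfsg.Agent.Lib.Helper50.QOdd m F) v
    have h2 := Cfsg.Agent.Lib.Helper19.reflLin_mul_self (Cfsg.Agent.Lib.Helper50.QOdd m F) v hv
    change Matrix.toLin' (Cfsg.reflectionMatrix (Cfsg.quadFormOdd m F) v) = _ at h1
    rw [h1]
    exact h2
  exact exists_of_isometry _ _ hsq hsq
    (Cfsg.Agent.Lib.Helper19.reflectionMatrix_isometry (Cfsg.Agent.Lib.Helper50.QOdd m F) v hv)

/-- `Good H v`: every element of the group whose matrix is the reflection in `v` lies in `H` -/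
def Good (H : Subgroup (OG m F)) (v : OI m → F) : Prop :=
  ∀ g : OG m F, mat g = Cfsg.reflectionMatrix (Cfsg.quadFormOdd m F) v → g ∈ H

theorem good_of_conj (H : Subgroup (OG m F)) (h : OG m F) (hh : h ∈ H) (v : OI m → F)
    (hg : Good H (mat h *ᵥ v)) : Good H v := by
  intro g hgv
  have h1 : mat (h * g * h⁻¹) =
      Cfsg.reflectionMatrix (Cfsg.quadFormOdd m F) (mat h *ᵥ v) := by
    rw [mat_mul, mat_mul, hgv, ← c5a_refl_conj (mat h) (quad_mulVec h) v, Matrix.mul_assoc,
      mat_mul_mat_inv, Matrix.mul_one]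
  have h2 := hg _ h1
  have : g = h⁻¹ * (h * g * h⁻¹) * h := by group
  rw [this]
  exact H.mul_mem (H.mul_mem (H.inv_mem hh) h2) hh


theorem ofMat_mem_Bminus (M : Matrix (OI m) (OI m) F)
    (hM : ∀ a b, pos m a < pos m b → M a b = 0) : ofMat M ∈ Bminus m F := by
  by_cases h : ∃ g : OG m F, mat g = M
  · rw [mem_Bminus_iff, mat_ofMat M h]
    exact hM
  · unfold ofMat
    rw [dif_neg h]
    exact one_mem _

theorem xPerm_mem_Bminus (i j : Fin m) (hij : j < i) (t : F) : xPerm m F i j t ∈ Bminus m F := by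
  apply ofMat_mem_Bminus
  intro a b hab
  have hne : a ≠ b := fun h => by rw [h] at hab; exact lt_irrefl _ hab
  have hij' := Fin.lt_def.1 hij
  have hi := i.2
  have hj := j.2
  have h1 : ¬ (eI i = a ∧ eI j = b) := by
    rintro ⟨rfl, rfl⟩
    simp only [pos] at hab
    omega
  have h2 : ¬ (fI j = a ∧ fI i = b) := by
    rintro ⟨rfl, rfl⟩
    simp only [pos] at hab
    omega
  unfold xPermMat
  rw [Matrix.sub_apply, Matrix.add_apply, Matrix.one_apply_ne hne, Matrix.single_apply,
    Matrix.single_apply, if_neg h1, if_neg h2, add_zero, sub_zero]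

theorem yZ_mem_Bminus (k : Fin m) (t : F) : yZ m F k t ∈ Bminus m F := by
  apply ofMat_mem_Bminus
  intro a b hab
  have hne : a ≠ b := fun h => by rw [h] at hab; exact lt_irrefl _ hab
  have hk := k.2
  have h1 : ¬ (zI = a ∧ eI k = b) := by
    rintro ⟨rfl, rfl⟩
    simp only [pos] at hab
    omega
  have h2 : ¬ (fI k = a ∧ zI = b) := by
    rintro ⟨rfl, rfl⟩
    simp only [pos] at hab
    omega
  have h3 : ¬ (fI k = a ∧ eI k = b) := by
    rintro ⟨rfl, rfl⟩
    simp only [pos] at hab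
    omega
  unfold yZMat
  rw [Matrix.sub_apply, Matrix.sub_apply, Matrix.add_apply, Matrix.one_apply_ne hne,
    Matrix.single_apply, Matrix.single_apply, Matrix.single_apply, if_neg h1, if_neg h2,
    if_neg h3, add_zero, sub_zero, sub_zero]

theorem xPerm_mem_sup (i j : Fin m) (hij : i ≠ j) (t : F) :
    xPerm m F i j t ∈ Bsub m F ⊔ Bminus m F := by
  rcases lt_or_gt_of_ne hij with h | h
  · exact Subgroup.mem_sup_left (Cfsg.Agent.Lib.Helper97.StO.xPerm_mem_B i j h t)
  · exact Subgroup.mem_sup_right (xPerm_mem_Bminus i j h t)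

theorem xZ_mem_sup (k : Fin m) (t : F) : xZ m F k t ∈ Bsub m F ⊔ Bminus m F :=
  Subgroup.mem_sup_left (Cfsg.Agent.Lib.Helper97.StO.xZ_mem_B k t)

theorem yZ_mem_sup (k : Fin m) (t : F) : yZ m F k t ∈ Bsub m F ⊔ Bminus m F :=
  Subgroup.mem_sup_right (yZ_mem_Bminus k t)

theorem Tsub_le_sup : Tsub m F ≤ Bsub m F ⊔ Bminus m F :=
  inf_le_left.trans le_sup_left

theorem sFlip_mem_sup (k : Fin m) : sFlip m F k ∈ Bsub m F ⊔ Bminus m F := by
  obtain ⟨t', t'', h, hh, heq⟩ :=
    Cfsg.Agent.Lib.Helper50.StO.rank_one_flip (m := m) (F := F) k 1 one_ne_zero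
  have : sFlip m F k = xZ m F k t' * h * yZ m F k t'' * (xZ m F k 1)⁻¹ := by
    rw [← heq]; group
  rw [this]
  exact Subgroup.mul_mem _ (Subgroup.mul_mem _ (Subgroup.mul_mem _ (xZ_mem_sup k t')
    (Tsub_le_sup hh)) (yZ_mem_sup k t'')) (Subgroup.inv_mem _ (xZ_mem_sup k 1))

/-- the case `v = c z` -/
theorem good_F1 (v : OI m → F) (hv : ∀ i, v (eI i) = 0 ∧ v (fI i) = 0) :
    Good (Bsub m F ⊔ Bminus m F) v := by
  intro g hg
  apply Tsub_le_sup
  rw [mem_Tsub_iff]
  intro a b hab
  rw [hg, c5a_refl_apply, Matrix.one_apply_ne hab, zero_sub, neg_eq_zero]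
  apply mul_eq_zero_of_right
  rcases a with a | a | a
  · rcases b with b | b | b
    · exact absurd rfl hab
    · rw [c5a_pv_e, (hv b).2, mul_zero]
    · rw [c5a_pv_f, (hv b).1, mul_zero]
  · rw [(hv a).1, zero_mul]
  · rw [(hv a).2, zero_mul]


theorem c5a_perm_mul_apply (σ : Equiv.Perm (OI m)) (R : Matrix (OI m) (OI m) F) (a b : OI m) :
    (σ.permMatrix F * R) a b = R (σ a) b := by
  unfold Equiv.Perm.permMatrix
  rw [PEquiv.toMatrix_toPEquiv_mul]
  rfl

/-- the case `v = x e_k + y f_k` -/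
theorem good_L1 (k : Fin m) (v : OI m → F) (hz : v zI = 0)
    (hv : ∀ i, i ≠ k → v (eI i) = 0 ∧ v (fI i) = 0) (hQ : Cfsg.quadFormOdd m F v ≠ 0) :
    Good (Bsub m F ⊔ Bminus m F) v := by
  have hQv : Cfsg.quadFormOdd m F v = v (eI k) * v (fI k) := by
    unfold Cfsg.quadFormOdd
    rw [Finset.sum_eq_single k]
    · change v zI ^ 2 + _ = _
      rw [hz]
      ring
    · intro i _ hik
      change v (eI i) * v (fI i) = 0
      rw [(hv i hik).1, zero_mul]
    · intro h
      exact absurd (Finset.mem_univ k) h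
  have hpv : ∀ b : OI m, b ≠ eI k → b ≠ fI k →
      Cfsg.polarVec (Cfsg.quadFormOdd m F) v b = 0 := by
    intro b hb1 hb2
    rcases b with b | b | b
    · change Cfsg.polarVec (Cfsg.quadFormOdd m F) v zI = 0
      rw [c5a_pv_z, hz, mul_zero]
    · have hbk : b ≠ k := fun h => hb1 (by rw [h])
      change Cfsg.polarVec (Cfsg.quadFormOdd m F) v (eI b) = 0
      rw [c5a_pv_e, (hv b hbk).2]
    · have hbk : b ≠ k := fun h => hb2 (by rw [h])
      change Cfsg.polarVec (Cfsg.quadFormOdd m F) v (fI b) = 0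
      rw [c5a_pv_f, (hv b hbk).1]
  intro g hg
  have ht : sFlip m F k * g ∈ Tsub m F := by
    rw [mem_Tsub_iff]
    intro a b hab
    rw [mat_mul, Cfsg.Agent.Lib.Helper86.StO.mat_sFlip, hg]
    unfold sFlipMat
    rw [c5a_perm_mul_apply, c5a_refl_apply]
    by_cases ha1 : a = eI k
    · subst ha1
      have hσ : flipE m k (eI k) = fI k := Equiv.swap_apply_left _ _
      rw [hσ]
      by_cases hb : b = fI k
      · subst hb
        rw [Matrix.one_apply_eq, c5a_pv_f, mul_comm (v (fI k)), ← hQv,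
          inv_mul_cancel₀ hQ, sub_self]
      · rw [Matrix.one_apply_ne (Ne.symm hb), hpv b (Ne.symm hab) hb, mul_zero, mul_zero, sub_zero]
    · by_cases ha2 : a = fI k
      · subst ha2
        have hσ : flipE m k (fI k) = eI k := Equiv.swap_apply_right _ _
        rw [hσ]
        by_cases hb : b = eI k
        · subst hb
          rw [Matrix.one_apply_eq, c5a_pv_e, ← hQv, inv_mul_cancel₀ hQ, sub_self]
        · rw [Matrix.one_apply_ne (Ne.symm hb), hpv b hb (Ne.symm hab), mul_zero, mul_zero,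
            sub_zero]
      · have hσ : flipE m k a = a := Equiv.swap_apply_of_ne_of_ne ha1 ha2
        rw [hσ, Matrix.one_apply_ne hab]
        have hva : v a = 0 := by
          rcases a with a | a | a
          · exact hz
          · have hak : a ≠ k := fun h => ha1 (by rw [h])
            exact (hv a hak).1
          · have hak : a ≠ k := fun h => ha2 (by rw [h])
            exact (hv a hak).2
        rw [hva, zero_mul, mul_zero, sub_zero]
  have : g = (sFlip m F k)⁻¹ * (sFlip m F k * g) := by group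
  rw [this]
  exact Subgroup.mul_mem _ (Subgroup.inv_mem _ (sFlip_mem_sup k)) (Tsub_le_sup ht)


theorem c5a_quad_single (k : Fin m) (v : OI m → F) (hz : v zI = 0)
    (hx : ∀ i, i ≠ k → v (eI i) = 0) :
    Cfsg.quadFormOdd m F v = v (eI k) * v (fI k) := by
  unfold Cfsg.quadFormOdd
  rw [Finset.sum_eq_single k]
  · change v zI ^ 2 + _ = _
    rw [hz]
    ring
  · intro i _ hik
    change v (eI i) * v (fI i) = 0
    rw [hx i hik, zero_mul]
  · intro h
    exact absurd (Finset.mem_univ k) h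

theorem good_L2 (k : Fin m) (S : Finset (Fin m)) : ∀ v : OI m → F, v zI = 0 →
    (∀ i, i ≠ k → v (eI i) = 0) → v (eI k) * v (fI k) ≠ 0 →
    (∀ i, i ∉ S → i ≠ k → v (fI i) = 0) → Good (Bsub m F ⊔ Bminus m F) v := by
  classical
  induction S using Finset.induction_on with
  | empty =>
    intro v hz hx hxy hy
    apply good_L1 k v hz (fun i hik => ⟨hx i hik, hy i (Finset.notMem_empty i) hik⟩)
    rw [c5a_quad_single k v hz hx]
    exact hxy
  | insert j S hj ih =>
    intro v hz hx hxy hy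
    by_cases hjk : j = k
    · apply ih v hz hx hxy
      intro i hi hik
      apply hy i _ hik
      rw [Finset.mem_insert]
      rintro (h | h)
      · exact hik (h.trans hjk)
      · exact hi h
    · have hyk : v (fI k) ≠ 0 := right_ne_zero_of_mul hxy
      have hkj : k ≠ j := Ne.symm hjk
      apply good_of_conj _ (xPerm m F k j (v (fI j) / v (fI k)))
        (xPerm_mem_sup k j hkj _)
      rw [Cfsg.Agent.Lib.Helper84.StO.mat_xPerm k j hkj]
      apply ih
      · rw [Cfsg.Agent.Lib.Helper84.StO.xPermMat_mulVec_zI]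
        exact hz
      · intro i hik
        rw [Cfsg.Agent.Lib.Helper84.StO.xPermMat_mulVec_eI, if_neg hik, add_zero]
        exact hx i hik
      · rw [Cfsg.Agent.Lib.Helper84.StO.xPermMat_mulVec_eI, if_pos rfl, hx j hjk, mul_zero,
          add_zero, Cfsg.Agent.Lib.Helper84.StO.xPermMat_mulVec_fI, if_neg hkj, sub_zero]
        exact hxy
      · intro i hi hik
        rw [Cfsg.Agent.Lib.Helper84.StO.xPermMat_mulVec_fI]
        by_cases hij : i = j
        · subst hij
          rw [if_pos rfl, div_mul_cancel₀ _ hyk, sub_self]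
        · rw [if_neg hij, sub_zero]
          apply hy i _ hik
          rw [Finset.mem_insert]
          rintro (h | h)
          · exact hij h
          · exact hi h

theorem good_L3 (k : Fin m) (S : Finset (Fin m)) : ∀ v : OI m → F, v zI = 0 →
    v (eI k) ≠ 0 → Cfsg.quadFormOdd m F v ≠ 0 →
    (∀ i, i ∉ S → i ≠ k → v (eI i) = 0) → Good (Bsub m F ⊔ Bminus m F) v := by
  classical
  induction S using Finset.induction_on with
  | empty =>
    intro v hz hxk hQ hx
    have hx' : ∀ i, i ≠ k → v (eI i) = 0 := fun i hik => hx i (Finset.notMem_empty i) hik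
    apply good_L2 k Finset.univ v hz hx'
    · rw [← c5a_quad_single k v hz hx']
      exact hQ
    · intro i hi
      exact absurd (Finset.mem_univ i) hi
  | insert j S hj ih =>
    intro v hz hxk hQ hx
    by_cases hjk : j = k
    · apply ih v hz hxk hQ
      intro i hi hik
      apply hx i _ hik
      rw [Finset.mem_insert]
      rintro (h | h)
      · exact hik (h.trans hjk)
      · exact hi h
    · apply good_of_conj _ (xPerm m F j k (-(v (eI j) / v (eI k))))
        (xPerm_mem_sup j k hjk _)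
      have hQ' := quad_mulVec (xPerm m F j k (-(v (eI j) / v (eI k)))) v
      rw [Cfsg.Agent.Lib.Helper84.StO.mat_xPerm j k hjk] at hQ' ⊢
      apply ih
      · rw [Cfsg.Agent.Lib.Helper84.StO.xPermMat_mulVec_zI]
        exact hz
      · rw [Cfsg.Agent.Lib.Helper84.StO.xPermMat_mulVec_eI, if_neg (Ne.symm hjk), add_zero]
        exact hxk
      · rw [hQ']
        exact hQ
      · intro i hi hik
        rw [Cfsg.Agent.Lib.Helper84.StO.xPermMat_mulVec_eI]
        by_cases hij : i = j
        · subst hij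
          rw [if_pos rfl, neg_mul, div_mul_cancel₀ _ hxk, add_neg_cancel]
        · rw [if_neg hij, add_zero]
          apply hx i _ hik
          rw [Finset.mem_insert]
          rintro (h | h)
          · exact hij h
          · exact hi h

theorem good_L4 (v : OI m → F) (hz : v zI = 0) (hQ : Cfsg.quadFormOdd m F v ≠ 0) :
    Good (Bsub m F ⊔ Bminus m F) v := by
  have hex : ∃ k, v (eI k) ≠ 0 := by
    by_contra hcon
    push Not at hcon
    apply hQ
    unfold Cfsg.quadFormOdd
    rw [Finset.sum_eq_zero]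
    · change v zI ^ 2 + 0 = 0
      rw [hz]
      ring
    · intro i _
      change v (eI i) * v (fI i) = 0
      rw [hcon i, zero_mul]
  obtain ⟨k, hk⟩ := hex
  exact good_L3 k Finset.univ v hz hk hQ (fun i hi => absurd (Finset.mem_univ i) hi)

theorem good_all (v : OI m → F) (hQ : Cfsg.quadFormOdd m F v ≠ 0) :
    Good (Bsub m F ⊔ Bminus m F) v := by
  by_cases hf : ∃ k, v (fI k) ≠ 0
  · obtain ⟨k, hk⟩ := hf
    apply good_of_conj _ (xZ m F k (-(v zI / v (fI k)))) (xZ_mem_sup k _)
    apply good_L4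
    · rw [Cfsg.Agent.Lib.Helper61.StO.mat_xZ, Cfsg.Agent.Lib.Helper61.StO.xZMat_mulVec]
      have hne : ¬ ((zI : OI m) = eI k) := by intro h; cases h
      simp only [if_pos, if_neg hne, sub_zero]
      rw [neg_mul, div_mul_cancel₀ _ hk, add_neg_cancel]
    · rw [quad_mulVec]
      exact hQ
  · push Not at hf
    by_cases he : ∃ k, v (eI k) ≠ 0
    · obtain ⟨k, hk⟩ := he
      apply good_of_conj _ (yZ m F k (-(v zI / v (eI k)))) (yZ_mem_sup k _)
      apply good_L4
      · rw [Cfsg.Agent.Lib.Helper61.StO.mat_yZ, Cfsg.Agent.Lib.Helper61.StO.yZMat_mulVec]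
        have hne : ¬ ((zI : OI m) = fI k) := by intro h; cases h
        simp only [if_pos, if_neg hne, sub_zero]
        rw [neg_mul, div_mul_cancel₀ _ hk, add_neg_cancel]
      · rw [quad_mulVec]
        exact hQ
    · push Not at he
      exact good_F1 v (fun i => ⟨he i, hf i⟩)

theorem B_sup_Bminus [Fintype F] (h2 : (2 : F) ≠ 0) : Bsub m F ⊔ Bminus m F = ⊤ := by
  rw [eq_top_iff]
  intro g _
  have hdet : (Matrix.fromBlocks ((2 * (1 : F)) • (1 : Matrix Unit Unit F))
        (0 : Matrix Unit (Fin m ⊕ Fin m) F) (0 : Matrix (Fin m ⊕ Fin m) Unit F)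
        (Matrix.fromBlocks (0 : Matrix (Fin m) (Fin m) F) (1 : Matrix (Fin m) (Fin m) F)
        (1 : Matrix (Fin m) (Fin m) F) (0 : Matrix (Fin m) (Fin m) F))).det ≠ 0 := by
    rw [Cfsg.Agent.Lib.Helper50.det_odd_gram]
    exact mul_ne_zero (mul_ne_zero h2 one_ne_zero) (pow_ne_zero _ (neg_ne_zero.mpr one_ne_zero))
  have hQ : (QuadraticMap.polarBilin (Cfsg.Agent.Lib.Helper50.QOdd m F)).Nondegenerate :=
    Cfsg.Agent.Lib.Helper50.qfOfPolar_nondegenerate _ _ _ _ hdet
  obtain ⟨l, hl, hA⟩ := Cfsg.Agent.Lib.Helper19.isometry_eq_prod_reflectionMatrix h2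
    (Cfsg.Agent.Lib.Helper50.QOdd m F) hQ (mat g) (quad_mulVec g)
  have key : ∀ l : List (OI m → F), (∀ u ∈ l, Cfsg.quadFormOdd m F u ≠ 0) → ∀ g : OG m F,
      mat g = (l.map (Cfsg.reflectionMatrix (Cfsg.quadFormOdd m F))).prod →
      g ∈ Bsub m F ⊔ Bminus m F := by
    intro l
    induction l with
    | nil =>
      intro _ g hg
      rw [List.map_nil, List.prod_nil] at hg
      have : g = 1 := mat_injective (by rw [hg, mat_one])
      rw [this]
      exact one_mem _
    | cons u l ih =>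
      intro hl g hg
      rw [List.map_cons, List.prod_cons] at hg
      have hu : Cfsg.quadFormOdd m F u ≠ 0 := hl u List.mem_cons_self
      obtain ⟨gu, hgu⟩ := c5a_exists_refl u hu
      have h1 : mat (gu⁻¹ * g) =
          (l.map (Cfsg.reflectionMatrix (Cfsg.quadFormOdd m F))).prod := by
        rw [mat_mul, hg, ← Matrix.mul_assoc, ← hgu, mat_inv_mul_mat, Matrix.one_mul]
      have h2' := ih (fun u hu => hl u (List.mem_cons_of_mem _ hu)) _ h1
      have h3 : gu ∈ Bsub m F ⊔ Bminus m F := good_all u hu gu hgu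
      have : g = gu * (gu⁻¹ * g) := by group
      rw [this]
      exact Subgroup.mul_mem _ h3 h2'
  exact key l hl g hA

end Cfsg.Agent.Lib.Helper21.StO
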