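import Mathlib
import Cfsg.Agent.Lib.Helper49.StSUDefs

/-!
K-StSU-C8 (254622, S2546 pack, architect helper49): `|B : T|` is a power of `p`.
`δ : B → B`, `b ↦ diag(b)` is an idempotent endomorphism with image `T` and kernel the unitriangular
matrices of `B`, a `p`-group.  (Twin of Helper48.StSpC8.)
-/

set_option autoImplicit false
set_option linter.unusedSectionVars false
set_option linter.unusedVariables false

namespace Cfsg.Agent.Lib.Helper21.StSU

open Cfsg Cfsg.Agent.Lib.Helper49.StSU Matrix

variable {n : ℕ} {F : Type*} [Field F] {q : ℕ}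

/-! ### upper triangular matrices -/

/-- the diagonal of a product of upper triangular matrices -/
theorem c8_diag_mul (A A' : Matrix (Fin n) (Fin n) F)
    (hA : ∀ a b : Fin n, b < a → A a b = 0) (hA' : ∀ a b : Fin n, b < a → A' a b = 0)
    (a : Fin n) : (A * A') a a = A a a * A' a a := by
  rw [Matrix.mul_apply]
  apply Finset.sum_eq_single a
  · intro c _ hc
    rcases lt_or_gt_of_ne hc with h | h
    · rw [hA a c h, zero_mul]
    · rw [hA' c a h, mul_zero]
  · intro h
    exact absurd (Finset.mem_univ a) h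

theorem c8_upper_of_mem {b : GJ n F q} (hb : b ∈ Bsub n F q) :
    ∀ a c : Fin n, c < a → mat b a c = 0 :=
  (mem_Bsub_iff b).1 hb

/-- the diagonal of an upper triangular unitary matrix is unitary -/
theorem c8_diag_unitary (hq : q ≠ 0) (g : GJ n F q) (hg : g ∈ Bsub n F q) (i : Fin n) :
    mat g i i * (mat g (Fin.rev i) (Fin.rev i)) ^ q = 1 := by
  classical
  have hA := c8_upper_of_mem hg
  have h := hJ_mat g (Pi.single i 1) (Pi.single (Fin.rev i) 1)
  have e1 : ∀ j : Fin n, mat g *ᵥ Pi.single j 1 = fun a => mat g a j := by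
    intro j
    ext a
    simp [Matrix.mulVec, dotProduct, Pi.single_apply]
  rw [e1, e1] at h
  unfold hJ at h
  have hl : ∑ a, mat g a i * (mat g (Fin.rev a) (Fin.rev i)) ^ q =
      mat g i i * (mat g (Fin.rev i) (Fin.rev i)) ^ q := by
    apply Finset.sum_eq_single i
    · intro a _ ha
      rcases lt_or_gt_of_ne ha with h' | h'
      · have : Fin.rev i < Fin.rev a := Fin.rev_lt_rev.mpr h'
        rw [hA _ _ this, zero_pow hq, mul_zero]
      · rw [hA _ _ h', zero_mul]
    · intro h'
      exact absurd (Finset.mem_univ i) h'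
  have hr : ∑ a, (Pi.single i (1 : F) : Fin n → F) a *
      ((Pi.single (Fin.rev i) (1 : F) : Fin n → F) (Fin.rev a)) ^ q = 1 := by
    rw [Finset.sum_eq_single i]
    · simp
    · intro a _ ha
      rw [Pi.single_apply, if_neg ha, zero_mul]
    · intro h'
      exact absurd (Finset.mem_univ i) h'
  rw [hl, hr] at h
  exact h

/-- a diagonal matrix with `d a * d (rev a)^q = 1` preserves the form -/
theorem c8_diagonal_pres (d : Fin n → F) (hd : ∀ i : Fin n, d i * (d (Fin.rev i)) ^ q = 1)
    (u v : Fin n → F) :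
    hJ n F q (Matrix.diagonal d *ᵥ u) (Matrix.diagonal d *ᵥ v) = hJ n F q u v := by
  classical
  unfold hJ
  apply Finset.sum_congr rfl
  intro a _
  rw [Matrix.mulVec_diagonal, Matrix.mulVec_diagonal, mul_pow]
  calc d a * u a * (d (Fin.rev a) ^ q * v (Fin.rev a) ^ q)
      = (d a * d (Fin.rev a) ^ q) * (u a * v (Fin.rev a) ^ q) := by ring
    _ = u a * v (Fin.rev a) ^ q := by rw [hd a, one_mul]

theorem c8_det_diag (g : GJ n F q) (hg : g ∈ Bsub n F q) :
    (Matrix.diagonal (fun a => mat g a a)).det = 1 := by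
  rw [Matrix.det_diagonal, ← det_mat g]
  exact (Matrix.det_of_upperTriangular (M := mat g) hg).symm

/-! ### strictly upper triangular matrices are nilpotent -/

theorem c8_pow_apply_eq_zero (N : Matrix (Fin n) (Fin n) F)
    (hN : ∀ a b : Fin n, b ≤ a → N a b = 0) (k : ℕ) :
    ∀ a b : Fin n, b.val < a.val + k → (N ^ k) a b = 0 := by
  induction k with
  | zero =>
    intro a b h
    rw [pow_zero, Matrix.one_apply, if_neg]
    rintro rfl
    omega
  | succ k ih =>
    intro a b h
    rw [pow_succ, Matrix.mul_apply]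
    apply Finset.sum_eq_zero
    intro c _
    by_cases hc : c.val < a.val + k
    · rw [ih a c hc, zero_mul]
    · rw [hN c b (by rw [Fin.le_def]; omega), mul_zero]

theorem c8_pow_eq_zero (N : Matrix (Fin n) (Fin n) F)
    (hN : ∀ a b : Fin n, b ≤ a → N a b = 0) : N ^ n = 0 := by
  ext a b
  rw [c8_pow_apply_eq_zero N hN n a b (by have := b.2; omega)]
  rfl

/-- a unitriangular matrix has `p`-power order in characteristic `p` -/
theorem c8_unitri_pow (p : ℕ) [Fact p.Prime] [CharP F p]
    (A : Matrix (Fin n) (Fin n) F)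
    (hA : ∀ a b : Fin n, b < a → A a b = 0) (hA1 : ∀ a, A a a = 1) :
    A ^ (p ^ n) = 1 := by
  rcases isEmpty_or_nonempty (Fin n) with he | hne
  · exact Subsingleton.elim _ _
  · have hN : ∀ a b : Fin n, b ≤ a → (A - 1) a b = 0 := by
      intro a b hab
      rw [Matrix.sub_apply, Matrix.one_apply]
      rcases eq_or_lt_of_le hab with h | h
      · subst h
        rw [hA1, if_pos rfl, sub_self]
      · rw [hA a b h, if_neg, sub_zero]
        rintro rfl
        exact lt_irrefl _ h
    have h0 : (A - 1) ^ n = 0 := c8_pow_eq_zero _ hN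
    have hle : n ≤ p ^ n :=
      le_of_lt (Nat.lt_pow_self (Fact.out : p.Prime).one_lt)
    have h1 : (A - 1) ^ (p ^ n) = 0 := by
      rw [← Nat.sub_add_cancel hle, pow_add, h0, mul_zero]
    have h2 : A = (A - 1) + 1 := by abel
    rw [h2, add_pow_char_pow_of_commute p n (Commute.one_right _), h1, one_pow, zero_add]

/-! ### the diagonal part -/

/-- the diagonal part of an element of `B`, as an element of the group -/
def c8_dG (hq : q ≠ 0) (b : GJ n F q) (hb : b ∈ Bsub n F q) : GJ n F q :=
  ⟨⟨Matrix.diagonal (fun a => mat b a a), c8_det_diag b hb⟩,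
    fun u v => c8_diagonal_pres _ (fun i => c8_diag_unitary hq b hb i) u v⟩

theorem c8_mat_dG (hq : q ≠ 0) (b : GJ n F q) (hb : b ∈ Bsub n F q) :
    mat (c8_dG hq b hb) = Matrix.diagonal (fun a => mat b a a) := rfl

theorem c8_dG_mem_T (hq : q ≠ 0) (b : GJ n F q) (hb : b ∈ Bsub n F q) :
    c8_dG hq b hb ∈ Tsub n F q := by
  rw [mem_Tsub_iff]
  intro a c hac
  rw [c8_mat_dG]
  exact Matrix.diagonal_apply_ne _ hac

theorem c8_dG_mem_B (hq : q ≠ 0) (b : GJ n F q) (hb : b ∈ Bsub n F q) :
    c8_dG hq b hb ∈ Bsub n F q :=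
  (c8_dG_mem_T hq b hb).1

/-- the diagonal part, as an endomorphism of `B` -/
def c8_delta (hq : q ≠ 0) : ↥(Bsub n F q) →* ↥(Bsub n F q) where
  toFun b := ⟨c8_dG hq b.1 b.2, c8_dG_mem_B hq b.1 b.2⟩
  map_one' := by
    apply Subtype.ext
    apply mat_injective
    show Matrix.diagonal (fun a => (1 : Matrix (Fin n) (Fin n) F) a a) = 1
    rw [← Matrix.diagonal_one]
    congr 1
    funext a
    simp
  map_mul' b b' := by
    apply Subtype.ext
    apply mat_injective
    show Matrix.diagonal (fun a => (mat b.1 * mat b'.1) a a) =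
      Matrix.diagonal (fun a => mat b.1 a a) * Matrix.diagonal (fun a => mat b'.1 a a)
    rw [Matrix.diagonal_mul_diagonal]
    congr 1
    funext a
    exact c8_diag_mul _ _ (c8_upper_of_mem b.2) (c8_upper_of_mem b'.2) a

theorem c8_delta_apply_apply (hq : q ≠ 0) (b : ↥(Bsub n F q)) (a c : Fin n) :
    mat (c8_delta hq b).1 a c = if a = c then mat b.1 a a else 0 := by
  show Matrix.diagonal _ a c = _
  rw [Matrix.diagonal_apply]

theorem c8_delta_delta (hq : q ≠ 0) (b : ↥(Bsub n F q)) :
    c8_delta hq (c8_delta hq b) = c8_delta hq b := by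
  apply Subtype.ext
  apply mat_injective
  ext a c
  rw [c8_delta_apply_apply, c8_delta_apply_apply, c8_delta_apply_apply, if_pos rfl]

theorem c8_mem_ker_iff (hq : q ≠ 0) (b : ↥(Bsub n F q)) :
    b ∈ (c8_delta (n := n) (F := F) hq).ker ↔ ∀ a, mat b.1 a a = 1 := by
  rw [MonoidHom.mem_ker]
  constructor
  · intro h a
    have := c8_delta_apply_apply hq b a a
    rw [h, if_pos rfl] at this
    rw [← this]
    show (1 : Matrix (Fin n) (Fin n) F) a a = 1
    simp
  · intro h
    apply Subtype.ext
    apply mat_injective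
    ext a c
    rw [c8_delta_apply_apply]
    show _ = (1 : Matrix (Fin n) (Fin n) F) a c
    rw [Matrix.one_apply, h a]

theorem c8_isComplement (hq : q ≠ 0) :
    Subgroup.IsComplement' (c8_delta (n := n) (F := F) hq).ker
      ((Tsub n F q).subgroupOf (Bsub n F q)) := by
  apply Subgroup.isComplement'_of_disjoint_and_mul_eq_univ
  · rw [Subgroup.disjoint_def]
    intro x hx hxT
    have h1 := (c8_mem_ker_iff hq x).1 hx
    have h2 := (mem_Tsub_iff x.1).1 (Subgroup.mem_subgroupOf.mp hxT)
    apply Subtype.ext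
    apply mat_injective
    ext a c
    show _ = (1 : Matrix (Fin n) (Fin n) F) a c
    rw [Matrix.one_apply]
    by_cases hac : a = c
    · subst hac
      rw [if_pos rfl, h1 a]
    · rw [if_neg hac, h2 a c hac]
  · rw [Set.eq_univ_iff_forall]
    intro b
    refine ⟨b * (c8_delta hq b)⁻¹, ?_, c8_delta hq b, ?_, ?_⟩
    · show b * (c8_delta hq b)⁻¹ ∈ (c8_delta (n := n) (F := F) hq).ker
      rw [MonoidHom.mem_ker, map_mul, map_inv, c8_delta_delta, mul_inv_cancel]
    · show c8_delta hq b ∈ (Tsub n F q).subgroupOf (Bsub n F q)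
      rw [Subgroup.mem_subgroupOf]
      exact c8_dG_mem_T hq b.1 b.2
    · show b * (c8_delta hq b)⁻¹ * c8_delta hq b = b
      rw [inv_mul_cancel_right]

theorem c8_mat_pow (g : GJ n F q) (k : ℕ) : mat (g ^ k) = mat g ^ k := by
  induction k with
  | zero => rw [pow_zero, pow_zero, mat_one]
  | succ k ih => rw [pow_succ, pow_succ, mat_mul, ih]

theorem c8_ker_isPGroup (hq : q ≠ 0) (p : ℕ) [Fact p.Prime] [CharP F p] :
    IsPGroup p ↥(c8_delta (n := n) (F := F) hq).ker := by
  intro g
  refine ⟨n, ?_⟩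
  have h1 := (c8_mem_ker_iff hq g.1).1 g.2
  have h2 := c8_unitri_pow p (mat g.1.1) (c8_upper_of_mem g.1.2) h1
  apply Subtype.ext
  apply Subtype.ext
  apply mat_injective
  rw [Subgroup.coe_pow, Subgroup.coe_pow, c8_mat_pow]
  exact h2

theorem relIndex_T_B [Fintype F] (p : ℕ) [Fact p.Prime] [CharP F p]
    (hF : Fintype.card F = q ^ 2) (ok : Ok n F q) :
    ∃ a : ℕ, (Tsub n F q).relIndex (Bsub n F q) = p ^ a := by
  classical
  have hq : q ≠ 0 := by
    rintro rfl
    have := Fintype.one_lt_card (α := F)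
    rw [hF] at this
    norm_num at this
  have : Finite (GJ n F q) := Finite.of_injective mat mat_injective
  have h1 : (Tsub n F q).relIndex (Bsub n F q) =
      Nat.card ↥(c8_delta (n := n) (F := F) hq).ker :=
    (c8_isComplement (n := n) (F := F) hq).index_eq_card
  rw [h1]
  exact (IsPGroup.iff_card).mp (c8_ker_isPGroup hq p)

end Cfsg.Agent.Lib.Helper21.StSU
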