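import Mathlib

/-! # TT68 pack, leaf P1 (helper21): a finite p-group generated by one conjugacy class is cyclic. -/

set_option autoImplicit false

namespace Cfsg.Agent.Lib.Helper21.TT68

theorem pgroup_class_generated {G : Type*} [Group G] [Finite G] {p : ℕ} [Fact p.Prime] (hG : IsPGroup p G)
    (d : G) (hgen : Subgroup.closure (conjugatesOf d) = ⊤) : Subgroup.zpowers d = ⊤ := by
  by_contra hne
  have hnil : Group.IsNilpotent G := hG.isNilpotent
  obtain ⟨M, hM, hle⟩ := (eq_top_or_exists_le_coatom (Subgroup.zpowers d)).resolve_left hne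
  have hnc : NormalizerCondition G := Group.normalizerCondition_of_isNilpotent
  have hMn : M.Normal := Subgroup.NormalizerCondition.normal_of_coatom M hnc hM
  have hd : d ∈ M := hle (Subgroup.mem_zpowers d)
  have hcl : Subgroup.closure (conjugatesOf d) ≤ M := by
    rw [Subgroup.closure_le]
    intro x hx
    have hx' : IsConj d x := hx
    rw [isConj_iff] at hx'
    obtain ⟨c, rfl⟩ := hx'
    exact hMn.conj_mem d hd c
  rw [hgen] at hcl
  exact hM.1 (top_le_iff.mp hcl)

end Cfsg.Agent.Lib.Helper21.TT68
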