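import Cfsg.Agent.Lib.Helper43.UFBasic

set_option autoImplicit false
set_option linter.unusedSimpArgs false
set_option linter.unusedVariables false
set_option linter.unusedSectionVars false

/-! K-UF-T1a (keystone 570009): the Eichler step for a type I pair. -/

namespace Cfsg.Agent.Lib.Helper21.UF

open Module Matrix Cfsg.Agent.Lib.Helper19 Cfsg.Agent.Lib.Helper43 Cfsg.Agent.Lib.Helper43.UF

variable {F : Type*} [Field F] [Fintype F] {ι : Type} [Fintype ι] [DecidableEq ι]
variable {Q : QuadraticForm F (ι → F)}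
variable (hQ : (QuadraticMap.polarBilin Q).Nondegenerate) (hn : 7 ≤ Fintype.card ι)

local notation "ℬ" => QuadraticMap.polarBilin Q

theorem eich_step (U : UData Q) (M : Subgroup ↥(Cfsg.Omega F ⇑Q))
    (hH : ∀ k : ↥(Cfsg.Omega F ⇑Q), (∀ x, lo Q k (U.J x) = U.J (lo Q k x)) → k ∈ M)
    (h14 : 14 ≤ Fintype.card ι) (a b : ι → F) (ha0 : a ≠ 0) (ha : Q a = 0) (hb : Q b = 0)
    (hab : U.HOrth a b) (hbKa : b ∉ KL U a) (haRS : a ∈ RS Q hQ hn M b)
    (y : ι → F) (hy : Q y = 0) (hay : U.HOrth a y) (hby : U.HOrth b y) (hyR : y ∉ KL U a ⊔ KL U b) :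
    y ∈ RS Q hQ hn M b ∧ U.J y ∈ RS Q hQ hn M b := by
  classical
  -- membership facts
  have haKa : a ∈ KL U a := Submodule.subset_span (Set.mem_insert _ _)
  have hJaKa : U.J a ∈ KL U a := Submodule.subset_span (Set.mem_insert_of_mem _ rfl)
  have hbKb : b ∈ KL U b := Submodule.subset_span (Set.mem_insert _ _)
  have hJbKb : U.J b ∈ KL U b := Submodule.subset_span (Set.mem_insert_of_mem _ rfl)
  have hyKy : y ∈ KL U y := Submodule.subset_span (Set.mem_insert _ _)
  have hJyKy : U.J y ∈ KL U y := Submodule.subset_span (Set.mem_insert_of_mem _ rfl)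
  set S : Finset (ι → F) := {b, U.J b, y, U.J y} with hS
  have hScard : 2 * S.card + 3 ≤ Fintype.card ι := by
    have : S.card ≤ 4 := Finset.card_le_four
    omega
  have hspan : Submodule.span F (S : Set (ι → F)) ≤ KL U b ⊔ KL U y := by
    rw [Submodule.span_le]
    intro z hz
    have hz' : z ∈ S := hz
    rw [hS] at hz'
    simp only [Finset.mem_insert, Finset.mem_singleton] at hz'
    rcases hz' with rfl | rfl | rfl | rfl
    · exact Submodule.mem_sup_left hbKb
    · exact Submodule.mem_sup_left hJbKb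
    · exact Submodule.mem_sup_right hyKy
    · exact Submodule.mem_sup_right hJyKy
  have haS : a ∉ Submodule.span F (S : Set (ι → F)) := by
    intro h
    obtain ⟨β', hβ', η, hη, hsum⟩ := Submodule.mem_sup.1 (hspan h)
    by_cases hη0 : η = 0
    · rw [hη0, add_zero] at hsum
      rw [hsum] at hβ'
      exact hbKa (mem_KL_symm U b a hβ' ha0)
    · have hyη : y ∈ KL U η := mem_KL_symm U y η hη hη0
      have hηeq : η = a - β' := by rw [← hsum]; abel
      have hηR : η ∈ KL U a ⊔ KL U b := by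
        rw [hηeq]
        exact Submodule.sub_mem _ (Submodule.mem_sup_left haKa) (Submodule.mem_sup_right hβ')
      have hJηR : U.J η ∈ KL U a ⊔ KL U b := by
        rw [hηeq, map_sub]
        exact Submodule.sub_mem _ (Submodule.mem_sup_left hJaKa)
          (Submodule.mem_sup_right (J_mem_KL U b β' hβ'))
      have hle : KL U η ≤ KL U a ⊔ KL U b := by
        show Submodule.span F {η, U.J η} ≤ _
        rw [Submodule.span_le]
        intro z hz
        rcases hz with rfl | hz
        · exact hηR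
        · rw [Set.mem_singleton_iff] at hz
          rw [hz]
          exact hJηR
      exact hyR (hle hyη)
  obtain ⟨c, hc, hcS, hac⟩ := exists_singular_orth_finset_one hQ hn S hScard a haS
  have hbc : ℬ b c = 0 := hcS b (by rw [hS]; simp)
  have hJbc : ℬ (U.J b) c = 0 := hcS (U.J b) (by rw [hS]; simp)
  have hyc : ℬ y c = 0 := hcS y (by rw [hS]; simp)
  have hJyc : ℬ (U.J y) c = 0 := hcS (U.J y) (by rw [hS]; simp)
  have hHbc : U.HOrth b c := ⟨hbc, hJbc⟩
  have hHyc : U.HOrth y c := ⟨hyc, hJyc⟩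
  have hcy : U.HOrth c y := hHyc.symm
  set s := ℬ a (U.J c) with hs
  -- values
  have hbJc : ℬ b (U.J c) = 0 := hHbc.B_right_J
  have hby0 : ℬ b y = 0 := hby.1
  have hbJy : ℬ b (U.J y) = 0 := hby.B_right_J
  have hay0 : ℬ a y = 0 := hay.1
  have haJy : ℬ a (U.J y) = 0 := hay.B_right_J
  -- first Eichler element
  have hk₁ : eich U hQ hn c y ∈ M := hH _ (fun x => eich_comm hQ hn U c y hc hcy x)
  have hk₁b : lo Q (eich U hQ hn c y) b = b := by
    rw [lo_eich hQ hn U c y hc hcy b, hbc, hbJc, hby0, hbJy, hy]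
    simp
  have h1 : lo Q (eich U hQ hn c y) a ∈ RS Q hQ hn M b :=
    RS_fix hQ hn M _ hk₁ b hb hk₁b haRS
  have hk₁a : lo Q (eich U hQ hn c y) a = a + (U.J y - s • y) := by
    rw [lo_eich hQ hn U c y hc hcy a, hac, ← hs, hay0, haJy, hy]
    module
  have hv₁ : U.J y - s • y ∈ RS Q hQ hn M b := by
    have := RS_sub hQ hn M b hb h1 haRS
    rwa [hk₁a, add_sub_cancel_left] at this
  -- second Eichler element
  have hJc : Q (U.J c) = 0 := U.Q_J c hc
  have hJcy : U.HOrth (U.J c) y := hcy.J_left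
  have hk₂ : eich U hQ hn (U.J c) y ∈ M :=
    hH _ (fun x => eich_comm hQ hn U (U.J c) y hJc hJcy x)
  have hbJJc : ℬ b (U.J (U.J c)) = 0 := by
    rw [U.sq, map_sub, map_smul, map_smul, hbJc, hbc, smul_zero, smul_zero, sub_zero]
  have haJJc : ℬ a (U.J (U.J c)) = U.tr * s - U.nm := by
    rw [U.sq, map_sub, map_smul, map_smul, hac, ← hs, smul_eq_mul, smul_eq_mul, mul_one]
  have hk₂b : lo Q (eich U hQ hn (U.J c) y) b = b := by
    rw [lo_eich hQ hn U (U.J c) y hJc hJcy b, hbJJc, hbJc, hby0, hbJy, hy]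
    simp
  have h2 : lo Q (eich U hQ hn (U.J c) y) a ∈ RS Q hQ hn M b :=
    RS_fix hQ hn M _ hk₂ b hb hk₂b haRS
  have hk₂a : lo Q (eich U hQ hn (U.J c) y) a = a + (s • U.J y - (U.tr * s - U.nm) • y) := by
    rw [lo_eich hQ hn U (U.J c) y hJc hJcy a, haJJc, ← hs, hay0, haJy, hy]
    module
  have hv₂ : s • U.J y - (U.tr * s - U.nm) • y ∈ RS Q hQ hn M b := by
    have := RS_sub hQ hn M b hb h2 haRS
    rwa [hk₂a, add_sub_cancel_left] at this
  -- the determinant
  set D := s ^ 2 - U.tr * s + U.nm with hD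
  have hD0 : D ≠ 0 := by
    intro h0
    have := U.irr s 1 (by rw [hD] at h0; linear_combination h0)
    exact one_ne_zero this.2
  have hyD : D • y ∈ RS Q hQ hn M b := by
    have h3 := RS_sub hQ hn M b hb hv₂ (RS_smul hQ hn M b hv₁ s)
    have : s • U.J y - (U.tr * s - U.nm) • y - s • (U.J y - s • y) = D • y := by
      rw [hD]; module
    rwa [this] at h3
  have hyRS : y ∈ RS Q hQ hn M b := by
    have h4 := RS_smul hQ hn M b hyD D⁻¹
    rwa [smul_smul, inv_mul_cancel₀ hD0, one_smul] at h4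
  refine ⟨hyRS, ?_⟩
  have h5 := RS_add hQ hn M b hb hv₁ (RS_smul hQ hn M b hyRS s)
  rwa [sub_add_cancel] at h5

end Cfsg.Agent.Lib.Helper21.UF
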