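import Cfsg.Agent.Lib.Helper21.UNdUHa
import Cfsg.Agent.Lib.Helper62.UNdUG

/-!
# K-UNd-UH (keystone 595418, architect helper73): `exists_unip_model`, exact signature
-/

set_option autoImplicit false
set_option linter.unusedSectionVars false
set_option linter.unusedVariables false

namespace Cfsg.Agent.Lib.Helper21.UNd

open Module Cfsg.Agent.Lib.Helper99.HermONB Cfsg.Agent.Lib.Helper98.Elus Cfsg.Agent.Lib.Helper73.UNd

universe u
variable {F : Type u} [Field F] {V : Type u} [AddCommGroup V] [Module F V]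
variable {q : ℕ} {h : V → V → F}

theorem exists_unip_model [Fintype F] (hF : Fintype.card F = q ^ 2) {p : ℕ} [Fact p.Prime]
    [CharP F p] (μ : Multiset ℕ) (hμ : ∀ a ∈ μ, 0 < a ∧ a ≤ p) :
    ∃ (V' : Type u) (_ : AddCommGroup V') (_ : Module F V') (_ : FiniteDimensional F V')
      (h' : V' → V' → F) (u' : V' →ₗ[F] V'),
      HForm q h' ∧ Isom h' u' ∧ u' ^ p = 1 ∧
      ∀ k : ℕ, finrank F (LinearMap.ker ((u' - 1) ^ k)) = (μ.map (fun a => min a k)).sum :=
  exists_unip_model_of hF
    (fun a ha hap => Cfsg.Agent.Lib.Helper62.UNd.exists_unip_block hF a ha hap) μ hμ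

end Cfsg.Agent.Lib.Helper21.UNd
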