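import Cfsg.Agent.Lib.Helper73.UNdDefs

/-!
# K-UNd-UH (keystone 595418, architect helper73): assembly of a unipotent isometric model with
prescribed Jordan type, from the blocks (taken as a hypothesis `hblock` here; the exact signature
wrapper is in `UNdUH.lean`).
-/

set_option autoImplicit false
set_option linter.unusedSectionVars false
set_option linter.unusedVariables false

namespace Cfsg.Agent.Lib.Helper21.UNd

open Module Cfsg.Agent.Lib.Helper99.HermONB Cfsg.Agent.Lib.Helper98.Elus Cfsg.Agent.Lib.Helper73.UNd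

universe u
variable {F : Type u} [Field F]
variable {q : ℕ}

/-- `(V, h, u)` is a unipotent isometric model of Jordan type `ν` (with `u ^ p = 1`). -/
def IsUnipModel (q p : ℕ) {V : Type u} [AddCommGroup V] [Module F V] (h : V → V → F)
    (u : V →ₗ[F] V) (ν : Multiset ℕ) : Prop :=
  HForm q h ∧ Isom h u ∧ u ^ p = 1 ∧
    ∀ k : ℕ, finrank F (LinearMap.ker ((u - 1) ^ k)) = (ν.map (fun a => min a k)).sum

section Prod

variable {V₁ V₂ : Type u} [AddCommGroup V₁] [Module F V₁] [AddCommGroup V₂] [Module F V₂]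

theorem prodMap_pow_uh (f : V₁ →ₗ[F] V₁) (g : V₂ →ₗ[F] V₂) (k : ℕ) :
    (f.prodMap g) ^ k = (f ^ k).prodMap (g ^ k) := by
  induction k with
  | zero => rw [pow_zero, pow_zero, pow_zero, LinearMap.prodMap_one]
  | succ k ih => rw [pow_succ, ih, pow_succ, pow_succ, LinearMap.prodMap_mul]

theorem finrank_ker_prodMap_uh [FiniteDimensional F V₁] [FiniteDimensional F V₂]
    (f : V₁ →ₗ[F] V₁) (g : V₂ →ₗ[F] V₂) :
    finrank F (LinearMap.ker (f.prodMap g)) =
      finrank F (LinearMap.ker f) + finrank F (LinearMap.ker g) := by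
  rw [LinearMap.ker_prodMap]
  let e : ↥((LinearMap.ker f).prod (LinearMap.ker g)) ≃ₗ[F]
      (↥(LinearMap.ker f) × ↥(LinearMap.ker g)) :=
    { toFun := fun z => (⟨z.1.1, z.2.1⟩, ⟨z.1.2, z.2.2⟩)
      map_add' := fun z w => rfl
      map_smul' := fun c z => rfl
      invFun := fun z => ⟨(z.1.1, z.2.1), ⟨z.1.2, z.2.2⟩⟩
      left_inv := fun z => rfl
      right_inv := fun z => rfl }
  rw [e.finrank_eq, Module.finrank_prod]

theorem prodMap_sub_one_uh (f : V₁ →ₗ[F] V₁) (g : V₂ →ₗ[F] V₂) :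
    f.prodMap g - 1 = (f - 1).prodMap (g - 1) := by
  apply LinearMap.ext
  intro x
  apply Prod.ext <;> simp

theorem IsUnipModel.prod [Fintype F] (hF : Fintype.card F = q ^ 2)
    [FiniteDimensional F V₁] [FiniteDimensional F V₂]
    {h₁ : V₁ → V₁ → F} {h₂ : V₂ → V₂ → F} {u₁ : V₁ →ₗ[F] V₁}
    {u₂ : V₂ →ₗ[F] V₂} {p : ℕ} {ν₁ ν₂ : Multiset ℕ}
    (m₁ : IsUnipModel q p h₁ u₁ ν₁) (m₂ : IsUnipModel q p h₂ u₂ ν₂) :
    IsUnipModel q p (fun x y : V₁ × V₂ => h₁ x.1 y.1 + h₂ x.2 y.2) (u₁.prodMap u₂) (ν₁ + ν₂) := by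
  obtain ⟨hh1, i1, o1, k1⟩ := m₁
  obtain ⟨hh2, i2, o2, k2⟩ := m₂
  refine ⟨⟨?_, ?_, ?_, ?_⟩, ?_, ?_, ?_⟩
  · intro x x' y
    simp only [Prod.fst_add, Prod.snd_add]
    rw [hh1.add_left, hh2.add_left]
    ring
  · intro c x y
    simp only [Prod.smul_fst, Prod.smul_snd]
    rw [hh1.smul_left, hh2.smul_left]
    ring
  · intro x y
    show h₁ y.1 x.1 + h₂ y.2 x.2 = (h₁ x.1 y.1 + h₂ x.2 y.2) ^ q
    rw [Cfsg.Agent.Lib.Helper19.add_pow_q hF, ← hh1.conj, ← hh2.conj]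
  · intro x hx
    have e1 : x.1 = 0 := hh1.nondeg _ (fun y => by
      have : h₁ x.1 y + h₂ x.2 0 = 0 := hx (y, 0)
      rwa [hh2.zero_right hF, add_zero] at this)
    have e2 : x.2 = 0 := hh2.nondeg _ (fun y => by
      have : h₁ x.1 0 + h₂ x.2 y = 0 := hx (0, y)
      rwa [hh1.zero_right hF, zero_add] at this)
    exact Prod.ext e1 e2
  · intro x y
    simp only [LinearMap.prodMap_apply]
    rw [i1, i2]
  · rw [prodMap_pow_uh, o1, o2, LinearMap.prodMap_one]
  · intro k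
    rw [prodMap_sub_one_uh, prodMap_pow_uh, finrank_ker_prodMap_uh, k1, k2, Multiset.map_add,
      Multiset.sum_add]

end Prod

theorem isUnipModel_punit [Fintype F] (hF : Fintype.card F = q ^ 2) (p : ℕ) :
    IsUnipModel (F := F) q p (fun _ _ : PUnit.{u+1} => (0 : F)) 1 0 := by
  refine ⟨⟨fun _ _ _ => (add_zero _).symm, fun _ _ _ => (mul_zero _).symm, fun _ _ => ?_,
    fun x _ => Subsingleton.elim _ _⟩, fun _ _ => rfl, one_pow _, ?_⟩
  · exact (zero_pow (Cfsg.Agent.Lib.Helper19.q_pos hF).ne').symm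
  · intro k
    have : Subsingleton ↥(LinearMap.ker (((1 : PUnit.{u+1} →ₗ[F] PUnit.{u+1}) - 1) ^ k)) :=
      ⟨fun x y => Subtype.ext (Subsingleton.elim _ _)⟩
    rw [Module.finrank_zero_of_subsingleton]
    simp

/-- hypothesis form of `exists_unip_model` -/
theorem exists_unip_model_of [Fintype F] (hF : Fintype.card F = q ^ 2) {p : ℕ}
    (hblock : ∀ a : ℕ, 0 < a → a ≤ p →
      ∃ (β : (Fin a → F) → (Fin a → F) → F) (u : (Fin a → F) →ₗ[F] (Fin a → F)),
        HForm q β ∧ Isom β u ∧ u ^ p = 1 ∧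
        ∀ k : ℕ, finrank F (LinearMap.ker ((u - 1) ^ k)) = min a k)
    (μ : Multiset ℕ) (hμ : ∀ a ∈ μ, 0 < a ∧ a ≤ p) :
    ∃ (V' : Type u) (_ : AddCommGroup V') (_ : Module F V') (_ : FiniteDimensional F V')
      (h' : V' → V' → F) (u' : V' →ₗ[F] V'),
      HForm q h' ∧ Isom h' u' ∧ u' ^ p = 1 ∧
      ∀ k : ℕ, finrank F (LinearMap.ker ((u' - 1) ^ k)) = (μ.map (fun a => min a k)).sum := by
  induction μ using Multiset.induction_on with
  | empty =>
    exact ⟨PUnit, inferInstance, inferInstance, inferInstance, fun _ _ => 0, 1,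
      isUnipModel_punit hF p⟩
  | cons a μ ih =>
    obtain ⟨V, i1, i2, i3, h', u', hm⟩ := ih (fun b hb => hμ b (Multiset.mem_cons_of_mem hb))
    obtain ⟨hapos, hap⟩ := hμ a (Multiset.mem_cons_self a μ)
    obtain ⟨β, uβ, hβ1, hβ2, hβ3, hβ4⟩ := hblock a hapos hap
    have hmβ : IsUnipModel q p β uβ (a ::ₘ 0) := by
      refine ⟨hβ1, hβ2, hβ3, ?_⟩
      intro k
      rw [hβ4 k]
      simp
    have := hmβ.prod hF (show IsUnipModel q p h' u' μ from hm)
    have he : (a ::ₘ (0 : Multiset ℕ)) + μ = a ::ₘ μ := by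
      rw [Multiset.cons_add, zero_add]
    rw [he] at this
    exact ⟨(Fin a → F) × V, inferInstance, inferInstance, inferInstance, _, _, this⟩

end Cfsg.Agent.Lib.Helper21.UNd
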