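import Cfsg.Agent.Lib.Helper46.UTiDefs
import Cfsg.Agent.Lib.Helper29.SUB4

/-!
# K-UTi-A3 (keystone 595314, architect helper46): `padicVal_lt_of_not_pow`
-/

set_option autoImplicit false
set_option linter.unusedSectionVars false
set_option linter.unusedVariables false

namespace Cfsg.Agent.Lib.Helper21.UTi

open Module Polynomial Cfsg.Agent.Lib.Helper98.Elus Cfsg.Agent.Lib.Helper46.UTi

universe u

variable {F : Type u} [Field F] [Fintype F] {q : ℕ}

/-- **K-UTi-A3 (595314)** -/
theorem padicVal_lt_of_not_pow (hq : Fintype.card F = q ^ 2) (n : ℕ) (hn : 1 ≤ n) (r : ℕ)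
    [Fact r.Prime] (hr2 : r ≠ 2) (hrq : r ∣ q + 1)
    (x : Matrix.SpecialLinearGroup (Fin n) F) (z : F)
    (hz : ((x ^ r : Matrix.SpecialLinearGroup (Fin n) F) : Matrix (Fin n) (Fin n) F) =
      z • (1 : Matrix (Fin n) (Fin n) F)) (hl : ∀ w : F, w ^ r ≠ z) :
    padicValNat r (q + 1) < padicValNat r n := by
  classical
  by_contra hcon
  have hle : padicValNat r n ≤ padicValNat r (q + 1) := not_lt.mp hcon
  have hq2 : 2 ≤ q := by
    have h1 : 1 < Fintype.card F := Fintype.one_lt_card
    rw [hq] at h1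
    by_contra h
    have : q ≤ 1 := by omega
    interval_cases q <;> simp at h1
  have hcard : Fintype.card F - 1 = (q - 1) * (q + 1) := by
    rw [hq]
    obtain ⟨k, rfl⟩ : ∃ k, q = k + 1 := ⟨q - 1, by omega⟩
    simp only [Nat.add_sub_cancel]
    have : (k + 1) ^ 2 = k * (k + 1 + 1) + 1 := by ring
    rw [this, Nat.add_sub_cancel]
  have hne : Fintype.card F - 1 ≠ 0 := by
    rw [hcard]
    have : 0 < q - 1 := by omega
    positivity
  have hle2 : padicValNat r (q + 1) ≤ padicValNat r (Fintype.card F - 1) := by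
    have hd : r ^ padicValNat r (q + 1) ∣ Fintype.card F - 1 :=
      dvd_trans pow_padicValNat_dvd (by rw [hcard]; exact Dvd.intro_left _ rfl)
    exact (padicValNat_dvd_iff_le hne).mp hd
  obtain ⟨l, hl'⟩ := Cfsg.Agent.Lib.Helper29.SUB.isPow_of_sl r hr2 n hn
    (fun _ => hle.trans hle2) (Matrix.SpecialLinearGroup.toGL x)
    (by
      change Matrix.GeneralLinearGroup.det (Matrix.SpecialLinearGroup.toGL x) = 1
      ext
      simp [Matrix.SpecialLinearGroup.toGL])
    z
    (by
      rw [← map_pow]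
      exact hz)
  exact hl l hl'

end Cfsg.Agent.Lib.Helper21.UTi
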