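import Mathlib
import Cfsg.Agent.Lib.Helper28.ZNDefs

set_option autoImplicit false

/-!
# Keystone 68911 (K-ZN-11, architect helper28): `false_of_three_dvd`
-/

universe u

namespace Cfsg.Agent.Lib.Helper21.ZN

open Cfsg.Agent.Lib.Helper28.ZN

/-- in a finite cyclic group, a subgroup `K` whose order equals that of `H` lies in `H`. -/
theorem le_of_card_eq_of_isCyclic {A : Type*} [Group A] [Finite A] [IsCyclic A]
    (H K : Subgroup A) (h : Nat.card K = Nat.card H) : K ≤ H := by
  classical
  haveI : Fintype A := Fintype.ofFinite A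
  have hpos : 0 < Nat.card H := Nat.card_pos
  have hbound := IsCyclic.card_pow_eq_one_le (α := A) hpos
  have hHsub : (Finset.univ.filter (fun x : A => x ∈ H)) ⊆
      Finset.univ.filter (fun a : A => a ^ Nat.card H = 1) := by
    intro x hx
    rw [Finset.mem_filter] at hx ⊢
    refine ⟨hx.1, ?_⟩
    have := pow_card_eq_one' (G := H) (x := ⟨x, hx.2⟩)
    exact congrArg Subtype.val this
  have hHcard : (Finset.univ.filter (fun x : A => x ∈ H)).card = Nat.card H := by
    rw [Nat.card_eq_fintype_card, Fintype.card_subtype]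
  have heq := Finset.eq_of_subset_of_card_le hHsub (by rw [hHcard]; exact hbound)
  intro x hx
  have hx1 : x ^ Nat.card H = 1 := by
    rw [← h]
    have := pow_card_eq_one' (G := K) (x := ⟨x, hx⟩)
    exact congrArg Subtype.val this
  have : x ∈ Finset.univ.filter (fun a : A => a ^ Nat.card H = 1) := by
    rw [Finset.mem_filter]; exact ⟨Finset.mem_univ _, hx1⟩
  rw [← heq, Finset.mem_filter] at this
  exact this.2

/-- ZN-11. -/
theorem false_of_three_dvd {G : Type u} [Group G] [Finite G] (hcyc : AbCyc G) (A P : Subgroup G)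
    (hA : 3 ∣ Nat.card A) (hP : 3 ∣ Nat.card P) (hcomm : ∀ a ∈ A, ∀ x ∈ P, a * x = x * a)
    (hAP : ∀ c ∈ A ⊓ P, c ^ 2 = 1) : False := by
  classical
  haveI : Fact (Nat.Prime 3) := ⟨Nat.prime_three⟩
  obtain ⟨a, ha⟩ := exists_prime_orderOf_dvd_card' (G := A) 3 hA
  obtain ⟨b, hb⟩ := exists_prime_orderOf_dvd_card' (G := P) 3 hP
  have ha' : orderOf (a : G) = 3 := by rw [Subgroup.orderOf_coe]; exact ha
  have hb' : orderOf (b : G) = 3 := by rw [Subgroup.orderOf_coe]; exact hb
  set B : Subgroup G := Subgroup.closure {(a : G), (b : G)} with hB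
  have hab : (a : G) * b = b * a := hcomm a a.2 b b.2
  have hBab : Ab B := by
    have hc : ∀ x ∈ ({(a : G), (b : G)} : Set G), ∀ y ∈ ({(a : G), (b : G)} : Set G),
        x * y = y * x := by
      intro x hx y hy
      simp only [Set.mem_insert_iff, Set.mem_singleton_iff] at hx hy
      rcases hx with rfl | rfl <;> rcases hy with rfl | rfl <;> simp [hab]
    intro x hx y hy
    have := (Subgroup.closureCommGroupOfComm hc).mul_comm ⟨x, hx⟩ ⟨y, hy⟩
    exact congrArg Subtype.val this
  haveI : IsCyclic B := hcyc B hBab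
  have haB : (a : G) ∈ B := Subgroup.subset_closure (by simp)
  have hbB : (b : G) ∈ B := Subgroup.subset_closure (by simp)
  have hoa : orderOf (⟨a, haB⟩ : B) = 3 := by
    rw [← Subgroup.orderOf_coe]; exact ha'
  have hob : orderOf (⟨b, hbB⟩ : B) = 3 := by
    rw [← Subgroup.orderOf_coe]; exact hb'
  have hle := le_of_card_eq_of_isCyclic (Subgroup.zpowers (⟨a, haB⟩ : B))
    (Subgroup.zpowers (⟨b, hbB⟩ : B)) (by rw [Nat.card_zpowers, Nat.card_zpowers, hoa, hob])
  have hbmem : (⟨b, hbB⟩ : B) ∈ Subgroup.zpowers (⟨a, haB⟩ : B) :=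
    hle (Subgroup.mem_zpowers _)
  obtain ⟨k, hk⟩ := Subgroup.mem_zpowers_iff.mp hbmem
  have hk' : (a : G) ^ k = b := by
    have := congrArg Subtype.val hk
    simpa using this
  have hbA : (b : G) ∈ A := by
    rw [← hk']; exact A.zpow_mem a.2 k
  have h2 : (b : G) ^ 2 = 1 := hAP b ⟨hbA, b.2⟩
  have h3 : (b : G) ^ 3 = 1 := by rw [← hb']; exact pow_orderOf_eq_one _
  have h1 : (b : G) = 1 := by
    have : (b : G) ^ 3 = (b : G) ^ 2 * b := pow_succ _ 2
    rw [h3, h2, one_mul] at this
    exact this.symm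
  rw [h1, orderOf_one] at hb'
  omega

end Cfsg.Agent.Lib.Helper21.ZN
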