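import Mathlib
import Cfsg.Agent.Lib.Helper28.ZNDefs

set_option autoImplicit false
set_option linter.style.haveILetI false

/-!
# Keystone 68912 (K-ZN-12, architect helper28): `exists_mulEquiv_prod`
-/

universe u

namespace Cfsg.Agent.Lib.Helper21.ZN

open Cfsg.Agent.Lib.Helper28.ZN

/-- ZN-12. -/
theorem exists_mulEquiv_prod {G : Type u} [Group G] [Finite G] (P A : Subgroup G)
    (hcycA : IsCyclic A) (hcomm : ∀ a ∈ A, ∀ x ∈ P, a * x = x * a) (m : ℕ) (hm : 0 < m)
    (hA : Nat.card A = 2 * m) (hcop : (Nat.card P).Coprime m) (hcard : Nat.card G = Nat.card P * m) :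
    Nonempty (G ≃* P × Multiplicative (ZMod m)) := by
  classical
  haveI : NeZero m := ⟨hm.ne'⟩
  obtain ⟨g, hg⟩ := IsCyclic.exists_ofOrder_eq_natCard (α := A)
  rw [hA] at hg
  -- the element `c = g ^ 2` of order `m`
  have hc : orderOf ((g : G) ^ 2) = m := by
    have h1 : orderOf (g : G) = 2 * m := by rw [Subgroup.orderOf_coe]; exact hg
    rw [orderOf_pow' _ (by norm_num : (2 : ℕ) ≠ 0), h1]
    have : Nat.gcd (2 * m) 2 = 2 := by
      rw [Nat.gcd_comm]; exact Nat.gcd_eq_left (Dvd.intro m rfl)
    rw [this]; omega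
  set M : Subgroup G := Subgroup.zpowers ((g : G) ^ 2) with hM
  have hMcard : Nat.card M = m := by rw [hM, Nat.card_zpowers, hc]
  have hMA : M ≤ A := by
    rw [hM, Subgroup.zpowers_le]; exact A.pow_mem g.2 2
  haveI : IsCyclic M := by rw [hM]; infer_instance
  -- the product map
  have comm : ∀ (x : P) (a : M), Commute (P.subtype x) (M.subtype a) := by
    intro x a
    exact (hcomm a (hMA a.2) x x.2).symm
  set f : P × M →* G := MonoidHom.noncommCoprod P.subtype M.subtype comm with hf
  have hdisj : Disjoint P.subtype.range M.subtype.range := by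
    rw [Subgroup.range_subtype, Subgroup.range_subtype]
    exact Subgroup.disjoint_of_coprime_natCard (by rw [hMcard]; exact hcop)
  have hinj : Function.Injective f :=
    (MonoidHom.noncommCoprod_injective _ _ comm).mpr
      ⟨Subgroup.subtype_injective P, Subgroup.subtype_injective M, hdisj⟩
  have hbij : Function.Bijective f := by
    apply hinj.bijective_of_nat_card_le
    rw [Nat.card_prod, hMcard, hcard]
  have e1 : P × M ≃* G := MulEquiv.ofBijective f hbij
  have hZ : Nat.card (Multiplicative (ZMod m)) = m := by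
    rw [Nat.card_eq_fintype_card]
    exact (Fintype.card_congr Multiplicative.toAdd).trans (ZMod.card m)
  haveI : IsCyclic (Multiplicative (ZMod m)) := inferInstance
  have e2 : M ≃* Multiplicative (ZMod m) := mulEquivOfCyclicCardEq (by rw [hMcard, hZ])
  exact ⟨e1.symm.trans (MulEquiv.prodCongr (MulEquiv.refl P) e2)⟩

end Cfsg.Agent.Lib.Helper21.ZN
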