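import Mathlib
import Cfsg.Agent.Lib.Helper28.ZNDefs

set_option autoImplicit false
set_option linter.style.haveILetI false

/-!
# Keystone 68905 (K-ZN-4, architect helper28): `centralizer_inf_eq`
-/

universe u

namespace Cfsg.Agent.Lib.Helper21.ZN

open Cfsg.Agent.Lib.Helper28.ZN

/-- ZN-4. -/
theorem centralizer_inf_eq {G : Type u} [Group G] [Finite G] (hinv : UniqInv G)
    (A : Subgroup G) (hAn : A.Normal) (hAc : Ab A) (hAmax : MaxAb A)
    (hcls : ∀ N₁ : Subgroup G, N₁.Normal → N₁ ≤ Subgroup.centralizer (A : Set G) → NonAb N₁ → MinNonAb N₁ →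
      Nonempty (N₁ ≃* QuaternionGroup 2) ∨ Nonempty (N₁ ≃* SL25))
    (hord : ∀ N₁ : Subgroup G, Nonempty (N₁ ≃* QuaternionGroup 2) ∨ Nonempty (N₁ ≃* SL25) →
      ∃ x ∈ N₁, ∃ y ∈ N₁, x ^ 4 = 1 ∧ x ^ 2 ≠ 1 ∧ x * y ≠ y * x)
    (N : Subgroup G) (hNn : N.Normal) (hNle : N ≤ Subgroup.centralizer (A : Set G))
    (hN : Nonempty (N ≃* QuaternionGroup 2) ∨ Nonempty (N ≃* SL25)) :
    Subgroup.centralizer (N : Set G) ⊓ Subgroup.centralizer (A : Set G) = A := by
  classical
  set C₁ : Subgroup G := Subgroup.centralizer (N : Set G) ⊓ Subgroup.centralizer (A : Set G) with hC₁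
  have hAC₁ : A ≤ C₁ := by
    intro a ha
    refine Subgroup.mem_inf.mpr ⟨?_, ?_⟩
    · rw [Subgroup.mem_centralizer_iff]
      intro n hn
      have := hNle hn
      rw [Subgroup.mem_centralizer_iff] at this
      exact (this a ha).symm
    · rw [Subgroup.mem_centralizer_iff]
      intro b hb
      exact hAc b hb a ha
  have hC₁n : C₁.Normal := by
    haveI := hNn
    haveI := hAn
    haveI h1 : (Subgroup.centralizer (N : Set G)).Normal := Subgroup.normal_centralizer
    haveI h2 : (Subgroup.centralizer (A : Set G)).Normal := Subgroup.normal_centralizer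
    exact Subgroup.normal_inf_normal _ _
  by_cases hab : Ab C₁
  · exact hAmax C₁ hC₁n hab hAC₁
  exfalso
  have hna : NonAb C₁ := by
    by_contra hcon
    apply hab
    intro a ha b hb
    by_contra hne
    exact hcon ⟨a, ha, b, hb, hne⟩
  -- a minimal normal non-abelian subgroup inside C₁
  let S : Set (Subgroup G) := {K | K.Normal ∧ K ≤ C₁ ∧ NonAb K}
  have hSne : S.Nonempty := ⟨C₁, hC₁n, le_rfl, hna⟩
  obtain ⟨N₁, hN₁S, hN₁min⟩ := wellFounded_lt.has_min S hSne
  obtain ⟨hN₁n, hN₁le, hN₁na⟩ := hN₁S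
  have hmin : MinNonAb N₁ := by
    intro M hMn hMle hMna
    have hMS : M ∈ S := ⟨hMn, hMle.trans hN₁le, hMna⟩
    exact eq_of_le_of_not_lt hMle (hN₁min M hMS)
  have hN₁A : N₁ ≤ Subgroup.centralizer (A : Set G) := hN₁le.trans inf_le_right
  have hN₁N : N₁ ≤ Subgroup.centralizer (N : Set G) := hN₁le.trans inf_le_left
  have hiso := hcls N₁ hN₁n hN₁A hN₁na hmin
  obtain ⟨y, hy, -, -, hy4, hy2, -⟩ := hord N₁ hiso
  obtain ⟨x, hx, x', hx', hx4, hx2, hxx'⟩ := hord N hN
  -- x² = y²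
  have hsq : x ^ 2 = y ^ 2 := by
    apply hinv (x ^ 2) (y ^ 2)
    · rw [← pow_add]; exact hx4
    · exact hx2
    · rw [← pow_add]; exact hy4
    · exact hy2
  have hxy : x * y = y * x := by
    have := hN₁N hy
    rw [Subgroup.mem_centralizer_iff] at this
    exact this x hx
  have hcomm : Commute x y := hxy
  have hw : (x * y⁻¹) * (x * y⁻¹) = 1 := by
    have hc' : Commute x y⁻¹ := hcomm.inv_right
    rw [← pow_two, hc'.mul_pow, hsq, inv_pow, mul_inv_cancel]
  have hxN₁ : x ∈ N₁ := by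
    by_cases hw1 : x * y⁻¹ = 1
    · have : x = y := by
        rw [mul_inv_eq_one] at hw1; exact hw1
      rw [this]; exact hy
    · have h2 : x * y⁻¹ = x ^ 2 := by
        apply hinv (x * y⁻¹) (x ^ 2) hw hw1
        · rw [← pow_add]; exact hx4
        · exact hx2
      have : y⁻¹ = x := by
        rw [pow_two] at h2
        exact mul_left_cancel h2
      rw [← this]; exact N₁.inv_mem hy
  have := hN₁N hxN₁
  rw [Subgroup.mem_centralizer_iff] at this
  exact hxx' (this x' hx').symm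

end Cfsg.Agent.Lib.Helper21.ZN
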